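import Mathlib
import Cfsg.Prelude.Def_OddOrderLocal
import Cfsg.Agent.Lib.helper71.BGTenA

/-!
# Bender–Glauberman Lemma 12.6 (statement S1418), from Proposition 12.4(a) and Theorem 12.5

`bg126_main` takes the conclusions of S1416 (clause (a)) and of S1417 for the given `M`, `p`, `A` as
explicit hypotheses.
-/

set_option autoImplicit false

namespace Cfsg.Agent.Lib.helper69

open Cfsg Subgroup
open scoped Pointwise

variable {G : Type*} [Group G]

/-- Membership in a normalizer, one-sided form for a subgroup `N` of normalizing elements. -/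
theorem bg126_le_normalizer {N A : Subgroup G} (h : ∀ g ∈ N, ∀ a ∈ A, g * a * g⁻¹ ∈ A) :
    N ≤ normalizer (A : Set G) := by
  intro g hg
  rw [mem_normalizer_iff]
  intro a
  refine ⟨fun ha => h g hg a ha, fun ha => ?_⟩
  have := h g⁻¹ (inv_mem hg) _ ha
  simpa [mul_assoc] using this

/-- The conclusion of statement S1417 for `M`, `p`, `A`. -/
def BG125Concl (M : Subgroup G) (p : ℕ) (A : Subgroup G) : Prop :=
  Group.IsNilpotent (Cfsg.sigmaCore M) ∧
      (∀ P : Sylow p M, IsMulCommutative (P : Subgroup M) ∧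
        (A ≤ (P : Subgroup M).map M.subtype →
          (∀ x ∈ (P : Subgroup M).map M.subtype, x ^ p = 1 ↔ x ∈ A) ∧
          ¬ Subgroup.normalizer ((((P : Subgroup M).map M.subtype : Subgroup G)) : Set G) ≤ M)) ∧
      M ≤ Subgroup.normalizer ((Cfsg.sigmaCore M ⊔ A : Subgroup G) : Set G) ∧
      Cfsg.sigmaCore M ⊓ Subgroup.centralizer (A : Set G) = ⊥ ∧
      (∀ Mstar : Subgroup G, IsCoatom Mstar → Mstar ≠ M → A ≤ Mstar → Cfsg.sigmaCore M ⊓ Mstar = ⊥) ∧
      ∃ A₁ : Subgroup G, A₁ ≤ A ∧ Nat.card A₁ = p ∧ Cfsg.sigmaCore M ⊓ Subgroup.centralizer (A₁ : Set G) = ⊥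

/-- Every `p`-subgroup of `M` lies in (the image of) a Sylow `p`-subgroup of `M`. -/
theorem bg126_exists_sylow [Finite G] {M : Subgroup G} {p : ℕ} [Fact p.Prime] {B : Subgroup G}
    (hBM : B ≤ M) (hB : IsPGroup p B) : ∃ P : Sylow p M, B ≤ (P : Subgroup M).map M.subtype := by
  have hB' : IsPGroup p (B.subgroupOf M) := by
    have : IsPGroup p (B.comap M.subtype) :=
      hB.comap_of_injective M.subtype (Subgroup.subtype_injective M)
    exact this
  obtain ⟨P, hP⟩ := hB'.exists_le_sylow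
  refine ⟨P, ?_⟩
  intro b hb
  exact ⟨⟨b, hBM hb⟩, hP (Subgroup.mem_subgroupOf.mpr hb), rfl⟩

theorem bg126_main [Finite G] (hG : Cfsg.IsMinSimpleOddOrder G)
    (M : Subgroup G) (hM : IsCoatom M) (E : Subgroup G) (hE : Cfsg.IsComplIn E (Cfsg.sigmaCore M) M)
    (p : ℕ) [hp : Fact p.Prime] (A : Subgroup G)
    (hA : (A ≤ E ∧ Cfsg.IsElementaryAbelian p A ∧ Nat.card A = p ^ 2))
    (h16 : Subgroup.centralizer (A : Set G) ≤ M) (h17 : BG125Concl M p A) :
    (E ≤ Subgroup.normalizer (A : Set G) ∧ ∀ X : Subgroup G, X ≤ E → Nat.card X = p → X ≤ A) ∧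
      (Subgroup.centralizer (A : Set G) ≤ M ⊓ Subgroup.normalizer (A : Set G) ∧ M ⊓ Subgroup.normalizer (A : Set G) = E ∧
        ¬ Subgroup.normalizer (A : Set G) ≤ M) ∧
      ∀ X : Subgroup G, X ≤ A → Nat.card X = p → Cfsg.sigmaCore M ⊓ Subgroup.centralizer (X : Set G) ≠ ⊥ → (Subgroup.centralizer (X : Set G) ≤ M ∧ ∀ L : Subgroup G, IsCoatom L → Subgroup.centralizer (X : Set G) ≤ L → L = M) := by
  obtain ⟨hodd, hsimple, hnc, hsolv⟩ := id hG
  have := hsimple
  obtain ⟨hAE, hAe, hAcard⟩ := hA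
  obtain ⟨hEM, hσM, hEσ, hprod⟩ := hE
  obtain ⟨_, hSyl, hnorm, hCA, huniq, _⟩ := h17
  have hAM : A ≤ M := hAE.trans hEM
  have hAp : IsPGroup p A := IsPGroup.of_card hAcard
  have hσnorm : M ≤ normalizer (sigmaCore M : Set G) :=
    Cfsg.Agent.Lib.helper71.BGA.le_normalizer_sigmaCore M
  -- `A ⊓ M_σ = ⊥`
  have hAσ : ∀ x ∈ A, x ∈ sigmaCore M → x = 1 := by
    intro x hxA hxσ
    have : x ∈ E ⊓ sigmaCore M := ⟨hAE hxA, hxσ⟩
    rw [hEσ] at this
    exact Subgroup.mem_bot.mp this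
  -- elements of `M_σ ⊔ A` are products
  have hsup : ∀ x ∈ sigmaCore M ⊔ A, ∃ s ∈ sigmaCore M, ∃ a ∈ A, x = s * a := by
    intro x hx
    have hcoe : ((A ⊔ sigmaCore M : Subgroup G) : Set G) = (A : Set G) * (sigmaCore M : Set G) :=
      Subgroup.coe_mul_of_left_le_normalizer_right A (sigmaCore M) (hAM.trans hσnorm)
    have hx' : x⁻¹ ∈ ((A ⊔ sigmaCore M : Subgroup G) : Set G) := by
      rw [sup_comm] at hx
      exact inv_mem hx
    rw [hcoe] at hx'
    obtain ⟨a, ha, s, hs, has⟩ := hx'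
    refine ⟨s⁻¹, inv_mem hs, a⁻¹, inv_mem ha, ?_⟩
    have has' : a * s = x⁻¹ := has
    have : x = (a * s)⁻¹ := by rw [has', inv_inv]
    rw [this, mul_inv_rev]
  -- (1a) `E` normalizes `A`
  have hEN : E ≤ normalizer (A : Set G) := by
    apply bg126_le_normalizer
    intro e he a ha
    have h1 : e * a * e⁻¹ ∈ sigmaCore M ⊔ A := by
      have hn := hnorm (hEM he)
      exact (mem_normalizer_iff.mp hn a).mp (Subgroup.mem_sup_right ha)
    obtain ⟨s, hs, a', ha', hsa⟩ := hsup _ h1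
    have hsE : s ∈ E := by
      have : s = e * a * e⁻¹ * a'⁻¹ := by rw [hsa]; group
      rw [this]
      exact mul_mem (mul_mem (mul_mem he (hAE ha)) (inv_mem he)) (inv_mem (hAE ha'))
    have hs1 : s = 1 := by
      have : s ∈ E ⊓ sigmaCore M := ⟨hsE, hs⟩
      rw [hEσ] at this
      exact Subgroup.mem_bot.mp this
    rw [hsa, hs1, one_mul]
    exact ha'
  refine ⟨⟨hEN, ?_⟩, ⟨?_, ?_, ?_⟩, ?_⟩
  · -- (1b)
    intro X hXE hXcard
    have hXp : IsPGroup p X := IsPGroup.of_card (n := 1) (by rw [hXcard, pow_one])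
    have hXA : IsPGroup p ↥(X ⊔ A) := IsPGroup.to_sup_of_normal_right' hXp hAp (hXE.trans hEN)
    obtain ⟨P, hP⟩ := bg126_exists_sylow (M := M) (sup_le (hXE.trans hEM) hAM) hXA
    have hAP : A ≤ (P : Subgroup M).map M.subtype := le_sup_right.trans hP
    have hΩ := ((hSyl P).2 hAP).1
    intro x hx
    have hxp : x ^ p = 1 := by
      have h1 : (⟨x, hx⟩ : X) ^ Nat.card X = 1 := pow_card_eq_one'
      rw [hXcard] at h1
      simpa using congrArg Subtype.val h1
    exact (hΩ x (hP (Subgroup.mem_sup_left hx))).mp hxp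
  · exact le_inf h16 (Subgroup.centralizer_le_normalizer _)
  · -- (2b)
    apply le_antisymm
    · rintro m ⟨hmM, hmN⟩
      obtain ⟨e, he, s, hs, hmes⟩ := hprod m hmM
      have hsN : s ∈ normalizer (A : Set G) := by
        have : s = e⁻¹ * m := by rw [hmes]; group
        rw [this]
        exact mul_mem (inv_mem (hEN he)) hmN
      have hsC : s ∈ centralizer (A : Set G) := by
        rw [mem_centralizer_iff]
        intro a ha
        have h1 : s * a * s⁻¹ ∈ A := (mem_normalizer_iff.mp hsN a).mp ha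
        have h2 : s * a * s⁻¹ * a⁻¹ ∈ A := mul_mem h1 (inv_mem ha)
        have h3 : s * a * s⁻¹ * a⁻¹ ∈ sigmaCore M := by
          have h4 : a * s⁻¹ * a⁻¹ ∈ sigmaCore M :=
            (mem_normalizer_iff.mp (hσnorm (hAM ha)) s⁻¹).mp (inv_mem hs)
          have : s * a * s⁻¹ * a⁻¹ = s * (a * s⁻¹ * a⁻¹) := by group
          rw [this]
          exact mul_mem hs h4
        have h5 := hAσ _ h2 h3
        have : s * a = a * s := by
          have h6 : s * a * s⁻¹ * a⁻¹ * (a * s) = a * s := by rw [h5, one_mul]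
          have h7 : s * a * s⁻¹ * a⁻¹ * (a * s) = s * a := by group
          rw [← h7, h6]
        exact this.symm
      have hs1 : s = 1 := by
        have : s ∈ sigmaCore M ⊓ centralizer (A : Set G) := ⟨hs, hsC⟩
        rw [hCA] at this
        exact Subgroup.mem_bot.mp this
      rw [hmes, hs1, mul_one]
      exact he
    · exact le_inf hEM hEN
  · -- (2c)
    intro hNA
    obtain ⟨P, hP⟩ := bg126_exists_sylow (M := M) hAM hAp
    obtain ⟨hΩ, hNP⟩ := (hSyl P).2 hP
    apply hNP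
    refine le_trans ?_ hNA
    apply bg126_le_normalizer
    intro g hg a ha
    have h1 : g * a * g⁻¹ ∈ (P : Subgroup M).map M.subtype :=
      (mem_normalizer_iff.mp hg a).mp (hP ha)
    have h2 : (g * a * g⁻¹) ^ p = 1 := by
      rw [conj_pow, hAe.2 a ha]; group
    exact (hΩ _ h1).mp h2
  · -- (3)
    intro X hXA hXcard hXσ
    have hX1 : X ≠ ⊥ := by
      intro h
      rw [h, Subgroup.card_bot] at hXcard
      exact hp.out.one_lt.ne hXcard
    have hCne : centralizer (X : Set G) ≠ ⊤ := by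
      obtain ⟨t, ht, ht1⟩ : ∃ t ∈ X, t ≠ 1 := by
        by_contra hcon
        push Not at hcon
        exact hX1 ((Subgroup.eq_bot_iff_forall X).mpr hcon)
      exact ne_top_of_le_ne_top (Cfsg.Agent.Lib.helper29.centralizer_singleton_ne_top hnc ht1)
        (Subgroup.centralizer_le (Set.singleton_subset_iff.mpr ht))
    have hAC : A ≤ centralizer (X : Set G) := by
      intro a ha
      rw [mem_centralizer_iff]
      intro x hx
      have h1 : (⟨x, hXA hx⟩ : A) * ⟨a, ha⟩ = ⟨a, ha⟩ * ⟨x, hXA hx⟩ := hAe.1.is_comm.comm _ _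
      exact congrArg Subtype.val h1
    have hL : ∀ L : Subgroup G, IsCoatom L → centralizer (X : Set G) ≤ L → L = M := by
      intro L hL hCL
      by_contra hne
      have h1 := huniq L hL hne (hAC.trans hCL)
      apply hXσ
      rw [eq_bot_iff, ← h1]
      exact inf_le_inf_left _ hCL
    obtain ⟨L, hLc, hCL⟩ := (eq_top_or_exists_le_coatom (centralizer (X : Set G))).resolve_left hCne
    have hLM := hL L hLc hCL
    exact ⟨hLM ▸ hCL, hL⟩

end Cfsg.Agent.Lib.helper69
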