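import Mathlib
import Cfsg.Prelude.Def_OddOrderLocal
import Cfsg.Agent.Lib.helper29.Basic
import Cfsg.Agent.Lib.helper29.PLenTen
import Cfsg.Agent.Lib.helper8.BGTen5
import Cfsg.Agent.Lib.helper69.BGTwelveA

/-!
# Bender–Glauberman Corollary 12.10 (statement S1420)

`bg1210_main` derives the four clauses of S1420 from Proposition 12.4(a) (S1416), Theorem 12.5
(S1417), the Uniqueness Theorem (S1403), the Hall property of `M_σ` (S1350), nilpotence of `E'`
(S1415) and the normalizer factorisation for `σ(M)`-subgroups (S1404), all taken as hypotheses.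
-/

set_option autoImplicit false

namespace Cfsg.Agent.Lib.helper69

open Cfsg Subgroup
open scoped Pointwise

variable {G : Type*} [Group G]

/-- A finite nilpotent group all of whose Sylow subgroups are commutative is commutative. -/
theorem bg1210_comm_of_sylow {N : Type*} [Group N] [Finite N] (hN : Group.IsNilpotent N)
    (h : ∀ (p : ℕ) [Fact p.Prime] (P : Sylow p N), ∀ a ∈ P, ∀ b ∈ P, a * b = b * a) :
    ∀ x y : N, x * y = y * x := by
  have hnorm : ∀ (p : ℕ) [Fact p.Prime] (P : Sylow p N), (P : Subgroup N).Normal :=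
    ((Group.isNilpotent_of_finite_tfae (G := N)).out 0 3).mp hN
  let e := Sylow.directProductOfNormal (fun {p} _ P => hnorm p P)
  intro x y
  obtain ⟨a, rfl⟩ := e.surjective x
  obtain ⟨b, rfl⟩ := e.surjective y
  rw [← map_mul, ← map_mul]
  congr 1
  funext p P
  haveI : Fact (p : ℕ).Prime := ⟨Nat.prime_of_mem_primeFactors p.2⟩
  exact Subtype.ext (h p P _ (a p P).2 _ (b p P).2)

/-- A subgroup `Z` lies in `K` as soon as `K` contains a Sylow `r`-subgroup of `Z` for every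
prime `r`. -/
theorem bg1210_le_of_sylow_le [Finite G] (Z K : Subgroup G)
    (h : ∀ (r : ℕ) [Fact r.Prime], ∃ R : Sylow r Z, (R : Subgroup Z).map Z.subtype ≤ K) :
    Z ≤ K := by
  have h1 : (K.subgroupOf Z).index = 1 := by
    rw [Nat.eq_one_iff_not_exists_prime_dvd]
    intro r hr hdvd
    haveI : Fact r.Prime := ⟨hr⟩
    obtain ⟨R, hR⟩ := h r
    have hle : (R : Subgroup Z) ≤ K.subgroupOf Z := by
      intro z hz
      rw [Subgroup.mem_subgroupOf]
      exact hR ⟨z, hz, rfl⟩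
    exact R.not_dvd_index (hdvd.trans (Subgroup.index_dvd_of_le hle))
  rw [Subgroup.index_eq_one] at h1
  exact Subgroup.subgroupOf_eq_top.mp h1

/-- The conjugation action of a subgroup `R ≤ N(A)` on `A`. -/
def bg1210_conjAct (A R : Subgroup G) (hR : R ≤ normalizer (A : Set G)) : MulAction R A where
  smul r a := ⟨(r : G) * a * (r : G)⁻¹, (mem_normalizer_iff.mp (hR r.2) a).mp a.2⟩
  one_smul a := by
    apply Subtype.ext
    show ((1 : R) : G) * a * ((1 : R) : G)⁻¹ = a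
    simp
  mul_smul r s a := by
    apply Subtype.ext
    show ((r * s : R) : G) * a * ((r * s : R) : G)⁻¹ =
      (r : G) * ((s : G) * a * (s : G)⁻¹) * (r : G)⁻¹
    simp [mul_assoc]

/-- An `r`-group normalizing a group `A` of order `p ^ 2` and centralizing a subgroup of order `p`
of `A` centralizes `A`, when `r` does not divide `p * (p - 1)`. -/
theorem bg1210_cnt [Finite G] {p r : ℕ} [hp : Fact p.Prime] [Fact r.Prime]
    (hrp : ¬ r ∣ p * (p - 1)) (A X R : Subgroup G) (hA : Nat.card A = p ^ 2) (hXA : X ≤ A)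
    (hX : Nat.card X = p) (hR : IsPGroup r R) (hRA : R ≤ normalizer (A : Set G))
    (hRX : R ≤ centralizer (X : Set G)) : R ≤ centralizer (A : Set G) := by
  letI := bg1210_conjAct A R hRA
  have h1 := hR.card_modEq_card_fixedPoints (↥A)
  have hfix : (MulAction.fixedPoints R A) = (((centralizer (R : Set G)).subgroupOf A : Subgroup A) : Set A) := by
    ext a
    rw [MulAction.mem_fixedPoints]
    constructor
    · intro h
      show a ∈ (centralizer (R : Set G)).subgroupOf A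
      rw [Subgroup.mem_subgroupOf, mem_centralizer_iff]
      intro g hg
      have h2 : g * (a : G) * g⁻¹ = a := congrArg Subtype.val (h ⟨g, hg⟩)
      calc g * (a : G) = g * a * g⁻¹ * g := by group
        _ = a * g := by rw [h2]
    · intro h g
      have h' : (a : G) ∈ centralizer (R : Set G) := Subgroup.mem_subgroupOf.mp h
      rw [mem_centralizer_iff] at h'
      apply Subtype.ext
      show (g : G) * a * (g : G)⁻¹ = a
      rw [h' g g.2]; group
  have hcard : Nat.card (MulAction.fixedPoints R A) =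
      Nat.card ((centralizer (R : Set G)).subgroupOf A) := by
    rw [hfix]; rfl
  rw [hcard, hA] at h1
  have hXF : X.subgroupOf A ≤ (centralizer (R : Set G)).subgroupOf A := by
    intro a ha
    rw [Subgroup.mem_subgroupOf, mem_centralizer_iff]
    intro g hg
    have := hRX hg
    rw [mem_centralizer_iff] at this
    exact (this a (Subgroup.mem_subgroupOf.mp ha)).symm
  have hXc : Nat.card (X.subgroupOf A) = p := by
    rw [← hX]
    exact Nat.card_congr (Subgroup.subgroupOfEquivOfLe hXA).toEquiv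
  have hpF : p ∣ Nat.card ((centralizer (R : Set G)).subgroupOf A) := by
    rw [← hXc]; exact Subgroup.card_dvd_of_le hXF
  have hFA : Nat.card ((centralizer (R : Set G)).subgroupOf A) ∣ p ^ 2 := by
    rw [← hA]; exact Subgroup.card_subgroup_dvd_card _
  obtain ⟨i, hi, hFi⟩ := (Nat.dvd_prime_pow hp.out).mp hFA
  have hp1 := hp.out.one_lt
  have hi2 : i = 2 := by
    interval_cases i
    · rw [hFi, pow_zero] at hpF
      exact absurd (Nat.le_of_dvd one_pos hpF) (not_le.mpr hp1)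
    · exfalso
      rw [hFi, pow_one] at h1
      have h2 : r ∣ p ^ 2 - p := (Nat.modEq_iff_dvd' (by nlinarith)).mp h1.symm
      apply hrp
      have h3 : p ^ 2 - p = p * (p - 1) := by
        rw [Nat.mul_sub_one, sq]
      rwa [h3] at h2
    · rfl
  have hFtop : (centralizer (R : Set G)).subgroupOf A = ⊤ := by
    apply Subgroup.eq_top_of_card_eq
    rw [hFi, hi2, hA]
  intro g hg
  rw [mem_centralizer_iff]
  intro a ha
  have h4 : (⟨a, ha⟩ : A) ∈ (centralizer (R : Set G)).subgroupOf A := by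
    rw [hFtop]; exact Subgroup.mem_top _
  rw [Subgroup.mem_subgroupOf, mem_centralizer_iff] at h4
  exact (h4 g hg).symm

theorem bg1210_mem_smul_sylow {p : ℕ} (P : Sylow p G) (g x : G) :
    x ∈ ((g • P : Sylow p G) : Subgroup G) ↔ g⁻¹ * x * g ∈ (P : Subgroup G) := by
  rw [Sylow.coe_subgroup_smul, Subgroup.mem_pointwise_smul_iff_inv_smul_mem]
  simp [MulAut.smul_def]

/-- A `p`-subgroup of `M` is `M`-conjugate into a complement of a normal... (only cardinalities
are used) `p'`-subgroup `S` of `M`. -/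
theorem bg1210_exists_conj_le_compl [Finite G] {M E S : Subgroup G} (hE : IsComplIn E S M)
    {p : ℕ} [hp : Fact p.Prime] (hpS : ¬ p ∣ Nat.card S) {B : Subgroup G} (hBM : B ≤ M)
    (hB : IsPGroup p B) : ∃ g ∈ M, ∀ b ∈ B, g * b * g⁻¹ ∈ E := by
  obtain ⟨T⟩ : Nonempty (Sylow p E) := inferInstance
  have hTE : (T : Subgroup E).map E.subtype ≤ E := Subgroup.map_subtype_le _
  have hTM : (T : Subgroup E).map E.subtype ≤ M := hTE.trans hE.1
  have hT'p : IsPGroup p (((T : Subgroup E).map E.subtype).subgroupOf M) :=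
    (T.isPGroup'.map E.subtype).comap_of_injective M.subtype (Subgroup.subtype_injective M)
  have hc1 : Nat.card (((T : Subgroup E).map E.subtype).subgroupOf M) = Nat.card (T : Subgroup E) := by
    rw [Nat.card_congr (Subgroup.subgroupOfEquivOfLe hTM).toEquiv, Subgroup.card_subtype]
  have hidx : ¬ p ∣ (((T : Subgroup E).map E.subtype).subgroupOf M).index := by
    have e1 := Subgroup.card_mul_index (((T : Subgroup E).map E.subtype).subgroupOf M)
    have e2 := Subgroup.card_mul_index (T : Subgroup E)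
    have e3 := Cfsg.Agent.Lib.helper29.IsComplIn.card_mul hE
    rw [hc1, ← e3, ← e2, mul_assoc] at e1
    have hpos : 0 < Nat.card (T : Subgroup E) := Nat.card_pos
    have e4 := Nat.eq_of_mul_eq_mul_left hpos e1
    rw [e4]
    intro hdvd
    rcases (Nat.Prime.dvd_mul hp.out).mp hdvd with h | h
    · exact T.not_dvd_index h
    · exact hpS h
  obtain ⟨P, hP⟩ := (hB.comap_of_injective M.subtype (Subgroup.subtype_injective M) :
    IsPGroup p (B.subgroupOf M)).exists_le_sylow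
  obtain ⟨g, hg⟩ := MulAction.exists_smul_eq M P (hT'p.toSylow hidx)
  refine ⟨g, g.2, fun b hb => ?_⟩
  have h1 : (⟨b, hBM hb⟩ : M) ∈ (P : Subgroup M) := hP (Subgroup.mem_subgroupOf.mpr hb)
  have h2 : g * ⟨b, hBM hb⟩ * g⁻¹ ∈ ((g • P : Sylow p M) : Subgroup M) := by
    rw [bg1210_mem_smul_sylow]
    have : g⁻¹ * (g * ⟨b, hBM hb⟩ * g⁻¹) * g = ⟨b, hBM hb⟩ := by group
    rw [this]; exact h1
  rw [hg] at h2
  have h3 : (g * ⟨b, hBM hb⟩ * g⁻¹ : M) ∈ ((T : Subgroup E).map E.subtype).subgroupOf M := h2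
  rw [Subgroup.mem_subgroupOf] at h3
  exact hTE h3

/-- A noncyclic `p`-group (`p` odd) contains an elementary abelian subgroup of order `p ^ 2`. -/
theorem bg1210_exists_elemAb_of_not_cyclic [Finite G] {p : ℕ} [hp : Fact p.Prime] (hp2 : p ≠ 2)
    {P : Subgroup G} (hP : IsPGroup p P) (hnc : ¬ IsCyclic P) :
    ∃ A : Subgroup G, A ≤ P ∧ IsElementaryAbelian p A ∧ Nat.card A = p ^ 2 := by
  have hr : ¬ PRankLE p 1 P := fun h =>
    hnc (Cfsg.Agent.Lib.helper71.BGA.isCyclic_of_prankLE_one p hp2 hP h)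
  unfold PRankLE at hr
  push Not at hr
  obtain ⟨A₀, hc, he, hcard⟩ := hr
  have hA₀p : IsPGroup p A₀ := by
    intro a
    exact ⟨1, by rw [pow_one]; exact Subtype.ext (by simpa using he a a.2)⟩
  obtain ⟨n, hn⟩ := IsPGroup.iff_card.mp hA₀p
  have hn2 : 2 ≤ n := by
    rw [hn] at hcard
    have h3 := (Nat.pow_lt_pow_iff_right hp.out.one_lt).mp hcard
    omega
  have hdvd : p ^ 2 ∣ Nat.card A₀ := by rw [hn]; exact pow_dvd_pow p hn2
  obtain ⟨K, hK⟩ := Sylow.exists_subgroup_card_pow_prime p hdvd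
  refine ⟨(K.map A₀.subtype).map P.subtype, Subgroup.map_subtype_le _, ?_, ?_⟩
  · apply Cfsg.Agent.Lib.helper8.bg_elemAb_map
    apply Cfsg.Agent.Lib.helper8.bg_elemAb_map
    refine ⟨⟨⟨fun a b => ?_⟩⟩, fun a _ => ?_⟩
    · apply Subtype.ext
      exact hc.is_comm.comm (a : A₀) (b : A₀)
    · exact Subtype.ext (by simpa using he a a.2)
  · rw [Subgroup.card_subtype, Subgroup.card_subtype, hK]

/-- A complement of `M_σ` in `M` through a given solvable `σ(M)'`-subgroup. -/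
theorem bg1210_exists_compl_ge [Finite G] (M : Subgroup G)
    (hHall : IsPiHallOf (sigma M) (sigmaCore M) M) (Q : Subgroup G) (hQM : Q ≤ M)
    (hQ : ∀ p : ℕ, p.Prime → p ∣ Nat.card Q → p ∉ sigma M) (hQs : Group.IsSolvable Q) :
    ∃ E : Subgroup G, IsComplIn E (sigmaCore M) M ∧ Q ≤ E := by
  have hcard : Nat.card (sigmaCore M) = Nat.card (piCore (sigma M) ↥M) := by
    unfold sigmaCore; exact Subgroup.card_subtype _ _
  have hidx : (sigmaCore M).relIndex M = (piCore (sigma M) ↥M).index := by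
    unfold sigmaCore; exact Cfsg.Agent.Lib.helper71.BGA.relIndex_map_subtype _
  have hN : (Nat.card (piCore (sigma M) ↥M)).Coprime (piCore (sigma M) ↥M).index := by
    rw [← hcard, ← hidx]
    exact Nat.coprime_of_dvd fun k hk h1 h2 => hHall.2.2 k hk (hHall.2.1 k hk h1) h2
  have hQ' : (Nat.card (piCore (sigma M) ↥M)).Coprime (Nat.card (Q.subgroupOf M)) := by
    rw [← hcard, Nat.card_congr (Subgroup.subgroupOfEquivOfLe hQM).toEquiv]
    exact Nat.coprime_of_dvd fun k hk h1 h2 => hQ k hk h2 (hHall.2.1 k hk h1)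
  have hQsolv : Group.IsSolvable (Q.subgroupOf M) :=
    Group.isSolvable_of_isSolvable_injective (f := (Subgroup.subgroupOfEquivOfLe hQM).toMonoidHom)
      (Subgroup.subgroupOfEquivOfLe hQM).injective
  obtain ⟨E', hE', hQE'⟩ := Cfsg.Agent.Lib.helper29.exists_complement_ge (piCore (sigma M) ↥M) hN
    (Q.subgroupOf M) hQ' (Or.inr hQsolv)
  refine ⟨E'.map M.subtype, ⟨Subgroup.map_subtype_le _,
    Cfsg.Agent.Lib.helper71.BGA.sigmaCore_le M, ?_, ?_⟩, ?_⟩
  · rw [eq_bot_iff]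
    rintro x ⟨⟨e, he, rfl⟩, hx⟩
    have hx' : (e : G) ∈ (piCore (sigma M) ↥M).map M.subtype := hx
    obtain ⟨s, hs, hse⟩ := hx'
    have hse' : s = e := Subtype.ext hse
    rw [hse'] at hs
    have h1 := (Subgroup.disjoint_def.mp hE'.disjoint) hs he
    rw [Subgroup.mem_bot]
    show ((e : M) : G) = 1
    rw [h1]; rfl
  · intro m hm
    obtain ⟨⟨⟨s, hs⟩, ⟨e, he⟩⟩, hse, -⟩ :=
      (Subgroup.isComplement_iff_existsUnique.mp hE') (⟨m, hm⟩⁻¹ : M)
    have hse' : s * e = (⟨m, hm⟩⁻¹ : M) := hse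
    refine ⟨((e⁻¹ : M) : G), ⟨e⁻¹, inv_mem he, rfl⟩, ((s⁻¹ : M) : G), ⟨s⁻¹, inv_mem hs, rfl⟩, ?_⟩
    have h2 : (⟨m, hm⟩ : M) = e⁻¹ * s⁻¹ := by
      rw [← mul_inv_rev, hse', inv_inv]
    exact congrArg Subtype.val h2
  · intro q hq
    exact ⟨⟨q, hQM hq⟩, hQE' (Subgroup.mem_subgroupOf.mpr hq), rfl⟩

/-- Clause 1 of Corollary 12.10: nilpotent `σ(M)'`-subgroups of `M` are abelian. -/
theorem bg1210_nilpotent_comm [Finite G] (hG : IsMinSimpleOddOrder G)
    (hU : Cfsg.Agent.Lib.helper8.BGUniqHyp G) (M : Subgroup G) (hM : IsCoatom M)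
    (h17 : ∀ (p : ℕ) [Fact p.Prime], p ∈ tau2 M → ∀ A : Subgroup G,
      (A ≤ M ∧ IsElementaryAbelian p A ∧ Nat.card A = p ^ 2) → BG125Concl M p A)
    (N : Subgroup G) (hNM : N ≤ M) (hN : Group.IsNilpotent N)
    (hNσ : ∀ p : ℕ, p.Prime → p ∣ Nat.card N → p ∉ sigma M) : IsMulCommutative N := by
  obtain ⟨hodd, -⟩ := id hG
  refine ⟨⟨fun x y => bg1210_comm_of_sylow hN ?_ x y⟩⟩
  intro r _ R a ha b hb
  by_cases hcyc : IsCyclic R
  · obtain ⟨c, hc⟩ := hcyc.exists_generator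
    obtain ⟨i, hi⟩ := Subgroup.mem_zpowers_iff.mp (hc ⟨a, ha⟩)
    obtain ⟨j, hj⟩ := Subgroup.mem_zpowers_iff.mp (hc ⟨b, hb⟩)
    have h1 : (⟨a, ha⟩ : R) * ⟨b, hb⟩ = ⟨b, hb⟩ * ⟨a, ha⟩ := by
      rw [← hi, ← hj, ← zpow_add, ← zpow_add, add_comm]
    exact congrArg Subtype.val h1
  · have hr1 : ¬ PRankLE r 1 M := fun h =>
      hcyc (Cfsg.Agent.Lib.helper8.bg_sylow_cyclic_of_prank_one hodd hNM r h R)
    have hrN : r ∣ Nat.card N := by
      by_contra h
      exact hcyc (Cfsg.Agent.Lib.helper8.bg_sylow_cyclic_of_not_dvd h R)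
    have hrσ : r ∉ sigma M := hNσ r Fact.out hrN
    have hr2 : PRankLE r 2 M := by
      by_contra h
      exact hrσ (Cfsg.Agent.Lib.helper8.bg_alpha_sub_sigma hG hU M hM ⟨Fact.out, h⟩)
    have hτ : r ∈ tau2 M := ⟨Fact.out, hrσ, hr2, hr1⟩
    obtain ⟨A, hAM, hAe, hAc⟩ := Cfsg.Agent.Lib.helper8.bg_exists_elemAb_sq M r hr2 hr1
    obtain ⟨-, hSyl, -⟩ := h17 r hτ A ⟨hAM, hAe, hAc⟩
    have hRp : IsPGroup r ((R : Subgroup N).map N.subtype) := R.isPGroup'.map _
    obtain ⟨P, hP⟩ := bg126_exists_sylow (M := M) ((Subgroup.map_subtype_le _).trans hNM) hRp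
    have hPc := (hSyl P).1
    obtain ⟨a₁, ha₁, ha₁e⟩ := hP ⟨a, ha, rfl⟩
    obtain ⟨b₁, hb₁, hb₁e⟩ := hP ⟨b, hb, rfl⟩
    have hc : (⟨a₁, ha₁⟩ : (P : Subgroup M)) * ⟨b₁, hb₁⟩ = ⟨b₁, hb₁⟩ * ⟨a₁, ha₁⟩ :=
      hPc.is_comm.comm _ _
    have hc' : (a₁ : G) * b₁ = b₁ * a₁ :=
      congrArg (fun z : (P : Subgroup M) => ((z : M) : G)) hc
    apply Subtype.ext
    show (a : G) * b = b * a
    have ea : (a₁ : G) = a := ha₁e
    have eb : (b₁ : G) = b := hb₁e
    rw [← ea, ← eb]; exact hc'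

/-- Clause 3 of Corollary 12.10. -/
theorem bg1210_normalizer_le [Finite G] (hG : IsMinSimpleOddOrder G) (M : Subgroup G)
    (h16 : ∀ (p : ℕ) [Fact p.Prime] (A : Subgroup G),
      (A ≤ M ∧ IsElementaryAbelian p A ∧ Nat.card A = p ^ 2) → centralizer (A : Set G) ≤ M)
    (hfus : ∀ (p : ℕ) [Fact p.Prime], p ∈ sigma M → ∀ X : Subgroup G, IsPGroup p X → X ≠ ⊥ →
      X ≤ M → normalizer (X : Set G) = (M ⊓ normalizer (X : Set G)) ⊔ centralizer (X : Set G))
    (p : ℕ) (P : Subgroup G) (hp : p ∈ sigma M) (hP : IsPGroup p P) (hPM : P ≤ M)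
    (hnc : ¬ IsCyclic P) : normalizer (P : Set G) ≤ M := by
  obtain ⟨hodd, -⟩ := id hG
  have hpp : p.Prime := hp.1
  have : Fact p.Prime := ⟨hpp⟩
  have hp2 : p ≠ 2 := by
    rintro rfl
    have h1 : 2 ∣ Nat.card G := hp.2.1.trans (Subgroup.card_subgroup_dvd_card M)
    exact (Nat.not_even_iff_odd.mpr hodd) (even_iff_two_dvd.mpr h1)
  have hP1 : P ≠ ⊥ := by
    rintro rfl
    exact hnc inferInstance
  obtain ⟨A, hAP, hAe, hAc⟩ := bg1210_exists_elemAb_of_not_cyclic hp2 hP hnc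
  have hCA := h16 p A ⟨hAP.trans hPM, hAe, hAc⟩
  have hCP : centralizer (P : Set G) ≤ M := (Subgroup.centralizer_le hAP).trans hCA
  rw [hfus p hp P hP hP1 hPM]
  exact sup_le inf_le_left hCP

/-- Clause 4 of Corollary 12.10. -/
theorem bg1210_centralizer [Finite G] (hG : IsMinSimpleOddOrder G) (M : Subgroup G)
    (hM : IsCoatom M) (hHall : IsPiHallOf (sigma M) (sigmaCore M) M)
    (h16 : ∀ (p : ℕ) [Fact p.Prime] (A : Subgroup G),
      (A ≤ M ∧ IsElementaryAbelian p A ∧ Nat.card A = p ^ 2) → centralizer (A : Set G) ≤ M)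
    (h17 : ∀ (p : ℕ) [Fact p.Prime], p ∈ tau2 M → ∀ A : Subgroup G,
      (A ≤ M ∧ IsElementaryAbelian p A ∧ Nat.card A = p ^ 2) → BG125Concl M p A)
    (x : G) (hxM : x ∈ M) (hx1 : x ≠ 1)
    (hxτ : ∀ p : ℕ, p.Prime → p ∣ orderOf x → p ∈ tau2 M) (hxσ : x ∈ sigmaHat M) :
    centralizer ({x} : Set G) ≤ M ∧
      ∀ L : Subgroup G, IsCoatom L → centralizer ({x} : Set G) ≤ L → L = M := by
  obtain ⟨-, y, hyσ, hy1, hxy⟩ := hxσ
  have hn0 : orderOf x ≠ 0 := (orderOf_pos x).ne'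
  have hn1 : orderOf x ≠ 1 := fun h => hx1 (orderOf_eq_one_iff.mp h)
  obtain ⟨p, hpdef⟩ : ∃ p : ℕ, p = (orderOf x).minFac := ⟨_, rfl⟩
  have hpp : p.Prime := hpdef ▸ Nat.minFac_prime hn1
  have : Fact p.Prime := ⟨hpp⟩
  have hpn : p ∣ orderOf x := hpdef ▸ Nat.minFac_dvd (orderOf x)
  have hpτ : p ∈ tau2 M := hxτ p hpp hpn
  obtain ⟨-, hpσ, hr2, hr1⟩ := id hpτ
  -- a complement of `M_σ` through `x`
  have hZM : zpowers x ≤ M := Subgroup.zpowers_le.mpr hxM
  have hZσ : ∀ q : ℕ, q.Prime → q ∣ Nat.card (zpowers x) → q ∉ sigma M := by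
    intro q hq hqd
    rw [Nat.card_zpowers] at hqd
    exact (hxτ q hq hqd).2.1
  have hZcomm : ∀ a ∈ zpowers x, ∀ b ∈ zpowers x, a * b = b * a := by
    intro a ha b hb
    obtain ⟨i, rfl⟩ := Subgroup.mem_zpowers_iff.mp ha
    obtain ⟨j, rfl⟩ := Subgroup.mem_zpowers_iff.mp hb
    rw [← zpow_add, ← zpow_add, add_comm]
  have hZsolv : Group.IsSolvable (zpowers x) :=
    Group.isSolvable_of_comm fun a b => Subtype.ext (hZcomm a a.2 b b.2)
  obtain ⟨E, hE, hZE⟩ := bg1210_exists_compl_ge M hHall (zpowers x) hZM hZσ hZsolv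
  -- an elementary abelian subgroup of order `p ^ 2` of `E`
  obtain ⟨A₁, hA₁M, hA₁e, hA₁c⟩ := Cfsg.Agent.Lib.helper8.bg_exists_elemAb_sq M p hr2 hr1
  have hpS : ¬ p ∣ Nat.card (sigmaCore M) := fun h => hpσ (hHall.2.1 p hpp h)
  obtain ⟨g, hgM, hg⟩ := bg1210_exists_conj_le_compl hE hpS hA₁M (IsPGroup.of_card hA₁c)
  obtain ⟨A, hAdef⟩ : ∃ A : Subgroup G, A = A₁.map (MulAut.conj g).toMonoidHom := ⟨_, rfl⟩
  have hAmem : ∀ a ∈ A, ∃ a₁ ∈ A₁, a = g * a₁ * g⁻¹ := by
    intro a ha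
    rw [hAdef] at ha
    obtain ⟨a₁, ha₁, rfl⟩ := ha
    exact ⟨a₁, ha₁, by simp⟩
  have hAE : A ≤ E := by
    intro a ha
    obtain ⟨a₁, ha₁, rfl⟩ := hAmem a ha
    exact hg a₁ ha₁
  have hAe : IsElementaryAbelian p A := by
    rw [Cfsg.Agent.Lib.helper8.bg_elemAb_iff] at hA₁e ⊢
    refine ⟨?_, ?_⟩
    · intro a ha b hb
      obtain ⟨a₁, ha₁, rfl⟩ := hAmem a ha
      obtain ⟨b₁, hb₁, rfl⟩ := hAmem b hb
      have h1 := hA₁e.1 a₁ ha₁ b₁ hb₁
      calc g * a₁ * g⁻¹ * (g * b₁ * g⁻¹) = g * (a₁ * b₁) * g⁻¹ := by group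
        _ = g * (b₁ * a₁) * g⁻¹ := by rw [h1]
        _ = g * b₁ * g⁻¹ * (g * a₁ * g⁻¹) := by group
    · intro a ha
      obtain ⟨a₁, ha₁, rfl⟩ := hAmem a ha
      rw [conj_pow, hA₁e.2 a₁ ha₁]; group
  have hAc : Nat.card A = p ^ 2 := by
    rw [hAdef, Subgroup.card_map_of_injective (MulAut.conj g).injective, hA₁c]
  have hAM : A ≤ M := hAE.trans hE.1
  have h16A := h16 p A ⟨hAM, hAe, hAc⟩
  have h17A := h17 p hpτ A ⟨hAM, hAe, hAc⟩
  obtain ⟨⟨hEN, hΩ⟩, -, h3⟩ := bg126_main hG M hM E hE p A ⟨hAE, hAe, hAc⟩ h16A h17A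
  obtain ⟨-, hSyl, -, -, huniq, -⟩ := id h17A
  -- the subgroup of order `p` of `⟨x⟩`
  obtain ⟨X, hXdef⟩ : ∃ X : Subgroup G, X = zpowers (x ^ (orderOf x / p)) := ⟨_, rfl⟩
  have hXord : orderOf (x ^ (orderOf x / p)) = p := orderOf_pow_orderOf_div hn0 hpn
  have hXc : Nat.card X = p := by rw [hXdef, Nat.card_zpowers, hXord]
  have hXZ : X ≤ zpowers x := by
    rw [hXdef, Subgroup.zpowers_le]
    exact Subgroup.pow_mem _ (Subgroup.mem_zpowers x) _
  have hXA : X ≤ A := hΩ X (hXZ.trans hZE) hXc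
  -- `⟨x⟩` centralizes `A`
  have hZC : zpowers x ≤ centralizer (A : Set G) := by
    apply bg1210_le_of_sylow_le
    intro r _
    obtain ⟨R⟩ : Nonempty (Sylow r (zpowers x)) := inferInstance
    refine ⟨R, ?_⟩
    have hR'Z : (R : Subgroup (zpowers x)).map (zpowers x).subtype ≤ zpowers x :=
      Subgroup.map_subtype_le _
    have hR'p : IsPGroup r ((R : Subgroup (zpowers x)).map (zpowers x).subtype) :=
      R.isPGroup'.map _
    have hR'N : (R : Subgroup (zpowers x)).map (zpowers x).subtype ≤ normalizer (A : Set G) :=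
      hR'Z.trans (hZE.trans hEN)
    by_cases hrp : r = p
    · subst hrp
      have hsup := IsPGroup.to_sup_of_normal_right' hR'p (IsPGroup.of_card hAc) hR'N
      obtain ⟨P, hP⟩ := bg126_exists_sylow (M := M) (sup_le (hR'Z.trans hZM) hAM) hsup
      have hPc := (hSyl P).1
      intro c hc
      rw [mem_centralizer_iff]
      intro a ha
      obtain ⟨a₁, ha₁, ha₁e⟩ := hP (Subgroup.mem_sup_right ha)
      obtain ⟨c₁, hc₁, hc₁e⟩ := hP (Subgroup.mem_sup_left hc)
      have hcomm : (⟨a₁, ha₁⟩ : (P : Subgroup M)) * ⟨c₁, hc₁⟩ = ⟨c₁, hc₁⟩ * ⟨a₁, ha₁⟩ :=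
        hPc.is_comm.comm _ _
      have hcomm' : (a₁ : G) * c₁ = c₁ * a₁ :=
        congrArg (fun z : (P : Subgroup M) => ((z : M) : G)) hcomm
      have ea : (a₁ : G) = a := ha₁e
      have ec : (c₁ : G) = c := hc₁e
      rw [← ea, ← ec]; exact hcomm'
    · by_cases hRbot : (R : Subgroup (zpowers x)).map (zpowers x).subtype = ⊥
      · rw [hRbot]; exact bot_le
      · have hrprime : r.Prime := Fact.out
        have hrn : r ∣ orderOf x := by
          have h1 : r ∣ Nat.card ((R : Subgroup (zpowers x)).map (zpowers x).subtype) := by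
            obtain ⟨k, hk⟩ := IsPGroup.iff_card.mp hR'p
            rcases Nat.eq_zero_or_pos k with h0 | h0
            · exfalso; apply hRbot
              rw [h0, pow_zero] at hk
              exact Subgroup.card_eq_one.mp hk
            · rw [hk]; exact dvd_pow_self r h0.ne'
          have h2 := Subgroup.card_dvd_of_le hR'Z
          rw [Nat.card_zpowers] at h2
          exact h1.trans h2
        have hpr : p ≤ r := hpdef ▸ Nat.minFac_le_of_dvd hrprime.two_le hrn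
        have hpr' : p < r := lt_of_le_of_ne hpr (Ne.symm hrp)
        have hndvd : ¬ r ∣ p * (p - 1) := by
          intro h
          rcases (Nat.Prime.dvd_mul hrprime).mp h with h | h
          · exact hrp ((Nat.prime_dvd_prime_iff_eq hrprime hpp).mp h)
          · have h5 : 0 < p - 1 := Nat.sub_pos_of_lt hpp.one_lt
            have := Nat.le_of_dvd h5 h
            omega
        apply bg1210_cnt hndvd A X _ hAc hXA hXc hR'p hR'N
        intro c hc
        rw [mem_centralizer_iff]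
        intro t ht
        exact hZcomm t (hXZ ht) c (hR'Z hc)
  have hxCA : x ∈ centralizer (A : Set G) := hZC (Subgroup.mem_zpowers x)
  have hyX : y ∈ centralizer (X : Set G) := by
    rw [mem_centralizer_iff]
    intro t ht
    rw [hXdef] at ht
    obtain ⟨k, rfl⟩ := Subgroup.mem_zpowers_iff.mp ht
    have hc : Commute x y := hxy
    exact ((hc.pow_left (orderOf x / p)).zpow_left k).eq
  have hσX : sigmaCore M ⊓ centralizer (X : Set G) ≠ ⊥ := by
    intro h
    have h1 : y ∈ sigmaCore M ⊓ centralizer (X : Set G) := ⟨hyσ, hyX⟩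
    rw [h] at h1
    exact hy1 (Subgroup.mem_bot.mp h1)
  obtain ⟨hCXM, -⟩ := h3 X hXA hXc hσX
  have hCxX : centralizer ({x} : Set G) ≤ centralizer (X : Set G) := by
    intro c hc
    rw [mem_centralizer_iff] at hc ⊢
    intro t ht
    rw [hXdef] at ht
    obtain ⟨k, rfl⟩ := Subgroup.mem_zpowers_iff.mp ht
    have h1 : Commute x c := hc x (Set.mem_singleton x)
    exact ((h1.pow_left (orderOf x / p)).zpow_left k).eq
  refine ⟨hCxX.trans hCXM, ?_⟩
  intro L hL hCL
  by_contra hne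
  have hAL : A ≤ L := by
    intro a ha
    apply hCL
    rw [mem_centralizer_iff]
    intro t ht
    rw [Set.mem_singleton_iff] at ht
    rw [ht]
    exact ((mem_centralizer_iff.mp hxCA) a ha).symm
  have h1 := huniq L hL hne hAL
  have hyL : y ∈ L := by
    apply hCL
    rw [mem_centralizer_iff]
    intro t ht
    rw [Set.mem_singleton_iff] at ht
    rw [ht]
    exact hxy
  have h2 : y ∈ sigmaCore M ⊓ L := ⟨hyσ, hyL⟩
  rw [h1] at h2
  exact hy1 (Subgroup.mem_bot.mp h2)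

/-- Bender–Glauberman Corollary 12.10 (the statement S1420), from its prerequisites. -/
theorem bg1210_main [Finite G] (hG : IsMinSimpleOddOrder G) (M : Subgroup G) (hM : IsCoatom M)
    (E : Subgroup G) (hE : IsComplIn E (sigmaCore M) M)
    (hU : Cfsg.Agent.Lib.helper8.BGUniqHyp G)
    (hHall : IsPiHallOf (sigma M) (sigmaCore M) M)
    (hnil : Group.IsNilpotent ↥⁅E, E⁆)
    (hfus : ∀ (p : ℕ) [Fact p.Prime], p ∈ sigma M → ∀ X : Subgroup G, IsPGroup p X → X ≠ ⊥ →
      X ≤ M → normalizer (X : Set G) = (M ⊓ normalizer (X : Set G)) ⊔ centralizer (X : Set G))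
    (h16 : ∀ (p : ℕ) [Fact p.Prime] (A : Subgroup G),
      (A ≤ M ∧ IsElementaryAbelian p A ∧ Nat.card A = p ^ 2) → centralizer (A : Set G) ≤ M)
    (h17 : ∀ (p : ℕ) [Fact p.Prime], p ∈ tau2 M → ∀ A : Subgroup G,
      (A ≤ M ∧ IsElementaryAbelian p A ∧ Nat.card A = p ^ 2) → BG125Concl M p A) :
    (∀ N : Subgroup G, N ≤ M → Group.IsNilpotent N → (∀ p : ℕ, p.Prime → p ∣ Nat.card N → p ∉ Cfsg.sigma M) → IsMulCommutative N) ∧
      IsMulCommutative ↥⁅E, E⁆ ∧
      (∀ (p : ℕ) (P : Subgroup G), p ∈ Cfsg.sigma M → IsPGroup p P → P ≤ M → ¬ IsCyclic P → Subgroup.normalizer (P : Set G) ≤ M) ∧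
      ∀ x ∈ M, x ≠ 1 → (∀ p : ℕ, p.Prime → p ∣ orderOf x → p ∈ Cfsg.tau2 M) → x ∈ Cfsg.sigmaHat M →
        Subgroup.centralizer ({x} : Set G) ≤ M ∧ ∀ L : Subgroup G, IsCoatom L → Subgroup.centralizer ({x} : Set G) ≤ L → L = M := by
  refine ⟨fun N hNM hN hNσ => bg1210_nilpotent_comm hG hU M hM h17 N hNM hN hNσ, ?_,
    fun p P hp hP hPM hnc => bg1210_normalizer_le hG M h16 hfus p P hp hP hPM hnc,
    fun x hxM hx1 hxτ hxσ => bg1210_centralizer hG M hM hHall h16 h17 x hxM hx1 hxτ hxσ⟩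
  apply bg1210_nilpotent_comm hG hU M hM h17 ⁅E, E⁆
    ((Cfsg.Agent.Lib.helper29.commutator_self_le E).trans hE.1) hnil
  intro q hq hqd hqσ
  have h1 : q ∣ Nat.card E :=
    hqd.trans (Subgroup.card_dvd_of_le (Cfsg.Agent.Lib.helper29.commutator_self_le E))
  rw [Cfsg.Agent.Lib.helper29.IsComplIn.card_left hE] at h1
  exact hHall.2.2 q hq hqσ h1

end Cfsg.Agent.Lib.helper69
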