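import Mathlib
import Cfsg.Prelude.Def_OddOrderLocal
import Cfsg.Agent.Lib.helper29.Basic
import Cfsg.Agent.Lib.helper1.Hall
import Cfsg.Agent.Lib.helper1.Coprime
import Cfsg.Agent.Lib.helper71.BGTenA
import Cfsg.Agent.Lib.helper69.BGTwelveB

/-!
# Consequences of Bender–Glauberman Theorem 14.2(a),(b) for the standard factorisation `M = K U M_σ`

The frozen statement S1430 is taken as a hypothesis (`H1430`); the frozen statement S1426 (first two
clauses) as `H1426`.  Main results: `bgk_decomp_facts` (any `U` of a sigma-decomposition with `K ≠ 1`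
is abelian and `K` acts regularly on it), `bgk_1352`, `bgk_1354`, `bgk_1365`.
-/

set_option autoImplicit false

namespace Cfsg.Agent.Lib.helper69

open Cfsg Subgroup
open scoped Pointwise

variable {G : Type*} [Group G]

/-- The frozen statement S1430 (B-G 14.2(a),(b)) as a hypothesis. -/
def H1430 (G : Type*) [Group G] : Prop :=
  ∀ (M : Subgroup G), IsCoatom M → ∀ (K : Subgroup G), IsPiHallOf (kappa M) K M → K ≠ ⊥ →
    (∀ k ∈ K, k ≠ 1 → sigmaCore M ⊓ centralizer ({k} : Set G) =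
        (sigmaCore M ⊓ centralizer (K : Set G))) ∧
      (∃ U : Subgroup G, IsMulCommutative U ∧
        IsPiHallOf {q | q.Prime ∧ q ∉ kappa M ∧ q ∉ sigma M} U M ∧
        K ≤ normalizer (U : Set G) ∧ ∀ k ∈ K, k ≠ 1 → U ⊓ centralizer ({k} : Set G) = ⊥) ∧
      ∀ X : Subgroup G, X ≤ K → (Nat.card X).Prime →
        M ⊓ normalizer (X : Set G) = K ⊔ (sigmaCore M ⊓ centralizer (K : Set G)) ∧
        M ⊓ normalizer (K : Set G) = K ⊔ (sigmaCore M ⊓ centralizer (K : Set G)) ∧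
        ∀ Mstar : Subgroup G, IsCoatom Mstar → normalizer (X : Set G) ≤ Mstar → X ≤ sigmaCore Mstar

/-- The first two clauses of the frozen statement S1426 (B-G 13.1(a),(b)) as a hypothesis. -/
def H1426 (G : Type*) [Group G] : Prop :=
  ∀ (M : Subgroup G), IsCoatom M → ∀ E : Subgroup G, IsComplIn E (sigmaCore M) M →
    sigmaCore M ⊓ centralizer (E : Set G) ≤ ⁅sigmaCore M, sigmaCore M⁆ ∧
      ⁅sigmaCore M, E⁆ = sigmaCore M

theorem bgk_card_mul_relIndex [Finite G] {H M : Subgroup G} (h : H ≤ M) :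
    Nat.card H * H.relIndex M = Nat.card M := by
  have h1 := Subgroup.card_mul_index (H.subgroupOf M)
  rw [Nat.card_congr (Subgroup.subgroupOfEquivOfLe h).toEquiv] at h1
  exact h1

theorem bgk_hall_coprime [Finite G] {π : Set ℕ} {H M : Subgroup G} (h : IsPiHallOf π H M) :
    (Nat.card H).Coprime (H.relIndex M) :=
  Nat.coprime_of_dvd fun k hk h1 h2 => h.2.2 k hk (h.2.1 k hk h1) h2

/-- Hall subgroups for the same set of primes have the same order. -/
theorem bgk_hall_card_eq [Finite G] {π : Set ℕ} {H₁ H₂ M : Subgroup G}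
    (h₁ : IsPiHallOf π H₁ M) (h₂ : IsPiHallOf π H₂ M) : Nat.card H₁ = Nat.card H₂ := by
  have e1 := bgk_card_mul_relIndex h₁.1
  have e2 := bgk_card_mul_relIndex h₂.1
  have c12 : (Nat.card H₁).Coprime (H₂.relIndex M) :=
    Nat.coprime_of_dvd fun k hk h1 h2 => h₂.2.2 k hk (h₁.2.1 k hk h1) h2
  have c21 : (Nat.card H₂).Coprime (H₁.relIndex M) :=
    Nat.coprime_of_dvd fun k hk h1 h2 => h₁.2.2 k hk (h₂.2.1 k hk h1) h2
  apply Nat.dvd_antisymm
  · apply c12.dvd_of_dvd_mul_right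
    rw [e2, ← e1]; exact dvd_mul_right _ _
  · apply c21.dvd_of_dvd_mul_right
    rw [e1, ← e2]; exact dvd_mul_right _ _

/-- Conjugacy of Hall subgroups of a solvable subgroup, elementwise. -/
theorem bgk_hall_conj [Finite G] {π : Set ℕ} {H₁ H₂ M : Subgroup G} (hMs : Group.IsSolvable M)
    (h₁ : IsPiHallOf π H₁ M) (h₂ : IsPiHallOf π H₂ M) :
    ∃ m ∈ M, ∀ x : G, x ∈ H₁ ↔ m * x * m⁻¹ ∈ H₂ := by
  have := hMs
  have hc := bgk_hall_card_eq h₁ h₂
  have hprop := Cfsg.Agent.Lib.helper1.hallProp ↥M (Nat.card H₁) (H₁.relIndex M)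
    (bgk_card_mul_relIndex h₁.1).symm (bgk_hall_coprime h₁)
  obtain ⟨g, hg⟩ := hprop.1 (H₁.subgroupOf M) (H₂.subgroupOf M)
    (Nat.card_congr (Subgroup.subgroupOfEquivOfLe h₁.1).toEquiv)
    ((Nat.card_congr (Subgroup.subgroupOfEquivOfLe h₂.1).toEquiv).trans hc.symm)
  have key : ∀ y : M, y ∈ H₁.subgroupOf M ↔ g * y * g⁻¹ ∈ H₂.subgroupOf M := by
    intro y
    rw [← hg, Subgroup.mem_pointwise_smul_iff_inv_smul_mem]
    have : (MulAut.conj g)⁻¹ • (g * y * g⁻¹) = y := by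
      simp [MulAut.smul_def]
      group
    rw [this]
  refine ⟨g, g.2, fun x => ⟨fun hx => ?_, fun hx => ?_⟩⟩
  · have hxM : x ∈ M := h₁.1 hx
    have h3 := (key ⟨x, hxM⟩).mp (Subgroup.mem_subgroupOf.mpr hx)
    exact Subgroup.mem_subgroupOf.mp h3
  · have hxM : x ∈ M := by
      have h4 := h₂.1 hx
      have h5 : x = (g : G)⁻¹ * ((g : G) * x * (g : G)⁻¹) * (g : G) := by group
      rw [h5]; exact M.mul_mem (M.mul_mem (M.inv_mem g.2) h4) g.2
    have h3 : g * ⟨x, hxM⟩ * g⁻¹ ∈ H₂.subgroupOf M := Subgroup.mem_subgroupOf.mpr hx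
    exact Subgroup.mem_subgroupOf.mp ((key ⟨x, hxM⟩).mpr h3)

/-- A `p`-subgroup of `M` is `M`-conjugate into a Hall `π`-subgroup of `M` when `p ∈ π`. -/
theorem bgk_conj_into_hall [Finite G] {π : Set ℕ} {K M : Subgroup G} (hK : IsPiHallOf π K M)
    {p : ℕ} [hp : Fact p.Prime] (hpπ : p ∈ π) {B : Subgroup G} (hBM : B ≤ M)
    (hB : IsPGroup p B) : ∃ g ∈ M, ∀ b ∈ B, g * b * g⁻¹ ∈ K := by
  obtain ⟨T⟩ : Nonempty (Sylow p K) := inferInstance
  have hTK : (T : Subgroup K).map K.subtype ≤ K := Subgroup.map_subtype_le _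
  have hTM : (T : Subgroup K).map K.subtype ≤ M := hTK.trans hK.1
  have hT'p : IsPGroup p (((T : Subgroup K).map K.subtype).subgroupOf M) :=
    (T.isPGroup'.map K.subtype).comap_of_injective M.subtype (Subgroup.subtype_injective M)
  have hc1 : Nat.card (((T : Subgroup K).map K.subtype).subgroupOf M) = Nat.card (T : Subgroup K) := by
    rw [Nat.card_congr (Subgroup.subgroupOfEquivOfLe hTM).toEquiv, Subgroup.card_subtype]
  have hidx : ¬ p ∣ (((T : Subgroup K).map K.subtype).subgroupOf M).index := by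
    have e1 := Subgroup.card_mul_index (((T : Subgroup K).map K.subtype).subgroupOf M)
    have e2 := Subgroup.card_mul_index (T : Subgroup K)
    have e3 := bgk_card_mul_relIndex hK.1
    rw [hc1, ← e3, ← e2, mul_assoc] at e1
    have hpos : 0 < Nat.card (T : Subgroup K) := Nat.card_pos
    have e4 := Nat.eq_of_mul_eq_mul_left hpos e1
    rw [e4]
    intro hdvd
    rcases (Nat.Prime.dvd_mul hp.out).mp hdvd with h | h
    · exact T.not_dvd_index h
    · exact hK.2.2 p hp.out hpπ h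
  obtain ⟨P, hP⟩ := (hB.comap_of_injective M.subtype (Subgroup.subtype_injective M) :
    IsPGroup p (B.subgroupOf M)).exists_le_sylow
  obtain ⟨g, hg⟩ := MulAction.exists_smul_eq M P (hT'p.toSylow hidx)
  refine ⟨g, g.2, fun b hb => ?_⟩
  have h1 : (⟨b, hBM hb⟩ : M) ∈ (P : Subgroup M) := hP (Subgroup.mem_subgroupOf.mpr hb)
  have h2 : g * ⟨b, hBM hb⟩ * g⁻¹ ∈ ((g • P : Sylow p M) : Subgroup M) := by
    rw [bg1210_mem_smul_sylow]
    have : g⁻¹ * (g * ⟨b, hBM hb⟩ * g⁻¹) * g = ⟨b, hBM hb⟩ := by group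
    rw [this]; exact h1
  rw [hg] at h2
  have h3 : (g * ⟨b, hBM hb⟩ * g⁻¹ : M) ∈ ((T : Subgroup K).map K.subtype).subgroupOf M := h2
  rw [Subgroup.mem_subgroupOf] at h3
  exact hTK h3

theorem bgk_le_normalizer_sup {H A B : Subgroup G} (hA : H ≤ normalizer (A : Set G))
    (hB : H ≤ normalizer (B : Set G)) : H ≤ normalizer ((A ⊔ B : Subgroup G) : Set G) := by
  rw [Subgroup.le_normalizer_iff] at hA hB ⊢
  intro h hh x hx
  have h1 : (A ⊔ B).map (MulAut.conj h).toMonoidHom ≤ A ⊔ B := by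
    rw [Subgroup.map_sup]
    apply sup_le_sup
    · rintro _ ⟨a, ha, rfl⟩; exact hA h hh a ha
    · rintro _ ⟨b, hb, rfl⟩; exact hB h hh b hb
  exact h1 ⟨x, hx, rfl⟩

theorem bgk_le_normalizer_commutator {H A B : Subgroup G} (hA : H ≤ normalizer (A : Set G))
    (hB : H ≤ normalizer (B : Set G)) : H ≤ normalizer ((⁅A, B⁆ : Subgroup G) : Set G) := by
  rw [Subgroup.le_normalizer_iff] at hA hB ⊢
  intro h hh x hx
  have h1 : (⁅A, B⁆ : Subgroup G).map (MulAut.conj h).toMonoidHom ≤ ⁅A, B⁆ := by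
    rw [Subgroup.map_commutator]
    apply Subgroup.commutator_mono
    · rintro _ ⟨a, ha, rfl⟩; exact hA h hh a ha
    · rintro _ ⟨b, hb, rfl⟩; exact hB h hh b hb
  exact h1 ⟨x, hx, rfl⟩

theorem bgk_K_inf_sigmaCore [Finite G] {M K : Subgroup G} (hK : IsPiHallOf (kappa M) K M)
    (hHall : IsPiHallOf (sigma M) (sigmaCore M) M) : K ⊓ sigmaCore M = ⊥ :=
  disjoint_iff.mp (Subgroup.disjoint_of_coprime_natCard
    (Nat.coprime_of_dvd fun k hk h1 h2 => (hK.2.1 k hk h1).2.2.1 (hHall.2.1 k hk h2)))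

theorem bgk_card_sup [Finite G] {M K : Subgroup G} (hK : IsPiHallOf (kappa M) K M)
    (hHall : IsPiHallOf (sigma M) (sigmaCore M) M) :
    Nat.card (sigmaCore M) * Nat.card K = Nat.card ↥(K ⊔ sigmaCore M) := by
  have hnorm : K ≤ normalizer (sigmaCore M : Set G) :=
    hK.1.trans (Cfsg.Agent.Lib.helper71.BGA.le_normalizer_sigmaCore M)
  have hc : IsComplIn (sigmaCore M) K (K ⊔ sigmaCore M) := by
    refine ⟨le_sup_right, le_sup_left, ?_, fun m hm => ?_⟩
    · rw [inf_comm]; exact bgk_K_inf_sigmaCore hK hHall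
    · rw [sup_comm] at hm
      exact Cfsg.Agent.Lib.helper29.exists_mul_of_mem_sup_of_le_normalizer hnorm hm
  exact Cfsg.Agent.Lib.helper29.IsComplIn.card_mul hc

/-- In a sigma-decomposition `M = K U M_σ`, `U` is a Hall subgroup of `M` for the primes outside
`σ(M) ∪ κ(M)`. -/
theorem bgk_decomp_hall [Finite G] {M K U : Subgroup G}
    (hHall : IsPiHallOf (sigma M) (sigmaCore M) M) (hKU : IsSigmaDecomposition M K U) :
    IsPiHallOf {q | q.Prime ∧ q ∉ kappa M ∧ q ∉ sigma M} U M := by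
  have hK := hKU.hall
  have hC := hKU.compl
  have eK : K.relIndex (K ⊔ sigmaCore M) * (K ⊔ sigmaCore M).relIndex M = K.relIndex M :=
    Subgroup.relIndex_mul_relIndex K (K ⊔ sigmaCore M) M le_sup_left hC.2.1
  have eS : (sigmaCore M).relIndex (K ⊔ sigmaCore M) * (K ⊔ sigmaCore M).relIndex M =
      (sigmaCore M).relIndex M :=
    Subgroup.relIndex_mul_relIndex (sigmaCore M) (K ⊔ sigmaCore M) M le_sup_right hC.2.1
  have eD : Nat.card U = (K ⊔ sigmaCore M).relIndex M :=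
    Cfsg.Agent.Lib.helper29.IsComplIn.card_left hC
  refine ⟨hC.1, fun p hp hpU => ⟨hp, fun hpk => ?_, fun hps => ?_⟩, fun p hp hpπ hdvd => ?_⟩
  · exact hK.2.2 p hp hpk (by rw [← eK, ← eD]; exact Dvd.dvd.mul_left hpU _)
  · exact hHall.2.2 p hp hps (by rw [← eS, ← eD]; exact Dvd.dvd.mul_left hpU _)
  · have e2 : Nat.card ↥(K ⊔ sigmaCore M) = U.relIndex M :=
      Cfsg.Agent.Lib.helper29.IsComplIn.card_right hC
    rw [← e2, ← bgk_card_sup hK hHall] at hdvd
    rcases (Nat.Prime.dvd_mul hp).mp hdvd with h | h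
    · exact hpπ.2.2 (hHall.2.1 p hp h)
    · exact hpπ.2.1 (hK.2.1 p hp h)

end Cfsg.Agent.Lib.helper69
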