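import Mathlib
import Cfsg.Prelude.Def_OddOrderLocal
import Cfsg.Agent.Lib.helper69.BGKappaA

/-!
# S1352, S1353, S1354, S1365 from the frozen statement S1430 (and S1426), hypothesis-passing form
-/

set_option autoImplicit false

namespace Cfsg.Agent.Lib.helper69

open Cfsg Subgroup
open scoped Pointwise commutatorElement
open Cfsg.Agent.Lib.helper29 (exists_mul_of_mem_sup_of_le_normalizer exists_ne_one_of_ne_bot)

variable {G : Type*} [Group G]

/-- Given S1430, any `U` of a sigma-decomposition with `K ≠ 1` is abelian and `K` acts regularly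
on it (this is S1353). -/
theorem bgk_decomp_facts [Finite G] (hG : IsMinSimpleOddOrder G) (h1430 : H1430 G)
    (M : Subgroup G) (hM : IsCoatom M) (hHall : IsPiHallOf (sigma M) (sigmaCore M) M)
    (K U : Subgroup G) (hKU : IsSigmaDecomposition M K U) (hK1 : K ≠ ⊥) :
    (∀ a ∈ U, ∀ b ∈ U, a * b = b * a) ∧
      ∀ k ∈ K, k ≠ 1 → U ⊓ centralizer ({k} : Set G) = ⊥ := by
  obtain ⟨-, ⟨U₀, hU₀c, hU₀H, hKU₀, hreg⟩, -⟩ := h1430 M hM K hKU.hall hK1
  have hUH := bgk_decomp_hall hHall hKU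
  have hMs : Group.IsSolvable M := hG.2.2.2 M hM.1
  obtain ⟨m, hmM, hm⟩ := bgk_hall_conj hMs hU₀H hUH
  have hKM : K ≤ M := hKU.hall.1
  let K' : Subgroup G := K.comap (MulAut.conj m).toMonoidHom
  have hK'mem : ∀ x, x ∈ K' ↔ m * x * m⁻¹ ∈ K := fun x => Iff.rfl
  let N₀ : Subgroup G := M ⊓ normalizer (U₀ : Set G)
  have hKN : K ≤ N₀ := le_inf hKM hKU₀
  have hK'N : K' ≤ N₀ := by
    intro x hx
    rw [hK'mem] at hx
    have hxM : x ∈ M := by
      have h5 : x = m⁻¹ * (m * x * m⁻¹) * m := by group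
      rw [h5]; exact M.mul_mem (M.mul_mem (M.inv_mem hmM) (hKM hx)) hmM
    refine Subgroup.mem_inf.mpr ⟨hxM, ?_⟩
    rw [Subgroup.mem_normalizer_iff]
    intro y
    rw [hm y, hm (x * y * x⁻¹)]
    have h6 : m * (x * y * x⁻¹) * m⁻¹ = (m * x * m⁻¹) * (m * y * m⁻¹) * (m * x * m⁻¹)⁻¹ := by
      group
    rw [h6]
    exact (Subgroup.mem_normalizer_iff.mp (hKU.normal hx)) (m * y * m⁻¹)
  have hKH : IsPiHallOf (kappa M) K N₀ := ⟨hKN, hKU.hall.2.1, fun p hp hpk hdvd =>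
    hKU.hall.2.2 p hp hpk (by
      rw [← Subgroup.relIndex_mul_relIndex K N₀ M hKN inf_le_left]
      exact Dvd.dvd.mul_right hdvd _)⟩
  have hcard : Nat.card K' = Nat.card K := by
    exact Nat.card_congr (Equiv.subtypeEquiv (MulAut.conj m).toEquiv (fun x => Iff.rfl))
  have hK'H : IsPiHallOf (kappa M) K' N₀ := by
    refine ⟨hK'N, by rw [hcard]; exact hKU.hall.2.1, fun p hp hpk hdvd => hKH.2.2 p hp hpk ?_⟩
    have e1 := bgk_card_mul_relIndex hK'N
    have e2 := bgk_card_mul_relIndex hKN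
    rw [hcard, ← e2] at e1
    have e3 := Nat.eq_of_mul_eq_mul_left Nat.card_pos e1
    rw [← e3]; exact hdvd
  have hN₀s : Group.IsSolvable N₀ :=
    hG.2.2.2 N₀ (fun h => hM.1 (top_le_iff.mp (h ▸ (inf_le_left : N₀ ≤ M))))
  obtain ⟨n, hnN, hn⟩ := bgk_hall_conj hN₀s hKH hK'H
  have hgK : ∀ x, x ∈ K ↔ (m * n) * x * (m * n)⁻¹ ∈ K := fun x => by
    rw [hn x, hK'mem]
    have : m * (n * x * n⁻¹) * m⁻¹ = (m * n) * x * (m * n)⁻¹ := by group
    rw [this]
  have hgU : ∀ x, x ∈ U₀ ↔ (m * n) * x * (m * n)⁻¹ ∈ U := fun x => by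
    rw [Subgroup.mem_normalizer_iff.mp hnN.2 x, hm]
    have : m * (n * x * n⁻¹) * m⁻¹ = (m * n) * x * (m * n)⁻¹ := by group
    rw [this]
  generalize m * n = g at hgK hgU
  have hback : ∀ x, g * (g⁻¹ * x * g) * g⁻¹ = x := fun x => by group
  constructor
  · intro a ha b hb
    have ha₀ : g⁻¹ * a * g ∈ U₀ := (hgU _).mpr (by rw [hback]; exact ha)
    have hb₀ : g⁻¹ * b * g ∈ U₀ := (hgU _).mpr (by rw [hback]; exact hb)
    have hcomm : (g⁻¹ * a * g) * (g⁻¹ * b * g) = (g⁻¹ * b * g) * (g⁻¹ * a * g) :=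
      congrArg Subtype.val (hU₀c.is_comm.comm ⟨_, ha₀⟩ ⟨_, hb₀⟩)
    have h1 : a * b = g * ((g⁻¹ * a * g) * (g⁻¹ * b * g)) * g⁻¹ := by group
    have h2 : b * a = g * ((g⁻¹ * b * g) * (g⁻¹ * a * g)) * g⁻¹ := by group
    rw [h1, h2, hcomm]
  · intro k hk hk1
    rw [eq_bot_iff]
    rintro u ⟨huU, huc⟩
    have hu₀ : g⁻¹ * u * g ∈ U₀ := (hgU _).mpr (by rw [hback]; exact huU)
    have hk₀ : g⁻¹ * k * g ∈ K := (hgK _).mpr (by rw [hback]; exact hk)
    have hk₀1 : g⁻¹ * k * g ≠ 1 := fun h => hk1 (by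
      have e : k = g * (g⁻¹ * k * g) * g⁻¹ := by group
      rw [e, h]; group)
    have huc' : k * u = u * k := Subgroup.mem_centralizer_iff.mp huc k (Set.mem_singleton k)
    have hmem : g⁻¹ * u * g ∈ U₀ ⊓ centralizer ({g⁻¹ * k * g} : Set G) := by
      refine Subgroup.mem_inf.mpr ⟨hu₀, ?_⟩
      rw [Subgroup.mem_centralizer_iff]
      intro h hh
      rw [Set.mem_singleton_iff.mp hh]
      have e1 : g⁻¹ * k * g * (g⁻¹ * u * g) = g⁻¹ * (k * u) * g := by group
      have e2 : g⁻¹ * u * g * (g⁻¹ * k * g) = g⁻¹ * (u * k) * g := by group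
      rw [e1, e2, huc']
    rw [hreg _ hk₀ hk₀1, Subgroup.mem_bot] at hmem
    rw [Subgroup.mem_bot]
    have e : u = g * (g⁻¹ * u * g) * g⁻¹ := by group
    rw [e, hmem]; group

theorem bgk_isComplIn_of_card [Finite G] {A B M : Subgroup G} (hA : A ≤ M) (hB : B ≤ M)
    (hAB : A ⊓ B = ⊥) (hcard : Nat.card A * Nat.card B = Nat.card M) : IsComplIn A B M := by
  refine ⟨hA, hB, hAB, ?_⟩
  have hc : Subgroup.IsComplement' (A.subgroupOf M) (B.subgroupOf M) := by
    apply Subgroup.isComplement'_of_card_mul_and_disjoint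
    · rw [Nat.card_congr (Subgroup.subgroupOfEquivOfLe hA).toEquiv,
        Nat.card_congr (Subgroup.subgroupOfEquivOfLe hB).toEquiv]; exact hcard
    · rw [Subgroup.disjoint_def]
      intro x hx1 hx2
      rw [Subgroup.mem_subgroupOf] at hx1 hx2
      have : (x : G) ∈ A ⊓ B := ⟨hx1, hx2⟩
      rw [hAB, Subgroup.mem_bot] at this
      exact Subtype.ext this
  intro m hm
  obtain ⟨⟨⟨a, ha⟩, ⟨b, hb⟩⟩, hab, -⟩ :=
    (Subgroup.isComplement_iff_existsUnique.mp hc) (⟨m, hm⟩ : M)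
  have hab' : a * b = (⟨m, hm⟩ : M) := hab
  exact ⟨(a : G), Subgroup.mem_subgroupOf.mp ha, (b : G), Subgroup.mem_subgroupOf.mp hb,
    (congrArg Subtype.val hab').symm⟩

/-- S1352 from S1430. -/
theorem bgk_1352 [Finite G] (h1430 : H1430 G)
    (M : Subgroup G) (hM : IsCoatom M) (hHall : IsPiHallOf (sigma M) (sigmaCore M) M)
    (K : Subgroup G) (hKc : IsCyclic K) (hK : IsPiHallOf (kappa M) K M) :
    (∃ U : Subgroup G, IsSigmaDecomposition M K U) ∧
      ∀ U : Subgroup G, IsSigmaDecomposition M K U →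
        M ≤ normalizer ((U ⊔ sigmaCore M : Subgroup G) : Set G) := by
  have hMsM : sigmaCore M ≤ M := Cfsg.Agent.Lib.helper71.BGA.sigmaCore_le M
  have hMsn := Cfsg.Agent.Lib.helper71.BGA.le_normalizer_sigmaCore M
  constructor
  · by_cases hK1 : K = ⊥
    · obtain ⟨E, hE, -⟩ := bg1210_exists_compl_ge M hHall ⊥ bot_le
        (fun p hp h => by
          rw [Subgroup.card_bot] at h
          exact absurd (Nat.dvd_one.mp h) hp.ne_one)
        (inferInstance : Group.IsSolvable (⊥ : Subgroup G))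
      refine ⟨E, hKc, hK, ?_, ?_⟩
      · rw [hK1, bot_sup_eq]; exact hE
      · rw [hK1]; exact bot_le
    · obtain ⟨-, ⟨U₀, -, hU₀H, hKU₀, -⟩, -⟩ := h1430 M hM K hK hK1
      refine ⟨U₀, hKc, hK, ?_, hKU₀⟩
      have hDM : K ⊔ sigmaCore M ≤ M := sup_le hK.1 hMsM
      have hcs := bgk_card_sup hK hHall
      have hcop1 : (Nat.card U₀).Coprime (Nat.card ↥(K ⊔ sigmaCore M)) := by
        rw [← hcs]
        apply Nat.coprime_of_dvd
        intro k hk h1 h2
        have hπ := hU₀H.2.1 k hk h1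
        rcases (Nat.Prime.dvd_mul hk).mp h2 with h | h
        · exact hπ.2.2 (hHall.2.1 k hk h)
        · exact hπ.2.1 (hK.2.1 k hk h)
      apply bgk_isComplIn_of_card hU₀H.1 hDM
        (disjoint_iff.mp (Subgroup.disjoint_of_coprime_natCard hcop1))
      have e1 := bgk_card_mul_relIndex hU₀H.1
      have e2 := bgk_card_mul_relIndex hDM
      have eK := Subgroup.relIndex_mul_relIndex K (K ⊔ sigmaCore M) M le_sup_left hDM
      have eS := Subgroup.relIndex_mul_relIndex (sigmaCore M) (K ⊔ sigmaCore M) M le_sup_right hDM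
      have hcop2 : ((K ⊔ sigmaCore M).relIndex M).Coprime (U₀.relIndex M) := by
        apply Nat.coprime_of_dvd
        intro q hq h1 h2
        refine hU₀H.2.2 q hq ⟨hq, fun hqk => ?_, fun hqs => ?_⟩ h2
        · exact hK.2.2 q hq hqk (by rw [← eK]; exact Dvd.dvd.mul_left h1 _)
        · exact hHall.2.2 q hq hqs (by rw [← eS]; exact Dvd.dvd.mul_left h1 _)
      have d1 : Nat.card U₀ ∣ (K ⊔ sigmaCore M).relIndex M := by
        apply hcop1.dvd_of_dvd_mul_left
        rw [e2, ← e1]; exact dvd_mul_right _ _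
      have d2 : (K ⊔ sigmaCore M).relIndex M ∣ Nat.card U₀ := by
        apply hcop2.dvd_of_dvd_mul_right
        rw [e1, ← e2]; exact dvd_mul_left _ _
      have e3 := Nat.dvd_antisymm d1 d2
      rw [e3, mul_comm]; exact e2
  · intro U hKU
    have hC := hKU.compl
    have hKn : K ≤ normalizer ((U ⊔ sigmaCore M : Subgroup G) : Set G) :=
      bgk_le_normalizer_sup hKU.normal (hK.1.trans hMsn)
    have hUn : U ≤ normalizer ((U ⊔ sigmaCore M : Subgroup G) : Set G) :=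
      le_sup_left.trans Subgroup.le_normalizer
    have hSn : sigmaCore M ≤ normalizer ((U ⊔ sigmaCore M : Subgroup G) : Set G) :=
      le_sup_right.trans Subgroup.le_normalizer
    intro m hm
    obtain ⟨u, hu, b, hb, rfl⟩ := hC.2.2.2 m hm
    exact Subgroup.mul_mem _ (hUn hu) ((sup_le hKn hSn) hb)

/-- S1354 from S1430. -/
theorem bgk_1354 [Finite G] (h1430 : H1430 G)
    (M : Subgroup G) (hM : IsCoatom M) (hne : sigmaCore M ≠ ⊥)
    (K : Subgroup G) (hKc : IsCyclic K) (hK : IsPiHallOf (kappa M) K M) :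
    sigmaCore M ⊓ centralizer (K : Set G) ≠ ⊥ ∧
      (K ≠ ⊥ → ∀ k ∈ K, k ≠ 1 →
        M ⊓ centralizer ({k} : Set G) = K ⊔ (sigmaCore M ⊓ centralizer (K : Set G))) := by
  have hMsM : sigmaCore M ≤ M := Cfsg.Agent.Lib.helper71.BGA.sigmaCore_le M
  have hMsn := Subgroup.le_normalizer_iff.mp (Cfsg.Agent.Lib.helper71.BGA.le_normalizer_sigmaCore M)
  constructor
  · by_cases hK1 : K = ⊥
    · have hc : centralizer (K : Set G) = ⊤ := by
        rw [Subgroup.centralizer_eq_top_iff_subset, hK1]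
        intro x hx
        have hx1 : x = 1 := by simpa using hx
        rw [hx1]; exact Subgroup.one_mem _
      rw [hc, inf_top_eq]; exact hne
    · obtain ⟨h1, -, -⟩ := h1430 M hM K hK hK1
      have hc1 : Nat.card K ≠ 1 := fun h => hK1 (Subgroup.card_eq_one.mp h)
      obtain ⟨p, hp, hpK⟩ := Nat.exists_prime_and_dvd hc1
      have : Fact p.Prime := ⟨hp⟩
      have hpκ : p ∈ kappa M := hK.2.1 p hp hpK
      obtain ⟨P⟩ : Nonempty (Sylow p M) := inferInstance
      obtain ⟨-, x, hxP, hx1, y, hy, hy1, hxy⟩ := hpκ.2.2.2 P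
      have hB : IsPGroup p ((P : Subgroup M).map M.subtype) := P.isPGroup'.map M.subtype
      obtain ⟨g, hgM, hg⟩ := bgk_conj_into_hall hK hpκ (Subgroup.map_subtype_le _) hB
      have hk : g * (x : G) * g⁻¹ ∈ K := hg _ ⟨x, hxP, rfl⟩
      have hk1 : g * (x : G) * g⁻¹ ≠ 1 := by
        intro h
        apply hx1
        have h3 : (x : G) = 1 := by
          have h2 : (x : G) = g⁻¹ * (g * (x : G) * g⁻¹) * g := by group
          rw [h2, h]; group
        exact Subtype.ext h3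
      have hy' : g * y * g⁻¹ ∈ sigmaCore M := hMsn g hgM y hy
      have hy'1 : g * y * g⁻¹ ≠ 1 := by
        intro h; apply hy1
        have h2 : y = g⁻¹ * (g * y * g⁻¹) * g := by group
        rw [h2, h]; group
      have hmem : g * y * g⁻¹ ∈ sigmaCore M ⊓ centralizer ({g * (x : G) * g⁻¹} : Set G) := by
        refine Subgroup.mem_inf.mpr ⟨hy', ?_⟩
        rw [Subgroup.mem_centralizer_iff]
        intro h hh
        rw [Set.mem_singleton_iff.mp hh]
        have e1 : g * (x : G) * g⁻¹ * (g * y * g⁻¹) = g * ((x : G) * y) * g⁻¹ := by group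
        have e2 : g * y * g⁻¹ * (g * (x : G) * g⁻¹) = g * (y * (x : G)) * g⁻¹ := by group
        rw [e1, e2, hxy]
      rw [h1 _ hk hk1] at hmem
      intro hbot
      rw [hbot, Subgroup.mem_bot] at hmem
      exact hy'1 hmem
  · intro hK1 k hk hk1
    obtain ⟨-, -, h3⟩ := h1430 M hM K hK hK1
    have hcomm : ∀ a ∈ K, ∀ b ∈ K, a * b = b * a := fun a ha b hb =>
      congrArg Subtype.val ((IsCyclic.isMulCommutative (α := K)).is_comm.comm ⟨a, ha⟩ ⟨b, hb⟩)
    apply le_antisymm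
    · rintro x ⟨hxM, hxc⟩
      have hko : orderOf k ≠ 1 := fun h => hk1 (orderOf_eq_one_iff.mp h)
      obtain ⟨p, hp, hpk⟩ := Nat.exists_prime_and_dvd hko
      have hk0 : orderOf k ≠ 0 := (orderOf_pos k).ne'
      have hord : orderOf (k ^ (orderOf k / p)) = p := orderOf_pow_orderOf_div hk0 hpk
      have hXK : zpowers (k ^ (orderOf k / p)) ≤ K := by
        rw [Subgroup.zpowers_le]; exact K.pow_mem hk _
      have hXp : (Nat.card (zpowers (k ^ (orderOf k / p)))).Prime := by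
        rw [Nat.card_zpowers, hord]; exact hp
      have hxk : k * x = x * k := Subgroup.mem_centralizer_iff.mp hxc k (Set.mem_singleton k)
      have hcent : ∀ y ∈ zpowers (k ^ (orderOf k / p)), x * y = y * x := by
        have hle : zpowers (k ^ (orderOf k / p)) ≤ centralizer ({x} : Set G) := by
          rw [Subgroup.zpowers_le]
          apply Subgroup.pow_mem
          rw [Subgroup.mem_centralizer_iff]
          intro h hh
          rw [Set.mem_singleton_iff.mp hh]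
          exact hxk.symm
        intro y hy
        exact Subgroup.mem_centralizer_iff.mp (hle hy) x (Set.mem_singleton x)
      have hxN : x ∈ normalizer ((zpowers (k ^ (orderOf k / p)) : Subgroup G) : Set G) := by
        rw [Subgroup.mem_normalizer_iff]
        intro y
        constructor
        · intro hy
          have e : x * y * x⁻¹ = y := by rw [hcent y hy]; group
          rw [e]; exact hy
        · intro hy
          have h2 := hcent _ hy
          have e : y = x * y * x⁻¹ := by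
            have h4 : x * y * x⁻¹ * x = x * y := by group
            rw [h4] at h2
            exact (mul_left_cancel h2).symm
          rw [e]; exact hy
      have hx2 : x ∈ M ⊓ normalizer ((zpowers (k ^ (orderOf k / p)) : Subgroup G) : Set G) :=
        ⟨hxM, hxN⟩
      rw [(h3 _ hXK hXp).1] at hx2
      exact hx2
    · apply sup_le
      · intro a ha
        refine Subgroup.mem_inf.mpr ⟨hK.1 ha, ?_⟩
        rw [Subgroup.mem_centralizer_iff]
        intro h hh
        rw [Set.mem_singleton_iff.mp hh]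
        exact hcomm _ hk _ ha
      · rintro a ⟨haM, hac⟩
        refine Subgroup.mem_inf.mpr ⟨hMsM haM, ?_⟩
        rw [Subgroup.mem_centralizer_iff]
        intro h hh
        rw [Set.mem_singleton_iff.mp hh]
        exact Subgroup.mem_centralizer_iff.mp hac _ hk

/-- S1365 from S1430 and S1426. -/
theorem bgk_1365 [Finite G] (hG : IsMinSimpleOddOrder G) (h1430 : H1430 G) (h1426 : H1426 G)
    (M : Subgroup G) (hM : IsCoatom M) (hHall : IsPiHallOf (sigma M) (sigmaCore M) M)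
    (K U : Subgroup G) (hKU : IsSigmaDecomposition M K U) (hK1 : K ≠ ⊥) :
    ⁅M, M⁆ = U ⊔ sigmaCore M ∧
      (sigmaCore M ⊓ centralizer (K : Set G)) ≤ ⁅⁅M, M⁆, ⁅M, M⁆⁆ := by
  have hMsM : sigmaCore M ≤ M := Cfsg.Agent.Lib.helper71.BGA.sigmaCore_le M
  have hMsn := Cfsg.Agent.Lib.helper71.BGA.le_normalizer_sigmaCore M
  have hK := hKU.hall
  have hC := hKU.compl
  have hUM : U ≤ M := hC.1
  have hKM : K ≤ M := hK.1
  obtain ⟨-, hreg⟩ := bgk_decomp_facts hG h1430 M hM hHall K U hKU hK1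
  have hKUn := Subgroup.le_normalizer_iff.mp hKU.normal
  have hE : IsComplIn (U ⊔ K) (sigmaCore M) M := by
    refine ⟨sup_le hUM hKM, hMsM, ?_, fun m hm => ?_⟩
    · rw [eq_bot_iff]
      rintro x ⟨hxE, hxS⟩
      obtain ⟨u, hu, k, hk, rfl⟩ := exists_mul_of_mem_sup_of_le_normalizer hKU.normal hxE
      have hu' : u ∈ K ⊔ sigmaCore M := by
        have e : u = (u * k) * k⁻¹ := by group
        rw [e]
        exact Subgroup.mul_mem _ (Subgroup.mem_sup_right hxS)
          (Subgroup.mem_sup_left (K.inv_mem hk))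
      have hu1 : u = 1 := by
        have h2 : u ∈ U ⊓ (K ⊔ sigmaCore M) := ⟨hu, hu'⟩
        rw [hC.2.2.1, Subgroup.mem_bot] at h2; exact h2
      rw [hu1, one_mul] at hxS ⊢
      have h3 : k ∈ K ⊓ sigmaCore M := ⟨hk, hxS⟩
      rw [bgk_K_inf_sigmaCore hK hHall] at h3; exact h3
    · obtain ⟨u, hu, b, hb, rfl⟩ := hC.2.2.2 m hm
      rw [sup_comm] at hb
      obtain ⟨s, hs, k, hk, rfl⟩ := exists_mul_of_mem_sup_of_le_normalizer (hKM.trans hMsn) hb
      refine ⟨u * k, Subgroup.mul_mem _ (Subgroup.mem_sup_left hu) (Subgroup.mem_sup_right hk),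
        k⁻¹ * s * k, ?_, by group⟩
      have h4 := Subgroup.le_normalizer_iff.mp hMsn k⁻¹ (M.inv_mem (hKM hk)) s hs
      simpa using h4
  obtain ⟨h26a, h26b⟩ := h1426 M hM (U ⊔ K) hE
  have hS_le : sigmaCore M ≤ ⁅M, M⁆ := by
    calc sigmaCore M = ⁅sigmaCore M, U ⊔ K⁆ := h26b.symm
      _ ≤ ⁅M, M⁆ := Subgroup.commutator_mono hMsM hE.1
  have hU_le : U ≤ ⁅M, M⁆ := by
    obtain ⟨k, hk, hk1⟩ := exists_ne_one_of_ne_bot hK1
    have hφ : ∀ v : U, (v : G) * k * (v : G)⁻¹ * k⁻¹ ∈ U := fun v => by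
      have h1 : k * (v : G)⁻¹ * k⁻¹ ∈ U := hKUn k hk _ (U.inv_mem v.2)
      have e : (v : G) * k * (v : G)⁻¹ * k⁻¹ = (v : G) * (k * (v : G)⁻¹ * k⁻¹) := by group
      rw [e]; exact U.mul_mem v.2 h1
    let φ : U → U := fun v => ⟨_, hφ v⟩
    have hinj : Function.Injective φ := by
      intro v w hvw
      have h1 : (v : G) * k * (v : G)⁻¹ * k⁻¹ = (w : G) * k * (w : G)⁻¹ * k⁻¹ :=
        congrArg Subtype.val hvw
      have h3 : (v : G) * k * (v : G)⁻¹ = (w : G) * k * (w : G)⁻¹ := mul_right_cancel h1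
      have h2 : (w : G)⁻¹ * (v : G) ∈ U ⊓ centralizer ({k} : Set G) := by
        refine Subgroup.mem_inf.mpr ⟨U.mul_mem (U.inv_mem w.2) v.2, ?_⟩
        rw [Subgroup.mem_centralizer_iff]
        intro h hh
        rw [Set.mem_singleton_iff.mp hh]
        calc k * ((w : G)⁻¹ * (v : G))
            = (w : G)⁻¹ * ((w : G) * k * (w : G)⁻¹) * (v : G) := by group
          _ = (w : G)⁻¹ * ((v : G) * k * (v : G)⁻¹) * (v : G) := by rw [h3]
          _ = (w : G)⁻¹ * (v : G) * k := by group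
      rw [hreg k hk hk1, Subgroup.mem_bot] at h2
      apply Subtype.ext
      have e : (v : G) = (w : G) * ((w : G)⁻¹ * (v : G)) := by group
      rw [e, h2, mul_one]
    have hsurj := Finite.surjective_of_injective hinj
    intro u hu
    obtain ⟨v, hv⟩ := hsurj ⟨u, hu⟩
    have h1 : (v : G) * k * (v : G)⁻¹ * k⁻¹ = u := congrArg Subtype.val hv
    rw [← h1, ← commutatorElement_def]
    exact Subgroup.commutator_mem_commutator (hUM v.2) (hKM hk)
  have hNn : M ≤ normalizer ((U ⊔ sigmaCore M : Subgroup G) : Set G) := by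
    have hKn : K ≤ normalizer ((U ⊔ sigmaCore M : Subgroup G) : Set G) :=
      bgk_le_normalizer_sup hKU.normal (hKM.trans hMsn)
    have hUn : U ≤ normalizer ((U ⊔ sigmaCore M : Subgroup G) : Set G) :=
      le_sup_left.trans Subgroup.le_normalizer
    have hSn : sigmaCore M ≤ normalizer ((U ⊔ sigmaCore M : Subgroup G) : Set G) :=
      le_sup_right.trans Subgroup.le_normalizer
    intro m hm
    obtain ⟨u, hu, b, hb, rfl⟩ := hC.2.2.2 m hm
    exact Subgroup.mul_mem _ (hUn hu) ((sup_le hKn hSn) hb)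
  have hNn' := Subgroup.le_normalizer_iff.mp hNn
  have hcommK : ∀ a ∈ K, ∀ b ∈ K, a * b = b * a := fun a ha b hb =>
    congrArg Subtype.val
      ((@IsCyclic.isMulCommutative K _ hKU.cyclic).is_comm.comm ⟨a, ha⟩ ⟨b, hb⟩)
  have hdec : ∀ g ∈ M, ∃ k ∈ K, ∃ n ∈ U ⊔ sigmaCore M, g = k * n := by
    intro g hg
    obtain ⟨u, hu, b, hb, rfl⟩ := hC.2.2.2 g hg
    rw [sup_comm] at hb
    obtain ⟨s, hs, k, hk, rfl⟩ := exists_mul_of_mem_sup_of_le_normalizer (hKM.trans hMsn) hb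
    refine ⟨k, hk, k⁻¹ * (u * s) * k, ?_, by group⟩
    have h4 := hNn' k⁻¹ (M.inv_mem (hKM hk)) (u * s)
      (Subgroup.mul_mem _ (Subgroup.mem_sup_left hu) (Subgroup.mem_sup_right hs))
    simpa using h4
  have h1 : ⁅M, M⁆ = U ⊔ sigmaCore M := by
    apply le_antisymm
    · rw [Subgroup.commutator_le]
      intro g₁ hg₁ g₂ hg₂
      obtain ⟨k₁, hk₁, n₁, hn₁, rfl⟩ := hdec g₁ hg₁
      obtain ⟨k₂, hk₂, n₂, hn₂, rfl⟩ := hdec g₂ hg₂
      have e : ⁅k₁ * n₁, k₂ * n₂⁆ = (k₁ * n₁ * k₁⁻¹) * (k₁ * k₂ * (n₂ * n₁⁻¹) * (k₁ * k₂)⁻¹) *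
          (k₁ * k₂ * k₁⁻¹ * n₂⁻¹ * (k₁ * k₂ * k₁⁻¹)⁻¹) * (k₁ * k₂ * k₁⁻¹ * k₂⁻¹) := by
        rw [commutatorElement_def]; group
      have e4 : k₁ * k₂ * k₁⁻¹ * k₂⁻¹ = 1 := by rw [hcommK k₁ hk₁ k₂ hk₂]; group
      rw [e, e4, mul_one]
      have m1 : k₁ ∈ M := hKM hk₁
      have m2 : k₂ ∈ M := hKM hk₂
      exact Subgroup.mul_mem _ (Subgroup.mul_mem _ (hNn' k₁ m1 n₁ hn₁)
        (hNn' (k₁ * k₂) (M.mul_mem m1 m2) _ (Subgroup.mul_mem _ hn₂ (Subgroup.inv_mem _ hn₁))))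
        (hNn' (k₁ * k₂ * k₁⁻¹) (M.mul_mem (M.mul_mem m1 m2) (M.inv_mem m1)) _
          (Subgroup.inv_mem _ hn₂))
    · exact sup_le hU_le hS_le
  refine ⟨h1, ?_⟩
  have hUMsn : U ≤ normalizer (sigmaCore M : Set G) := hUM.trans hMsn
  have hKMsn : K ≤ normalizer (sigmaCore M : Set G) := hKM.trans hMsn
  have hLS : ⁅sigmaCore M, U⁆ ⊔ ⁅sigmaCore M, sigmaCore M⁆ ≤ sigmaCore M :=
    sup_le (Cfsg.Agent.Lib.helper1.commutator_le_of_le_normalizer hUMsn)
      (Cfsg.Agent.Lib.helper29.commutator_self_le _)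
  have hLder : ⁅sigmaCore M, U⁆ ⊔ ⁅sigmaCore M, sigmaCore M⁆ ≤ ⁅⁅M, M⁆, ⁅M, M⁆⁆ :=
    sup_le (Subgroup.commutator_mono hS_le hU_le) (Subgroup.commutator_mono hS_le hS_le)
  have hEL : U ⊔ K ≤
      normalizer ((⁅sigmaCore M, U⁆ ⊔ ⁅sigmaCore M, sigmaCore M⁆ : Subgroup G) : Set G) := by
    apply sup_le
    · exact bgk_le_normalizer_sup (bgk_le_normalizer_commutator hUMsn Subgroup.le_normalizer)
        (bgk_le_normalizer_commutator hUMsn hUMsn)
    · exact bgk_le_normalizer_sup (bgk_le_normalizer_commutator hKMsn hKU.normal)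
        (bgk_le_normalizer_commutator hKMsn hKMsn)
  have hcop : (Nat.card ↥(U ⊔ K)).Coprime
      (Nat.card ↥(⁅sigmaCore M, U⁆ ⊔ ⁅sigmaCore M, sigmaCore M⁆ : Subgroup G)) := by
    rw [Cfsg.Agent.Lib.helper29.IsComplIn.card_left hE]
    exact Nat.Coprime.coprime_dvd_right (Subgroup.card_dvd_of_le hLS) (bgk_hall_coprime hHall).symm
  have hLs : Group.IsSolvable ↥(⁅sigmaCore M, U⁆ ⊔ ⁅sigmaCore M, sigmaCore M⁆ : Subgroup G) :=
    hG.2.2.2 _ (fun h => hM.1 (top_le_iff.mp (h ▸ (hLS.trans hMsM))))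
  rintro x ⟨hxS, hxc⟩
  have hx : ∀ a ∈ U ⊔ K, a * x * a⁻¹ * x⁻¹ ∈
      (⁅sigmaCore M, U⁆ ⊔ ⁅sigmaCore M, sigmaCore M⁆ : Subgroup G) := by
    intro a ha
    obtain ⟨u, hu, k, hk, rfl⟩ := exists_mul_of_mem_sup_of_le_normalizer hKU.normal ha
    have hkx : k * x = x * k := Subgroup.mem_centralizer_iff.mp hxc k hk
    have e : u * k * x * (u * k)⁻¹ * x⁻¹ = ⁅u, x⁆ := by
      rw [commutatorElement_def]
      have e2 : u * k * x * (u * k)⁻¹ = u * (k * x) * k⁻¹ * u⁻¹ := by group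
      rw [e2, hkx]; group
    rw [e]
    apply Subgroup.mem_sup_left
    rw [Subgroup.commutator_comm]
    exact Subgroup.commutator_mem_commutator hu hxS
  obtain ⟨c, hcE, hcx⟩ := Cfsg.Agent.Lib.helper1.coset_fixed (U ⊔ K) _ hEL hcop (Or.inr hLs) x hx
  have hcS : c ∈ sigmaCore M := by
    have e : c = (c * x⁻¹) * x := by group
    rw [e]; exact Subgroup.mul_mem _ (hLS hcx) hxS
  have hcL : c ∈ (⁅sigmaCore M, U⁆ ⊔ ⁅sigmaCore M, sigmaCore M⁆ : Subgroup G) :=
    Subgroup.mem_sup_right (h26a ⟨hcS, hcE⟩)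
  have e : x = (c * x⁻¹)⁻¹ * c := by group
  exact hLder (by rw [e]; exact Subgroup.mul_mem _ (Subgroup.inv_mem _ hcx) hcL)

end Cfsg.Agent.Lib.helper69
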