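import Mathlib
import Cfsg.Agent.Lib.helper3.PGroupFrattini

/-!
# Automorphisms of `p`-groups of order prime to `p`

`mulAut_eq_one_of_coprime`: if `Q` is a finite `p`-group with `|Q : Φ(Q)| ∣ p ^ d`, then an
automorphism of `Q` whose order is prime to `p` and to `(p - 1)(p ^ 2 - 1) ⋯ (p ^ d - 1)` is
trivial. `mem_centralizer_of_coprime` is the same statement for an element normalizing a
`p`-subgroup of a finite group, and `index_frattini_dvd_pow` bounds `|Q : Φ(Q)|` by the number
of generators.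
-/

set_option autoImplicit false

namespace Cfsg.Agent.Lib.helper69

open scoped commutatorElement

/-- In a finite group that is commutative of exponent `p`, a subgroup generated by a finset `S`
has order dividing `p ^ S.card`. -/
theorem card_closure_dvd_pow_of_exp {A : Type*} [Group A] [Finite A] (p : ℕ)
    (hcomm : ∀ a b : A, a * b = b * a) (hexp : ∀ a : A, a ^ p = 1) (S : Finset A) :
    Nat.card (Subgroup.closure (S : Set A)) ∣ p ^ S.card := by
  classical
  induction S using Finset.induction_on with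
  | empty => simp
  | insert s T hs ih =>
    rw [Finset.coe_insert, Finset.card_insert_of_notMem hs, pow_succ']
    let f : (Subgroup.zpowers s × Subgroup.closure (T : Set A)) →* A :=
      { toFun := fun x => (x.1 : A) * (x.2 : A)
        map_one' := by simp
        map_mul' := fun x y => by
          simp only [Prod.fst_mul, Prod.snd_mul, Subgroup.coe_mul]
          rw [mul_assoc, mul_assoc, ← mul_assoc (x.2 : A), hcomm (x.2 : A) (y.1 : A), mul_assoc] }
    have hle : Subgroup.closure (insert s (T : Set A)) ≤ f.range := by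
      rw [Subgroup.closure_le]
      rintro x hx
      rcases hx with rfl | hx
      · exact ⟨(⟨x, Subgroup.mem_zpowers x⟩, 1), by simp [f]⟩
      · exact ⟨(1, ⟨x, Subgroup.subset_closure hx⟩), by simp [f]⟩
    have h1 : Nat.card (Subgroup.closure (insert s (T : Set A))) ∣ Nat.card f.range :=
      Subgroup.card_dvd_of_le hle
    have h2 : Nat.card f.range ∣ Nat.card (Subgroup.zpowers s × Subgroup.closure (T : Set A)) :=
      Subgroup.card_range_dvd f
    have h3 : Nat.card (Subgroup.zpowers s) ∣ p := by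
      rw [Nat.card_zpowers]; exact orderOf_dvd_of_pow_eq_one (hexp s)
    rw [Nat.card_prod] at h2
    exact (h1.trans h2).trans (mul_dvd_mul h3 ih)

/-- The Frattini quotient of a finite `p`-group generated by a finset `S` has order dividing
`p ^ S.card`. -/
theorem index_frattini_dvd_pow {Q : Type*} [Group Q] [Finite Q] {p : ℕ} [Fact p.Prime]
    (hQ : IsPGroup p Q) (S : Finset Q) (hS : Subgroup.closure (S : Set Q) = ⊤) :
    (frattini Q).index ∣ p ^ S.card := by
  classical
  have hcomm : ∀ a b : Q ⧸ frattini Q, a * b = b * a := by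
    intro a b
    obtain ⟨x, rfl⟩ := QuotientGroup.mk_surjective a
    obtain ⟨y, rfl⟩ := QuotientGroup.mk_surjective b
    rw [← QuotientGroup.mk_mul, ← QuotientGroup.mk_mul, QuotientGroup.eq]
    have h := helper3.commutator_le_frattini hQ
      (Subgroup.commutator_mem_commutator (Subgroup.mem_top y⁻¹) (Subgroup.mem_top x⁻¹))
    have e : (x * y)⁻¹ * (y * x) = ⁅y⁻¹, x⁻¹⁆ := by
      rw [commutatorElement_def]; group
    rw [e]; exact h
  have hexp : ∀ a : Q ⧸ frattini Q, a ^ p = 1 := by
    intro a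
    obtain ⟨x, rfl⟩ := QuotientGroup.mk_surjective a
    rw [← QuotientGroup.mk_pow, QuotientGroup.eq_one_iff]
    exact helper3.pow_prime_mem_frattini hQ x
  have h := card_closure_dvd_pow_of_exp p hcomm hexp (S.image (QuotientGroup.mk' (frattini Q)))
  have htop : Subgroup.closure ((S.image (QuotientGroup.mk' (frattini Q)) : Finset _) : Set (Q ⧸ frattini Q)) = ⊤ := by
    rw [Finset.coe_image, ← MonoidHom.map_closure, hS,
      Subgroup.map_top_of_surjective _ (QuotientGroup.mk'_surjective _)]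
  rw [htop, Subgroup.card_top] at h
  rw [Subgroup.index_eq_card]
  exact h.trans (pow_dvd_pow p Finset.card_image_le)

/-- An automorphism of prime-power order `q ^ 1` permuting a set without fixed points: the set
has cardinality divisible by `q`. -/
theorem dvd_card_of_no_fixed {Q : Type*} [Group Q] [Finite Q] {q : ℕ} [Fact q.Prime]
    (β : MulAut Q) (hβ : β ^ q = 1) (S : Set Q) (hS : ∀ y ∈ S, β y ∈ S)
    (hfix : ∀ y ∈ S, β y ≠ y) : q ∣ Nat.card S := by
  classical
  haveI : Fintype S := Fintype.ofFinite S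
  let f : Function.End S := fun y => ⟨β y.1, hS y.1 y.2⟩
  have hpow : ∀ (k : ℕ) (y : S), (((f ^ k) y : S) : Q) = (β ^ k) y.1 := by
    intro k
    induction k with
    | zero => intro y; rfl
    | succ k ih =>
      intro y
      rw [pow_succ, pow_succ]
      show (((f ^ k) (f y) : S) : Q) = (β ^ k) (β y.1)
      rw [ih]
  have hf : f ^ q ^ 1 = 1 := by
    funext y
    apply Subtype.ext
    rw [pow_one, hpow, hβ]; rfl
  have h := Equiv.Perm.card_fixedPoints_modEq hf
  have hempty : IsEmpty (Function.fixedPoints f) := by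
    constructor
    rintro ⟨y, hy⟩
    have : ((f y : S) : Q) = y.1 := congrArg Subtype.val hy
    exact hfix y.1 y.2 this
  have h0 : Fintype.card (Function.fixedPoints f) = 0 := Fintype.card_eq_zero_iff.mpr hempty
  rw [h0] at h
  rw [Nat.card_eq_fintype_card]
  exact (Nat.modEq_zero_iff_dvd).mp h

/-- **Burnside**: an automorphism of `q`-power order (`q ≠ p`) of a finite `p`-group which is
trivial modulo the Frattini subgroup is trivial. -/
theorem mulAut_eq_one_of_trivial_mod_frattini {Q : Type*} [Group Q] [Finite Q] {p q : ℕ}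
    [Fact p.Prime] [Fact q.Prime] (hpq : p ≠ q) (hQ : IsPGroup p Q) (β : MulAut Q)
    (hβ : β ^ q = 1) (h : ∀ x : Q, β x * x⁻¹ ∈ frattini Q) : β = 1 := by
  classical
  let C : Subgroup Q :=
    { carrier := {x | β x = x}
      mul_mem' := fun {a b} ha hb => by
        simp only [Set.mem_ofPred_eq] at ha hb ⊢; rw [map_mul, ha, hb]
      one_mem' := by simp
      inv_mem' := fun {a} ha => by
        simp only [Set.mem_ofPred_eq] at ha ⊢; rw [map_inv, ha] }
  have hnotdvd : ¬ q ∣ Nat.card (frattini Q) := by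
    intro hq
    obtain ⟨n, hn⟩ := (IsPGroup.iff_card).mp hQ
    have h1 : q ∣ p ^ n := hn ▸ hq.trans (Subgroup.card_subgroup_dvd_card _)
    have h2 : q ∣ p := (Fact.out : q.Prime).dvd_of_dvd_pow h1
    exact hpq ((Nat.prime_dvd_prime_iff_eq Fact.out Fact.out).mp h2).symm
  have hC : C ⊔ frattini Q = ⊤ := by
    rw [eq_top_iff]
    intro x _
    let S : Set Q := {y | x⁻¹ * y ∈ frattini Q}
    have hS : ∀ y ∈ S, β y ∈ S := by
      intro y hy
      have h1 : y⁻¹ * β y ∈ frattini Q := by
        have := (frattini Q).normal_of_characteristic.conj_mem _ (h y) y⁻¹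
        simpa [mul_assoc] using this
      have : x⁻¹ * β y = x⁻¹ * y * (y⁻¹ * β y) := by group
      show x⁻¹ * β y ∈ frattini Q
      rw [this]
      exact mul_mem hy h1
    have hcard : Nat.card S = Nat.card (frattini Q) :=
      Nat.card_congr ((Equiv.mulLeft x⁻¹).subtypeEquiv (fun y => Iff.rfl))
    have hex : ∃ y ∈ S, β y = y := by
      by_contra hne
      simp only [not_exists, not_and] at hne
      exact hnotdvd (hcard ▸ dvd_card_of_no_fixed β hβ S hS hne)
    obtain ⟨y, hy, hfix⟩ := hex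
    have hyC : y ∈ C := hfix
    have : x = y * (x⁻¹ * y)⁻¹ := by group
    rw [this]
    exact Subgroup.mul_mem_sup hyC (inv_mem hy)
  have hCtop : C = ⊤ := frattini_nongenerating hC
  ext x
  have : x ∈ C := hCtop ▸ Subgroup.mem_top x
  exact this

/-- A nontrivial automorphism of prime order `q ≠ p` of a finite `p`-group `Q` with
`|Q : Φ(Q)| ∣ p ^ d`: then `q ∣ p ^ i - 1` for some `1 ≤ i ≤ d`. -/
theorem exists_dvd_pow_sub_one_of_mulAut {Q : Type*} [Group Q] [Finite Q] {p q : ℕ}
    [Fact p.Prime] [Fact q.Prime] (hpq : p ≠ q) (hQ : IsPGroup p Q) (d : ℕ)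
    (hd : (frattini Q).index ∣ p ^ d) (β : MulAut Q) (hβ : β ^ q = 1) (hne : β ≠ 1) :
    ∃ i ∈ Finset.Icc 1 d, q ∣ p ^ i - 1 := by
  classical
  have hp : p.Prime := Fact.out
  have hq : q.Prime := Fact.out
  have hchar : ∀ y : Q, β y ∈ frattini Q ↔ y ∈ frattini Q := by
    intro y
    have := (frattini_characteristic (G := Q)).fixed β
    conv_rhs => rw [← this]
    rfl
  let D : Subgroup Q :=
    { carrier := {x | β x * x⁻¹ ∈ frattini Q}
      mul_mem' := fun {a b} ha hb => by
        simp only [Set.mem_ofPred_eq] at ha hb ⊢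
        have h1 := (frattini Q).normal_of_characteristic.conj_mem _ hb (β a)
        have : β (a * b) * (a * b)⁻¹ = β a * (β b * b⁻¹) * (β a)⁻¹ * (β a * a⁻¹) := by
          rw [map_mul]; group
        rw [this]
        exact mul_mem h1 ha
      one_mem' := by simp
      inv_mem' := fun {a} ha => by
        simp only [Set.mem_ofPred_eq] at ha ⊢
        have h1 := (frattini Q).normal_of_characteristic.conj_mem _ (inv_mem ha) a⁻¹
        have : β a⁻¹ * a⁻¹⁻¹ = a⁻¹ * (β a * a⁻¹)⁻¹ * a⁻¹⁻¹ := by
          rw [map_inv]; group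
        rw [this]
        exact h1 }
  have hΦD : frattini Q ≤ D := by
    intro y hy
    show β y * y⁻¹ ∈ frattini Q
    exact mul_mem ((hchar y).mpr hy) (inv_mem hy)
  have hDne : D ≠ ⊤ := by
    intro hD
    apply hne
    apply mulAut_eq_one_of_trivial_mod_frattini hpq hQ β hβ
    intro x
    have : x ∈ D := hD ▸ Subgroup.mem_top x
    exact this
  -- the complement of `D` is permuted without fixed points
  let T : Set Q := {x | x ∉ D}
  have hT : ∀ y ∈ T, β y ∈ T := by
    intro y hy hβy
    apply hy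
    have h1 : β (β y) * (β y)⁻¹ ∈ frattini Q := hβy
    have h2 : β (β y) * (β y)⁻¹ = β (β y * y⁻¹) := by rw [map_mul, map_inv]
    rw [h2] at h1
    exact (hchar _).mp h1
  have hTfix : ∀ y ∈ T, β y ≠ y := by
    intro y hy hfix
    apply hy
    show β y * y⁻¹ ∈ frattini Q
    rw [hfix, mul_inv_cancel]; exact one_mem _
  have hqT : q ∣ Nat.card T := dvd_card_of_no_fixed β hβ T hT hTfix
  obtain ⟨n, hn⟩ := (IsPGroup.iff_card).mp hQ
  have hDdvd : Nat.card D ∣ p ^ n := hn ▸ Subgroup.card_subgroup_dvd_card D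
  obtain ⟨m, hmn, hm⟩ := (Nat.dvd_prime_pow hp).mp hDdvd
  have hmlt : m < n := by
    rcases hmn.lt_or_eq with h | h
    · exact h
    · exfalso; apply hDne
      apply (Subgroup.card_eq_iff_eq_top D).mp
      rw [hm, hn, h]
  have hcardT : Nat.card T = p ^ n - p ^ m := by
    haveI : Fintype Q := Fintype.ofFinite Q
    have h1 : Nat.card T = Nat.card {x : Q // ¬ x ∈ D} := rfl
    rw [h1, Nat.card_eq_fintype_card, Fintype.card_subtype_compl, ← Nat.card_eq_fintype_card,
      ← Nat.card_eq_fintype_card, hn]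
    congr 1
  have hfactor : p ^ n - p ^ m = p ^ m * (p ^ (n - m) - 1) := by
    rw [Nat.mul_sub, mul_one, ← pow_add, Nat.add_sub_cancel' hmn]
  rw [hcardT, hfactor] at hqT
  have hqp : ¬ q ∣ p ^ m := by
    intro h
    exact hpq ((Nat.prime_dvd_prime_iff_eq hq hp).mp (hq.dvd_of_dvd_pow h)).symm
  have hq1 : q ∣ p ^ (n - m) - 1 := (hq.dvd_mul.mp hqT).resolve_left hqp
  refine ⟨n - m, ?_, hq1⟩
  rw [Finset.mem_Icc]
  refine ⟨by omega, ?_⟩
  have hidx : D.index = p ^ (n - m) := by
    have h1 := D.card_mul_index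
    rw [hm, hn] at h1
    have h2 : p ^ m * p ^ (n - m) = p ^ n := by rw [← pow_add, Nat.add_sub_cancel' hmn]
    exact Nat.eq_of_mul_eq_mul_left (pow_pos hp.pos m) (h1.trans h2.symm)
  have h3 : p ^ (n - m) ∣ p ^ d := hidx ▸ (Subgroup.index_dvd_of_le hΦD).trans hd
  exact (Nat.pow_dvd_pow_iff_le_right hp.one_lt).mp h3

/-- An automorphism of a finite `p`-group `Q` with `|Q : Φ(Q)| ∣ p ^ d` whose order is prime
to `p` and to `(p - 1)(p ^ 2 - 1) ⋯ (p ^ d - 1)` is trivial. -/
theorem mulAut_eq_one_of_coprime {Q : Type*} [Group Q] [Finite Q] {p : ℕ} [Fact p.Prime]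
    (hQ : IsPGroup p Q) (d : ℕ) (hd : (frattini Q).index ∣ p ^ d) (β : MulAut Q)
    (h1 : (orderOf β).Coprime p)
    (h2 : (orderOf β).Coprime (∏ i ∈ Finset.Icc 1 d, (p ^ i - 1))) : β = 1 := by
  classical
  by_contra hβ
  have hord : orderOf β ≠ 1 := fun h => hβ (orderOf_eq_one_iff.mp h)
  obtain ⟨q, hq, hqdvd⟩ := Nat.exists_prime_and_dvd hord
  haveI : Fact q.Prime := ⟨hq⟩
  have hpq : p ≠ q := by
    rintro rfl
    have : p ∣ Nat.gcd (orderOf β) p := Nat.dvd_gcd hqdvd dvd_rfl
    rw [h1] at this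
    exact hq.one_lt.ne' (Nat.dvd_one.mp this)
  obtain ⟨k, hk⟩ := hqdvd
  have hpos : 0 < orderOf β := orderOf_pos β
  have hkpos : 0 < k := by
    rcases Nat.eq_zero_or_pos k with h | h
    · rw [h, mul_zero] at hk; omega
    · exact h
  have hγ : (β ^ k) ^ q = 1 := by
    rw [← pow_mul, mul_comm, ← hk, pow_orderOf_eq_one]
  have hγne : β ^ k ≠ 1 := by
    intro h
    have := Nat.le_of_dvd hkpos (orderOf_dvd_of_pow_eq_one h)
    rw [hk] at this
    have : q * k ≥ 2 * k := Nat.mul_le_mul_right k hq.two_le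
    omega
  obtain ⟨i, hi, hqi⟩ := exists_dvd_pow_sub_one_of_mulAut hpq hQ d hd (β ^ k) hγ hγne
  have h3 : q ∣ ∏ i ∈ Finset.Icc 1 d, (p ^ i - 1) := hqi.trans (Finset.dvd_prod_of_mem _ hi)
  have h4 : q ∣ Nat.gcd (orderOf β) (∏ i ∈ Finset.Icc 1 d, (p ^ i - 1)) :=
    Nat.dvd_gcd ⟨k, hk⟩ h3
  rw [h2] at h4
  exact hq.one_lt.ne' (Nat.dvd_one.mp h4)

/-- An element of a finite group normalizing a `p`-subgroup `Q` with `|Q : Φ(Q)| ∣ p ^ d`,
whose order is prime to `p` and to `(p - 1)(p ^ 2 - 1) ⋯ (p ^ d - 1)`, centralizes `Q`. -/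
theorem mem_centralizer_of_coprime {G : Type*} [Group G] [Finite G] {p : ℕ} [Fact p.Prime]
    (Q : Subgroup G) (hQ : IsPGroup p Q) (d : ℕ) (hd : (frattini Q).index ∣ p ^ d) (g : G)
    (hg : g ∈ Subgroup.normalizer (Q : Set G)) (h1 : (orderOf g).Coprime p)
    (h2 : (orderOf g).Coprime (∏ i ∈ Finset.Icc 1 d, (p ^ i - 1))) :
    g ∈ Subgroup.centralizer (Q : Set G) := by
  classical
  let g' : Subgroup.normalizer (Q : Set G) := ⟨g, hg⟩
  let β : MulAut Q := Q.normalizerMonoidHom g'
  have hdvd : orderOf β ∣ orderOf g := by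
    have h3 : orderOf β ∣ orderOf g' := orderOf_map_dvd _ g'
    have h4 : orderOf g' = orderOf g := by
      rw [← Subgroup.orderOf_coe]
    rwa [h4] at h3
  have hβ : β = 1 :=
    mulAut_eq_one_of_coprime hQ d hd β (Nat.Coprime.coprime_dvd_left hdvd h1)
      (Nat.Coprime.coprime_dvd_left hdvd h2)
  have hker : g' ∈ Q.normalizerMonoidHom.ker := hβ
  rw [Subgroup.normalizerMonoidHom_ker] at hker
  exact hker

end Cfsg.Agent.Lib.helper69
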