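import Mathlib

/-!
# Groups in which every non-abelian subgroup is self-normalizing (`SN`), basic facts

Definitions and inheritance lemmas for the split proof of S4073 (helper69).
-/

set_option autoImplicit false

namespace Cfsg.Agent.Lib.helper69.SNG

universe u v

/-- `SN G`: every non-abelian subgroup of `G` is self-normalizing. -/
def SN (G : Type u) [Group G] : Prop :=
  ∀ H : Subgroup G, ¬ IsMulCommutative H → Subgroup.normalizer (H : Set G) = H

/-- Elementwise form of commutativity of a subgroup. -/
theorem comm_iff {G : Type u} [Group G] (H : Subgroup G) :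
    IsMulCommutative H ↔ ∀ a ∈ H, ∀ b ∈ H, a * b = b * a := by
  constructor
  · intro h a ha b hb
    have := h.is_comm.comm (⟨a, ha⟩ : H) ⟨b, hb⟩
    exact congrArg Subtype.val this
  · intro h
    exact ⟨⟨fun a b => Subtype.ext (h a a.2 b b.2)⟩⟩

/-- Elementwise form of commutativity of a group. -/
theorem comm_iff_top {G : Type u} [Group G] :
    IsMulCommutative G ↔ ∀ a b : G, a * b = b * a := by
  constructor
  · intro h a b
    exact h.is_comm.comm a b
  · intro h
    exact ⟨⟨h⟩⟩

/-- Commutativity is invariant under isomorphism. -/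
theorem comm_of_mulEquiv {G : Type u} {G' : Type v} [Group G] [Group G'] (e : G ≃* G')
    (h : IsMulCommutative G) : IsMulCommutative G' := by
  rw [comm_iff_top] at h ⊢
  intro a b
  have := h (e.symm a) (e.symm b)
  have h2 := congrArg e this
  simpa using h2

/-- In an `SN`-group every proper normal subgroup is abelian. -/
theorem SN.normal_comm {G : Type u} [Group G] (h : SN G) (N : Subgroup G) [N.Normal]
    (hN : N ≠ ⊤) : IsMulCommutative N := by
  by_contra hc
  have h1 := h N hc
  rw [Subgroup.normalizer_eq_top] at h1
  exact hN h1.symm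

/-- `SN` passes to subgroups. -/
theorem SN.subgroup {G : Type u} [Group G] (h : SN G) (K : Subgroup G) : SN K := by
  intro H hH
  have hH' : ¬ IsMulCommutative (H.map K.subtype) := by
    intro hc
    apply hH
    rw [comm_iff] at hc ⊢
    intro a ha b hb
    have := hc (a : G) (Subgroup.mem_map_of_mem K.subtype ha) (b : G)
      (Subgroup.mem_map_of_mem K.subtype hb)
    exact Subtype.ext this
  have h1 := h (H.map K.subtype) hH'
  apply le_antisymm _ Subgroup.le_normalizer
  intro x hx
  have hx' : (x : G) ∈ Subgroup.normalizer ((H.map K.subtype : Subgroup G) : Set G) := by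
    rw [Subgroup.mem_normalizer_iff]
    intro g
    rw [Subgroup.mem_normalizer_iff] at hx
    constructor
    · rintro ⟨y, hy, rfl⟩
      exact ⟨x * y * x⁻¹, (hx y).mp hy, by simp⟩
    · rintro ⟨y, hy, hyg⟩
      have hgK : g ∈ K := by
        have : g = (x : G)⁻¹ * (y : G) * (x : G) := by
          have hyg' : (y : G) = (x : G) * g * (x : G)⁻¹ := by simpa using hyg
          rw [hyg']; group
        rw [this]
        exact K.mul_mem (K.mul_mem (K.inv_mem x.2) y.2) x.2
      refine ⟨⟨g, hgK⟩, ?_, rfl⟩
      have h3 : x * ⟨g, hgK⟩ * x⁻¹ = y := by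
        apply Subtype.ext
        simpa using hyg.symm
      have h4 : (⟨g, hgK⟩ : K) ∈ H := by
        rw [hx ⟨g, hgK⟩, h3]; exact hy
      exact h4
  rw [h1] at hx'
  obtain ⟨y, hy, hyx⟩ := hx'
  have : y = x := Subtype.ext hyx
  rw [← this]; exact hy

/-- `SN` passes to quotients. -/
theorem SN.quotient {G : Type u} [Group G] (h : SN G) (N : Subgroup G) [N.Normal] :
    SN (G ⧸ N) := by
  intro H hH
  have hH' : ¬ IsMulCommutative (H.comap (QuotientGroup.mk' N)) := by
    intro hc
    apply hH
    rw [comm_iff] at hc ⊢
    intro a ha b hb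
    obtain ⟨a', rfl⟩ := QuotientGroup.mk'_surjective N a
    obtain ⟨b', rfl⟩ := QuotientGroup.mk'_surjective N b
    have := hc a' ha b' hb
    rw [← map_mul, ← map_mul, this]
  have h1 := h (H.comap (QuotientGroup.mk' N)) hH'
  apply le_antisymm _ Subgroup.le_normalizer
  intro x hx
  obtain ⟨x', rfl⟩ := QuotientGroup.mk'_surjective N x
  have hx' : x' ∈ Subgroup.normalizer ((H.comap (QuotientGroup.mk' N) : Subgroup G) : Set G) := by
    rw [Subgroup.mem_normalizer_iff]
    intro g
    rw [Subgroup.mem_normalizer_iff] at hx
    have := hx (QuotientGroup.mk' N g)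
    simpa [Subgroup.mem_comap] using this
  rw [h1] at hx'
  exact hx'

/-- `SN` is invariant under isomorphism. -/
theorem SN.of_mulEquiv {G : Type u} {G' : Type v} [Group G] [Group G'] (h : SN G)
    (e : G ≃* G') : SN G' := by
  intro H hH
  have hH' : ¬ IsMulCommutative (H.comap e.toMonoidHom) := by
    intro hc
    apply hH
    rw [comm_iff] at hc ⊢
    intro a ha b hb
    have := hc (e.symm a) (by simpa [Subgroup.mem_comap] using ha) (e.symm b)
      (by simpa [Subgroup.mem_comap] using hb)
    have h2 := congrArg e this
    simpa using h2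
  have h1 := h (H.comap e.toMonoidHom) hH'
  apply le_antisymm _ Subgroup.le_normalizer
  intro x hx
  have hx' : e.symm x ∈ Subgroup.normalizer ((H.comap e.toMonoidHom : Subgroup G) : Set G) := by
    rw [Subgroup.mem_normalizer_iff]
    intro g
    rw [Subgroup.mem_normalizer_iff] at hx
    have := hx (e g)
    simpa [Subgroup.mem_comap] using this
  rw [h1] at hx'
  simpa [Subgroup.mem_comap] using hx'

end Cfsg.Agent.Lib.helper69.SNG
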