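import Mathlib
import Cfsg.Agent.Lib.helper69.SNDefs

/-!
# Solvable non-abelian `SN`-groups have an abelian normal subgroup of prime index (helper69)
-/

set_option autoImplicit false

namespace Cfsg.Agent.Lib.helper69.SNG

universe u

/-- A nontrivial finite abelian group has a subgroup of prime index. -/
theorem exists_prime_index_of_comm : ∀ (n : ℕ) (Q : Type u) [CommGroup Q] [Finite Q],
    Nat.card Q = n → Nontrivial Q → ∃ M : Subgroup Q, M.index.Prime := by
  intro n
  induction n using Nat.strong_induction_on with
  | _ n ih =>
    intro Q _ _ hn hnt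
    have h1 : 1 < Nat.card Q := Finite.one_lt_card_iff_nontrivial.mpr hnt
    obtain ⟨p, hp, hpd⟩ := Nat.exists_prime_and_dvd (n := Nat.card Q) (by omega)
    have : Fact p.Prime := ⟨hp⟩
    obtain ⟨x, hx⟩ := exists_prime_orderOf_dvd_card' (G := Q) p hpd
    by_cases hZ : Subgroup.zpowers x = ⊤
    · refine ⟨⊥, ?_⟩
      rw [Subgroup.index_bot]
      have : Nat.card (Subgroup.zpowers x) = Nat.card Q := by
        rw [hZ, Subgroup.card_top]
      rw [← this, Nat.card_zpowers, hx]
      exact hp
    · have hidx : (Subgroup.zpowers x).index ≠ 1 := by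
        intro h
        exact hZ (Subgroup.index_eq_one.mp h)
      have hcard : Nat.card (Q ⧸ Subgroup.zpowers x) = (Subgroup.zpowers x).index := rfl
      have hnt' : Nontrivial (Q ⧸ Subgroup.zpowers x) := by
        apply Finite.one_lt_card_iff_nontrivial.mp
        rw [hcard]
        have : (Subgroup.zpowers x).index ≠ 0 := Subgroup.index_ne_zero_of_finite
        omega
      have hlt : Nat.card (Q ⧸ Subgroup.zpowers x) < n := by
        rw [hcard, ← hn]
        have hmul := (Subgroup.zpowers x).card_mul_index
        rw [Nat.card_zpowers, hx] at hmul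
        have hp2 := hp.two_le
        have hpos : 0 < (Subgroup.zpowers x).index := Nat.pos_of_ne_zero Subgroup.index_ne_zero_of_finite
        nlinarith
      obtain ⟨M, hM⟩ := ih _ hlt (Q ⧸ Subgroup.zpowers x) rfl hnt'
      refine ⟨M.comap (QuotientGroup.mk' (Subgroup.zpowers x)), ?_⟩
      rw [Subgroup.index_comap_of_surjective _ (QuotientGroup.mk'_surjective _)]
      exact hM

/-- **[STRUCT-SOLV]** A finite solvable non-abelian `SN`-group has an abelian normal subgroup of
prime index. -/
theorem sn_solvable_index {K : Type u} [Group K] [Finite K] (h : SN K) (hs : Group.IsSolvable K)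
    (hna : ¬ IsMulCommutative K) :
    ∃ A : Subgroup K, A.Normal ∧ IsMulCommutative A ∧ A.index.Prime := by
  have hnt : Nontrivial K := by
    by_contra hc
    rw [not_nontrivial_iff_subsingleton] at hc
    exact hna ⟨⟨fun a b => Subsingleton.elim _ _⟩⟩
  have hlt : commutator K < ⊤ := Group.IsSolvable.commutator_lt_top_of_nontrivial K
  have hidx : (commutator K).index ≠ 1 := by
    intro h1
    exact hlt.ne (Subgroup.index_eq_one.mp h1)
  have hnt' : Nontrivial (Abelianization K) := by
    apply Finite.one_lt_card_iff_nontrivial.mp
    have hcard : Nat.card (Abelianization K) = (commutator K).index := rfl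
    rw [hcard]
    have : (commutator K).index ≠ 0 := Subgroup.index_ne_zero_of_finite
    omega
  obtain ⟨M, hM⟩ := exists_prime_index_of_comm _ (Abelianization K) rfl hnt'
  have hsurj : Function.Surjective (Abelianization.of : K →* Abelianization K) :=
    QuotientGroup.mk'_surjective _
  have hMn : M.Normal := inferInstance
  have hAn : (M.comap (Abelianization.of : K →* Abelianization K)).Normal := hMn.comap _
  have hAi : (M.comap (Abelianization.of : K →* Abelianization K)).index = M.index :=
    Subgroup.index_comap_of_surjective _ hsurj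
  refine ⟨M.comap (Abelianization.of : K →* Abelianization K), hAn, ?_, by rw [hAi]; exact hM⟩
  have := hAn
  apply h.normal_comm
  intro htop
  rw [htop, Subgroup.index_top] at hAi
  rw [← hAi] at hM
  exact Nat.not_prime_one hM

end Cfsg.Agent.Lib.helper69.SNG
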