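import Mathlib
import Cfsg.Agent.Lib.helper42.AICDefs

/-!
S2202 piece O1 (helper69): an odd-order subgroup `D` normalized by an involution `w`:
`|{d ∈ D inverted by w}| * |C_D(w)| = |D|`.
-/

set_option autoImplicit false

open Cfsg.Agent.Lib.helper42.AIC

namespace Cfsg.Agent.Lib.helper69.AIC

/-- O1 : odd-order subgroup with an involutory automorphism -/
theorem card_inverted {G : Type*} [Group G] [Finite G] (D : Subgroup G) (hD : Odd (Nat.card D))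
    (w : G) (hw : w * w = 1) (hwD : ∀ d ∈ D, w * d * w⁻¹ ∈ D) :
    Nat.card {d : G // d ∈ D ∧ w * d * w⁻¹ = d⁻¹} * Nat.card {d : G // d ∈ D ∧ w * d = d * w} =
      Nat.card D := by
  have hwi : w⁻¹ = w := inv_eq_of_mul_eq_one_left hw
  have hww : w⁻¹ * w⁻¹ = 1 := by rw [hwi]; exact hw
  obtain ⟨m, hm⟩ := hD
  have hpow : ∀ x ∈ D, x ^ (Nat.card D) = 1 := fun x hx => by
    have h1 : (⟨x, hx⟩ : D) ^ Nat.card D = 1 := pow_card_eq_one'
    have h2 := congrArg Subtype.val h1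
    rw [Subgroup.coe_pow] at h2
    exact h2
  have hsq : ∀ x ∈ D, (x ^ (m + 1)) * (x ^ (m + 1)) = x := by
    intro x hx
    rw [← pow_add]
    have e : m + 1 + (m + 1) = Nat.card D + 1 := by omega
    rw [e, pow_succ, hpow x hx, one_mul]
  have hψ : ∀ (x : G), x ∈ D → w * x * w⁻¹ = x⁻¹ → ∀ c : G, w * c = c * w →
      (x ^ (m + 1) * c) * (w * (x ^ (m + 1) * c)⁻¹ * w⁻¹) = x := by
    intro x hx hxi c hc
    have hxi' : w * x⁻¹ * w⁻¹ = x := by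
      calc w * x⁻¹ * w⁻¹ = (w * x * w⁻¹)⁻¹ := by group
        _ = x := by rw [hxi, inv_inv]
    have hy : w * (x ^ (m + 1))⁻¹ * w⁻¹ = x ^ (m + 1) := by
      rw [← inv_pow, ← conj_pow, hxi']
    have hc' : c * w * c⁻¹ = w := by rw [← hc]; group
    calc (x ^ (m + 1) * c) * (w * (x ^ (m + 1) * c)⁻¹ * w⁻¹)
        = x ^ (m + 1) * ((c * w * c⁻¹) * (x ^ (m + 1))⁻¹ * w⁻¹) := by group
      _ = x ^ (m + 1) * (w * (x ^ (m + 1))⁻¹ * w⁻¹) := by rw [hc']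
      _ = x := by rw [hy]; exact hsq x hx
  let f : {d : G // d ∈ D ∧ w * d * w⁻¹ = d⁻¹} × {d : G // d ∈ D ∧ w * d = d * w} → D :=
    fun p => ⟨(p.1 : G) ^ (m + 1) * (p.2 : G), D.mul_mem (D.pow_mem p.1.2.1 _) p.2.2.1⟩
  have hinj : Function.Injective f := by
    rintro ⟨⟨x, hx, hxi⟩, ⟨c, hcD, hc⟩⟩ ⟨⟨x', hx', hxi'⟩, ⟨c', hcD', hc'⟩⟩ h
    have h1 : x ^ (m + 1) * c = x' ^ (m + 1) * c' := congrArg Subtype.val h
    have h2 : x = x' := by
      rw [← hψ x hx hxi c hc, ← hψ x' hx' hxi' c' hc', h1]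
    subst h2
    have h3 : c = c' := mul_left_cancel h1
    subst h3
    rfl
  have hsurj : Function.Surjective f := by
    rintro ⟨d, hd⟩
    obtain ⟨x, hxdef⟩ : ∃ x, x = d * (w * d⁻¹ * w⁻¹) := ⟨_, rfl⟩
    have hxD : x ∈ D := by rw [hxdef]; exact D.mul_mem hd (hwD _ (D.inv_mem hd))
    have hxi : w * x * w⁻¹ = x⁻¹ := by
      rw [hxdef]
      calc w * (d * (w * d⁻¹ * w⁻¹)) * w⁻¹ = w * d * w * d⁻¹ * (w⁻¹ * w⁻¹) := by group
        _ = w * d * w * d⁻¹ := by rw [hww, mul_one]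
        _ = w * d * w⁻¹ * d⁻¹ := by rw [hwi]
        _ = (d * (w * d⁻¹ * w⁻¹))⁻¹ := by group
    have hcD : (x ^ (m + 1))⁻¹ * d ∈ D := D.mul_mem (D.inv_mem (D.pow_mem hxD _)) hd
    have hc : w * ((x ^ (m + 1))⁻¹ * d) = (x ^ (m + 1))⁻¹ * d * w := by
      have h1 := hψ x hxD hxi 1 (by rw [mul_one, one_mul])
      rw [mul_one] at h1
      have h2 : x ^ (m + 1) * w * (x ^ (m + 1))⁻¹ = d * w * d⁻¹ := by
        calc x ^ (m + 1) * w * (x ^ (m + 1))⁻¹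
            = x ^ (m + 1) * (w * (x ^ (m + 1))⁻¹ * w⁻¹) * w := by group
          _ = d * (w * d⁻¹ * w⁻¹) * w := by rw [h1, hxdef]
          _ = d * w * d⁻¹ := by group
      calc w * ((x ^ (m + 1))⁻¹ * d)
          = (x ^ (m + 1))⁻¹ * (x ^ (m + 1) * w * (x ^ (m + 1))⁻¹) * d := by group
        _ = (x ^ (m + 1))⁻¹ * (d * w * d⁻¹) * d := by rw [h2]
        _ = (x ^ (m + 1))⁻¹ * d * w := by group
    refine ⟨(⟨x, hxD, hxi⟩, ⟨(x ^ (m + 1))⁻¹ * d, hcD, hc⟩), ?_⟩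
    apply Subtype.ext
    show x ^ (m + 1) * ((x ^ (m + 1))⁻¹ * d) = d
    group
  rw [← Nat.card_prod]
  exact Nat.card_congr (Equiv.ofBijective f ⟨hinj, hsurj⟩)

end Cfsg.Agent.Lib.helper69.AIC
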