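import Mathlib
import Cfsg.Agent.Lib.helper42.AICDefs

/-!
S2202 piece O2 (helper69): a fixed-point-free involutory automorphism inverts.
-/

set_option autoImplicit false

open Cfsg.Agent.Lib.helper42.AIC

namespace Cfsg.Agent.Lib.helper69.AIC

/-- O2 : a fixed-point-free involutory automorphism inverts -/
theorem inverts_of_fpf {G : Type*} [Group G] [Finite G] (D : Subgroup G) (w : G)
    (hw : w * w = 1) (hwD : ∀ d ∈ D, w * d * w⁻¹ ∈ D)
    (hfpf : ∀ d ∈ D, w * d = d * w → d = 1) : ∀ d ∈ D, w * d * w⁻¹ = d⁻¹ := by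
  have hwi : w⁻¹ = w := inv_eq_of_mul_eq_one_left hw
  have hww : w⁻¹ * w⁻¹ = 1 := by rw [hwi]; exact hw
  let f : D → D := fun d =>
    ⟨(d : G)⁻¹ * (w * d * w⁻¹), D.mul_mem (D.inv_mem d.2) (hwD d d.2)⟩
  have hinj : Function.Injective f := by
    intro a b hab
    have h1 : (a : G)⁻¹ * (w * a * w⁻¹) = (b : G)⁻¹ * (w * b * w⁻¹) := congrArg Subtype.val hab
    have h3 : (b : G) * (a : G)⁻¹ = w * ((b : G) * (a : G)⁻¹) * w⁻¹ := by
      have h2 : (b : G) * ((a : G)⁻¹ * (w * a * w⁻¹)) * (w * (a : G)⁻¹ * w⁻¹) =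
          (b : G) * ((b : G)⁻¹ * (w * b * w⁻¹)) * (w * (a : G)⁻¹ * w⁻¹) := by rw [h1]
      have e1 : (b : G) * ((a : G)⁻¹ * (w * a * w⁻¹)) * (w * (a : G)⁻¹ * w⁻¹) =
          (b : G) * (a : G)⁻¹ := by group
      have e2 : (b : G) * ((b : G)⁻¹ * (w * b * w⁻¹)) * (w * (a : G)⁻¹ * w⁻¹) =
          w * ((b : G) * (a : G)⁻¹) * w⁻¹ := by group
      rw [e1, e2] at h2
      exact h2
    have h4 : w * ((b : G) * (a : G)⁻¹) = (b : G) * (a : G)⁻¹ * w := by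
      calc w * ((b : G) * (a : G)⁻¹) = w * ((b : G) * (a : G)⁻¹) * w⁻¹ * w := by group
        _ = (b : G) * (a : G)⁻¹ * w := by rw [← h3]
    have h5 := hfpf _ (D.mul_mem b.2 (D.inv_mem a.2)) h4
    apply Subtype.ext
    exact (mul_inv_eq_one.mp h5).symm
  have hsurj : Function.Surjective f := Finite.injective_iff_surjective.mp hinj
  intro d hd
  obtain ⟨e, he⟩ := hsurj ⟨d, hd⟩
  have he' : (e : G)⁻¹ * (w * e * w⁻¹) = d := congrArg Subtype.val he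
  rw [← he']
  calc w * ((e : G)⁻¹ * (w * e * w⁻¹)) * w⁻¹ = w * (e : G)⁻¹ * w * e * (w⁻¹ * w⁻¹) := by group
    _ = w * (e : G)⁻¹ * w * e := by rw [hww, mul_one]
    _ = w * (e : G)⁻¹ * w⁻¹ * e := by rw [hwi]
    _ = ((e : G)⁻¹ * (w * e * w⁻¹))⁻¹ := by group

end Cfsg.Agent.Lib.helper69.AIC
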