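import Mathlib
import Cfsg.Prelude.Def_KGroupFacts

set_option autoImplicit false

namespace Cfsg.Agent.Lib.helper69

open scoped commutatorElement

/-- Transfer: a central element of `Γ` lying in the commutator subgroup and in a finite-index subgroup `H`
has its `H.index`-th power in `⁅H, H⁆`. -/
theorem pow_index_mem_commutator_of_center {Γ : Type*} [Group Γ] (H : Subgroup Γ) [H.FiniteIndex]
    (z : Γ) (hzc : z ∈ Subgroup.center Γ) (hzd : z ∈ commutator Γ) (hzH : z ∈ H) :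
    z ^ H.index ∈ ⁅H, H⁆ := by
  have key : ∀ (k : ℕ) (g₀ : Γ), g₀⁻¹ * z ^ k * g₀ ∈ H → g₀⁻¹ * z ^ k * g₀ = z ^ k := by
    intro k g₀ _
    have hc : z ^ k ∈ Subgroup.center Γ := Subgroup.pow_mem _ hzc k
    rw [Subgroup.mem_center_iff] at hc
    rw [mul_assoc, ← hc g₀, inv_mul_cancel_left]
  have h1 := MonoidHom.transfer_eq_pow (Abelianization.of : ↥H →* Abelianization ↥H) z key
  have h2 : MonoidHom.transfer (Abelianization.of : ↥H →* Abelianization ↥H) z = 1 :=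
    Abelianization.commutator_subset_ker
      (MonoidHom.transfer (Abelianization.of : ↥H →* Abelianization ↥H)) hzd
  rw [h2] at h1
  have h3 : (⟨z ^ H.index, H.pow_mem hzH _⟩ : ↥H) ∈ commutator ↥H := by
    rw [← Abelianization.ker_of, MonoidHom.mem_ker]; exact h1.symm
  have h4 := Subgroup.mem_map_of_mem H.subtype h3
  rw [Subgroup.map_subtype_commutator] at h4
  exact h4

/-- A stem extension has trivial kernel as soon as, for every prime `r`, some subgroup `E` containing the kernel,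
of index prime to `r`, has `⁅E, E⁆` meeting the kernel trivially. -/
theorem stem_ker_eq_bot_of_forall_prime {G Γ : Type*} [Group G] [Group Γ] [Finite Γ] (σ : Γ →* G)
    (hσ : Cfsg.IsStemExtension σ)
    (h : ∀ r : ℕ, r.Prime → ∃ E : Subgroup Γ, σ.ker ≤ E ∧ ¬ r ∣ E.index ∧
      ∀ w ∈ σ.ker, w ∈ ⁅E, E⁆ → w = 1) : σ.ker = ⊥ := by
  obtain ⟨hsurj, hcent, hstem⟩ := hσ
  by_contra hne
  have hcard : Nat.card σ.ker ≠ 1 := by
    intro h1
    exact hne (Subgroup.card_eq_one.mp h1)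
  obtain ⟨r, hr, hrd⟩ := Nat.exists_prime_and_dvd hcard
  have : Fact r.Prime := ⟨hr⟩
  obtain ⟨z, hz⟩ := exists_prime_orderOf_dvd_card' r hrd
  obtain ⟨E, hkE, hidx, hE⟩ := h r hr
  have hz1 : (z : Γ) ^ E.index = 1 := by
    apply hE
    · exact Subgroup.pow_mem _ z.2 _
    · exact pow_index_mem_commutator_of_center E z (hcent z.2) (hstem z.2) (hkE z.2)
  have hd : orderOf (z : Γ) ∣ E.index := orderOf_dvd_of_pow_eq_one hz1
  rw [Subgroup.orderOf_coe, hz] at hd
  exact hidx hd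

/-- Reduction of the condition of `stem_ker_eq_bot_of_forall_prime` for a preimage `R.comap σ`. -/
theorem eq_one_of_mem_commutator_comap {G Γ : Type*} [Group G] [Group Γ] (σ : Γ →* G) (R : Subgroup G)
    (h : ∀ z ∈ commutator ↥(R.comap σ), (σ.subgroupComap R) z = 1 → z = 1) :
    ∀ w ∈ σ.ker, w ∈ ⁅R.comap σ, R.comap σ⁆ → w = 1 := by
  intro w hwk hw
  rw [← Subgroup.map_subtype_commutator, Subgroup.mem_map] at hw
  obtain ⟨z, hz, rfl⟩ := hw
  have h1 : (σ.subgroupComap R) z = 1 := by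
    apply Subtype.ext
    rw [MonoidHom.mem_ker] at hwk
    exact hwk
  rw [h z hz h1]
  rfl

/-- If all elements of `R.comap σ` commute then its commutator meets the kernel trivially. -/
theorem eq_one_of_mem_commutator_comap_of_comm {G Γ : Type*} [Group G] [Group Γ] (σ : Γ →* G)
    (R : Subgroup G) (hcomm : ∀ x y : Γ, σ x ∈ R → σ y ∈ R → x * y = y * x) :
    ∀ w ∈ σ.ker, w ∈ ⁅R.comap σ, R.comap σ⁆ → w = 1 := by
  intro w _ hw
  have hbot : ⁅R.comap σ, R.comap σ⁆ = ⊥ := by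
    rw [Subgroup.commutator_eq_bot_iff_le_centralizer]
    intro a ha
    rw [Subgroup.mem_centralizer_iff]
    intro b hb
    exact hcomm b a hb ha
  rw [hbot] at hw
  exact hw

/-- Cyclic `R`: the preimage of `R` under a central extension is abelian. -/
theorem eq_one_of_mem_commutator_comap_of_isCyclic {G Γ : Type*} [Group G] [Group Γ] (σ : Γ →* G)
    (hc : σ.ker ≤ Subgroup.center Γ) (R : Subgroup G) [IsCyclic R] :
    ∀ w ∈ σ.ker, w ∈ ⁅R.comap σ, R.comap σ⁆ → w = 1 := by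
  apply eq_one_of_mem_commutator_comap_of_comm
  intro x y hx hy
  have hcomm : ∀ a b : ↥(R.comap σ), a * b = b * a := by
    apply commutative_of_cyclic_center_quotient (σ.subgroupComap R)
    intro a ha
    rw [Subgroup.mem_center_iff]
    intro g
    have ha' : (a : Γ) ∈ σ.ker := by
      rw [MonoidHom.mem_ker] at ha ⊢
      exact congrArg Subtype.val ha
    have h1 := hc ha'
    rw [Subgroup.mem_center_iff] at h1
    exact Subtype.ext (h1 g)
  have := hcomm ⟨x, hx⟩ ⟨y, hy⟩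
  exact congrArg Subtype.val this

/-- Central extensions of (generalized) quaternion groups: the commutator subgroup meets the kernel trivially. -/
theorem eq_one_of_mem_commutator_of_quaternion {E : Type*} [Group E] (N : ℕ) [NeZero N]
    (τ : E →* QuaternionGroup N) (hsurj : Function.Surjective τ) (hc : τ.ker ≤ Subgroup.center E) :
    ∀ z ∈ commutator E, z ∈ τ.ker → z = 1 := by
  obtain ⟨α, hα⟩ := hsurj (QuaternionGroup.a 1)
  obtain ⟨β, hβ⟩ := hsurj (QuaternionGroup.xa 0)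
  have h2N : ((N : ZMod (2 * N)) + N) = 0 := by
    have : ((2 * N : ℕ) : ZMod (2 * N)) = 0 := ZMod.natCast_self _
    push_cast at this
    linear_combination this
  have hβinv : τ β⁻¹ = QuaternionGroup.xa (N : ZMod (2 * N)) := by
    rw [map_inv, hβ]
    apply inv_eq_of_mul_eq_one_right
    rw [QuaternionGroup.xa_mul_xa, QuaternionGroup.one_def]
    congr 1
    linear_combination h2N
  have ainv : ∀ i : ZMod (2 * N), (QuaternionGroup.a i : QuaternionGroup N)⁻¹ = QuaternionGroup.a (-i) := by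
    intro i
    apply inv_eq_of_mul_eq_one_right
    rw [QuaternionGroup.a_mul_a, QuaternionGroup.one_def]
    congr 1
    ring
  have inM_mul : ∀ x y : E, (∃ i, τ x = QuaternionGroup.a i) → (∃ i, τ y = QuaternionGroup.a i) →
      ∃ i, τ (x * y) = QuaternionGroup.a i := by
    rintro x y ⟨i, hi⟩ ⟨j, hj⟩
    exact ⟨i + j, by rw [map_mul, hi, hj, QuaternionGroup.a_mul_a]⟩
  have inM_inv : ∀ x : E, (∃ i, τ x = QuaternionGroup.a i) → ∃ i, τ x⁻¹ = QuaternionGroup.a i := by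
    rintro x ⟨i, hi⟩
    exact ⟨-i, by rw [map_inv, hi, ainv]⟩
  have inM_one : ∃ i, τ (1 : E) = QuaternionGroup.a i := ⟨0, by rw [map_one, QuaternionGroup.one_def]⟩
  have inM_conj : ∀ x : E, (∃ i, τ x = QuaternionGroup.a i) →
      ∃ i, τ (β * x * β⁻¹) = QuaternionGroup.a i := by
    rintro x ⟨i, hi⟩
    refine ⟨-i, ?_⟩
    rw [map_mul, map_mul, hβinv, hβ, hi, QuaternionGroup.xa_mul_a, QuaternionGroup.xa_mul_xa]
    congr 1
    linear_combination h2N
  have inM_comm : ∀ x y : E, (∃ i, τ x = QuaternionGroup.a i) → (∃ i, τ y = QuaternionGroup.a i) →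
      Commute x y := by
    have key : ∀ x : E, (∃ i, τ x = QuaternionGroup.a i) →
        ∃ k : ℕ, ∃ κ ∈ Subgroup.center E, x = α ^ k * κ := by
      rintro x ⟨i, hi⟩
      refine ⟨i.val, (α ^ i.val)⁻¹ * x, ?_, by group⟩
      apply hc
      rw [MonoidHom.mem_ker, map_mul, map_inv, map_pow, hα, hi, QuaternionGroup.a_one_pow,
        ZMod.natCast_zmod_val, inv_mul_cancel]
    intro x y hx hy
    obtain ⟨k, κ, hκ, rfl⟩ := key x hx
    obtain ⟨l, κ', hκ', rfl⟩ := key y hy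
    rw [Subgroup.mem_center_iff] at hκ hκ'
    have c1 : Commute (α ^ k) (α ^ l) := (Commute.refl α).pow_pow k l
    have c2 : ∀ g, Commute κ g := fun g => (hκ g).symm
    have c3 : ∀ g, Commute κ' g := fun g => (hκ' g).symm
    exact (c1.mul_right (c3 _).symm).mul_left (c2 _)
  -- every commutator is of the form ⁅m, β⁆ with m in the preimage of the cyclic subgroup
  have hrep : ∀ x : E, (∃ i, τ x = QuaternionGroup.a i) ∨ (∃ i, τ (x * β⁻¹) = QuaternionGroup.a i) := by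
    intro x
    rcases hx : τ x with i | i
    · exact Or.inl ⟨i, rfl⟩
    · right
      exact ⟨_, by rw [map_mul, hx, hβinv, QuaternionGroup.xa_mul_xa]⟩
  have d_eq : ∀ m : E, ⁅m, β⁆ = m * (β * m⁻¹ * β⁻¹) := by
    intro m; rw [commutatorElement_def]; group
  have d_mul : ∀ m m' : E, (∃ i, τ m = QuaternionGroup.a i) → (∃ i, τ m' = QuaternionGroup.a i) →
      ⁅m, β⁆ * ⁅m', β⁆ = ⁅m * m', β⁆ := by
    intro m m' hm hm'
    have c1 : Commute (β * m⁻¹ * β⁻¹) (m' * (β * m'⁻¹ * β⁻¹)) :=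
      inM_comm _ _ (inM_conj _ (inM_inv _ hm)) (inM_mul _ _ hm' (inM_conj _ (inM_inv _ hm')))
    calc ⁅m, β⁆ * ⁅m', β⁆ = m * ((β * m⁻¹ * β⁻¹) * (m' * (β * m'⁻¹ * β⁻¹))) := by
          rw [d_eq, d_eq]; group
      _ = m * ((m' * (β * m'⁻¹ * β⁻¹)) * (β * m⁻¹ * β⁻¹)) := by rw [c1.eq]
      _ = ⁅m * m', β⁆ := by rw [d_eq]; group
  have d_inv : ∀ m : E, (∃ i, τ m = QuaternionGroup.a i) → ⁅m, β⁆⁻¹ = ⁅m⁻¹, β⁆ := by
    intro m hm
    have c1 : Commute (β * m * β⁻¹) m⁻¹ := inM_comm _ _ (inM_conj _ hm) (inM_inv _ hm)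
    calc ⁅m, β⁆⁻¹ = (β * m * β⁻¹) * m⁻¹ := by rw [d_eq]; group
      _ = m⁻¹ * (β * m * β⁻¹) := c1.eq
      _ = ⁅m⁻¹, β⁆ := by rw [d_eq]; group
  have d_right : ∀ m m' : E, (∃ i, τ m = QuaternionGroup.a i) → (∃ i, τ m' = QuaternionGroup.a i) →
      ⁅m, m' * β⁆ = ⁅m, β⁆ := by
    intro m m' hm hm'
    have c1 : Commute m' (β * m⁻¹ * β⁻¹) := inM_comm _ _ hm' (inM_conj _ (inM_inv _ hm))
    calc ⁅m, m' * β⁆ = m * (m' * (β * m⁻¹ * β⁻¹)) * m'⁻¹ := by rw [commutatorElement_def]; group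
      _ = m * ((β * m⁻¹ * β⁻¹) * m') * m'⁻¹ := by rw [c1.eq]
      _ = ⁅m, β⁆ := by rw [d_eq]; group
  have d_both : ∀ m m' : E, (∃ i, τ m = QuaternionGroup.a i) → (∃ i, τ m' = QuaternionGroup.a i) →
      ⁅m * β, m' * β⁆ = ⁅m * m'⁻¹, β⁆ := by
    intro m m' hm hm'
    have c1 : Commute (β * m' * β⁻¹ * (β * m⁻¹ * β⁻¹)) m'⁻¹ :=
      inM_comm _ _ (inM_mul _ _ (inM_conj _ hm') (inM_conj _ (inM_inv _ hm))) (inM_inv _ hm')
    calc ⁅m * β, m' * β⁆ = m * ((β * m' * β⁻¹ * (β * m⁻¹ * β⁻¹)) * m'⁻¹) := by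
          rw [commutatorElement_def]; group
      _ = m * (m'⁻¹ * (β * m' * β⁻¹ * (β * m⁻¹ * β⁻¹))) := by rw [c1.eq]
      _ = ⁅m * m'⁻¹, β⁆ := by rw [d_eq]; group
  have hP : ∀ z ∈ commutator E, ∃ m : E, (∃ i, τ m = QuaternionGroup.a i) ∧ z = ⁅m, β⁆ := by
    intro z hz
    rw [commutator_eq_closure] at hz
    induction hz using Subgroup.closure_induction with
    | mem z hz =>
      obtain ⟨x, y, rfl⟩ := hz
      rcases hrep x with hx | hx <;> rcases hrep y with hy | hy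
      · refine ⟨1, inM_one, ?_⟩
        rw [commutatorElement_one_left, commutatorElement_eq_one_iff_commute]
        exact inM_comm x y hx hy
      · refine ⟨x, hx, ?_⟩
        have := d_right x (y * β⁻¹) hx hy
        rwa [inv_mul_cancel_right] at this
      · refine ⟨y⁻¹, inM_inv _ hy, ?_⟩
        have := d_right y (x * β⁻¹) hy hx
        rw [inv_mul_cancel_right] at this
        rw [← d_inv y hy, ← this, commutatorElement_inv]
      · refine ⟨x * β⁻¹ * (y * β⁻¹)⁻¹, inM_mul _ _ hx (inM_inv _ hy), ?_⟩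
        have := d_both (x * β⁻¹) (y * β⁻¹) hx hy
        rwa [inv_mul_cancel_right, inv_mul_cancel_right] at this
    | one => exact ⟨1, inM_one, by rw [commutatorElement_one_left]⟩
    | mul z w _ _ hz hw =>
      obtain ⟨m, hm, rfl⟩ := hz
      obtain ⟨m', hm', rfl⟩ := hw
      exact ⟨m * m', inM_mul _ _ hm hm', d_mul m m' hm hm'⟩
    | inv z _ hz =>
      obtain ⟨m, hm, rfl⟩ := hz
      exact ⟨m⁻¹, inM_inv _ hm, d_inv m hm⟩
  intro z hz hzk
  obtain ⟨m, ⟨i, hi⟩, rfl⟩ := hP z hz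
  rw [commutatorElement_eq_one_iff_commute]
  rw [MonoidHom.mem_ker, map_commutatorElement, commutatorElement_eq_one_iff_mul_comm, hi, hβ,
    QuaternionGroup.a_mul_xa, QuaternionGroup.xa_mul_a, QuaternionGroup.xa.injEq] at hzk
  have hii : i + i = 0 := by linear_combination -hzk
  have hdvd : (2 * N) ∣ (i.val + i.val) := by
    rw [← ZMod.natCast_eq_zero_iff]
    push_cast
    rw [ZMod.natCast_zmod_val]
    exact hii
  have hlt : i.val < 2 * N := ZMod.val_lt i
  obtain ⟨c, hcc⟩ := hdvd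
  have hcases : i.val = 0 ∨ i.val = N := by
    rcases Nat.lt_or_ge c 1 with h | h
    · left
      have : c = 0 := by omega
      subst this
      omega
    · right
      rcases Nat.lt_or_ge c 2 with h' | h'
      · have : c = 1 := by omega
        subst this
        omega
      · nlinarith
  rcases hcases with h0 | hN
  · have hi0 : i = 0 := (ZMod.val_eq_zero i).mp h0
    have hmk : m ∈ τ.ker := by rw [MonoidHom.mem_ker, hi, hi0, QuaternionGroup.a_zero]
    have := hc hmk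
    rw [Subgroup.mem_center_iff] at this
    exact (this β).symm
  · have hiN : i = (N : ZMod (2 * N)) := by
      have h3 : ((i.val : ℕ) : ZMod (2 * N)) = i := ZMod.natCast_zmod_val i
      rw [hN] at h3
      exact h3.symm
    have hmk : (β * β)⁻¹ * m ∈ τ.ker := by
      rw [MonoidHom.mem_ker, map_mul, map_inv, map_mul, hβ, hi, hiN, QuaternionGroup.xa_mul_xa]
      simp
    have h1 := hc hmk
    rw [Subgroup.mem_center_iff] at h1
    have h2 : m = β * β * ((β * β)⁻¹ * m) := by group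
    rw [h2]
    have c1 : Commute (β * β) β := (Commute.refl β).mul_left (Commute.refl β)
    exact c1.mul_left (h1 β).symm

theorem commutatorElement_mul_central_left {Γ : Type*} [Group Γ] (x y κ : Γ)
    (hk : κ ∈ Subgroup.center Γ) : ⁅x * κ, y⁆ = ⁅x, y⁆ := by
  rw [Subgroup.mem_center_iff] at hk
  calc ⁅x * κ, y⁆ = x * (κ * y) * κ⁻¹ * x⁻¹ * y⁻¹ := by rw [commutatorElement_def]; group
    _ = x * (y * κ) * κ⁻¹ * x⁻¹ * y⁻¹ := by rw [hk y]
    _ = ⁅x, y⁆ := by rw [commutatorElement_def]; group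

theorem commutatorElement_mul_central_right {Γ : Type*} [Group Γ] (x y κ : Γ)
    (hk : κ ∈ Subgroup.center Γ) : ⁅x, y * κ⁆ = ⁅x, y⁆ := by
  rw [Subgroup.mem_center_iff] at hk
  calc ⁅x, y * κ⁆ = x * y * (κ * x⁻¹) * κ⁻¹ * y⁻¹ := by rw [commutatorElement_def]; group
    _ = x * y * (x⁻¹ * κ) * κ⁻¹ * y⁻¹ := by rw [hk x⁻¹]
    _ = ⁅x, y⁆ := by rw [commutatorElement_def]; group

/-- The commutator of two elements is invariant under changing them modulo a central kernel. -/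
theorem commutatorElement_congr_of_central {G Γ : Type*} [Group G] [Group Γ] (σ : Γ →* G)
    (hc : σ.ker ≤ Subgroup.center Γ) (x x' y y' : Γ) (hx : σ x = σ x') (hy : σ y = σ y') :
    ⁅x, y⁆ = ⁅x', y'⁆ := by
  have hk : x⁻¹ * x' ∈ Subgroup.center Γ := by
    apply hc; rw [MonoidHom.mem_ker, map_mul, map_inv, hx, inv_mul_cancel]
  have hk' : y⁻¹ * y' ∈ Subgroup.center Γ := by
    apply hc; rw [MonoidHom.mem_ker, map_mul, map_inv, hy, inv_mul_cancel]
  have e1 : x' = x * (x⁻¹ * x') := by group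
  have e2 : y' = y * (y⁻¹ * y') := by group
  rw [e1, e2, commutatorElement_mul_central_left _ _ _ hk, commutatorElement_mul_central_right _ _ _ hk']

/-- A commutator of lifts of commuting elements is central. -/
theorem commutatorElement_mem_center_of_central {G Γ : Type*} [Group G] [Group Γ] (σ : Γ →* G)
    (hc : σ.ker ≤ Subgroup.center Γ) (x y : Γ) (h : σ x * σ y = σ y * σ x) :
    ⁅x, y⁆ ∈ Subgroup.center Γ := by
  apply hc
  rw [MonoidHom.mem_ker, map_commutatorElement, commutatorElement_eq_one_iff_mul_comm]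
  exact h

theorem stem_commutatorElement_mul_left {Γ : Type*} [Group Γ] (x x' y : Γ)
    (hk : ⁅x', y⁆ ∈ Subgroup.center Γ) : ⁅x * x', y⁆ = ⁅x, y⁆ * ⁅x', y⁆ := by
  rw [Subgroup.mem_center_iff] at hk
  calc ⁅x * x', y⁆ = x * ⁅x', y⁆ * y * x⁻¹ * y⁻¹ := by
        rw [commutatorElement_def, commutatorElement_def]; group
    _ = ⁅x', y⁆ * x * y * x⁻¹ * y⁻¹ := by rw [hk x]
    _ = ⁅x', y⁆ * ⁅x, y⁆ := by rw [commutatorElement_def x y]; group
    _ = ⁅x, y⁆ * ⁅x', y⁆ := (hk _).symm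

theorem stem_commutatorElement_mul_right {Γ : Type*} [Group Γ] (x y y' : Γ)
    (hk : ⁅x, y'⁆ ∈ Subgroup.center Γ) : ⁅x, y * y'⁆ = ⁅x, y⁆ * ⁅x, y'⁆ := by
  rw [Subgroup.mem_center_iff] at hk
  calc ⁅x, y * y'⁆ = x * y * x⁻¹ * (⁅x, y'⁆ * y⁻¹) := by
        rw [commutatorElement_def, commutatorElement_def]; group
    _ = x * y * x⁻¹ * (y⁻¹ * ⁅x, y'⁆) := by rw [hk y⁻¹]
    _ = ⁅x, y⁆ * ⁅x, y'⁆ := by rw [commutatorElement_def x y]; group

theorem commutatorElement_conj_of_central {Γ : Type*} [Group Γ] (h x y : Γ)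
    (hk : ⁅x, y⁆ ∈ Subgroup.center Γ) : ⁅h * x * h⁻¹, h * y * h⁻¹⁆ = ⁅x, y⁆ := by
  rw [Subgroup.mem_center_iff] at hk
  calc ⁅h * x * h⁻¹, h * y * h⁻¹⁆ = h * ⁅x, y⁆ * h⁻¹ := by
        rw [commutatorElement_def, commutatorElement_def]; group
    _ = ⁅x, y⁆ * h * h⁻¹ := by rw [hk h]
    _ = ⁅x, y⁆ := by group

/-- A bi-additive pairing on a field, invariant under simultaneous multiplication by squares, is trivial
as soon as the field has elements `a, b ≠ 0` with `b² = a² + 1` and `a⁴ + a² + 1 ≠ 0`. -/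
theorem pairing_trivial {F Γ : Type*} [Field F] [Group Γ] (B : F → F → Γ)
    (hl : ∀ s s' t, B (s + s') t = B s t * B s' t) (hr : ∀ s t t', B s (t + t') = B s t * B s t')
    (hinv : ∀ c s t, c ≠ 0 → B (c ^ 2 * s) (c ^ 2 * t) = B s t)
    (a b : F) (ha : a ≠ 0) (hb : b ≠ 0) (hab : b ^ 2 = a ^ 2 + 1) (hν : a ^ 4 + a ^ 2 + 1 ≠ 0) :
    ∀ s t, B s t = 1 := by
  have h1 : ∀ s t, B (a ^ 2 * s) t * B s (a ^ 2 * t) * B s t = 1 := by
    intro s t
    have e := hinv b s t hb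
    have es : b ^ 2 * s = a ^ 2 * s + s := by rw [hab]; ring
    have et : b ^ 2 * t = a ^ 2 * t + t := by rw [hab]; ring
    rw [es, et, hl, hr, hr, hinv a s t ha] at e
    apply mul_left_cancel (a := B s t)
    rw [mul_one]
    calc B s t * (B (a ^ 2 * s) t * B s (a ^ 2 * t) * B s t)
        = B s t * B (a ^ 2 * s) t * (B s (a ^ 2 * t) * B s t) := by group
      _ = B s t := e
  have h2 : ∀ s t, B (a ^ 2 * s) t = B s (a⁻¹ ^ 2 * t) := by
    intro s t
    have e := hinv a s (a⁻¹ ^ 2 * t) ha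
    have et : a ^ 2 * (a⁻¹ ^ 2 * t) = t := by field_simp
    rw [et] at e
    exact e
  have hν' : a⁻¹ ^ 2 + a ^ 2 + 1 ≠ 0 := by
    intro h0
    apply hν
    have : a ^ 4 + a ^ 2 + 1 = a ^ 2 * (a⁻¹ ^ 2 + a ^ 2 + 1) := by field_simp; ring
    rw [this, h0, mul_zero]
  have h3 : ∀ s t, B s ((a⁻¹ ^ 2 + a ^ 2 + 1) * t) = 1 := by
    intro s t
    have e := h1 s t
    rw [h2, ← hr, ← hr] at e
    have et : (a⁻¹ ^ 2 + a ^ 2 + 1) * t = a⁻¹ ^ 2 * t + a ^ 2 * t + t := by ring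
    rw [et]
    exact e
  intro s t
  have e := h3 s ((a⁻¹ ^ 2 + a ^ 2 + 1)⁻¹ * t)
  rw [mul_inv_cancel_left₀ hν'] at e
  exact e

/-- The torus argument: the preimage of a "root subgroup" `u(F)` in a central extension is abelian as soon as
the torus acts on it through squares and the field is large enough. -/
theorem comm_of_root_subgroup {G Γ F : Type*} [Group G] [Group Γ] [Field F] (σ : Γ →* G)
    (hsurj : Function.Surjective σ) (hc : σ.ker ≤ Subgroup.center Γ) (u : F → G)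
    (hu : ∀ s t, u (s + t) = u s * u t)
    (htor : ∀ c : F, c ≠ 0 → ∃ h : G, ∀ s, h * u s * h⁻¹ = u (c ^ 2 * s))
    (a b : F) (ha : a ≠ 0) (hb : b ≠ 0) (hab : b ^ 2 = a ^ 2 + 1) (hν : a ^ 4 + a ^ 2 + 1 ≠ 0)
    (x y : Γ) (hx : σ x ∈ Set.range u) (hy : σ y ∈ Set.range u) : x * y = y * x := by
  obtain ⟨ℓ, hℓ⟩ := hsurj.hasRightInverse
  have hucomm : ∀ s t, u s * u t = u t * u s := by
    intro s t; rw [← hu, ← hu, add_comm]
  have hcen : ∀ x y : Γ, σ x ∈ Set.range u → σ y ∈ Set.range u → ⁅x, y⁆ ∈ Subgroup.center Γ := by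
    rintro x y ⟨s, hs⟩ ⟨t, ht⟩
    apply commutatorElement_mem_center_of_central σ hc
    rw [← hs, ← ht]; exact hucomm s t
  have hB : ∀ s t, ⁅ℓ (u s), ℓ (u t)⁆ = 1 := by
    apply pairing_trivial (fun s t => ⁅ℓ (u s), ℓ (u t)⁆) _ _ _ a b ha hb hab hν
    · intro s s' t
      show ⁅ℓ (u (s + s')), ℓ (u t)⁆ = ⁅ℓ (u s), ℓ (u t)⁆ * ⁅ℓ (u s'), ℓ (u t)⁆
      rw [← stem_commutatorElement_mul_left _ _ _
        (hcen _ _ ⟨s', (hℓ _).symm⟩ ⟨t, (hℓ _).symm⟩)]
      apply commutatorElement_congr_of_central σ hc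
      · rw [map_mul, hℓ, hℓ, hℓ, hu]
      · rfl
    · intro s t t'
      show ⁅ℓ (u s), ℓ (u (t + t'))⁆ = ⁅ℓ (u s), ℓ (u t)⁆ * ⁅ℓ (u s), ℓ (u t')⁆
      rw [← stem_commutatorElement_mul_right _ _ _
        (hcen _ _ ⟨s, (hℓ _).symm⟩ ⟨t', (hℓ _).symm⟩)]
      apply commutatorElement_congr_of_central σ hc
      · rfl
      · rw [map_mul, hℓ, hℓ, hℓ, hu]
    · intro c s t hc0
      show ⁅ℓ (u (c ^ 2 * s)), ℓ (u (c ^ 2 * t))⁆ = ⁅ℓ (u s), ℓ (u t)⁆
      obtain ⟨h, hh⟩ := htor c hc0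
      rw [← commutatorElement_conj_of_central (ℓ h) _ _
        (hcen _ _ ⟨s, (hℓ _).symm⟩ ⟨t, (hℓ _).symm⟩)]
      apply commutatorElement_congr_of_central σ hc
      · rw [map_mul, map_mul, map_inv, hℓ, hℓ, hℓ, hh]
      · rw [map_mul, map_mul, map_inv, hℓ, hℓ, hℓ, hh]
  obtain ⟨s, hs⟩ := hx
  obtain ⟨t, ht⟩ := hy
  have e : ⁅x, y⁆ = ⁅ℓ (u s), ℓ (u t)⁆ := by
    apply commutatorElement_congr_of_central σ hc
    · rw [hℓ, hs]
    · rw [hℓ, ht]
  rw [hB, commutatorElement_eq_one_iff_mul_comm] at e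
  exact e

end Cfsg.Agent.Lib.helper69
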