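import Mathlib
import Cfsg.Prelude.Def_Characters
import Cfsg.Prelude.Def_Blocks
import Cfsg.Agent.Lib.helper83.CharBasic2
import Cfsg.Agent.Lib.helper81.CharOrtho

/-!
# Central characters and the exponent of a central subgroup inside the commutator subgroup

* `irr_center_det` : a central element `z` acts on an irreducible character `χ` through a scalar
  `c`, and `c ^ χ(1) = 1` when `z` lies in the commutator subgroup.
* `orderOf_sq_dvd_index` : if `A ≤ Z(E) ∩ E'` and `lam : A →* ℂˣ`, then `(orderOf (lam z))^2`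
  divides `|E : A|`.
* `exponent_sq_dvd_index` : `exponent(A)^2 ∣ |E : A|` for `A ≤ Z(E) ∩ E'`.
-/

set_option autoImplicit false

namespace Cfsg.Agent.Lib.helper69

open Cfsg
open Cfsg.Agent.Lib.helper83

/-- Central elements act on an irreducible character by a scalar, whose `χ(1)`-th power is `1`
when the element lies in the commutator subgroup. -/
theorem irr_center_det {G : Type*} [Group G] [Finite G] (χ : Cfsg.IrrCharacter G) (z : G)
    (hz : z ∈ Subgroup.center G) :
    ∃ c : ℂ, (∀ g : G, (χ : G → ℂ) (g * z) = c * (χ : G → ℂ) g) ∧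
      (z ∈ commutator G → c ^ (charDegree (χ : G → ℂ)) = 1) := by
  classical
  have := Fintype.ofFinite G
  obtain ⟨m, ρ, hρ, hχ⟩ := χ.2
  have hcomm : ∀ g, repMat ρ z * repMat ρ g = repMat ρ g * repMat ρ z := by
    intro g
    rw [← repMat_mul, ← repMat_mul]
    congr 1
    exact (Subgroup.mem_center_iff.mp hz g).symm
  obtain ⟨c, hc⟩ := schur_matrix ρ hρ (repMat ρ z) hcomm
  refine ⟨c, fun g => ?_, fun hzc => ?_⟩
  · rw [← hχ, character_eq_trace, character_eq_trace, repMat_mul, hc]
    simp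
  · have hm : charDegree (χ : G → ℂ) = m := by
      have h1 := Cfsg.Agent.Lib.helper81.irr_one_eq_charDegree χ
      have h2 : (χ : G → ℂ) 1 = (m : ℂ) := by
        rw [← hχ, character_eq_trace, repMat_one]
        simp
      rw [h2] at h1
      exact_mod_cast h1.symm
    rw [hm]
    let f : G →* ℂˣ := ((LinearMap.det : Module.End ℂ (Fin m → ℂ) →* ℂ).comp ρ).toHomUnits
    have hf : ∀ g, ((f g : ℂˣ) : ℂ) = LinearMap.det (ρ g) := fun g => rfl
    have hker : z ∈ f.ker := Abelianization.commutator_subset_ker f hzc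
    rw [MonoidHom.mem_ker] at hker
    have h1 : LinearMap.det (ρ z) = 1 := by
      rw [← hf, hker]; rfl
    have h2 : LinearMap.det (ρ z) = (repMat ρ z).det := by
      unfold repMat
      rw [LinearMap.det_toMatrix']
    rw [h2, hc] at h1
    simpa [Matrix.det_smul] using h1


/-- If `A ≤ Z(E) ∩ E'` and `lam` is a linear character of `A`, then the squares of the orders of
the values of `lam` divide `|E : A|`. -/
theorem orderOf_sq_dvd_index {E : Type*} [Group E] [Finite E] (A : Subgroup E)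
    (hAZ : A ≤ Subgroup.center E) (hAC : A ≤ commutator E) (lam : A →* ℂˣ) (z : A) :
    orderOf (lam z) ^ 2 ∣ A.index := by
  classical
  have := Fintype.ofFinite E
  have hsc : ∀ χ : IrrCharacter E, ∀ a : A, ∃ c : ℂ,
      (∀ g : E, (χ : E → ℂ) (g * a) = c * (χ : E → ℂ) g) ∧
        c ^ charDegree (χ : E → ℂ) = 1 := by
    intro χ a
    obtain ⟨c, h1, h2⟩ := irr_center_det χ (a : E) (hAZ a.2)
    exact ⟨c, h1, h2 (hAC a.2)⟩
  choose w hw1 hw2 using hsc
  have hd0 : ∀ χ : IrrCharacter E, (χ : E → ℂ) 1 ≠ 0 :=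
    fun χ => Cfsg.Agent.Lib.helper81.irr_one_ne_zero χ
  have hwval : ∀ (χ : IrrCharacter E) (a : A), (χ : E → ℂ) (a : E) = w χ a * (χ : E → ℂ) 1 := by
    intro χ a
    have := hw1 χ a 1
    rwa [one_mul] at this
  have hw_one : ∀ χ : IrrCharacter E, w χ 1 = 1 := by
    intro χ
    have h0 := hwval χ 1
    have h : (w χ 1 - 1) * (χ : E → ℂ) 1 = 0 := by
      rw [sub_mul, one_mul, ← h0]
      simp
    rcases mul_eq_zero.mp h with h | h
    · exact sub_eq_zero.mp h
    · exact absurd h (hd0 χ)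
  have hw_mul : ∀ (χ : IrrCharacter E) (a b : A), w χ (a * b) = w χ a * w χ b := by
    intro χ a b
    have h1 := hwval χ (a * b)
    have h2 := hw1 χ b (a : E)
    rw [hwval χ a] at h2
    have h3 : (χ : E → ℂ) ((a * b : A) : E) = (χ : E → ℂ) ((a : E) * (b : E)) := rfl
    rw [h3, h2] at h1
    have h : (w χ (a * b) - w χ a * w χ b) * (χ : E → ℂ) 1 = 0 := by
      rw [sub_mul, ← h1]; ring
    rcases mul_eq_zero.mp h with h | h
    · exact sub_eq_zero.mp h
    · exact absurd h (hd0 χ)
  let F : IrrCharacter E → (A →* ℂ) := fun χ =>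
    { toFun := fun a => w χ a * (((lam a)⁻¹ : ℂˣ) : ℂ)
      map_one' := by simp [hw_one]
      map_mul' := by
        intro a b
        rw [hw_mul, map_mul, mul_inv, Units.val_mul]
        ring }
  have hFapp : ∀ (χ : IrrCharacter E) (a : A), F χ a = w χ a * (((lam a)⁻¹ : ℂˣ) : ℂ) :=
    fun χ a => rfl
  have hF : ∀ χ : IrrCharacter E, ∑ a : A, F χ a = if F χ = 1 then (Nat.card A : ℂ) else 0 := by
    intro χ
    split_ifs with h
    · rw [h]; simp [Nat.card_eq_fintype_card]
    · exact sum_hom_units_eq_zero (F χ) h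
  have hsum : ∑ a : A, (((lam a)⁻¹ : ℂˣ) : ℂ) *
      ∑ χ : IrrCharacter E, (χ : E → ℂ) 1 * (χ : E → ℂ) (a : E) = (Nat.card E : ℂ) := by
    rw [Finset.sum_eq_single (1 : A)]
    · rw [Cfsg.Agent.Lib.helper81.sum_irr_degree_mul]; simp
    · intro a _ ha
      have hne : ¬ ((a : E) = 1) := fun h => ha (Subtype.ext h)
      rw [Cfsg.Agent.Lib.helper81.sum_irr_degree_mul, if_neg hne, mul_zero]
    · intro h; exact absurd (Finset.mem_univ _) h
  have hsum2 : ∑ a : A, (((lam a)⁻¹ : ℂˣ) : ℂ) *
      ∑ χ : IrrCharacter E, (χ : E → ℂ) 1 * (χ : E → ℂ) (a : E)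
      = ∑ χ : IrrCharacter E, (χ : E → ℂ) 1 ^ 2 * ∑ a : A, F χ a := by
    simp_rw [Finset.mul_sum]
    rw [Finset.sum_comm]
    apply Finset.sum_congr rfl; intro χ _
    apply Finset.sum_congr rfl; intro a _
    rw [hFapp, hwval χ a]; ring
  have hmain : (Nat.card A : ℂ) * ∑ χ ∈ Finset.univ.filter (fun χ : IrrCharacter E => F χ = 1),
      ((charDegree (χ : E → ℂ) ^ 2 : ℕ) : ℂ) = (Nat.card E : ℂ) := by
    rw [← hsum, hsum2, Finset.mul_sum, Finset.sum_filter]
    apply Finset.sum_congr rfl; intro χ _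
    rw [hF χ]
    split_ifs with h
    · rw [Cfsg.Agent.Lib.helper81.irr_one_eq_charDegree]; push_cast; ring
    · simp
  have hmainN : Nat.card A * ∑ χ ∈ Finset.univ.filter (fun χ : IrrCharacter E => F χ = 1),
      charDegree (χ : E → ℂ) ^ 2 = Nat.card E := by exact_mod_cast hmain
  have hidx : ∑ χ ∈ Finset.univ.filter (fun χ : IrrCharacter E => F χ = 1),
      charDegree (χ : E → ℂ) ^ 2 = A.index := by
    have h1 := A.card_mul_index
    rw [← hmainN] at h1
    exact (Nat.eq_of_mul_eq_mul_left Nat.card_pos h1).symm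
  rw [← hidx]
  apply Finset.dvd_sum
  intro χ hχ
  rw [Finset.mem_filter] at hχ
  apply pow_dvd_pow_of_dvd
  apply orderOf_dvd_of_pow_eq_one
  have h1 : F χ z = 1 := by rw [hχ.2]; rfl
  rw [hFapp] at h1
  have h2 : w χ z = ((lam z : ℂˣ) : ℂ) := by
    have h3 : w χ z * (((lam z)⁻¹ : ℂˣ) : ℂ) * ((lam z : ℂˣ) : ℂ) = ((lam z : ℂˣ) : ℂ) := by
      rw [h1, one_mul]
    rw [mul_assoc, ← Units.val_mul, inv_mul_cancel, Units.val_one, mul_one] at h3
    exact h3
  apply Units.ext
  rw [Units.val_pow_eq_pow_val, ← h2, hw2]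
  rfl

/-- If `A ≤ Z(E) ∩ E'` then the square of the exponent of `A` divides `|E : A|`. -/
theorem exponent_sq_dvd_index {E : Type*} [Group E] [Finite E] (A : Subgroup E)
    (hAZ : A ≤ Subgroup.center E) (hAC : A ≤ commutator E) :
    Monoid.exponent A ^ 2 ∣ A.index := by
  classical
  letI : CommGroup A :=
    { (inferInstance : Group A) with
      mul_comm := fun a b => Subtype.ext (Subgroup.mem_center_iff.mp (hAZ b.2) (a : E)) }
  rw [Nat.dvd_iff_prime_pow_dvd_dvd]
  intro p j hp hj
  have he0 : Monoid.exponent A ≠ 0 := Monoid.exponent_ne_zero_of_finite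
  set k := (Monoid.exponent A).factorization p with hk
  have hjk : j ≤ 2 * k := by
    have h1 := (hp.pow_dvd_iff_le_factorization (pow_ne_zero 2 he0)).mp hj
    rw [Nat.factorization_pow] at h1
    simpa using h1
  obtain ⟨g, hg⟩ := hp.exists_orderOf_eq_pow_factorization_exponent A
  rw [← hk] at hg
  rcases Nat.eq_zero_or_pos k with hk0 | hkpos
  · have : j = 0 := by omega
    rw [this, pow_zero]; exact one_dvd _
  · -- a character of `A` that is faithful on `⟨g⟩`
    have hne : g ^ p ^ (k - 1) ≠ 1 := by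
      intro h
      have h1 := orderOf_dvd_of_pow_eq_one h
      rw [hg] at h1
      have h2 := (Nat.pow_dvd_pow_iff_le_right hp.one_lt).mp h1
      omega
    haveI : NeZero ((Monoid.exponent A : ℕ) : ℂ) := ⟨by exact_mod_cast he0⟩
    haveI : Fact p.Prime := ⟨hp⟩
    obtain ⟨lam, hlam⟩ := CommGroup.exists_apply_ne_one_of_hasEnoughRootsOfUnity A ℂ hne
    have hord : orderOf (lam g) = p ^ k := by
      have hk1 : k = (k - 1) + 1 := by omega
      rw [hk1]
      apply orderOf_eq_prime_pow
      · rw [← map_pow]; exact hlam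
      · rw [← hk1, ← map_pow, ← hg, pow_orderOf_eq_one, map_one]
    have hdvd := orderOf_sq_dvd_index A hAZ hAC lam g
    rw [hord] at hdvd
    refine dvd_trans ?_ hdvd
    rw [← pow_mul]
    exact pow_dvd_pow p (by omega)

end Cfsg.Agent.Lib.helper69
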