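import Mathlib

set_option autoImplicit false

namespace Cfsg.Agent.Lib.helper69

/-- The `2`-adic valuation of `n!`. -/
def v2f (n : ℕ) : ℕ := padicValNat 2 n.factorial

theorem v2f_half (n : ℕ) : v2f n = v2f (n / 2) + n / 2 := by
  unfold v2f
  have h := Nat.div_add_mod n 2
  have hlt : n % 2 < 2 := Nat.mod_lt _ (by norm_num)
  conv_lhs => rw [← h]
  rw [padicValNat_factorial_mul_add (n / 2) hlt, padicValNat_factorial_mul]

theorem v2f_four (k r : ℕ) (hr : r < 4) : v2f (4 * k + r) = v2f k + 3 * k + r / 2 := by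
  rw [v2f_half (4 * k + r)]
  have e1 : (4 * k + r) / 2 = 2 * k + r / 2 := by omega
  rw [e1, v2f_half (2 * k + r / 2)]
  have e2 : (2 * k + r / 2) / 2 = k := by omega
  rw [e2]
  omega

theorem v2f_mono {m n : ℕ} (h : m ≤ n) : v2f m ≤ v2f n := by
  unfold v2f
  have hd : m.factorial ∣ n.factorial := Nat.factorial_dvd_factorial h
  exact (padicValNat_dvd_iff_le (p := 2) (Nat.factorial_ne_zero n)).mp
    (dvd_trans pow_padicValNat_dvd hd)

theorem v2f_add (a b : ℕ) : v2f a + v2f b ≤ v2f (a + b) := by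
  unfold v2f
  apply (padicValNat_dvd_iff_le (p := 2) (Nat.factorial_ne_zero (a + b))).mp
  rw [pow_add]
  exact dvd_trans (mul_dvd_mul pow_padicValNat_dvd pow_padicValNat_dvd)
    (Nat.factorial_mul_factorial_dvd_factorial_add a b)

theorem v2f_zero : v2f 0 = 0 := by simp [v2f]

theorem v2f_one : v2f 1 = 0 := by simp [v2f]

theorem v2f_six : v2f 6 = 4 := by
  have := v2f_four 1 2 (by norm_num)
  rw [v2f_one] at this
  exact this

theorem v2f_eight : v2f 8 = 7 := by
  have h2 := v2f_four 0 2 (by norm_num)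
  rw [v2f_zero] at h2
  have h8 := v2f_four 2 0 (by norm_num)
  have e : 4 * 0 + 2 = 2 := by norm_num
  rw [e] at h2
  rw [h2] at h8
  exact h8

theorem two_mul_v2f_ge (k : ℕ) : k ≤ 2 * v2f k + 1 := by
  have := v2f_half k
  omega

/-- The bound for the order of nilpotent subgroups of `S_n`. -/
def nilpBound (n : ℕ) : ℕ := if n % 4 = 3 then 3 * 2 ^ v2f (n - 3) else 2 ^ v2f n

theorem nilpBound_pos (n : ℕ) : 0 < nilpBound n := by
  unfold nilpBound
  split_ifs <;> positivity

theorem two_pow_le_nilpBound (n : ℕ) : 2 ^ v2f n ≤ nilpBound n := by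
  unfold nilpBound
  split_ifs with h
  · obtain ⟨k, rfl⟩ : ∃ k, n = 4 * k + 3 := ⟨n / 4, by omega⟩
    have h1 := v2f_four k 3 (by norm_num)
    have h2 := v2f_four k 0 (by norm_num)
    have e3 : 4 * k + 3 - 3 = 4 * k + 0 := by omega
    rw [e3, h2, h1]
    have e4 : v2f k + 3 * k + 3 / 2 = (v2f k + 3 * k + 0 / 2) + 1 := by norm_num
    rw [e4, pow_succ]
    generalize 2 ^ (v2f k + 3 * k + 0 / 2) = x
    omega
  · exact le_rfl

theorem v2f_add_three (b : ℕ) (hb : b % 4 = 1 ∨ b % 4 = 2) : v2f b + 2 ≤ v2f (b + 3) := by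
  have hm : v2f (b / 4) ≤ v2f (b / 4 + 1) := v2f_mono (Nat.le_succ _)
  rcases hb with hb | hb
  · have e : b = 4 * (b / 4) + 1 := by omega
    have e' : b + 3 = 4 * (b / 4 + 1) + 0 := by omega
    have h1 := v2f_four (b / 4) 1 (by norm_num)
    have h2 := v2f_four (b / 4 + 1) 0 (by norm_num)
    rw [← e] at h1
    rw [← e'] at h2
    omega
  · have e : b = 4 * (b / 4) + 2 := by omega
    have e' : b + 3 = 4 * (b / 4 + 1) + 1 := by omega
    have h1 := v2f_four (b / 4) 2 (by norm_num)
    have h2 := v2f_four (b / 4 + 1) 1 (by norm_num)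
    rw [← e] at h1
    rw [← e'] at h2
    omega

theorem nilpBound_mul_le_aux (a b : ℕ) (ha : a % 4 = 3) :
    nilpBound a * nilpBound b ≤ nilpBound (a + b) := by
  have hA : nilpBound a = 3 * 2 ^ v2f (a - 3) := by unfold nilpBound; rw [if_pos ha]
  by_cases hb : b % 4 = 3
  · have hB : nilpBound b = 3 * 2 ^ v2f (b - 3) := by unfold nilpBound; rw [if_pos hb]
    have hab : (a + b) % 4 ≠ 3 := by omega
    have hAB : nilpBound (a + b) = 2 ^ v2f (a + b) := by unfold nilpBound; rw [if_neg hab]
    rw [hA, hB, hAB]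
    have h1 := v2f_add (a - 3) (b - 3)
    have h2 := v2f_add (a - 3 + (b - 3)) 6
    have e : a - 3 + (b - 3) + 6 = a + b := by omega
    rw [e, v2f_six] at h2
    calc 3 * 2 ^ v2f (a - 3) * (3 * 2 ^ v2f (b - 3))
        = 9 * 2 ^ (v2f (a - 3) + v2f (b - 3)) := by rw [pow_add]; ring
      _ ≤ 2 ^ 4 * 2 ^ (v2f (a - 3) + v2f (b - 3)) := Nat.mul_le_mul_right _ (by norm_num)
      _ = 2 ^ (v2f (a - 3) + v2f (b - 3) + 4) := by rw [pow_add]; ring
      _ ≤ 2 ^ v2f (a + b) := Nat.pow_le_pow_right (by norm_num) (by omega)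
  · have hB : nilpBound b = 2 ^ v2f b := by unfold nilpBound; rw [if_neg hb]
    rw [hA, hB]
    by_cases hb0 : b % 4 = 0
    · have hab : (a + b) % 4 = 3 := by omega
      have hAB : nilpBound (a + b) = 3 * 2 ^ v2f (a + b - 3) := by unfold nilpBound; rw [if_pos hab]
      rw [hAB]
      have h1 := v2f_add (a - 3) b
      have e : a - 3 + b = a + b - 3 := by omega
      rw [e] at h1
      calc 3 * 2 ^ v2f (a - 3) * 2 ^ v2f b = 3 * 2 ^ (v2f (a - 3) + v2f b) := by rw [pow_add]; ring
        _ ≤ 3 * 2 ^ v2f (a + b - 3) :=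
          Nat.mul_le_mul_left _ (Nat.pow_le_pow_right (by norm_num) h1)
    · have hab : (a + b) % 4 ≠ 3 := by omega
      have hAB : nilpBound (a + b) = 2 ^ v2f (a + b) := by unfold nilpBound; rw [if_neg hab]
      rw [hAB]
      have h1 := v2f_add (a - 3) (b + 3)
      have e : a - 3 + (b + 3) = a + b := by omega
      rw [e] at h1
      have h2 := v2f_add_three b (by omega)
      calc 3 * 2 ^ v2f (a - 3) * 2 ^ v2f b = 3 * 2 ^ (v2f (a - 3) + v2f b) := by rw [pow_add]; ring
        _ ≤ 2 ^ 2 * 2 ^ (v2f (a - 3) + v2f b) := Nat.mul_le_mul_right _ (by norm_num)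
        _ = 2 ^ (v2f (a - 3) + v2f b + 2) := by rw [pow_add]; ring
        _ ≤ 2 ^ v2f (a + b) := Nat.pow_le_pow_right (by norm_num) (by omega)

theorem nilpBound_mul_le (a b : ℕ) : nilpBound a * nilpBound b ≤ nilpBound (a + b) := by
  by_cases ha : a % 4 = 3
  · exact nilpBound_mul_le_aux a b ha
  · by_cases hb : b % 4 = 3
    · have := nilpBound_mul_le_aux b a hb
      rwa [mul_comm, add_comm] at this
    · have hA : nilpBound a = 2 ^ v2f a := by unfold nilpBound; rw [if_neg ha]
      have hB : nilpBound b = 2 ^ v2f b := by unfold nilpBound; rw [if_neg hb]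
      rw [hA, hB, ← pow_add]
      exact le_trans (Nat.pow_le_pow_right (by norm_num) (v2f_add a b)) (two_pow_le_nilpBound _)

theorem nilpBound_mono {m n : ℕ} (h : m ≤ n) : nilpBound m ≤ nilpBound n := by
  have h1 := nilpBound_mul_le m (n - m)
  have e : m + (n - m) = n := by omega
  rw [e] at h1
  calc nilpBound m = nilpBound m * 1 := (mul_one _).symm
    _ ≤ nilpBound m * nilpBound (n - m) := Nat.mul_le_mul_left _ (nilpBound_pos _)
    _ ≤ nilpBound n := h1

theorem four_v2f_ge (n : ℕ) : 3 * n ≤ 4 * v2f n + 5 := by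
  have e : n = 4 * (n / 4) + n % 4 := by omega
  have h := v2f_four (n / 4) (n % 4) (Nat.mod_lt _ (by norm_num))
  rw [← e] at h
  have hr : n % 4 < 4 := Nat.mod_lt _ (by norm_num)
  omega

theorem eight_v2f_ge (n : ℕ) : 7 * n ≤ 8 * v2f n + 17 := by
  have e : n = 4 * (n / 4) + n % 4 := by omega
  have h := v2f_four (n / 4) (n % 4) (Nat.mod_lt _ (by norm_num))
  rw [← e] at h
  have hr : n % 4 < 4 := Nat.mod_lt _ (by norm_num)
  have h2 := two_mul_v2f_ge (n / 4)
  omega

theorem pow_four_le_five_pow (p : ℕ) (hp : 5 ≤ p) : p ^ 4 ≤ 5 ^ (p - 1) := by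
  induction p, hp using Nat.le_induction with
  | base => norm_num
  | succ p hp ih =>
    have e : p + 1 - 1 = (p - 1) + 1 := by omega
    rw [e, pow_succ 5 (p - 1)]
    have h1 : 5 * (p + 1) ≤ 6 * p := by omega
    have h2 : (5 * (p + 1)) ^ 4 ≤ (6 * p) ^ 4 := Nat.pow_le_pow_left h1 4
    have h3 : 625 * (p + 1) ^ 4 ≤ 1296 * p ^ 4 := by
      have e1 : (5 * (p + 1)) ^ 4 = 625 * (p + 1) ^ 4 := by ring
      have e2 : (6 * p) ^ 4 = 1296 * p ^ 4 := by ring
      rw [e1, e2] at h2
      exact h2
    generalize (p + 1) ^ 4 = A at h3 ⊢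
    generalize p ^ 4 = B at h3 ih
    generalize 5 ^ (p - 1) = C at ih ⊢
    omega

theorem five_pow_le (m : ℕ) : 5 ^ (m + 3) ≤ 2 ^ (3 * m + 7) := by
  induction m with
  | zero => norm_num
  | succ m ih =>
    have e1 : 5 ^ (m + 1 + 3) = 5 * 5 ^ (m + 3) := by ring
    have e2 : 2 ^ (3 * (m + 1) + 7) = 8 * 2 ^ (3 * m + 7) := by ring
    rw [e1, e2]
    omega

theorem eightyone_pow_le (m : ℕ) : 81 ^ (m + 16) ≤ 2 ^ (7 * m + 102) := by
  induction m with
  | zero => norm_num
  | succ m ih =>
    have e1 : 81 ^ (m + 1 + 16) = 81 * 81 ^ (m + 16) := by ring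
    have e2 : 2 ^ (7 * (m + 1) + 102) = 128 * 2 ^ (7 * m + 102) := by ring
    rw [e1, e2]
    omega

/-- For a prime `p ≥ 5`, the `p`-part of `n!` is at most its `2`-part. -/
theorem pow_padicValNat_factorial_le_of_five_le (p : ℕ) [Fact p.Prime] (hp : 5 ≤ p) (n : ℕ) :
    p ^ padicValNat p n.factorial ≤ 2 ^ v2f n := by
  rcases Nat.lt_or_ge n 4 with hn | hn
  · have : padicValNat p n.factorial = 0 := by
      apply padicValNat.eq_zero_of_not_dvd
      intro hd
      have := (Nat.Prime.dvd_factorial (Fact.out : p.Prime)).mp hd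
      omega
    rw [this, pow_zero]
    exact Nat.one_le_two_pow
  · have hw := sub_one_mul_padicValNat_factorial_lt_of_ne_zero p (n := n) (by omega)
    set w := padicValNat p n.factorial with hw_def
    have h1 : (p ^ w) ^ 4 ≤ 5 ^ (n - 1) := by
      calc (p ^ w) ^ 4 = (p ^ 4) ^ w := by rw [← pow_mul, ← pow_mul, mul_comm]
        _ ≤ (5 ^ (p - 1)) ^ w := Nat.pow_le_pow_left (pow_four_le_five_pow p hp) w
        _ = 5 ^ ((p - 1) * w) := by rw [← pow_mul]
        _ ≤ 5 ^ (n - 1) := Nat.pow_le_pow_right (by norm_num) (by omega)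
    have h2 : 5 ^ (n - 1) ≤ 2 ^ (3 * n - 5) := by
      have := five_pow_le (n - 4)
      have e1 : n - 4 + 3 = n - 1 := by omega
      have e2 : 3 * (n - 4) + 7 = 3 * n - 5 := by omega
      rw [e1, e2] at this
      exact this
    have h3 : 2 ^ (3 * n - 5) ≤ (2 ^ v2f n) ^ 4 := by
      rw [← pow_mul]
      apply Nat.pow_le_pow_right (by norm_num)
      have := four_v2f_ge n
      omega
    exact (Nat.pow_le_pow_iff_left (by norm_num : (4 : ℕ) ≠ 0)).mp (le_trans h1 (le_trans h2 h3))

/-- The `3`-part of `n!` is at most its `2`-part for `n ≥ 17`. -/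
theorem three_pow_padicValNat_factorial_le (n : ℕ) (hn : 17 ≤ n) :
    3 ^ padicValNat 3 n.factorial ≤ 2 ^ v2f n := by
  haveI : Fact (Nat.Prime 3) := ⟨Nat.prime_three⟩
  have hw := sub_one_mul_padicValNat_factorial_lt_of_ne_zero 3 (n := n) (by omega)
  set w := padicValNat 3 n.factorial with hw_def
  have h1 : (3 ^ w) ^ 8 ≤ 81 ^ (n - 1) := by
    calc (3 ^ w) ^ 8 = 81 ^ (2 * w) := by
          have : (81 : ℕ) = 3 ^ 4 := by norm_num
          rw [this, ← pow_mul, ← pow_mul]
          congr 1
          ring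
      _ ≤ 81 ^ (n - 1) := Nat.pow_le_pow_right (by norm_num) (by omega)
  have h2 : 81 ^ (n - 1) ≤ 2 ^ (7 * n - 17) := by
    have := eightyone_pow_le (n - 17)
    have e1 : n - 17 + 16 = n - 1 := by omega
    have e2 : 7 * (n - 17) + 102 = 7 * n - 17 := by omega
    rw [e1, e2] at this
    exact this
  have h3 : 2 ^ (7 * n - 17) ≤ (2 ^ v2f n) ^ 8 := by
    rw [← pow_mul]
    apply Nat.pow_le_pow_right (by norm_num)
    have := eight_v2f_ge n
    omega
  exact (Nat.pow_le_pow_iff_left (by norm_num : (8 : ℕ) ≠ 0)).mp (le_trans h1 (le_trans h2 h3))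

/-- The order of a transitive `p`-group of degree `n = p ^ j` is at most `nilpBound n`. -/
theorem pow_padicValNat_factorial_le_nilpBound (p : ℕ) [Fact p.Prime] (j : ℕ) :
    p ^ padicValNat p (p ^ j).factorial ≤ nilpBound (p ^ j) := by
  have hp : p.Prime := Fact.out
  rcases Nat.lt_or_ge p 5 with h5 | h5
  · have hp23 : p = 2 ∨ p = 3 := by
      have := hp.two_le
      rcases Nat.lt_or_ge p 4 with h4 | h4
      · omega
      · have : p = 4 := by omega
        rw [this] at hp
        exact absurd hp (by norm_num)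
    rcases hp23 with rfl | rfl
    · exact two_pow_le_nilpBound _
    · rcases Nat.lt_or_ge j 3 with hj | hj
      · interval_cases j
        · simp
          exact nilpBound_pos 1
        · -- n = 3
          have hw := sub_one_mul_padicValNat_factorial_lt_of_ne_zero 3 (n := 3 ^ 1) (by norm_num)
          have hw' : padicValNat 3 (3 ^ 1).factorial ≤ 1 := by omega
          have hb : nilpBound (3 ^ 1) = 3 := by
            unfold nilpBound
            norm_num [v2f_zero]
          rw [hb]
          calc 3 ^ padicValNat 3 (3 ^ 1).factorial ≤ 3 ^ 1 := Nat.pow_le_pow_right (by norm_num) hw'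
            _ = 3 := by norm_num
        · -- n = 9
          have hw := sub_one_mul_padicValNat_factorial_lt_of_ne_zero 3 (n := 3 ^ 2) (by norm_num)
          have hw' : padicValNat 3 (3 ^ 2).factorial ≤ 4 := by omega
          have h9 : v2f 8 ≤ v2f (3 ^ 2) := v2f_mono (by norm_num)
          rw [v2f_eight] at h9
          calc 3 ^ padicValNat 3 (3 ^ 2).factorial ≤ 3 ^ 4 := Nat.pow_le_pow_right (by norm_num) hw'
            _ ≤ 2 ^ 7 := by norm_num
            _ ≤ 2 ^ v2f (3 ^ 2) := Nat.pow_le_pow_right (by norm_num) h9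
            _ ≤ nilpBound (3 ^ 2) := two_pow_le_nilpBound _
      · have hn : 17 ≤ 3 ^ j := by
          calc 17 ≤ 3 ^ 3 := by norm_num
            _ ≤ 3 ^ j := Nat.pow_le_pow_right (by norm_num) hj
        exact le_trans (three_pow_padicValNat_factorial_le _ hn) (two_pow_le_nilpBound _)
  · exact le_trans (pow_padicValNat_factorial_le_of_five_le p h5 _) (two_pow_le_nilpBound _)

/-- In a nilpotent group, elements of coprime orders commute. -/
theorem commute_of_coprime_orderOf (G : Type*) [Group G] [Group.IsNilpotent G] :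
    ∀ x y : G, (orderOf x).Coprime (orderOf y) → Commute x y := by
  refine Group.nilpotent_center_quotient_ind
    (P := fun G _ _ => ∀ x y : G, (orderOf x).Coprime (orderOf y) → Commute x y) G ?_ ?_
  · intro G _ _ x y _
    exact Subsingleton.elim _ _
  · intro G _ _ ih x y hxy
    have h1 : Commute (QuotientGroup.mk x : G ⧸ Subgroup.center G) (QuotientGroup.mk y) := by
      apply ih
      exact Nat.Coprime.of_dvd
        (orderOf_map_dvd (QuotientGroup.mk' (Subgroup.center G)) x)
        (orderOf_map_dvd (QuotientGroup.mk' (Subgroup.center G)) y) hxy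
    have hcm : x * y * x⁻¹ * y⁻¹ ∈ Subgroup.center G := by
      rw [← QuotientGroup.eq_one_iff]
      simp only [QuotientGroup.mk_mul, QuotientGroup.mk_inv]
      rw [h1.eq]
      group
    obtain ⟨c, hc_def⟩ : ∃ c, c = x * y * x⁻¹ * y⁻¹ := ⟨_, rfl⟩
    rw [← hc_def] at hcm
    have hck : ∀ (k : ℕ) (g : G), g * c ^ k = c ^ k * g := by
      intro k g
      have := Subgroup.pow_mem _ hcm k
      rw [Subgroup.mem_center_iff] at this
      exact this g
    have e0 : x * y = c * y * x := by rw [hc_def]; group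
    have e1 : ∀ k : ℕ, x ^ k * y = c ^ k * y * x ^ k := by
      intro k
      induction k with
      | zero => simp
      | succ k ihk =>
        calc x ^ (k + 1) * y = x * (x ^ k * y) := by rw [pow_succ']; group
          _ = x * (c ^ k * y * x ^ k) := by rw [ihk]
          _ = (x * c ^ k) * y * x ^ k := by group
          _ = (c ^ k * x) * y * x ^ k := by rw [hck k x]
          _ = c ^ k * (x * y) * x ^ k := by group
          _ = c ^ k * (c * y * x) * x ^ k := by rw [e0]
          _ = c ^ (k + 1) * y * x ^ (k + 1) := by rw [pow_succ, pow_succ']; group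
    have e2 : ∀ k : ℕ, x * y ^ k = c ^ k * y ^ k * x := by
      intro k
      induction k with
      | zero => simp
      | succ k ihk =>
        calc x * y ^ (k + 1) = (x * y ^ k) * y := by rw [pow_succ]; group
          _ = (c ^ k * y ^ k * x) * y := by rw [ihk]
          _ = c ^ k * y ^ k * (x * y) := by group
          _ = c ^ k * y ^ k * (c * y * x) := by rw [e0]
          _ = c ^ k * (y ^ k * c) * y * x := by group
          _ = c ^ k * (c * y ^ k) * y * x := by
              have := hck 1 (y ^ k)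
              rw [pow_one] at this
              rw [this]
          _ = c ^ (k + 1) * y ^ (k + 1) * x := by rw [pow_succ, pow_succ]; group
    have h2 : c ^ orderOf x = 1 := by
      have := e1 (orderOf x)
      rw [pow_orderOf_eq_one, one_mul, mul_one] at this
      exact mul_right_cancel (b := y) (by rw [one_mul]; exact this.symm)
    have h3 : c ^ orderOf y = 1 := by
      have := e2 (orderOf y)
      rw [pow_orderOf_eq_one, mul_one, mul_one] at this
      exact mul_right_cancel (b := x) (by rw [one_mul]; exact this.symm)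
    have h4 := pow_gcd_eq_one.mpr ⟨h2, h3⟩
    rw [hxy.gcd_eq_one, pow_one] at h4
    rw [h4, one_mul] at e0
    exact e0

section ProductAction

variable {G X : Type*} [Group G] [MulAction G X] (A B : Subgroup G)

theorem smul_eq_of_mul_smul_eq (hcomm : ∀ a ∈ A, ∀ b ∈ B, a * b = b * a)
    (hcop : (Nat.card A).Coprime (Nat.card B)) (ω : X) (a b : G) (ha : a ∈ A) (hb : b ∈ B)
    (h : (a * b) • ω = ω) : a • ω = ω ∧ b • ω = ω := by
  have hs : a * b ∈ MulAction.stabilizer G ω := h
  have h1 : (a * b) ^ Nat.card B ∈ MulAction.stabilizer G ω := Subgroup.pow_mem _ hs _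
  have hbB : b ^ Nat.card B = 1 := by
    have := pow_card_eq_one' (G := B) (x := ⟨b, hb⟩)
    exact congrArg Subtype.val this
  have hc : Commute a b := hcomm a ha b hb
  rw [hc.mul_pow, hbB, mul_one] at h1
  have hord : orderOf a ∣ Nat.card A := by
    have := orderOf_dvd_natCard (⟨a, ha⟩ : A)
    rwa [← Subgroup.orderOf_coe] at this
  have hcop' : (Nat.card B).Coprime (orderOf a) := (Nat.Coprime.coprime_dvd_left hord hcop).symm
  obtain ⟨m, hm⟩ := exists_pow_eq_self_of_coprime hcop'
  have ha' : a ∈ MulAction.stabilizer G ω := by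
    rw [← hm]
    exact Subgroup.pow_mem _ h1 _
  refine ⟨ha', ?_⟩
  have e : b = a⁻¹ * (a * b) := by group
  have hb' : b ∈ MulAction.stabilizer G ω := by
    rw [e]
    exact Subgroup.mul_mem _ (Subgroup.inv_mem _ ha') hs
  exact hb'

theorem smul_eq_smul_of_orbit_left (hcomm : ∀ a ∈ A, ∀ b ∈ B, a * b = b * a) (ω : X)
    (htr : ∀ x : X, ∃ a ∈ A, ∃ b ∈ B, (a * b) • ω = x) (a a' : G) (ha : a ∈ A) (ha' : a' ∈ A)
    (h : ∀ c ∈ A, a • (c • ω) = a' • (c • ω)) : ∀ x : X, a • x = a' • x := by
  intro x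
  obtain ⟨c, hc, b, hb, rfl⟩ := htr x
  calc a • ((c * b) • ω) = ((a * c) * b) • ω := by rw [smul_smul, mul_assoc]
    _ = (b * (a * c)) • ω := by rw [hcomm (a * c) (A.mul_mem ha hc) b hb]
    _ = b • (a • (c • ω)) := by rw [mul_smul, mul_smul]
    _ = b • (a' • (c • ω)) := by rw [h c hc]
    _ = (b * (a' * c)) • ω := by rw [mul_smul, mul_smul]
    _ = ((a' * c) * b) • ω := by rw [hcomm (a' * c) (A.mul_mem ha' hc) b hb]
    _ = a' • ((c * b) • ω) := by rw [smul_smul, mul_assoc]

theorem smul_eq_smul_of_orbit_right (hcomm : ∀ a ∈ A, ∀ b ∈ B, a * b = b * a) (ω : X)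
    (htr : ∀ x : X, ∃ a ∈ A, ∃ b ∈ B, (a * b) • ω = x) (b b' : G) (hb : b ∈ B) (hb' : b' ∈ B)
    (h : ∀ c ∈ B, b • (c • ω) = b' • (c • ω)) : ∀ x : X, b • x = b' • x := by
  intro x
  obtain ⟨a, ha, c, hc, rfl⟩ := htr x
  calc b • ((a * c) • ω) = (b * a) • (c • ω) := by rw [mul_smul, mul_smul]
    _ = (a * b) • (c • ω) := by rw [hcomm a ha b hb]
    _ = a • (b • (c • ω)) := by rw [mul_smul]
    _ = a • (b' • (c • ω)) := by rw [h c hc]
    _ = (a * b') • (c • ω) := by rw [mul_smul]
    _ = (b' * a) • (c • ω) := by rw [hcomm a ha b' hb']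
    _ = b' • ((a * c) • ω) := by rw [mul_smul, mul_smul]

theorem card_eq_card_orbit_mul_card_orbit [Finite X] (hcomm : ∀ a ∈ A, ∀ b ∈ B, a * b = b * a)
    (hcop : (Nat.card A).Coprime (Nat.card B)) (ω : X)
    (htr : ∀ x : X, ∃ a ∈ A, ∃ b ∈ B, (a * b) • ω = x) :
    Nat.card X = Nat.card (MulAction.orbit A ω) * Nat.card (MulAction.orbit B ω) := by
  classical
  have hA : ∀ y : MulAction.orbit A ω, ∃ a : G, a ∈ A ∧ a • ω = (y : X) := by
    rintro ⟨y, ⟨a, rfl⟩⟩
    exact ⟨a.1, a.2, rfl⟩
  have hB : ∀ y : MulAction.orbit B ω, ∃ b : G, b ∈ B ∧ b • ω = (y : X) := by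
    rintro ⟨y, ⟨b, rfl⟩⟩
    exact ⟨b.1, b.2, rfl⟩
  choose fa hfa hfa' using hA
  choose fb hfb hfb' using hB
  have hinj : Function.Injective
      (fun y : MulAction.orbit A ω × MulAction.orbit B ω => (fa y.1 * fb y.2) • ω) := by
    rintro ⟨y₁, z₁⟩ ⟨y₂, z₂⟩ h
    have h0 : (fa y₁ * fb z₁) • ω = (fa y₂ * fb z₂) • ω := h
    have hc1 : ((fa y₂)⁻¹ * fa y₁) * (fb z₂)⁻¹ = (fb z₂)⁻¹ * ((fa y₂)⁻¹ * fa y₁) :=
      hcomm _ (A.mul_mem (A.inv_mem (hfa y₂)) (hfa y₁)) _ (B.inv_mem (hfb z₂))
    have e : ((fa y₂)⁻¹ * fa y₁) * ((fb z₂)⁻¹ * fb z₁) = (fa y₂ * fb z₂)⁻¹ * (fa y₁ * fb z₁) := by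
      calc ((fa y₂)⁻¹ * fa y₁) * ((fb z₂)⁻¹ * fb z₁)
          = (((fa y₂)⁻¹ * fa y₁) * (fb z₂)⁻¹) * fb z₁ := by group
        _ = ((fb z₂)⁻¹ * ((fa y₂)⁻¹ * fa y₁)) * fb z₁ := by rw [hc1]
        _ = (fa y₂ * fb z₂)⁻¹ * (fa y₁ * fb z₁) := by group
    have h' : (((fa y₂)⁻¹ * fa y₁) * ((fb z₂)⁻¹ * fb z₁)) • ω = ω := by
      rw [e, mul_smul, h0, ← mul_smul, inv_mul_cancel, one_smul]
    obtain ⟨k1, k2⟩ := smul_eq_of_mul_smul_eq A B hcomm hcop ω _ _
      (A.mul_mem (A.inv_mem (hfa y₂)) (hfa y₁)) (B.mul_mem (B.inv_mem (hfb z₂)) (hfb z₁)) h'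
    have r1 : fa y₁ • ω = fa y₂ • ω := by
      rw [mul_smul, inv_smul_eq_iff] at k1
      exact k1
    have r2 : fb z₁ • ω = fb z₂ • ω := by
      rw [mul_smul, inv_smul_eq_iff] at k2
      exact k2
    rw [hfa', hfa'] at r1
    rw [hfb', hfb'] at r2
    exact Prod.ext (Subtype.ext r1) (Subtype.ext r2)
  have hsurj : Function.Surjective
      (fun y : MulAction.orbit A ω × MulAction.orbit B ω => (fa y.1 * fb y.2) • ω) := by
    intro x
    obtain ⟨a, ha, b, hb, rfl⟩ := htr x
    refine ⟨(⟨a • ω, ⟨⟨a, ha⟩, rfl⟩⟩, ⟨b • ω, ⟨⟨b, hb⟩, rfl⟩⟩), ?_⟩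
    have r1 := hfa' ⟨a • ω, ⟨⟨a, ha⟩, rfl⟩⟩
    have r2 := hfb' ⟨b • ω, ⟨⟨b, hb⟩, rfl⟩⟩
    have m1 := hfa ⟨a • ω, ⟨⟨a, ha⟩, rfl⟩⟩
    beta_reduce
    generalize fa ⟨a • ω, ⟨⟨a, ha⟩, rfl⟩⟩ = a₁ at r1 m1 ⊢
    generalize fb ⟨b • ω, ⟨⟨b, hb⟩, rfl⟩⟩ = b₁ at r2 ⊢
    have r1' : a₁ • ω = a • ω := r1
    have r2' : b₁ • ω = b • ω := r2
    calc (a₁ * b₁) • ω = a₁ • (b • ω) := by rw [mul_smul, r2']
      _ = (b * a₁) • ω := by rw [← mul_smul, hcomm a₁ m1 b hb]
      _ = b • (a • ω) := by rw [mul_smul, r1']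
      _ = (a * b) • ω := by rw [← mul_smul, hcomm a ha b hb]
  have := Nat.card_congr (Equiv.ofBijective _ ⟨hinj, hsurj⟩)
  rw [Nat.card_prod] at this
  exact this.symm

end ProductAction

/-- A finite nilpotent group acting faithfully on `n` points has order at most `nilpBound n`. -/
theorem card_le_nilpBound (n : ℕ) : ∀ (X : Type) [Finite X] (G : Type) [Group G] [Finite G]
    [Group.IsNilpotent G] [MulAction G X] [FaithfulSMul G X], Nat.card X = n →
    Nat.card G ≤ nilpBound n := by
  induction n using Nat.strong_induction_on with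
  | _ n ih =>
  intro X _ G _ _ _ _ _ hX
  classical
  by_cases htriv : Subsingleton G
  · have h1 : Nat.card G ≤ 1 := Finite.card_le_one_iff_subsingleton.mpr htriv
    exact le_trans h1 (nilpBound_pos n)
  rw [not_subsingleton_iff_nontrivial] at htriv
  by_cases hT : MulAction.IsPretransitive G X
  · -- transitive
    have hne : Nonempty X := by
      by_contra hne
      rw [not_nonempty_iff] at hne
      obtain ⟨g, hg⟩ := exists_ne (1 : G)
      apply hg
      apply FaithfulSMul.eq_of_smul_eq_smul (α := X)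
      intro x
      exact (hne.false x).elim
    obtain ⟨ω⟩ := hne
    by_cases hpg : ∃ p : ℕ, p.Prime ∧ IsPGroup p G
    · obtain ⟨p, hp, hG⟩ := hpg
      haveI : Fact p.Prime := ⟨hp⟩
      obtain ⟨j, hj⟩ := hG.index (MulAction.stabilizer G ω)
      rw [MulAction.index_stabilizer_of_transitive, hX] at hj
      obtain ⟨k, hk⟩ := IsPGroup.iff_card.mp hG
      have hdvd : Nat.card G ∣ n.factorial := by
        have hinj : Function.Injective (MulAction.toPermHom G X) := MulAction.toPerm_injective
        have h1 : Nat.card G = Nat.card (MulAction.toPermHom G X).range :=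
          Nat.card_congr (MonoidHom.ofInjective hinj).toEquiv
        rw [h1, ← hX, ← Nat.card_perm]
        exact Subgroup.card_subgroup_dvd_card _
      rw [hk] at hdvd ⊢
      have hkle : k ≤ padicValNat p n.factorial :=
        (padicValNat_dvd_iff_le (Nat.factorial_ne_zero n)).mp hdvd
      calc p ^ k ≤ p ^ padicValNat p n.factorial := Nat.pow_le_pow_right hp.pos hkle
        _ ≤ nilpBound n := by
          rw [hj]
          exact pow_padicValNat_factorial_le_nilpBound p j
    · -- not a p-group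
      push_neg at hpg
      have hcard : Nat.card G ≠ 1 := by
        intro h1
        have : Subsingleton G := Finite.card_le_one_iff_subsingleton.mp (le_of_eq h1)
        exact not_subsingleton G this
      obtain ⟨p, hp, hpd⟩ := Nat.exists_prime_and_dvd hcard
      haveI : Fact p.Prime := ⟨hp⟩
      obtain ⟨P⟩ : Nonempty (Sylow p G) := inferInstance
      obtain ⟨K, hK⟩ := Subgroup.exists_right_complement'_of_coprime (N := (P : Subgroup G))
        P.card_coprime_index
      have hPK : Nat.card (P : Subgroup G) * Nat.card K = Nat.card G := hK.card_mul_card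
      have hKidx : Nat.card K = (P : Subgroup G).index := by
        have h2 := (P : Subgroup G).card_mul_index
        have hpos : 0 < Nat.card (P : Subgroup G) := Nat.card_pos
        apply Nat.eq_of_mul_eq_mul_left hpos
        rw [hPK, h2]
      have hcop : (Nat.card (P : Subgroup G)).Coprime (Nat.card K) := by
        rw [hKidx]
        exact P.card_coprime_index
      have hcomm : ∀ a ∈ (P : Subgroup G), ∀ b ∈ K, a * b = b * a := by
        intro a ha b hb
        apply commute_of_coprime_orderOf G a b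
        have h1 : orderOf a ∣ Nat.card (P : Subgroup G) := by
          have := orderOf_dvd_natCard (⟨a, ha⟩ : (P : Subgroup G))
          rwa [← Subgroup.orderOf_coe] at this
        have h2 : orderOf b ∣ Nat.card K := by
          have := orderOf_dvd_natCard (⟨b, hb⟩ : K)
          rwa [← Subgroup.orderOf_coe] at this
        exact Nat.Coprime.of_dvd h1 h2 hcop
      have hprod : ∀ g : G, ∃ a ∈ (P : Subgroup G), ∃ b ∈ K, g = a * b := by
        intro g
        obtain ⟨⟨a, b⟩, hab⟩ := hK.2 g
        exact ⟨a.1, a.2, b.1, b.2, hab.symm⟩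
      have htr : ∀ x : X, ∃ a ∈ (P : Subgroup G), ∃ b ∈ K, (a * b) • ω = x := by
        intro x
        obtain ⟨g, hg⟩ := MulAction.exists_smul_eq G ω x
        obtain ⟨a, ha, b, hb, rfl⟩ := hprod g
        exact ⟨a, ha, b, hb, hg⟩
      haveI fP : FaithfulSMul (P : Subgroup G) (MulAction.orbit (P : Subgroup G) ω) := by
        refine ⟨fun {a a'} h => ?_⟩
        apply Subtype.ext
        apply FaithfulSMul.eq_of_smul_eq_smul (α := X)
        apply smul_eq_smul_of_orbit_left (P : Subgroup G) K hcomm ω htr a.1 a'.1 a.2 a'.2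
        intro c hc
        have := congrArg Subtype.val (h ⟨c • ω, ⟨⟨c, hc⟩, rfl⟩⟩)
        exact this
      haveI fK : FaithfulSMul K (MulAction.orbit K ω) := by
        refine ⟨fun {a a'} h => ?_⟩
        apply Subtype.ext
        apply FaithfulSMul.eq_of_smul_eq_smul (α := X)
        apply smul_eq_smul_of_orbit_right (P : Subgroup G) K hcomm ω htr a.1 a'.1 a.2 a'.2
        intro c hc
        have := congrArg Subtype.val (h ⟨c • ω, ⟨⟨c, hc⟩, rfl⟩⟩)
        exact this
      have hdm : n = Nat.card (MulAction.orbit (P : Subgroup G) ω) *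
          Nat.card (MulAction.orbit K ω) := by
        rw [← hX]
        exact card_eq_card_orbit_mul_card_orbit (P : Subgroup G) K hcomm hcop ω htr
      have hPcard : Nat.card (P : Subgroup G) ≠ 1 := by
        rw [P.card_eq_multiplicity]
        have hpos : 0 < (Nat.card G).factorization p :=
          Nat.Prime.factorization_pos_of_dvd hp Nat.card_pos.ne' hpd
        intro h1
        have : 1 < p ^ (Nat.card G).factorization p := Nat.one_lt_pow hpos.ne' hp.one_lt
        omega
      have hKcard : Nat.card K ≠ 1 := by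
        intro h1
        rw [h1, mul_one, P.card_eq_multiplicity] at hPK
        exact hpg p hp (IsPGroup.of_card hPK.symm)
      have hd1 : Nat.card (MulAction.orbit (P : Subgroup G) ω) ≠ 1 := by
        intro h1
        have hsub : Subsingleton (MulAction.orbit (P : Subgroup G) ω) :=
          Finite.card_le_one_iff_subsingleton.mp (le_of_eq h1)
        apply hPcard
        have : Subsingleton (P : Subgroup G) := by
          refine ⟨fun a a' => ?_⟩
          apply FaithfulSMul.eq_of_smul_eq_smul (α := MulAction.orbit (P : Subgroup G) ω)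
          intro y
          exact Subsingleton.elim _ _
        exact le_antisymm (Finite.card_le_one_iff_subsingleton.mpr this) Nat.card_pos
      have hm1 : Nat.card (MulAction.orbit K ω) ≠ 1 := by
        intro h1
        have hsub : Subsingleton (MulAction.orbit K ω) :=
          Finite.card_le_one_iff_subsingleton.mp (le_of_eq h1)
        apply hKcard
        have : Subsingleton K := by
          refine ⟨fun a a' => ?_⟩
          apply FaithfulSMul.eq_of_smul_eq_smul (α := MulAction.orbit K ω)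
          intro y
          exact Subsingleton.elim _ _
        exact le_antisymm (Finite.card_le_one_iff_subsingleton.mpr this) Nat.card_pos
      haveI : Nonempty (MulAction.orbit (P : Subgroup G) ω) :=
        ⟨⟨ω, MulAction.mem_orbit_self ω⟩⟩
      haveI : Nonempty (MulAction.orbit K ω) := ⟨⟨ω, MulAction.mem_orbit_self ω⟩⟩
      have hd0 : 0 < Nat.card (MulAction.orbit (P : Subgroup G) ω) := Nat.card_pos
      have hm0 : 0 < Nat.card (MulAction.orbit K ω) := Nat.card_pos
      generalize hd : Nat.card (MulAction.orbit (P : Subgroup G) ω) = d at hdm hd1 hd0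
      generalize hm : Nat.card (MulAction.orbit K ω) = m at hdm hm1 hm0
      have hd2 : 2 ≤ d := by omega
      have hm2 : 2 ≤ m := by omega
      have hdn : d < n := by rw [hdm]; nlinarith
      have hmn : m < n := by rw [hdm]; nlinarith
      have h1 := ih d hdn (MulAction.orbit (P : Subgroup G) ω) (P : Subgroup G) hd
      have h2 := ih m hmn (MulAction.orbit K ω) K hm
      calc Nat.card G = Nat.card (P : Subgroup G) * Nat.card K := hPK.symm
        _ ≤ nilpBound d * nilpBound m := Nat.mul_le_mul h1 h2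
        _ ≤ nilpBound (d + m) := nilpBound_mul_le d m
        _ ≤ nilpBound n := nilpBound_mono (by rw [hdm]; nlinarith)
  · -- not transitive
    have hex : ∃ x y : X, y ∉ MulAction.orbit G x := by
      by_contra hcon
      push_neg at hcon
      exact hT ⟨fun x y => hcon x y⟩
    obtain ⟨x, y, hy⟩ := hex
    let S₁ : SubMulAction G X :=
      { carrier := MulAction.orbit G x
        smul_mem' := by
          rintro c z ⟨g, rfl⟩
          exact ⟨c * g, mul_smul c g x⟩ }
    let S₂ : SubMulAction G X :=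
      { carrier := (MulAction.orbit G x)ᶜ
        smul_mem' := by
          rintro c z hz ⟨g, hg⟩
          apply hz
          refine ⟨c⁻¹ * g, ?_⟩
          show (c⁻¹ * g) • x = z
          have hg' : g • x = c • z := hg
          rw [mul_smul, hg', inv_smul_smul] }
    have hinj : Function.Injective (fun g : G =>
        ((MulAction.toPermHom G S₁).rangeRestrict g, (MulAction.toPermHom G S₂).rangeRestrict g)) := by
      intro g g' h
      have h1 : MulAction.toPermHom G S₁ g = MulAction.toPermHom G S₁ g' :=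
        congrArg Subtype.val (congrArg Prod.fst h)
      have h2 : MulAction.toPermHom G S₂ g = MulAction.toPermHom G S₂ g' :=
        congrArg Subtype.val (congrArg Prod.snd h)
      apply FaithfulSMul.eq_of_smul_eq_smul (α := X)
      intro z
      by_cases hz : z ∈ MulAction.orbit G x
      · have := congrArg (fun f : Equiv.Perm S₁ => ((f ⟨z, hz⟩ : S₁) : X)) h1
        exact this
      · have := congrArg (fun f : Equiv.Perm S₂ => ((f ⟨z, hz⟩ : S₂) : X)) h2
        exact this
    have hle : Nat.card G ≤ Nat.card (MulAction.toPermHom G S₁).range *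
        Nat.card (MulAction.toPermHom G S₂).range := by
      rw [← Nat.card_prod]
      exact Nat.card_le_card_of_injective _ hinj
    have hc : Nat.card S₁ + Nat.card S₂ = n := by
      rw [← hX]
      have := Nat.card_congr (Equiv.Set.sumCompl (MulAction.orbit G x))
      rw [Nat.card_sum] at this
      exact this
    haveI : Nonempty S₁ := ⟨⟨x, MulAction.mem_orbit_self x⟩⟩
    haveI : Nonempty S₂ := ⟨⟨y, hy⟩⟩
    have hc1 : 0 < Nat.card S₁ := Nat.card_pos
    have hc2 : 0 < Nat.card S₂ := Nat.card_pos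
    haveI : Group.IsNilpotent (MulAction.toPermHom G S₁).range :=
      Group.nilpotent_of_surjective (MulAction.toPermHom G S₁).rangeRestrict
        (MulAction.toPermHom G S₁).rangeRestrict_surjective
    haveI : Group.IsNilpotent (MulAction.toPermHom G S₂).range :=
      Group.nilpotent_of_surjective (MulAction.toPermHom G S₂).rangeRestrict
        (MulAction.toPermHom G S₂).rangeRestrict_surjective
    have h1 := ih (Nat.card S₁) (by omega) S₁ (MulAction.toPermHom G S₁).range rfl
    have h2 := ih (Nat.card S₂) (by omega) S₂ (MulAction.toPermHom G S₂).range rfl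
    calc Nat.card G ≤ Nat.card (MulAction.toPermHom G S₁).range *
          Nat.card (MulAction.toPermHom G S₂).range := hle
      _ ≤ nilpBound (Nat.card S₁) * nilpBound (Nat.card S₂) := Nat.mul_le_mul h1 h2
      _ ≤ nilpBound (Nat.card S₁ + Nat.card S₂) := nilpBound_mul_le _ _
      _ = nilpBound n := by rw [hc]

/-- Nilpotent subgroups of `S_n` have order at most `nilpBound n`. -/
theorem card_nilpotent_subgroup_perm_le (n : ℕ) (N : Subgroup (Equiv.Perm (Fin n)))
    (hN : Group.IsNilpotent N) : Nat.card N ≤ nilpBound n := by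
  haveI := hN
  exact card_le_nilpBound n (Fin n) N (by simp)

end Cfsg.Agent.Lib.helper69
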