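import Mathlib
import Cfsg.Prelude.Def_Characters
import Cfsg.Prelude.Def_Blocks
import Cfsg.Agent.Lib.helper84.BrDefs
import Cfsg.Agent.Lib.helper4.DefectZero
import Cfsg.Agent.Lib.helper82.CharInt
import Cfsg.Agent.Lib.helper81.WBO
import Cfsg.Agent.Lib.helper20.Basic

/-!
S0997 split project, piece SMALL (helper69): a non-trivial character of degree dividing `g₀` in
the principal `p`-block.
-/

set_option autoImplicit false

namespace Cfsg.Agent.Lib.helper69.BU

open Cfsg Cfsg.Agent.Lib Cfsg.Agent.Lib.helper81 Cfsg.Agent.Lib.helper84.Br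
open scoped ComplexConjugate

universe u

section pieces

variable {G : Type u} [Group G] [Fintype G]

variable {p : ℕ} [Fact p.Prime] {P : Sylow p G} {e : ℕ}

/-- SMALL : a non-trivial character of degree dividing `g₀` in the principal `p`-block. -/
theorem exists_small (q b g₀ : ℕ) (hq : q.Prime) (hpq : p ≠ q)
    (hcard : Nat.card G = p * q ^ b * g₀) (hg : g₀ < p)
    (M : Ideal AlgInt) (hM : IsPModular p M) :
    ∃ θ : IrrCharacter G, θ ∈ principalBlock M G ∧ θ ≠ trivChar G ∧
      charDegree (θ : G → ℂ) ∣ g₀ := by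
  classical
  have hp : p.Prime := Fact.out
  by_contra hcon
  push Not at hcon
  have hMp := helper20.isPrime_of_isPModular hM
  have hB : IsPBlock M (principalBlock M G) := helper81.isPBlock_principalBlock
  have hg0 : g₀ ≠ 0 := by
    intro h
    rw [h, mul_zero] at hcard
    exact (Nat.card_pos (α := G)).ne' hcard
  have hpG : p ∣ Nat.card G := by
    rw [hcard, mul_assoc]; exact dvd_mul_right _ _
  obtain ⟨y₀, hy₀⟩ := exists_prime_orderOf_dvd_card' p hpG
  have hw := helper81.wbo hM (B := principalBlock M G)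
    (fun g => helper81.memLocalRing_blockCoeff hMp hB g) (x := (1 : G)) (y₀ := y₀)
    (by rw [orderOf_one]; exact hp.one_lt.ne' ∘ Nat.dvd_one.mp)
    (by rw [hy₀])
  rw [← Finset.add_sum_erase Finset.univ _ (Finset.mem_univ (helper81.trivChar G))] at hw
  rw [if_pos (helper81.trivChar_mem_principalBlock hMp)] at hw
  simp only [helper81.trivChar_apply, map_one, mul_one] at hw
  have hp2 : ¬ p ^ (1 + 1) ∣ Nat.card G := by
    intro h
    rw [hcard, pow_succ, pow_one, mul_assoc] at h
    have h1 : p ∣ q ^ b * g₀ := Nat.dvd_of_mul_dvd_mul_left hp.pos h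
    rcases (Nat.Prime.dvd_mul hp).mp h1 with h2 | h2
    · exact hpq ((Nat.prime_dvd_prime_iff_eq hp hq).mp (hp.dvd_of_dvd_pow h2))
    · exact absurd (Nat.le_of_dvd (Nat.pos_of_ne_zero hg0) h2) (not_le.mpr hg)
  have hterm : ∀ χ ∈ Finset.univ.erase (helper81.trivChar G),
      (if χ ∈ principalBlock M G then (χ : G → ℂ) 1 * conj ((χ : G → ℂ) y₀) else 0) =
      (q : ℂ) * (if χ ∈ principalBlock M G then
        ((charDegree (χ : G → ℂ) / q : ℕ) : ℂ) * conj ((χ : G → ℂ) y₀) else 0) := by
    intro χ hχ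
    have hne := Finset.ne_of_mem_erase hχ
    by_cases hmem : χ ∈ principalBlock M G
    · rw [if_pos hmem, if_pos hmem]
      by_cases hqd : q ∣ charDegree (χ : G → ℂ)
      · obtain ⟨k, hk⟩ := hqd
        rw [helper81.irr_one_eq_charDegree, hk, Nat.mul_div_cancel_left k hq.pos]
        push_cast; ring
      · have hpd : p ∣ charDegree (χ : G → ℂ) := by
          by_contra hpd
          have hd := helper81.irr_degree_dvd_card χ
          rw [hcard, mul_assoc] at hd
          have h1 : charDegree (χ : G → ℂ) ∣ q ^ b * g₀ :=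
            (Nat.Coprime.dvd_mul_left
              (Nat.Coprime.symm ((Nat.Prime.coprime_iff_not_dvd hp).mpr hpd))).mp hd
          have h2 : charDegree (χ : G → ℂ) ∣ g₀ :=
            (Nat.Coprime.dvd_mul_left (Nat.Coprime.pow_right b
              (Nat.Coprime.symm ((Nat.Prime.coprime_iff_not_dvd hq).mpr hqd)))).mp h1
          exact hcon χ hmem hne h2
        have h0 : (χ : G → ℂ) y₀ = 0 := by
          obtain ⟨n, ρ, hρ, hρχ⟩ := χ.2
          have hfin : Module.finrank ℂ (Fin n → ℂ) = charDegree (χ : G → ℂ) := by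
            rw [← hρχ]; exact (helper82.charDegree_char ρ).symm
          rw [← hρχ]
          exact helper4.char_eq_zero_of_defect_zero ρ p 1 hp hp2
            (by rw [pow_one, hfin]; exact hpd) y₀ (by rw [hy₀])
        rw [h0, map_zero, mul_zero, mul_zero, mul_zero]
    · rw [if_neg hmem, if_neg hmem, mul_zero]
  rw [Finset.sum_congr rfl hterm, ← Finset.mul_sum] at hw
  have hSint : IsIntegral ℤ (∑ χ ∈ Finset.univ.erase (helper81.trivChar G),
      (if χ ∈ principalBlock M G then
        ((charDegree (χ : G → ℂ) / q : ℕ) : ℂ) * conj ((χ : G → ℂ) y₀) else 0)) := by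
    apply IsIntegral.sum
    intro χ _
    split_ifs
    · refine (isIntegral_natCast _).mul ?_
      rw [← helper81.irr_inv]
      exact helper81.irr_isIntegral χ y₀⁻¹
    · exact isIntegral_zero
  have hq0 : (q : ℂ) ≠ 0 := Nat.cast_ne_zero.mpr hq.ne_zero
  have h1 : ((1 : ℕ) : ℂ) / (q : ℂ) = -(∑ χ ∈ Finset.univ.erase (helper81.trivChar G),
      (if χ ∈ principalBlock M G then
        ((charDegree (χ : G → ℂ) / q : ℕ) : ℂ) * conj ((χ : G → ℂ) y₀) else 0)) := by
    rw [div_eq_iff hq0]
    push_cast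
    linear_combination hw
  have h2 := helper81.dvd_of_isIntegral_div hq.ne_zero (h1 ▸ hSint.neg)
  exact hq.one_lt.ne' (Nat.dvd_one.mp h2)

end pieces

end Cfsg.Agent.Lib.helper69.BU
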