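import Mathlib
import Cfsg.Prelude.Def_Characters
import Cfsg.Prelude.Def_Blocks
import Cfsg.Agent.Lib.helper84.BrDefs
import Cfsg.Agent.Lib.helper4.DefectZero
import Cfsg.Agent.Lib.helper82.CharInt

/-!
S0997 split project, piece VR (helper69): a character of degree `g₀` vanishes on the non-identity
elements of order prime to `p q`.
-/

set_option autoImplicit false

namespace Cfsg.Agent.Lib.helper69.BU

open Cfsg Cfsg.Agent.Lib Cfsg.Agent.Lib.helper81 Cfsg.Agent.Lib.helper84.Br
open scoped ComplexConjugate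

universe u

section pieces

variable {G : Type u} [Group G] [Fintype G]

variable {p : ℕ} [Fact p.Prime] {P : Sylow p G} {e : ℕ}

/-- VR : a character of degree `g₀` vanishes on the non-identity elements of order prime to
`p q` (defect zero for the primes dividing `g₀`). -/
theorem vanish_rest (q b g₀ : ℕ) (hq : q.Prime) (hpq : p ≠ q)
    (hcard : Nat.card G = p * q ^ b * g₀) (hg : g₀ < p)
    (θ : IrrCharacter G) (hθ : charDegree (θ : G → ℂ) = g₀) (g : G) (hg1 : g ≠ 1)
    (hgp : ¬ p ∣ orderOf g) (hgq : ¬ q ∣ orderOf g) : (θ : G → ℂ) g = 0 := by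
  classical
  have hp : p.Prime := Fact.out
  have ho : orderOf g ≠ 1 := fun h => hg1 (orderOf_eq_one_iff.mp h)
  obtain ⟨r, hr, hrg⟩ := Nat.exists_prime_and_dvd ho
  have hrp : r ≠ p := fun h => hgp (h ▸ hrg)
  have hrq : r ≠ q := fun h => hgq (h ▸ hrg)
  have hg0 : g₀ ≠ 0 := by
    intro h
    rw [h, mul_zero] at hcard
    exact (Nat.card_pos (α := G)).ne' hcard
  obtain ⟨n, m, hm, hgm⟩ := Nat.exists_eq_pow_mul_and_not_dvd hg0 r hr.ne_one
  have hn' : ¬ r ^ (n + 1) ∣ Nat.card G := by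
    intro h
    rw [hcard, hgm] at h
    have h0 : r ^ (n + 1) ∣ r ^ n * (p * q ^ b * m) := by
      have he : r ^ n * (p * q ^ b * m) = p * q ^ b * (r ^ n * m) := by ring
      rw [he]; exact h
    rw [pow_succ] at h0
    have h1 : r ∣ p * q ^ b * m := Nat.dvd_of_mul_dvd_mul_left (pow_pos hr.pos n) h0
    rcases (Nat.Prime.dvd_mul hr).mp h1 with h2 | h2
    · rcases (Nat.Prime.dvd_mul hr).mp h2 with h3 | h3
      · exact hrp ((Nat.prime_dvd_prime_iff_eq hr hp).mp h3)
      · exact hrq ((Nat.prime_dvd_prime_iff_eq hr hq).mp (hr.dvd_of_dvd_pow h3))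
    · exact hm h2
  obtain ⟨k, ρ, hρ, hρχ⟩ := θ.2
  have hfin : Module.finrank ℂ (Fin k → ℂ) = charDegree (θ : G → ℂ) := by
    rw [← hρχ]; exact (helper82.charDegree_char ρ).symm
  rw [← hρχ]
  exact helper4.char_eq_zero_of_defect_zero ρ r n hr hn'
    (by rw [hfin, hθ, hgm]; exact dvd_mul_right _ _) g hrg

end pieces

end Cfsg.Agent.Lib.helper69.BU
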