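import Mathlib
import Cfsg.Prelude.Def_Classical
import Cfsg.Prelude.Def_GeometricClasses

set_option autoImplicit false

namespace Cfsg.Agent.Lib.helper96.FE

/-- The polar form of the minus form. -/
theorem h69_polar_minus {F : Type*} [Field F] (m : ℕ) (a b : F)
    (v w : (Fin m ⊕ Fin m) ⊕ Fin 2 → F) :
    QuadraticMap.polar (Cfsg.quadFormMinus m F a b) v w =
      (∑ i : Fin m, (v (.inl (.inl i)) * w (.inl (.inr i)) + w (.inl (.inl i)) * v (.inl (.inr i))))
        + (2 * v (.inr 0) * w (.inr 0) + a * (v (.inr 0) * w (.inr 1) + w (.inr 0) * v (.inr 1))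
          + 2 * b * v (.inr 1) * w (.inr 1)) := by
  unfold QuadraticMap.polar Cfsg.quadFormMinus
  have h1 : ∑ i : Fin m, (v + w) (Sum.inl (Sum.inl i)) * (v + w) (Sum.inl (Sum.inr i)) =
      (∑ i : Fin m, (v (.inl (.inl i)) * w (.inl (.inr i)) + w (.inl (.inl i)) * v (.inl (.inr i))))
      + (∑ i : Fin m, v (.inl (.inl i)) * v (.inl (.inr i)))
      + (∑ i : Fin m, w (.inl (.inl i)) * w (.inl (.inr i))) := by
    rw [← Finset.sum_add_distrib, ← Finset.sum_add_distrib]
    apply Finset.sum_congr rfl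
    intro i _
    simp only [Pi.add_apply]
    ring
  rw [h1]
  simp only [Pi.add_apply]
  ring

/-- NDM (M): the minus form (anisotropic binary part, `2 ≠ 0`) is a nondegenerate quadratic form. -/
theorem fe_nd_minus {F : Type*} [Field F] (h2 : (2 : F) ≠ 0) (m : ℕ) (a b : F)
    (hab : ∀ x y : F, x ^ 2 + a * x * y + b * y ^ 2 = 0 → x = 0 ∧ y = 0) :
    Cfsg.Geo.IsNondegenerateQuadraticForm (Cfsg.quadFormMinus m F a b) := by
  classical
  have hsymm : ∀ v w : (Fin m ⊕ Fin m) ⊕ Fin 2 → F,
      QuadraticMap.polar (Cfsg.quadFormMinus m F a b) v w =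
      QuadraticMap.polar (Cfsg.quadFormMinus m F a b) w v := by
    intro v w
    rw [h69_polar_minus, h69_polar_minus]
    have : ∑ i : Fin m, (v (.inl (.inl i)) * w (.inl (.inr i)) + w (.inl (.inl i)) * v (.inl (.inr i)))
        = ∑ i : Fin m, (w (.inl (.inl i)) * v (.inl (.inr i)) + v (.inl (.inl i)) * w (.inl (.inr i))) := by
      apply Finset.sum_congr rfl
      intro i _
      ring
    rw [this]
    ring
  have hleft : ∀ v : (Fin m ⊕ Fin m) ⊕ Fin 2 → F, v ≠ 0 →
      ∃ x, QuadraticMap.polar (Cfsg.quadFormMinus m F a b) x v ≠ 0 := by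
    intro v hv
    by_cases hhyp : ∃ j : Fin m ⊕ Fin m, v (Sum.inl j) ≠ 0
    · obtain ⟨j, hj⟩ := hhyp
      rcases j with i | i
      · refine ⟨Pi.single (Sum.inl (Sum.inr i)) 1, ?_⟩
        rw [h69_polar_minus]
        have hs : ∑ k : Fin m, ((Pi.single (Sum.inl (Sum.inr i)) (1 : F) :
            (Fin m ⊕ Fin m) ⊕ Fin 2 → F) (Sum.inl (Sum.inl k)) * v (Sum.inl (Sum.inr k)) +
            v (Sum.inl (Sum.inl k)) * (Pi.single (Sum.inl (Sum.inr i)) (1 : F) :
            (Fin m ⊕ Fin m) ⊕ Fin 2 → F) (Sum.inl (Sum.inr k))) = v (Sum.inl (Sum.inl i)) := by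
          rw [Finset.sum_eq_single i]
          · simp
          · intro k _ hk
            simp [hk]
          · intro h
            exact absurd (Finset.mem_univ i) h
        rw [hs]
        simpa using hj
      · refine ⟨Pi.single (Sum.inl (Sum.inl i)) 1, ?_⟩
        rw [h69_polar_minus]
        have hs : ∑ k : Fin m, ((Pi.single (Sum.inl (Sum.inl i)) (1 : F) :
            (Fin m ⊕ Fin m) ⊕ Fin 2 → F) (Sum.inl (Sum.inl k)) * v (Sum.inl (Sum.inr k)) +
            v (Sum.inl (Sum.inl k)) * (Pi.single (Sum.inl (Sum.inl i)) (1 : F) :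
            (Fin m ⊕ Fin m) ⊕ Fin 2 → F) (Sum.inl (Sum.inr k))) = v (Sum.inl (Sum.inr i)) := by
          rw [Finset.sum_eq_single i]
          · simp
          · intro k _ hk
            simp [hk]
          · intro h
            exact absurd (Finset.mem_univ i) h
        rw [hs]
        simpa using hj
    · push Not at hhyp
      refine ⟨v, ?_⟩
      rw [h69_polar_minus]
      have hs : ∑ i : Fin m, (v (.inl (.inl i)) * v (.inl (.inr i)) +
          v (.inl (.inl i)) * v (.inl (.inr i))) = 0 := by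
        apply Finset.sum_eq_zero
        intro i _
        rw [hhyp (Sum.inl i)]
        ring
      rw [hs, zero_add]
      intro h0
      have h3 : (2 : F) * (v (.inr 0) ^ 2 + a * v (.inr 0) * v (.inr 1) + b * v (.inr 1) ^ 2) = 0 := by
        rw [← h0]
        ring
      have h4 := (mul_eq_zero.mp h3).resolve_left h2
      obtain ⟨hz0, hz1⟩ := hab _ _ h4
      apply hv
      funext j
      rcases j with j | j
      · exact hhyp j
      · fin_cases j
        · exact hz0
        · exact hz1
  refine ⟨?_, ⟨?_, ?_, ?_, ?_⟩, ?_⟩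
  · intro c v
    unfold Cfsg.quadFormMinus
    have h1 : ∑ i : Fin m, (c • v) (Sum.inl (Sum.inl i)) * (c • v) (Sum.inl (Sum.inr i)) =
        c ^ 2 * ∑ i : Fin m, v (Sum.inl (Sum.inl i)) * v (Sum.inl (Sum.inr i)) := by
      rw [Finset.mul_sum]
      apply Finset.sum_congr rfl
      intro i _
      simp only [Pi.smul_apply, smul_eq_mul]
      ring
    rw [h1]
    simp only [Pi.smul_apply, smul_eq_mul]
    ring
  · intro x y v
    rw [h69_polar_minus, h69_polar_minus, h69_polar_minus]
    have h1 : ∑ i : Fin m, ((x + y) (.inl (.inl i)) * v (.inl (.inr i)) +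
        v (.inl (.inl i)) * (x + y) (.inl (.inr i))) =
        (∑ i : Fin m, (x (.inl (.inl i)) * v (.inl (.inr i)) + v (.inl (.inl i)) * x (.inl (.inr i))))
        + ∑ i : Fin m, (y (.inl (.inl i)) * v (.inl (.inr i)) + v (.inl (.inl i)) * y (.inl (.inr i))) := by
      rw [← Finset.sum_add_distrib]
      apply Finset.sum_congr rfl
      intro i _
      simp only [Pi.add_apply]
      ring
    rw [h1]
    simp only [Pi.add_apply]
    ring
  · intro c x v
    rw [h69_polar_minus, h69_polar_minus]
    have h1 : ∑ i : Fin m, ((c • x) (.inl (.inl i)) * v (.inl (.inr i)) +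
        v (.inl (.inl i)) * (c • x) (.inl (.inr i))) =
        c * ∑ i : Fin m, (x (.inl (.inl i)) * v (.inl (.inr i)) + v (.inl (.inl i)) * x (.inl (.inr i))) := by
      rw [Finset.mul_sum]
      apply Finset.sum_congr rfl
      intro i _
      simp only [Pi.smul_apply, smul_eq_mul]
      ring
    rw [h1]
    simp only [Pi.smul_apply, smul_eq_mul]
    ring
  · intro v x y
    rw [h69_polar_minus, h69_polar_minus, h69_polar_minus]
    have h1 : ∑ i : Fin m, (v (.inl (.inl i)) * (x + y) (.inl (.inr i)) +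
        (x + y) (.inl (.inl i)) * v (.inl (.inr i))) =
        (∑ i : Fin m, (v (.inl (.inl i)) * x (.inl (.inr i)) + x (.inl (.inl i)) * v (.inl (.inr i))))
        + ∑ i : Fin m, (v (.inl (.inl i)) * y (.inl (.inr i)) + y (.inl (.inl i)) * v (.inl (.inr i))) := by
      rw [← Finset.sum_add_distrib]
      apply Finset.sum_congr rfl
      intro i _
      simp only [Pi.add_apply]
      ring
    rw [h1]
    simp only [Pi.add_apply]
    ring
  · intro c v x
    rw [h69_polar_minus, h69_polar_minus]
    have h1 : ∑ i : Fin m, (v (.inl (.inl i)) * (c • x) (.inl (.inr i)) +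
        (c • x) (.inl (.inl i)) * v (.inl (.inr i))) =
        c * ∑ i : Fin m, (v (.inl (.inl i)) * x (.inl (.inr i)) + x (.inl (.inl i)) * v (.inl (.inr i))) := by
      rw [Finset.mul_sum]
      apply Finset.sum_congr rfl
      intro i _
      simp only [Pi.smul_apply, smul_eq_mul]
      ring
    rw [h1]
    simp only [Pi.smul_apply, smul_eq_mul]
    ring
  · intro v hv
    obtain ⟨x, hx⟩ := hleft v hv
    exact ⟨⟨x, hx⟩, ⟨x, by rw [hsymm]; exact hx⟩⟩

end Cfsg.Agent.Lib.helper96.FE
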