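import Mathlib
import Cfsg.Prelude.Def_Classical
import Cfsg.Prelude.Def_GeometricClasses

set_option autoImplicit false

namespace Cfsg.Agent.Lib.helper96.FE

/-- The polar form of the plus form. -/
theorem h69_polar_plus {F : Type*} [Field F] (d : ℕ) (v w : Fin d ⊕ Fin d → F) :
    QuadraticMap.polar (Cfsg.quadFormPlus d F) v w =
      ∑ i : Fin d, (v (.inl i) * w (.inr i) + w (.inl i) * v (.inr i)) := by
  unfold QuadraticMap.polar Cfsg.quadFormPlus
  rw [← Finset.sum_sub_distrib, ← Finset.sum_sub_distrib]
  apply Finset.sum_congr rfl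
  intro i _
  simp only [Pi.add_apply]
  ring

/-- NDP (S/M): the plus form is a nondegenerate quadratic form. -/
theorem fe_nd_plus {F : Type*} [Field F] (d : ℕ) :
    Cfsg.Geo.IsNondegenerateQuadraticForm (Cfsg.quadFormPlus d F) := by
  classical
  have hsymm : ∀ v w : Fin d ⊕ Fin d → F, QuadraticMap.polar (Cfsg.quadFormPlus d F) v w =
      QuadraticMap.polar (Cfsg.quadFormPlus d F) w v := by
    intro v w
    rw [h69_polar_plus, h69_polar_plus]
    apply Finset.sum_congr rfl
    intro i _
    ring
  have hleft : ∀ v : Fin d ⊕ Fin d → F, v ≠ 0 →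
      ∃ x, QuadraticMap.polar (Cfsg.quadFormPlus d F) x v ≠ 0 := by
    intro v hv
    have hex : ∃ j : Fin d ⊕ Fin d, v j ≠ 0 := by
      by_contra hcon
      push Not at hcon
      exact hv (funext hcon)
    obtain ⟨j, hj⟩ := hex
    rcases j with i | i
    · refine ⟨Pi.single (Sum.inr i) 1, ?_⟩
      rw [h69_polar_plus]
      have : ∑ k : Fin d, ((Pi.single (Sum.inr i) (1 : F) : Fin d ⊕ Fin d → F) (Sum.inl k) *
          v (Sum.inr k) + v (Sum.inl k) *
          (Pi.single (Sum.inr i) (1 : F) : Fin d ⊕ Fin d → F) (Sum.inr k)) = v (Sum.inl i) := by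
        rw [Finset.sum_eq_single i]
        · simp
        · intro k _ hk
          simp [hk]
        · intro h
          exact absurd (Finset.mem_univ i) h
      rw [this]
      exact hj
    · refine ⟨Pi.single (Sum.inl i) 1, ?_⟩
      rw [h69_polar_plus]
      have : ∑ k : Fin d, ((Pi.single (Sum.inl i) (1 : F) : Fin d ⊕ Fin d → F) (Sum.inl k) *
          v (Sum.inr k) + v (Sum.inl k) *
          (Pi.single (Sum.inl i) (1 : F) : Fin d ⊕ Fin d → F) (Sum.inr k)) = v (Sum.inr i) := by
        rw [Finset.sum_eq_single i]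
        · simp
        · intro k _ hk
          simp [hk]
        · intro h
          exact absurd (Finset.mem_univ i) h
      rw [this]
      exact hj
  refine ⟨?_, ⟨?_, ?_, ?_, ?_⟩, ?_⟩
  · intro c v
    unfold Cfsg.quadFormPlus
    rw [Finset.mul_sum]
    apply Finset.sum_congr rfl
    intro i _
    simp only [Pi.smul_apply, smul_eq_mul]
    ring
  · intro x y v
    rw [h69_polar_plus, h69_polar_plus, h69_polar_plus, ← Finset.sum_add_distrib]
    apply Finset.sum_congr rfl
    intro i _
    simp only [Pi.add_apply]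
    ring
  · intro c x v
    rw [h69_polar_plus, h69_polar_plus, Finset.mul_sum]
    apply Finset.sum_congr rfl
    intro i _
    simp only [Pi.smul_apply, smul_eq_mul]
    ring
  · intro v x y
    rw [h69_polar_plus, h69_polar_plus, h69_polar_plus, ← Finset.sum_add_distrib]
    apply Finset.sum_congr rfl
    intro i _
    simp only [Pi.add_apply]
    ring
  · intro c v x
    rw [h69_polar_plus, h69_polar_plus, Finset.mul_sum]
    apply Finset.sum_congr rfl
    intro i _
    simp only [Pi.smul_apply, smul_eq_mul]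
    ring
  · intro v hv
    obtain ⟨x, hx⟩ := hleft v hv
    exact ⟨⟨x, hx⟩, ⟨x, by rw [hsymm]; exact hx⟩⟩

end Cfsg.Agent.Lib.helper96.FE
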