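import Mathlib
import Cfsg.Prelude.Def_GeometricClasses
import Cfsg.Agent.Lib.helper69.FeNDM

set_option autoImplicit false

namespace Cfsg.Agent.Lib.helper2

open Cfsg.Geo Matrix

/-- NDM -/
theorem qfc_nondeg_minus {F : Type*} [Field F] (h2 : (2 : F) ≠ 0) (m : ℕ) (a b : F)
    (hab : ∀ x y : F, x ^ 2 + a * x * y + b * y ^ 2 = 0 → x = 0 ∧ y = 0) :
    IsNondegenerateQuadraticForm (Cfsg.quadFormMinus m F a b) :=
  Cfsg.Agent.Lib.helper96.FE.fe_nd_minus h2 m a b hab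

end Cfsg.Agent.Lib.helper2
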