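import Mathlib
import Cfsg.Prelude.Def_GeometricClasses
import Cfsg.Agent.Lib.helper69.FeNDP

set_option autoImplicit false

namespace Cfsg.Agent.Lib.helper2

open Cfsg.Geo Matrix

/-- NDP -/
theorem qfc_nondeg_plus {F : Type*} [Field F] (d : ℕ) :
    IsNondegenerateQuadraticForm (Cfsg.quadFormPlus d F) :=
  Cfsg.Agent.Lib.helper96.FE.fe_nd_plus d

end Cfsg.Agent.Lib.helper2
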