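import Mathlib
import Cfsg.Agent.Lib.helper75.SimpleOrd

/-!
The "two Sylow" trick (helper69).

Let `P` be a Sylow `p`-subgroup of order `p` (`p` odd) and `T` a Sylow 2-subgroup of `N(P)` which
is not a Sylow 2-subgroup of the whole group.  Then `T` is normalized by some 2-element
`g ∉ N(P)`, and `T ∩ C(P) ∩ C(P^g)` is a normal subgroup of `T` which is nontrivial as soon as
`|T|` is large compared to the 2-part of `p - 1`.  Hence there is an involution `w`, central in
`T`, which centralizes two distinct Sylow `p`-subgroups; its centralizer then has more than one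
Sylow `p`-subgroup and `|N_{C(w)}(P)|` is divisible by `p |T|`.
-/

set_option autoImplicit false

namespace Cfsg.Agent.Lib.helper69

open MulAction
open scoped Pointwise

section TwoSylowGeneral

/-- A nontrivial subgroup `I` of a finite `p`-group `T` which is normalized by `T` contains an
element of order `p` centralized by `T`. -/
theorem exists_orderOf_prime_central_of_normalized {G : Type*} [Group G] {p : ℕ} [Fact p.Prime]
    (T I : Subgroup G) [Finite T] (hT : IsPGroup p T) (hIT : I ≤ T)
    (hnorm : ∀ s ∈ T, ∀ x ∈ I, s * x * s⁻¹ ∈ I) (hI : I ≠ ⊥) :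
    ∃ w ∈ I, orderOf w = p ∧ ∀ s ∈ T, s * w = w * s := by
  have hp : p.Prime := Fact.out
  haveI : Finite I :=
    Finite.of_injective (Subgroup.inclusion hIT) (Subgroup.inclusion_injective hIT)
  letI act : MulAction T I :=
    { smul := fun s x => ⟨s.1 * x.1 * s.1⁻¹, hnorm s.1 s.2 x.1 x.2⟩
      one_smul := fun x => Subtype.ext (by
        show (1 : T).1 * x.1 * (1 : T).1⁻¹ = x.1
        simp)
      mul_smul := fun s t x => Subtype.ext (by
        show (s * t).1 * x.1 * (s * t).1⁻¹ = s.1 * (t.1 * x.1 * t.1⁻¹) * s.1⁻¹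
        simp [mul_assoc]) }
  have hsmul : ∀ (s : T) (x : I), ((s • x : I) : G) = s.1 * x.1 * s.1⁻¹ := fun s x => rfl
  have hdvd : ∀ J : Subgroup G, J ≤ T → J ≠ ⊥ → p ∣ Nat.card J := by
    intro J hJT hJ
    haveI : Finite J :=
      Finite.of_injective (Subgroup.inclusion hJT) (Subgroup.inclusion_injective hJT)
    obtain ⟨k, hk⟩ := IsPGroup.iff_card.mp (hT.to_le hJT)
    rcases k with _ | k
    · exfalso
      have h1 := (Subgroup.one_lt_card_iff_ne_bot J).mpr hJ
      rw [hk, pow_zero] at h1
      omega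
    · rw [hk]
      exact dvd_pow_self p (Nat.succ_ne_zero k)
  have h1 : (1 : I) ∈ fixedPoints T I := by
    intro s
    apply Subtype.ext
    rw [hsmul]
    simp
  obtain ⟨b, hb, hb1⟩ :=
    hT.exists_fixed_point_of_prime_dvd_card_of_fixed_point I (hdvd I hIT hI) h1
  have hbJ : (b : G) ∈ I ⊓ Subgroup.centralizer (T : Set G) := by
    refine Subgroup.mem_inf.mpr ⟨b.2, ?_⟩
    rw [Subgroup.mem_centralizer_iff]
    intro s hs
    have h2 : s * b.1 * s⁻¹ = b.1 := by
      have h3 := congrArg Subtype.val (hb ⟨s, hs⟩)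
      rwa [hsmul] at h3
    calc s * (b : G) = s * b.1 * s⁻¹ * s := by group
      _ = b.1 * s := by rw [h2]
  have hJle : I ⊓ Subgroup.centralizer (T : Set G) ≤ T := inf_le_left.trans hIT
  have hJne : I ⊓ Subgroup.centralizer (T : Set G) ≠ ⊥ := by
    intro hbot
    rw [hbot, Subgroup.mem_bot] at hbJ
    apply hb1
    apply Subtype.ext
    rw [hbJ]
    rfl
  haveI : Finite (I ⊓ Subgroup.centralizer (T : Set G) : Subgroup G) :=
    Finite.of_injective (Subgroup.inclusion hJle) (Subgroup.inclusion_injective hJle)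
  obtain ⟨x, hx⟩ := exists_prime_orderOf_dvd_card' p (hdvd _ hJle hJne)
  refine ⟨x.1, x.2.1, by rw [Subgroup.orderOf_coe]; exact hx, ?_⟩
  intro s hs
  exact (Subgroup.mem_centralizer_iff.mp x.2.2) s hs

end TwoSylowGeneral

section TwoSylow

variable {S : Type*} [Group S] [Finite S] {p : ℕ} [Fact p.Prime]

omit [Finite S] [Fact p.Prime] in
/-- Conjugation by an element normalizing `Q` preserves the centralizer of `Q`. -/
theorem conj_mem_centralizer_of_smul_eq (Q : Sylow p S) (s x : S) (hs : s • Q = Q)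
    (hx : x ∈ Subgroup.centralizer ((Q : Subgroup S) : Set S)) :
    s * x * s⁻¹ ∈ Subgroup.centralizer ((Q : Subgroup S) : Set S) := by
  have hsN : s ∈ Subgroup.normalizer ((Q : Subgroup S) : Set S) :=
    Sylow.smul_eq_iff_mem_normalizer.mp hs
  rw [Subgroup.mem_centralizer_iff] at hx ⊢
  intro y hy
  have hy' : s⁻¹ * y * s ∈ (Q : Subgroup S) := by
    have h := (Subgroup.mem_normalizer_iff.mp (inv_mem hsN) y).mp hy
    simpa using h
  have hc := hx _ hy'
  calc y * (s * x * s⁻¹) = s * ((s⁻¹ * y * s) * x) * s⁻¹ := by group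
    _ = s * (x * (s⁻¹ * y * s)) * s⁻¹ := by rw [hc]
    _ = s * x * s⁻¹ * y := by group

/-- If `T` normalizes a Sylow `p`-subgroup `Q` of order `p`, then `|T : T ∩ C(Q)|` divides
`p - 1`. -/
theorem relIndex_centralizer_dvd_pred_of_le (Q : Sylow p S) (hQ : Nat.card Q = p) (T : Subgroup S)
    (hT : T ≤ Subgroup.normalizer ((Q : Subgroup S) : Set S)) :
    (Subgroup.centralizer ((Q : Subgroup S) : Set S)).relIndex T ∣ p - 1 := by
  have h1 := Cfsg.Agent.Lib.helper75.relIndex_dvd_pred Q hQ
  haveI hnormal : ((Subgroup.centralizer ((Q : Subgroup S) : Set S)).subgroupOf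
      (Subgroup.normalizer ((Q : Subgroup S) : Set S))).Normal := by
    rw [← Subgroup.normalizerMonoidHom_ker]
    infer_instance
  have h2 := Subgroup.relIndex_dvd_index_of_normal
    (H := (Subgroup.centralizer ((Q : Subgroup S) : Set S)).subgroupOf
      (Subgroup.normalizer ((Q : Subgroup S) : Set S)))
    (K := T.subgroupOf (Subgroup.normalizer ((Q : Subgroup S) : Set S)))
  rw [Subgroup.relIndex_subgroupOf hT] at h2
  exact h2.trans h1

/-- **The two Sylow trick.** Let `P` be a Sylow `p`-subgroup of order `p` and `T` a 2-subgroup of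
`N(P)` of order `2 ^ a`, where `2 ^ (a + 1)` divides `|S|` but not `|N(P)|`.  If every common
divisor of `p - 1` and `2 ^ a` is at most `d` and `d * d < 2 ^ a`, then some involution `w`
centralized by `T` centralizes `P` and a second Sylow `p`-subgroup `P'`. -/
theorem exists_involution_centralizing_two_sylow (P : Sylow p S) (hP : Nat.card P = p)
    (T : Subgroup S) (a d : ℕ) (hTN : ∀ s ∈ T, s • P = P) (hT : Nat.card T = 2 ^ a)
    (hS : 2 ^ (a + 1) ∣ Nat.card S) (hN : ¬ 2 ^ (a + 1) ∣ Nat.card (stabilizer S P))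
    (hd : ∀ n : ℕ, n ∣ p - 1 → n ∣ 2 ^ a → n ≤ d) (hda : d * d < 2 ^ a) :
    ∃ (w : S) (P' : Sylow p S), P' ≠ P ∧ orderOf w = 2 ∧
      w ∈ Subgroup.centralizer ((P : Subgroup S) : Set S) ∧
      w ∈ Subgroup.centralizer ((P' : Subgroup S) : Set S) ∧
      T ≤ Subgroup.centralizer ({w} : Set S) := by
  haveI : Fact (Nat.Prime 2) := ⟨Nat.prime_two⟩
  have hpos : 0 < 2 ^ a := by positivity
  obtain ⟨T₂, hT₂, hTT₂⟩ := Sylow.exists_subgroup_card_pow_succ hS hT
  have hidx : (T.subgroupOf T₂).index = 2 := by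
    have h1 := Subgroup.card_mul_index (T.subgroupOf T₂)
    rw [Nat.card_congr (Subgroup.subgroupOfEquivOfLe hTT₂).toEquiv, hT, hT₂, pow_succ] at h1
    exact Nat.eq_of_mul_eq_mul_left hpos h1
  have hnormal : (T.subgroupOf T₂).Normal := Subgroup.normal_of_index_eq_two hidx
  have hconj : ∀ g ∈ T₂, ∀ s ∈ T, g * s * g⁻¹ ∈ T := by
    intro g hg s hs
    have h1 := hnormal.conj_mem ⟨s, hTT₂ hs⟩ (Subgroup.mem_subgroupOf.mpr hs) ⟨g, hg⟩
    exact Subgroup.mem_subgroupOf.mp h1
  have hlt : T < T₂ := by
    refine lt_of_le_of_ne hTT₂ ?_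
    intro h
    rw [h, hT₂, pow_succ] at hT
    omega
  obtain ⟨g, hgT₂, hgT⟩ := SetLike.exists_of_lt hlt
  have hgP : g • P ≠ P := by
    intro hgP
    apply hgT
    have hTle : T ≤ T₂ ⊓ stabilizer S P :=
      le_inf hTT₂ (fun s hs => MulAction.mem_stabilizer_iff.mpr (hTN s hs))
    have hcard : Nat.card (T₂ ⊓ stabilizer S P : Subgroup S) ≤ Nat.card T := by
      have h1 : Nat.card (T₂ ⊓ stabilizer S P : Subgroup S) ∣ 2 ^ (a + 1) := by
        rw [← hT₂]
        exact Subgroup.card_dvd_of_le inf_le_left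
      have h2 : Nat.card (T₂ ⊓ stabilizer S P : Subgroup S) ∣ Nat.card (stabilizer S P) :=
        Subgroup.card_dvd_of_le inf_le_right
      obtain ⟨j, hj, hj2⟩ := (Nat.dvd_prime_pow Nat.prime_two).mp h1
      rw [hj2] at h2 ⊢
      rw [hT]
      have hja : j ≤ a := by
        by_contra hcon
        have hj' : j = a + 1 := by omega
        rw [hj'] at h2
        exact hN h2
      exact Nat.pow_le_pow_right (by norm_num) hja
    have heq : T = T₂ ⊓ stabilizer S P := Subgroup.eq_of_le_of_card_ge hTle hcard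
    rw [heq]
    exact ⟨hgT₂, MulAction.mem_stabilizer_iff.mpr hgP⟩
  have hTN' : ∀ s ∈ T, s • (g • P) = g • P := by
    intro s hs
    have h1 : g⁻¹ * s * g ∈ T := by
      have h := hconj g⁻¹ (inv_mem hgT₂) s hs
      simpa using h
    have h2 := hTN _ h1
    calc s • (g • P) = g • ((g⁻¹ * s * g) • P) := by
          rw [← mul_smul, ← mul_smul]
          congr 1
          group
      _ = g • P := by rw [h2]
  have hP' : Nat.card ((g • P : Sylow p S) : Subgroup S) = p := by
    rw [Sylow.card_eq_multiplicity, ← Sylow.card_eq_multiplicity P, hP]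
  have hrel : ∀ Q : Sylow p S, (∀ s ∈ T, s • Q = Q) → Nat.card Q = p →
      (Subgroup.centralizer ((Q : Subgroup S) : Set S)).relIndex T ≤ d := by
    intro Q hQ hQc
    apply hd
    · exact relIndex_centralizer_dvd_pred_of_le Q hQc T
        (fun s hs => Sylow.smul_eq_iff_mem_normalizer.mp (hQ s hs))
    · rw [← hT]
      exact Subgroup.relIndex_dvd_card _ _
  have hCCrel : (Subgroup.centralizer ((P : Subgroup S) : Set S) ⊓
      Subgroup.centralizer (((g • P : Sylow p S) : Subgroup S) : Set S)).relIndex T ≤ d * d :=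
    (Subgroup.relIndex_inf_le).trans (Nat.mul_le_mul (hrel P hTN hP) (hrel (g • P) hTN' hP'))
  have hIne : (Subgroup.centralizer ((P : Subgroup S) : Set S) ⊓
      Subgroup.centralizer (((g • P : Sylow p S) : Subgroup S) : Set S)) ⊓ T ≠ ⊥ := by
    intro hbot
    have h1 := Subgroup.card_mul_index ((Subgroup.centralizer ((P : Subgroup S) : Set S) ⊓
      Subgroup.centralizer (((g • P : Sylow p S) : Subgroup S) : Set S)).subgroupOf T)
    have h2 : Nat.card ((Subgroup.centralizer ((P : Subgroup S) : Set S) ⊓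
        Subgroup.centralizer (((g • P : Sylow p S) : Subgroup S) : Set S)).subgroupOf T) = 1 := by
      rw [Subgroup.subgroupOf_eq_bot.mpr (disjoint_iff.mpr hbot), Subgroup.card_bot]
    rw [h2, one_mul, hT] at h1
    have h3 : (Subgroup.centralizer ((P : Subgroup S) : Set S) ⊓
        Subgroup.centralizer (((g • P : Sylow p S) : Subgroup S) : Set S)).relIndex T = 2 ^ a := h1
    omega
  haveI : Finite T := inferInstance
  obtain ⟨w, hwI, hw2, hwT⟩ := exists_orderOf_prime_central_of_normalized (p := 2) T _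
    (IsPGroup.of_card hT) inf_le_right
    (fun s hs x hx => Subgroup.mem_inf.mpr ⟨Subgroup.mem_inf.mpr
      ⟨conj_mem_centralizer_of_smul_eq P s x (hTN s hs)
        (Subgroup.mem_inf.mp (Subgroup.mem_inf.mp hx).1).1,
      conj_mem_centralizer_of_smul_eq (g • P) s x (hTN' s hs)
        (Subgroup.mem_inf.mp (Subgroup.mem_inf.mp hx).1).2⟩,
      T.mul_mem (T.mul_mem hs (Subgroup.mem_inf.mp hx).2) (T.inv_mem hs)⟩) hIne
  refine ⟨w, g • P, hgP, hw2, (Subgroup.mem_inf.mp (Subgroup.mem_inf.mp hwI).1).1,
    (Subgroup.mem_inf.mp (Subgroup.mem_inf.mp hwI).1).2, ?_⟩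
  intro s hs
  rw [Subgroup.mem_centralizer_iff]
  rintro _ rfl
  exact (hwT s hs).symm

/-- If `w` centralizes two distinct Sylow `p`-subgroups `P ≠ P'` of order `p`, then
`|C(w)| = n c` with `n ≡ 1 (mod p)`, `n ≠ 1`, where `c = |N_{C(w)}(P)|` is divisible by `p`
and by the order of every subgroup `U ≤ C(w) ∩ N(P)`, and divides `|N(P)|`. -/
theorem card_centralizer_of_two_sylow (P P' : Sylow p S) (hP : Nat.card P = p) (hne : P' ≠ P)
    (w : S) (hw : w ∈ Subgroup.centralizer ((P : Subgroup S) : Set S))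
    (hw' : w ∈ Subgroup.centralizer ((P' : Subgroup S) : Set S))
    (U : Subgroup S) (hUw : U ≤ Subgroup.centralizer ({w} : Set S)) (hUN : ∀ u ∈ U, u • P = P) :
    ∃ n c : ℕ, n % p = 1 ∧ n ≠ 1 ∧ Nat.card (Subgroup.centralizer ({w} : Set S)) = n * c ∧
      p ∣ c ∧ Nat.card U ∣ c ∧ c ∣ Nat.card (stabilizer S P) := by
  have hp : p.Prime := Fact.out
  have hPH : (P : Subgroup S) ≤ Subgroup.centralizer ({w} : Set S) := by
    intro x hx
    rw [Subgroup.mem_centralizer_iff]
    rintro _ rfl
    exact ((Subgroup.mem_centralizer_iff.mp hw) x hx).symm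
  have hP'H : (P' : Subgroup S) ≤ Subgroup.centralizer ({w} : Set S) := by
    intro x hx
    rw [Subgroup.mem_centralizer_iff]
    rintro _ rfl
    exact ((Subgroup.mem_centralizer_iff.mp hw') x hx).symm
  have hneH : P'.subtype hP'H ≠ P.subtype hPH := fun h => hne (Sylow.subtype_injective h)
  have hmemPH : ∀ x : Subgroup.centralizer ({w} : Set S),
      x ∈ ((P.subtype hPH : Sylow p (Subgroup.centralizer ({w} : Set S))) :
        Subgroup (Subgroup.centralizer ({w} : Set S))) ↔ (x : S) ∈ (P : Subgroup S) := by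
    intro x
    rw [Sylow.coe_subtype, Subgroup.mem_subgroupOf]
  refine ⟨Nat.card (Sylow p (Subgroup.centralizer ({w} : Set S))),
    Nat.card (Subgroup.normalizer (((P.subtype hPH : Sylow p (Subgroup.centralizer ({w} : Set S))) :
        Subgroup (Subgroup.centralizer ({w} : Set S))) : Set (Subgroup.centralizer ({w} : Set S)))),
    ?_, ?_, ?_, ?_, ?_, ?_⟩
  · have h1 := card_sylow_modEq_one p (Subgroup.centralizer ({w} : Set S))
    unfold Nat.ModEq at h1
    rw [h1]
    exact Nat.mod_eq_of_lt hp.one_lt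
  · intro h1
    rw [Nat.card_eq_one_iff_unique] at h1
    exact hneH (h1.1.elim _ _)
  · have h1 := Subgroup.card_mul_index (Subgroup.normalizer
      (((P.subtype hPH : Sylow p (Subgroup.centralizer ({w} : Set S))) :
        Subgroup (Subgroup.centralizer ({w} : Set S))) : Set (Subgroup.centralizer ({w} : Set S))))
    have h2 : Nat.card (Sylow p (Subgroup.centralizer ({w} : Set S))) = (Subgroup.normalizer
      (((P.subtype hPH : Sylow p (Subgroup.centralizer ({w} : Set S))) :
        Subgroup (Subgroup.centralizer ({w} : Set S))) :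
          Set (Subgroup.centralizer ({w} : Set S)))).index :=
      Sylow.card_eq_index_normalizer (P.subtype hPH)
    rw [← h2] at h1
    rw [← h1, mul_comm]
  · have h1 := Subgroup.card_dvd_of_le (Subgroup.le_normalizer
      (H := ((P.subtype hPH : Sylow p (Subgroup.centralizer ({w} : Set S))) :
        Subgroup (Subgroup.centralizer ({w} : Set S)))))
    have h2 : Nat.card ((P.subtype hPH : Sylow p (Subgroup.centralizer ({w} : Set S))) :
        Subgroup (Subgroup.centralizer ({w} : Set S))) = p := by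
      rw [Sylow.coe_subtype, Nat.card_congr (Subgroup.subgroupOfEquivOfLe hPH).toEquiv]
      exact hP
    rwa [h2] at h1
  · have hle : U.subgroupOf (Subgroup.centralizer ({w} : Set S)) ≤ Subgroup.normalizer
        (((P.subtype hPH : Sylow p (Subgroup.centralizer ({w} : Set S))) :
          Subgroup (Subgroup.centralizer ({w} : Set S))) :
            Set (Subgroup.centralizer ({w} : Set S))) := by
      intro u hu
      rw [Subgroup.mem_subgroupOf] at hu
      have huN : (u : S) ∈ Subgroup.normalizer ((P : Subgroup S) : Set S) :=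
        Sylow.smul_eq_iff_mem_normalizer.mp (hUN _ hu)
      rw [Subgroup.mem_normalizer_iff] at huN ⊢
      intro x
      rw [hmemPH, hmemPH]
      exact huN (x : S)
    have h1 := Subgroup.card_dvd_of_le hle
    rwa [Nat.card_congr (Subgroup.subgroupOfEquivOfLe hUw).toEquiv] at h1
  · have hle : (Subgroup.normalizer
        (((P.subtype hPH : Sylow p (Subgroup.centralizer ({w} : Set S))) :
          Subgroup (Subgroup.centralizer ({w} : Set S))) :
            Set (Subgroup.centralizer ({w} : Set S)))).map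
        (Subgroup.centralizer ({w} : Set S)).subtype ≤ stabilizer S P := by
      rintro _ ⟨u, hu, rfl⟩
      rw [MulAction.mem_stabilizer_iff]
      apply Sylow.smul_eq_iff_mem_normalizer.mpr
      have hu' := Subgroup.mem_normalizer_iff.mp hu
      show (u : S) ∈ Subgroup.normalizer ((P : Subgroup S) : Set S)
      rw [Subgroup.mem_normalizer_iff]
      intro y
      constructor
      · intro hy
        have h3 := (hu' ⟨y, hPH hy⟩).mp ((hmemPH _).mpr hy)
        exact (hmemPH _).mp h3
      · intro hy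
        have hyH : y ∈ Subgroup.centralizer ({w} : Set S) := by
          have h1 : (u : S) * y * (u : S)⁻¹ ∈ Subgroup.centralizer ({w} : Set S) := hPH hy
          have h2 := (Subgroup.centralizer ({w} : Set S)).mul_mem
            ((Subgroup.centralizer ({w} : Set S)).mul_mem
              ((Subgroup.centralizer ({w} : Set S)).inv_mem u.2) h1) u.2
          have h3 : (u : S)⁻¹ * ((u : S) * y * (u : S)⁻¹) * (u : S) = y := by group
          rwa [h3] at h2
        have h3 := (hu' ⟨y, hyH⟩).mpr ((hmemPH _).mpr hy)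
        exact (hmemPH _).mp h3
    have h1 := Subgroup.card_dvd_of_le hle
    rwa [Subgroup.card_map_of_injective (Subgroup.subtype_injective _)] at h1

end TwoSylow

end Cfsg.Agent.Lib.helper69
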