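import Mathlib
import Cfsg.Agent.Lib.helper26.S4409Defs

set_option autoImplicit false

namespace Cfsg.Agent.Lib.helper26.S4409

variable {G : Type*} [Group G]

theorem b2qc (X H M C : Subgroup G) (hX : M ⊔ C = X)
    (hXM : X ≤ Subgroup.normalizer (M : Set G)) (hHM : H ≤ Subgroup.normalizer (M : Set G))
    (hc : H ≤ Subgroup.centralizer (C : Set G)) : ⁅X, H⁆ ≤ M := by
  rw [Subgroup.commutator_le]
  intro x hx h hh
  have hnX : ∀ g ∈ X, ∀ m ∈ M, g * m * g⁻¹ ∈ M := fun g hg m hm =>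
    (Subgroup.mem_normalizer_iff.mp (hXM hg) m).mp hm
  have hnH : ∀ m ∈ M, h * m * h⁻¹ ∈ M := fun m hm =>
    (Subgroup.mem_normalizer_iff.mp (hHM hh) m).mp hm
  let T : Subgroup G :=
    { carrier := {g | g ∈ X ∧ g * h * g⁻¹ * h⁻¹ ∈ M}
      mul_mem' := by
        intro a b ha hb
        refine ⟨X.mul_mem ha.1 hb.1, ?_⟩
        have e : a * b * h * (a * b)⁻¹ * h⁻¹ =
            (a * (b * h * b⁻¹ * h⁻¹) * a⁻¹) * (a * h * a⁻¹ * h⁻¹) := by group
        rw [e]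
        exact M.mul_mem (hnX a ha.1 _ hb.2) ha.2
      one_mem' := by
        refine ⟨X.one_mem, ?_⟩
        have e : (1 : G) * h * (1 : G)⁻¹ * h⁻¹ = 1 := by group
        rw [e]
        exact M.one_mem
      inv_mem' := by
        intro a ha
        refine ⟨X.inv_mem ha.1, ?_⟩
        have e : a⁻¹ * h * a⁻¹⁻¹ * h⁻¹ = a⁻¹ * (a * h * a⁻¹ * h⁻¹)⁻¹ * a⁻¹⁻¹ := by group
        rw [e]
        exact hnX a⁻¹ (X.inv_mem ha.1) _ (M.inv_mem ha.2) }
  have hMT : M ≤ T := by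
    intro m hm
    refine ⟨hX ▸ (le_sup_left : M ≤ M ⊔ C) hm, ?_⟩
    have e : m * h * m⁻¹ * h⁻¹ = m * (h * m⁻¹ * h⁻¹) := by group
    rw [e]
    exact M.mul_mem hm (hnH _ (M.inv_mem hm))
  have hCT : C ≤ T := by
    intro c hcc
    refine ⟨hX ▸ (le_sup_right : C ≤ M ⊔ C) hcc, ?_⟩
    have hcomm : c * h = h * c := (Subgroup.mem_centralizer_iff.mp (hc hh)) c hcc
    have e : c * h * c⁻¹ * h⁻¹ = 1 := by
      rw [hcomm]
      group
    rw [e]
    exact M.one_mem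
  have hxT : x ∈ T := (sup_le hMT hCT) (hX ▸ hx)
  rw [commutatorElement_def]
  exact hxT.2

end Cfsg.Agent.Lib.helper26.S4409
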