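import Mathlib
import Cfsg.Agent.Lib.helper26.S4409Defs

set_option autoImplicit false

namespace Cfsg.Agent.Lib.helper26.S4409

variable {G : Type*} [Group G]

/-- A subgroup `K` with an element `x` commuting with `K`, `x * x ∈ K`: the join `K ⊔ ⟨x⟩` is
`K ∪ K x`. -/
theorem h69_mem_sup_zpowers (K : Subgroup G) (x : G) (hcomm : ∀ k ∈ K, k * x = x * k)
    (hxx : x * x ∈ K) : ∀ g ∈ K ⊔ Subgroup.zpowers x, g ∈ K ∨ g * x⁻¹ ∈ K := by
  have hcomm' : ∀ k ∈ K, k * x⁻¹ = x⁻¹ * k := by
    intro k hk
    have h := hcomm k hk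
    calc k * x⁻¹ = x⁻¹ * (x * k) * x⁻¹ := by group
      _ = x⁻¹ * (k * x) * x⁻¹ := by rw [h]
      _ = x⁻¹ * k := by group
  let S : Subgroup G :=
    { carrier := {g | g ∈ K ∨ g * x⁻¹ ∈ K}
      mul_mem' := by
        intro a b ha hb
        rcases ha with ha | ha
        · rcases hb with hb | hb
          · exact Or.inl (K.mul_mem ha hb)
          · right
            have e : a * b * x⁻¹ = a * (b * x⁻¹) := by group
            rw [e]
            exact K.mul_mem ha hb
        · rcases hb with hb | hb
          · right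
            have e : a * b * x⁻¹ = a * x⁻¹ * b := by
              rw [mul_assoc, hcomm' b hb, ← mul_assoc]
            rw [e]
            exact K.mul_mem ha hb
          · left
            have e : a * b = a * x⁻¹ * (b * x⁻¹) * (x * x) := by
              have h1 := hcomm (b * x⁻¹) hb
              calc a * b = a * x⁻¹ * (x * (b * x⁻¹)) * x := by group
                _ = a * x⁻¹ * ((b * x⁻¹) * x) * x := by rw [h1]
                _ = a * x⁻¹ * (b * x⁻¹) * (x * x) := by group
            rw [e]
            exact K.mul_mem (K.mul_mem ha hb) hxx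
      one_mem' := Or.inl K.one_mem
      inv_mem' := by
        intro a ha
        rcases ha with ha | ha
        · exact Or.inl (K.inv_mem ha)
        · right
          have e : a⁻¹ * x⁻¹ = (a * x⁻¹)⁻¹ * (x * x)⁻¹ := by
            have h1 := hcomm' (a * x⁻¹)⁻¹ (K.inv_mem ha)
            calc a⁻¹ * x⁻¹ = x⁻¹ * (a * x⁻¹)⁻¹ * x⁻¹ := by group
              _ = (a * x⁻¹)⁻¹ * x⁻¹ * x⁻¹ := by rw [h1]
              _ = (a * x⁻¹)⁻¹ * (x * x)⁻¹ := by group
          rw [e]
          exact K.mul_mem (K.inv_mem ha) (K.inv_mem hxx) }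
  have hKS : K ≤ S := fun k hk => Or.inl hk
  have hxS : x ∈ S := Or.inr (by rw [mul_inv_cancel]; exact K.one_mem)
  intro g hg
  exact (sup_le hKS (Subgroup.zpowers_le.mpr hxS)) hg

theorem av2 [Finite G] (X H : Subgroup G) (hM : MinSet X H) (hV : IsV4 (⁅X, H⁆ : Subgroup G))
    (hc : X ≤ Subgroup.centralizer ((⁅X, H⁆ : Subgroup G) : Set G)) : IsMulCommutative ↥X := by
  obtain ⟨hX2, hHX, -, hmin, -⟩ := hM
  obtain ⟨hK4, hKexp⟩ := hV
  have hKX : (⁅X, H⁆ : Subgroup G) ≤ X := by
    rw [Subgroup.commutator_le]
    intro x hx h hh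
    rw [commutatorElement_def]
    have h1 : h * x⁻¹ * h⁻¹ ∈ X :=
      (Subgroup.mem_normalizer_iff.mp (hHX hh) x⁻¹).mp (X.inv_mem hx)
    have e : x * h * x⁻¹ * h⁻¹ = x * (h * x⁻¹ * h⁻¹) := by group
    rw [e]
    exact X.mul_mem hx h1
  generalize hKdef : (⁅X, H⁆ : Subgroup G) = K at hK4 hKexp hc hKX
  have hcomm : ∀ g ∈ X, ∀ k ∈ K, k * g = g * k := fun g hg k hk =>
    (Subgroup.mem_centralizer_iff.mp (hc hg)) k hk
  by_cases hKeq : K = X
  · refine ⟨⟨fun a b => Subtype.ext ?_⟩⟩
    have hb : (b : G) ∈ K := by rw [hKeq]; exact b.2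
    exact (hcomm a a.2 b hb).symm
  · have hex0 : ∃ x ∈ X, x ∉ K := by
      by_contra hcon
      push Not at hcon
      exact hKeq (le_antisymm hKX hcon)
    have key : ∀ n : ℕ, ∀ x ∈ X, x ∉ K → x ^ (2 ^ n) = 1 → ∃ x' ∈ X, x' ∉ K ∧ x' * x' ∈ K := by
      intro n
      induction n with
      | zero =>
        intro x _ hxK h1
        rw [pow_zero, pow_one] at h1
        exact absurd (h1 ▸ K.one_mem) hxK
      | succ n ih =>
        intro x hx hxK h1
        by_cases hsq : x * x ∈ K
        · exact ⟨x, hx, hxK, hsq⟩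
        · refine ih (x * x) (X.mul_mem hx hx) hsq ?_
          rw [← pow_two, ← pow_mul, ← pow_succ']
          exact h1
    obtain ⟨x0, hx0, hx0K⟩ := hex0
    obtain ⟨n, hn⟩ := hX2 ⟨x0, hx0⟩
    have hn' : x0 ^ (2 ^ n) = 1 := by
      have := congrArg Subtype.val hn
      simpa using this
    obtain ⟨x, hx, hxK, hxx⟩ := key n x0 hx0 hx0K hn'
    have hKY : K ≤ K ⊔ Subgroup.zpowers x := le_sup_left
    have hxY : x ∈ K ⊔ Subgroup.zpowers x :=
      (le_sup_right : Subgroup.zpowers x ≤ K ⊔ Subgroup.zpowers x) (Subgroup.mem_zpowers x)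
    have hYX : K ⊔ Subgroup.zpowers x ≤ X := sup_le hKX (Subgroup.zpowers_le.mpr hx)
    -- Y is commutative
    have h1 : ∀ b ∈ K ⊔ Subgroup.zpowers x, (∀ k ∈ K, k * b = b * k) ∧ x * b = b * x := by
      intro b hb
      have hle : K ⊔ Subgroup.zpowers x ≤
          Subgroup.centralizer (K : Set G) ⊓ Subgroup.centralizer ({x} : Set G) := by
        refine sup_le ?_ ?_
        · intro k hk
          refine ⟨Subgroup.mem_centralizer_iff.mpr (fun k' hk' => ?_),
            Subgroup.mem_centralizer_iff.mpr (fun y hy => ?_)⟩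
          · exact hcomm k (hKX hk) k' hk'
          · rw [Set.mem_singleton_iff] at hy
            rw [hy]
            exact (hcomm x hx k hk).symm
        · rw [Subgroup.zpowers_le]
          refine ⟨Subgroup.mem_centralizer_iff.mpr (fun k' hk' => ?_),
            Subgroup.mem_centralizer_iff.mpr (fun y hy => ?_)⟩
          · exact hcomm x hx k' hk'
          · rw [Set.mem_singleton_iff] at hy
            rw [hy]
      have hb' := hle hb
      exact ⟨fun k hk => (Subgroup.mem_centralizer_iff.mp hb'.1) k hk,
        (Subgroup.mem_centralizer_iff.mp hb'.2) x (Set.mem_singleton x)⟩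
    have hYc : ∀ a ∈ K ⊔ Subgroup.zpowers x, ∀ b ∈ K ⊔ Subgroup.zpowers x, a * b = b * a := by
      intro a ha b hb
      have hle : K ⊔ Subgroup.zpowers x ≤ Subgroup.centralizer ({b} : Set G) := by
        refine sup_le ?_ ?_
        · intro k hk
          rw [Subgroup.mem_centralizer_iff]
          intro y hy
          rw [Set.mem_singleton_iff] at hy
          rw [hy]
          exact ((h1 b hb).1 k hk).symm
        · rw [Subgroup.zpowers_le, Subgroup.mem_centralizer_iff]
          intro y hy
          rw [Set.mem_singleton_iff] at hy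
          rw [hy]
          exact ((h1 b hb).2).symm
      exact ((Subgroup.mem_centralizer_iff.mp (hle ha)) b (Set.mem_singleton b)).symm
    -- H normalizes Y
    have hconj : ∀ h ∈ H, ∀ g ∈ K ⊔ Subgroup.zpowers x, h * g * h⁻¹ ∈ K ⊔ Subgroup.zpowers x := by
      intro h hh
      have hle : K ⊔ Subgroup.zpowers x ≤
          (K ⊔ Subgroup.zpowers x).comap (MulAut.conj h).toMonoidHom := by
        refine sup_le ?_ ?_
        · intro k hk
          rw [Subgroup.mem_comap]
          change h * k * h⁻¹ ∈ K ⊔ Subgroup.zpowers x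
          have h2 : k⁻¹ * h * k⁻¹⁻¹ * h⁻¹ ∈ K := by
            have h2' := Subgroup.commutator_mem_commutator (H₁ := X) (H₂ := H)
              (hKX (K.inv_mem hk)) hh
            rw [commutatorElement_def, hKdef] at h2'
            exact h2'
          have e : h * k * h⁻¹ = k * (k⁻¹ * h * k⁻¹⁻¹ * h⁻¹) := by group
          rw [e]
          exact hKY (K.mul_mem hk h2)
        · rw [Subgroup.zpowers_le, Subgroup.mem_comap]
          change h * x * h⁻¹ ∈ K ⊔ Subgroup.zpowers x
          have h2 : x⁻¹ * h * x⁻¹⁻¹ * h⁻¹ ∈ K := by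
            have h2' := Subgroup.commutator_mem_commutator (H₁ := X) (H₂ := H)
              (X.inv_mem hx) hh
            rw [commutatorElement_def, hKdef] at h2'
            exact h2'
          have e : h * x * h⁻¹ = x * (x⁻¹ * h * x⁻¹⁻¹ * h⁻¹) := by group
          rw [e]
          exact (K ⊔ Subgroup.zpowers x).mul_mem hxY (hKY h2)
      intro g hg
      exact hle hg
    have hHY : H ≤ Subgroup.normalizer ((K ⊔ Subgroup.zpowers x : Subgroup G) : Set G) := by
      intro h hh
      rw [Subgroup.mem_normalizer_iff]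
      intro g
      constructor
      · exact hconj h hh g
      · intro hg
        have h3 := hconj h⁻¹ (H.inv_mem hh) _ hg
        have e : h⁻¹ * (h * g * h⁻¹) * h⁻¹⁻¹ = g := by group
        rwa [e] at h3
    by_cases hYeq : K ⊔ Subgroup.zpowers x = X
    · refine ⟨⟨fun a b => Subtype.ext ?_⟩⟩
      exact hYc a (hYeq ▸ a.2) b (hYeq ▸ b.2)
    · exfalso
      have hnopY := hmin _ hYX hYeq hHY
      -- the order of Y is 8
      have hmemS := h69_mem_sup_zpowers K x (fun k hk => hcomm x hx k hk) hxx
      have hY8 : Nat.card ↥(K ⊔ Subgroup.zpowers x : Subgroup G) = 8 := by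
        classical
        have hle8 : Nat.card ↥(K ⊔ Subgroup.zpowers x : Subgroup G) ≤ 8 := by
          let φ : ↥(K ⊔ Subgroup.zpowers x : Subgroup G) → ↥K × Bool := fun g =>
            if h : (g : G) ∈ K then (⟨g, h⟩, false)
            else (⟨(g : G) * x⁻¹, (hmemS g g.2).resolve_left h⟩, true)
          have hφ : Function.Injective φ := by
            intro a b hab
            by_cases ha : (a : G) ∈ K
            · by_cases hb : (b : G) ∈ K
              · simp only [φ, dif_pos ha, dif_pos hb, Prod.mk.injEq, Subtype.mk.injEq] at hab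
                exact Subtype.ext hab.1
              · simp only [φ, dif_pos ha, dif_neg hb, Prod.mk.injEq] at hab
                exact absurd hab.2 (by simp)
            · by_cases hb : (b : G) ∈ K
              · simp only [φ, dif_neg ha, dif_pos hb, Prod.mk.injEq] at hab
                exact absurd hab.2 (by simp)
              · simp only [φ, dif_neg ha, dif_neg hb, Prod.mk.injEq, Subtype.mk.injEq] at hab
                exact Subtype.ext (mul_right_cancel hab.1)
          have h5 := Nat.card_le_card_of_injective φ hφ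
          have hb2 : Nat.card Bool = 2 := by rw [Nat.card_eq_fintype_card, Fintype.card_bool]
          rw [Nat.card_prod, hK4, hb2] at h5
          exact h5
        obtain ⟨m, hm⟩ := (IsPGroup.iff_card (p := 2)).mp (hX2.to_le hYX)
        have hdvd : Nat.card ↥K ∣ Nat.card ↥(K ⊔ Subgroup.zpowers x : Subgroup G) :=
          Subgroup.card_dvd_of_le hKY
        have hne4 : Nat.card ↥(K ⊔ Subgroup.zpowers x : Subgroup G) ≠ 4 := by
          intro h4
          have : K = K ⊔ Subgroup.zpowers x :=
            Subgroup.eq_of_le_of_card_ge hKY (by rw [h4, hK4])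
          exact hxK (this ▸ hxY)
        rw [hK4] at hdvd
        rw [hm] at hdvd hle8 hne4 ⊢
        have hm3 : m ≤ 3 := by
          by_contra hcon
          push Not at hcon
          have : 2 ^ 4 ≤ 2 ^ m := Nat.pow_le_pow_right (by norm_num) hcon
          omega
        interval_cases m <;> simp_all
      have hcyc := hnopY _ le_rfl ⟨⟨fun a b => Subtype.ext (hYc a a.2 b b.2)⟩⟩ hY8
      -- but Y contains the Klein four-group K
      have := hcyc
      have hKcyc : IsCyclic ↥K :=
        isCyclic_of_injective (Subgroup.inclusion hKY) (Subgroup.inclusion_injective hKY)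
      obtain ⟨g, hg⟩ := hKcyc.exists_generator
      have ho : orderOf g = 4 := by rw [orderOf_eq_card_of_forall_mem_zpowers hg, hK4]
      have hg2 : g ^ 2 = 1 := by
        apply Subtype.ext
        rw [pow_two]
        exact hKexp g g.2
      have := orderOf_dvd_of_pow_eq_one hg2
      rw [ho] at this
      omega

end Cfsg.Agent.Lib.helper26.S4409
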