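import Mathlib
import Cfsg.Agent.Lib.helper44.PresDefs

/-!
S2286 piece MAT2 (helper69, insurance copy): `mat_char_two_h69`, `mat_char_two_torus_h69`,
`psl_equiv_of_char_two_h69`.
-/

set_option autoImplicit false

namespace Cfsg.Agent.Lib.helper69.Pres

open Cfsg.Agent.Lib.helper44.Pres

theorem h69_mH_mul {F : Type*} [Field F] (a b : Fˣ) : mH a * mH b = mH (a * b) := by
  apply Subtype.ext
  rw [Matrix.SpecialLinearGroup.coe_mul]
  simp [mH, mul_comm]

theorem h69_mH_one {F : Type*} [Field F] : mH (1 : Fˣ) = 1 := by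
  ext i j
  fin_cases i <;> fin_cases j <;> simp [mH]

theorem h69_mH_pow {F : Type*} [Field F] (a : Fˣ) (n : ℕ) : mH a ^ n = mH (a ^ n) := by
  induction n with
  | zero => simp [h69_mH_one]
  | succ n ih => rw [pow_succ, ih, h69_mH_mul, pow_succ]

theorem h69_mH_pow_card {F : Type*} [Field F] [Fintype F] (ζ : Fˣ) :
    mH ζ ^ (Fintype.card F - 1) = 1 := by
  classical
  rw [h69_mH_pow, ← Fintype.card_units, pow_card_eq_one, h69_mH_one]

theorem h69_mT_mH {F : Type*} [Field F] (ζ : Fˣ) : mT F * mH ζ * (mT F)⁻¹ = (mH ζ)⁻¹ := by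
  rw [mul_inv_eq_iff_eq_mul, eq_inv_mul_iff_mul_eq]
  apply Subtype.ext
  simp only [Matrix.SpecialLinearGroup.coe_mul]
  simp [mH, mT]

theorem h69_conj_pow {G : Type*} [Group G] (t h : G) (hth : t * h * t⁻¹ = h⁻¹) (n : ℕ) :
    t * h ^ n * t⁻¹ = (h ^ n)⁻¹ := by
  induction n with
  | zero => simp
  | succ n ih =>
    have : t * h ^ (n + 1) * t⁻¹ = (t * h ^ n * t⁻¹) * (t * h * t⁻¹) := by
      rw [pow_succ]; group
    rw [this, ih, hth, ← mul_inv_rev, ← pow_succ']

end Cfsg.Agent.Lib.helper69.Pres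

namespace Cfsg.Agent.Lib.helper44.Pres

open Cfsg.Agent.Lib.helper69.Pres

/-- MAT2 (insurance copy of helper69) -/
theorem mat_char_two_h69 {F : Type*} [Field F] [CharP F 2] :
    mU F 1 ^ 2 = 1 ∧ mU F 1 * mT F * mU F 1 = mT F * mU F 1 * mT F := by
  have h2 : (1 : F) + 1 = 0 := CharTwo.add_self_eq_zero 1
  have hneg : (-1 : F) = 1 := CharTwo.neg_eq 1
  constructor
  · apply Subtype.ext
    rw [pow_two, Matrix.SpecialLinearGroup.coe_mul]
    simp [mU, h2, Matrix.one_fin_two]
  · apply Subtype.ext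
    simp only [Matrix.SpecialLinearGroup.coe_mul]
    simp [mU, mT, h2, hneg]

/-- MAT2 (insurance copy of helper69) -/
theorem mat_char_two_torus_h69 {F : Type*} [Field F] [Fintype F] [CharP F 2] (ζ : Fˣ) :
    mT F * mH ζ ^ (Fintype.card F / 2) * (mT F)⁻¹ = mH ζ ^ (Fintype.card F / 2 - 1) := by
  classical
  have heven : Fintype.card F % 2 = 0 :=
    FiniteField.even_card_of_char_two (ringChar.eq F 2)
  have hpos : 0 < Fintype.card F := Fintype.card_pos
  rw [h69_conj_pow _ _ (h69_mT_mH ζ), inv_eq_iff_mul_eq_one, ← pow_add]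
  have : Fintype.card F / 2 + (Fintype.card F / 2 - 1) = Fintype.card F - 1 := by omega
  rw [this, h69_mH_pow_card]

/-- MAT2 (insurance copy of helper69) -/
theorem psl_equiv_of_char_two_h69 {F : Type*} [Field F] [Fintype F] [CharP F 2] :
    Nonempty (Matrix.SpecialLinearGroup (Fin 2) F ≃* Matrix.ProjectiveSpecialLinearGroup (Fin 2) F) := by
  have hc : Subgroup.center (Matrix.SpecialLinearGroup (Fin 2) F) = ⊥ := by
    rw [Subgroup.eq_bot_iff_forall]
    intro A hA
    obtain ⟨r, hr, hrA⟩ := Matrix.SpecialLinearGroup.mem_center_iff.mp hA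
    have hr2 : r ^ 2 = 1 := by simpa using hr
    have h1 : (r + 1) ^ 2 = 0 := by
      rw [CharTwo.add_sq, hr2, one_pow, CharTwo.add_self_eq_zero]
    have h2 : r + 1 = 0 := by simpa using h1
    have h3 : r = 1 := by
      have : r = -1 := eq_neg_of_add_eq_zero_left h2
      rw [this, CharTwo.neg_eq]
    apply Subtype.ext
    rw [← hrA, h3]
    simp
  exact ⟨((QuotientGroup.quotientMulEquivOfEq hc).trans QuotientGroup.quotientBot).symm⟩

end Cfsg.Agent.Lib.helper44.Pres
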