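import Mathlib
import Cfsg.Agent.Lib.helper44.PresDefs
import Cfsg.Agent.Lib.helper69.PresMAT2

/-!
S2286 piece MAT2 (helper69): canonical module with the verbatim skeleton names.
-/

set_option autoImplicit false

namespace Cfsg.Agent.Lib.helper69.Pres
end Cfsg.Agent.Lib.helper69.Pres

namespace Cfsg.Agent.Lib.helper44.Pres

-- MAT2
theorem mat_char_two {F : Type*} [Field F] [CharP F 2] :
    mU F 1 ^ 2 = 1 ∧ mU F 1 * mT F * mU F 1 = mT F * mU F 1 * mT F := mat_char_two_h69

-- MAT2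
theorem mat_char_two_torus {F : Type*} [Field F] [Fintype F] [CharP F 2] (ζ : Fˣ) :
    mT F * mH ζ ^ (Fintype.card F / 2) * (mT F)⁻¹ = mH ζ ^ (Fintype.card F / 2 - 1) :=
  mat_char_two_torus_h69 ζ

-- MAT2
theorem psl_equiv_of_char_two {F : Type*} [Field F] [Fintype F] [CharP F 2] :
    Nonempty (Matrix.SpecialLinearGroup (Fin 2) F ≃* Matrix.ProjectiveSpecialLinearGroup (Fin 2) F) :=
  psl_equiv_of_char_two_h69

end Cfsg.Agent.Lib.helper44.Pres
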