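import Mathlib
import Cfsg.Agent.Lib.helper90.BG1363Defs
import Cfsg.Agent.S1350
import Cfsg.Agent.S1378
import Cfsg.Agent.S1420
import Cfsg.Agent.S1430
import Cfsg.Agent.Lib.helper69.BGKappaB
import Cfsg.Agent.Lib.helper25.BGTenNineC
import Cfsg.Agent.Lib.helper25.BG1367
import Cfsg.Agent.Lib.helper54.BG8PNU
import Cfsg.Agent.Lib.helper71.BGRegNA
import Cfsg.Agent.Lib.helper3.BGCross
import Cfsg.Agent.Lib.helper3.ZgBase
import Cfsg.Agent.Lib.helper60.BGSylU
import Cfsg.Agent.Lib.lead.Hall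

/-!
# S1363, PIECE KP (helper69): `|K| ∈ κ(H)` forces `H` conjugate to `M`

`M` a maximal subgroup, `K` a Hall `κ(M)`-subgroup of prime order `q`, `H` a maximal subgroup
containing `K` with `q ∈ κ(H)`.  Then `H` is conjugate to `M`.  See `tools/S1363_SPEC.md`.
-/

set_option autoImplicit false

namespace Cfsg.Agent.Lib.helper90.BG1363

open Cfsg

variable {G : Type*} [Group G]

/-- In a solvable subgroup `L`, every `π`-subgroup lies in a Hall `π`-subgroup of `L`. -/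
theorem h69_exists_hall_ge [Finite G] {L : Subgroup G} (hLs : Group.IsSolvable ↥L) (π : Set ℕ)
    (Y : Subgroup G) (hYL : Y ≤ L) (hY : ∀ p : ℕ, p.Prime → p ∣ Nat.card Y → p ∈ π) :
    ∃ KL : Subgroup G, IsPiHallOf π KL L ∧ Y ≤ KL := by
  have := hLs
  obtain ⟨H, hH⟩ := Cfsg.Agent.Lib.lead.exists_isPiHall_of_isSolvable π ↥L
  have hYπ : IsPiSubgroup π (Y.subgroupOf L) := by
    intro p hp hd
    rw [Nat.card_congr (Subgroup.subgroupOfEquivOfLe hYL).toEquiv] at hd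
    exact hY p hp hd
  obtain ⟨g, hg⟩ := Cfsg.Agent.Lib.lead.le_conj_isPiHall_of_isSolvable hH hYπ
  have hH' := Cfsg.Agent.Lib.lead.isPiHall_map_conj hH g
  refine ⟨(H.map (MulAut.conj g).toMonoidHom).map L.subtype,
    ⟨Subgroup.map_subtype_le _, ?_, ?_⟩, ?_⟩
  · intro p hp hd
    rw [Subgroup.card_map_of_injective L.subtype_injective] at hd
    exact hH'.1 p hp hd
  · intro p hp hpπ hd
    apply hH'.2 p hp hpπ
    have e : ((H.map (MulAut.conj g).toMonoidHom).map L.subtype).relIndex L =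
        (H.map (MulAut.conj g).toMonoidHom).index := by
      unfold Subgroup.relIndex Subgroup.subgroupOf
      rw [Subgroup.comap_map_eq_self_of_injective L.subtype_injective]
    rwa [e] at hd
  · intro y hy
    exact ⟨⟨y, hYL hy⟩, hg (Subgroup.mem_subgroupOf.mpr hy), rfl⟩

/-- A subgroup of prime order is generated by an element of that order. -/
theorem h69_prime_gen [Finite G] (Y : Subgroup G) (hYp : (Nat.card Y).Prime) :
    ∃ y ∈ Y, y ≠ 1 ∧ orderOf y = Nat.card Y ∧ ∀ z ∈ Y, ∃ n : ℤ, y ^ n = z := by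
  have : Fact (Nat.card Y).Prime := ⟨hYp⟩
  have hnt : Nontrivial Y := by
    rw [← Finite.one_lt_card_iff_nontrivial]
    exact hYp.one_lt
  obtain ⟨y, hy1⟩ := exists_ne (1 : Y)
  have htop : Subgroup.zpowers y = ⊤ := zpowers_eq_top_of_prime_card rfl hy1
  refine ⟨(y : G), y.2, fun h => hy1 (Subtype.ext h), ?_, fun z hz => ?_⟩
  · rw [Subgroup.orderOf_coe, ← Nat.card_zpowers, htop, Subgroup.card_top]
  · have hmem : (⟨z, hz⟩ : Y) ∈ Subgroup.zpowers y := by
      rw [htop]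
      trivial
    obtain ⟨n, hn⟩ := Subgroup.mem_zpowers_iff.mp hmem
    refine ⟨n, ?_⟩
    have h2 := congrArg Subtype.val hn
    simpa using h2

/-- `Y ≤ L` of prime order `p ∉ σ(L)` centralizing a non-identity element of `L_σ`: either
`p ∈ κ(L)` or `L` is the only maximal subgroup over `C_G(Y)`. -/
theorem h69_kappa_or_uniq [Finite G] (hG : IsMinSimpleOddOrder G) (L : Subgroup G)
    (hL : IsCoatom L) (Y : Subgroup G) (hYL : Y ≤ L) (hYp : (Nat.card Y).Prime)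
    (hYσ : Nat.card Y ∉ sigma L) (k : G) (hk : k ∈ sigmaCore L) (hk1 : k ≠ 1)
    (hYk : ∀ y ∈ Y, y * k = k * y) :
    Nat.card Y ∈ kappa L ∨
      ∀ N : Subgroup G, IsCoatom N → Subgroup.centralizer (Y : Set G) ≤ N → N = L := by
  obtain ⟨hodd, hsimple, hna, hsolv⟩ := id hG
  have hU := Cfsg.Agent.Lib.helper13.bgx_uniq hG
  obtain ⟨y, hyY, hy1, hyo, hgen⟩ := h69_prime_gen Y hYp
  by_cases hrk : PRankLE (Nat.card Y) 1 ↥L
  · left
    exact Cfsg.Agent.Lib.helper54.PNU.mem_kappa_of_nonregular hodd L (Nat.card Y) hYp hYσ hrk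
      y (hYL hyY) hyo k hk hk1 (hYk y hyY)
  · right
    have hr2 : PRankLE (Nat.card Y) 2 ↥L := by
      by_contra h
      exact hYσ (Cfsg.Agent.Lib.helper8.bg_alpha_sub_sigma hG hU L hL ⟨hYp, h⟩)
    have hτ2 : Nat.card Y ∈ tau2 L := ⟨hYp, hYσ, hr2, hrk⟩
    obtain ⟨E, hE⟩ := Cfsg.Agent.Lib.helper60.BGSylU.exists_compl_sigmaCore hG L hL
    obtain ⟨-, -, -, h4⟩ := Cfsg.Agent.S1420.result hG L hL E hE
    have h5 := h4 y (hYL hyY) hy1 (fun r hr hrd => by
      rw [hyo] at hrd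
      rw [(Nat.prime_dvd_prime_iff_eq hr hYp).mp hrd]
      exact hτ2) ⟨hYL hyY, k, hk, hk1, hYk y hyY⟩
    intro N hN hCN
    apply h5.2 N hN
    intro c hc
    apply hCN
    rw [Subgroup.mem_centralizer_iff] at hc ⊢
    intro z hz
    obtain ⟨n, rfl⟩ := hgen z hz
    have hcy : Commute y c := hc y (Set.mem_singleton y)
    exact (hcy.zpow_left n).eq

/-- PIECE KP. -/
theorem kappa_conj [Finite G] (hG : IsMinSimpleOddOrder G) (M : Subgroup G) (hM : IsCoatom M)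
    (K : Subgroup G) (hK : IsPiHallOf (kappa M) K M) (hKp : (Nat.card K).Prime)
    (H : Subgroup G) (hH : IsCoatom H) (hKH : K ≤ H) (hq : Nat.card K ∈ kappa H) :
    ∃ g : G, H = M.map (MulAut.conj g).toMonoidHom := by
  obtain ⟨hodd, hsimple, hna, hsolv⟩ := id hG
  have h30 : Cfsg.Agent.Lib.helper69.H1430 G :=
    fun M hM K hK hK1 => Cfsg.Agent.S1430.result hG M hM K hK hK1
  have h78 := (Cfsg.Agent.S1378.result hG).2
  have : Fact (Nat.card K).Prime := ⟨hKp⟩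
  have hK1 : K ≠ ⊥ := by
    rintro rfl
    rw [Subgroup.card_bot] at hKp
    exact Nat.not_prime_one hKp
  have hKq : IsPGroup (Nat.card K) K := IsPGroup.of_card (n := 1) (by rw [pow_one])
  have hqM : Nat.card K ∈ kappa M := hK.2.1 _ hKp dvd_rfl
  obtain ⟨k, hkK, hk1, hko, hkgen⟩ := h69_prime_gen K hKp
  obtain ⟨hHallM, -, -⟩ := Cfsg.Agent.S1350.result hG M hM
  obtain ⟨hHallH, -, -⟩ := Cfsg.Agent.S1350.result hG H hH
  -- every subgroup centralizing `k` centralizes `K`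
  have hcentK : ∀ c : G, c * k = k * c → c ∈ Subgroup.centralizer (K : Set G) := by
    intro c hc
    rw [Subgroup.mem_centralizer_iff]
    intro z hz
    obtain ⟨n, rfl⟩ := hkgen z hz
    have hcy : Commute k c := hc.symm
    exact (hcy.zpow_left n).eq
  -- Step 1: a Hall `κ(H)`-subgroup `KH ≥ K`
  obtain ⟨KH, hKHall, hKKH⟩ := h69_exists_hall_ge (hsolv H hH.1) (kappa H) K hKH
    (fun p hp hd => by rw [(Nat.prime_dvd_prime_iff_eq hp hKp).mp hd]; exact hq)
  have hKH1 : KH ≠ ⊥ := fun h => hK1 (le_bot_iff.mp (h ▸ hKKH))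
  -- Step 2: `Y ≤ KH*` of prime order `p ∈ σ(H)`
  have hKHs := Cfsg.Agent.Lib.helper25.BG1367.ks_ne_bot h30 H hH KH hKHall hKH1
  obtain ⟨p, hp, hpd⟩ := Nat.exists_prime_and_dvd
    (fun h => hKHs (Subgroup.card_eq_one.mp h))
  have : Fact p.Prime := ⟨hp⟩
  obtain ⟨y0, hy0⟩ := exists_prime_orderOf_dvd_card' p hpd
  have hy0' : orderOf (y0 : G) = p := by rw [Subgroup.orderOf_coe]; exact hy0
  have hYle : Subgroup.zpowers (y0 : G) ≤
      sigmaCore H ⊓ Subgroup.centralizer (KH : Set G) := by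
    rw [Subgroup.zpowers_le]; exact y0.2
  have hYc : Nat.card ↥(Subgroup.zpowers (y0 : G)) = p := by rw [Nat.card_zpowers, hy0']
  have hYu := Cfsg.Agent.Lib.helper25.BG1367.cent_uniq hG h30 H hH KH hKHall hKH1
    (Subgroup.zpowers (y0 : G)) hYle (hYc ▸ hp)
  have hpH : p ∈ sigma H := hHallH.2.1 p hp (by
    rw [← hYc]; exact Subgroup.card_dvd_of_le (hYle.trans inf_le_left))
  -- Step 3: `L ≥ N_G(K)`
  obtain ⟨L, hL, hNL⟩ := (eq_top_or_exists_le_coatom _).resolve_left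
    (Cfsg.Agent.Lib.helper25.BGT.normalizer_ne_top_of_isPGroup hG (Nat.card K) K hKq hK1)
  obtain ⟨hHallL, -, -⟩ := Cfsg.Agent.S1350.result hG L hL
  obtain ⟨-, -, hM3⟩ := h30 M hM K hK hK1
  obtain ⟨hMN, -, hMs⟩ := hM3 K le_rfl hKp
  have hKLs : K ≤ sigmaCore L := hMs L hL hNL
  have hqL : Nat.card K ∈ sigma L := hHallL.2.1 _ hKp (Subgroup.card_dvd_of_le hKLs)
  have hCKL : Subgroup.centralizer (K : Set G) ≤ L :=
    (Subgroup.centralizer_le_normalizer _).trans hNL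
  have hYCK : Subgroup.zpowers (y0 : G) ≤ Subgroup.centralizer (K : Set G) :=
    (hYle.trans inf_le_right).trans (Subgroup.centralizer_le hKKH)
  have hYL : Subgroup.zpowers (y0 : G) ≤ L := hYCK.trans hCKL
  have hYk : ∀ y ∈ Subgroup.zpowers (y0 : G), y * k = k * y := fun y hy =>
    (Subgroup.mem_centralizer_iff.mp (hYCK hy) k hkK).symm
  -- Step 4: `p ∉ σ(L)`
  have hpL : p ∉ sigma L := by
    intro hpL
    obtain ⟨g, hg⟩ := h78 L H hL hH ⟨p, hpL, hpH⟩
    have e : sigma H = sigma L := by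
      rw [hg]; exact Cfsg.Agent.Lib.helper3.sigma_map_conj L g
    exact hq.2.2.1 (e ▸ hqL)
  -- Step 5: `p ∈ κ(L)`
  have hpκL : p ∈ kappa L := by
    rcases h69_kappa_or_uniq hG L hL _ hYL (hYc ▸ hp) (hYc ▸ hpL) k (hKLs hkK) hk1 hYk
      with h | h
    · rwa [hYc] at h
    · exfalso
      have e : H = L := h H hH hYu.1
      exact hq.2.2.1 (e ▸ hqL)
  -- Step 6: `KL` Hall `κ(L)`, `Y ≤ KL`
  obtain ⟨KL, hKLHall, hYKL⟩ := h69_exists_hall_ge (hsolv L hL.1) (kappa L)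
    (Subgroup.zpowers (y0 : G)) hYL (fun r hr hd => by
      rw [hYc] at hd
      rw [(Nat.prime_dvd_prime_iff_eq hr hp).mp hd]; exact hpκL)
  -- Step 7: `Y' ≤ K*` of prime order `p' ∈ σ(M)`
  have hKs := Cfsg.Agent.Lib.helper25.BG1367.ks_ne_bot h30 M hM K hK hK1
  obtain ⟨p', hp', hpd'⟩ := Nat.exists_prime_and_dvd
    (fun h => hKs (Subgroup.card_eq_one.mp h))
  have : Fact p'.Prime := ⟨hp'⟩
  obtain ⟨y1, hy1⟩ := exists_prime_orderOf_dvd_card' p' hpd'
  have hy1' : orderOf (y1 : G) = p' := by rw [Subgroup.orderOf_coe]; exact hy1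
  have hY'le : Subgroup.zpowers (y1 : G) ≤
      sigmaCore M ⊓ Subgroup.centralizer (K : Set G) := by
    rw [Subgroup.zpowers_le]; exact y1.2
  have hY'c : Nat.card ↥(Subgroup.zpowers (y1 : G)) = p' := by rw [Nat.card_zpowers, hy1']
  have hY'u := Cfsg.Agent.Lib.helper25.BG1367.cent_uniq hG h30 M hM K hK hK1
    (Subgroup.zpowers (y1 : G)) hY'le (hY'c ▸ hp')
  have hp'M : p' ∈ sigma M := hHallM.2.1 p' hp' (by
    rw [← hY'c]; exact Subgroup.card_dvd_of_le (hY'le.trans inf_le_left))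
  have hY'M : Subgroup.zpowers (y1 : G) ≤ M := (hY'le.trans inf_le_left).trans hHallM.1
  have hY'1 : Subgroup.zpowers (y1 : G) ≠ ⊥ := by
    intro h
    rw [h, Subgroup.card_bot] at hY'c
    exact hp'.one_lt.ne hY'c
  have hNY' : Subgroup.normalizer ((Subgroup.zpowers (y1 : G) : Subgroup G) : Set G) ≤ M :=
    Cfsg.Agent.Lib.helper71.BGRegNA.normalizer_le_of_uniq hG M _ hM hY'M hY'1 hY'u.2
  have hY'CK : Subgroup.zpowers (y1 : G) ≤ Subgroup.centralizer (K : Set G) :=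
    hY'le.trans inf_le_right
  have hY'L : Subgroup.zpowers (y1 : G) ≤ L := hY'CK.trans hCKL
  have hY'k : ∀ y ∈ Subgroup.zpowers (y1 : G), y * k = k * y := fun y hy =>
    (Subgroup.mem_centralizer_iff.mp (hY'CK hy) k hkK).symm
  have hp'L : p' ∉ sigma L := by
    intro h
    obtain ⟨g, hg⟩ := h78 M L hM hL ⟨p', hp'M, h⟩
    have e : sigma L = sigma M := by
      rw [hg]; exact Cfsg.Agent.Lib.helper3.sigma_map_conj M g
    exact hqM.2.2.1 (e ▸ hqL)
  have hp'κL : p' ∈ kappa L := by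
    rcases h69_kappa_or_uniq hG L hL _ hY'L (hY'c ▸ hp') (hY'c ▸ hp'L) k (hKLs hkK) hk1 hY'k
      with h | h
    · rwa [hY'c] at h
    · exfalso
      have e : M = L := h M hM hY'u.1
      exact hqM.2.2.1 (e ▸ hqL)
  -- Step 8: `KL'` Hall `κ(L)`, `Y' ≤ KL'`; `KL' ≤ K ⊔ K*`
  obtain ⟨KL', hKL'Hall, hY'KL'⟩ := h69_exists_hall_ge (hsolv L hL.1) (kappa L)
    (Subgroup.zpowers (y1 : G)) hY'L (fun r hr hd => by
      rw [hY'c] at hd
      rw [(Nat.prime_dvd_prime_iff_eq hr hp').mp hd]; exact hp'κL)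
  have hKL'1 : KL' ≠ ⊥ := fun h => hY'1 (le_bot_iff.mp (h ▸ hY'KL'))
  obtain ⟨hL1, -, hL3⟩ := h30 L hL KL' hKL'Hall hKL'1
  have hy1ne : (y1 : G) ≠ 1 := by
    intro h
    rw [h, orderOf_one] at hy1'
    exact hp'.one_lt.ne hy1'
  have hy1KL' : (y1 : G) ∈ KL' := hY'KL' (Subgroup.mem_zpowers _)
  have hkcent : k ∈ Subgroup.centralizer (KL' : Set G) := by
    have h1 : k ∈ sigmaCore L ⊓ Subgroup.centralizer ({(y1 : G)} : Set G) := by
      refine Subgroup.mem_inf.mpr ⟨hKLs hkK, ?_⟩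
      rw [Subgroup.mem_centralizer_iff]
      intro z hz
      rw [Set.mem_singleton_iff] at hz
      rw [hz]
      exact hY'k _ (Subgroup.mem_zpowers _)
    rw [hL1 _ hy1KL' hy1ne] at h1
    exact h1.2
  have hKL'CK : KL' ≤ Subgroup.centralizer (K : Set G) := by
    intro z hz
    exact hcentK z (Subgroup.mem_centralizer_iff.mp hkcent z hz)
  have hKL'M : KL' ≤ M := by
    have h1 := (hL3 _ hY'KL' (hY'c ▸ hp')).1
    have h2 : KL' ≤ L ⊓ Subgroup.normalizer ((Subgroup.zpowers (y1 : G) : Subgroup G) : Set G) := by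
      rw [h1]; exact le_sup_left
    exact (h2.trans inf_le_right).trans hNY'
  have hKL'Z : KL' ≤ K ⊔ (sigmaCore M ⊓ Subgroup.centralizer (K : Set G)) := by
    rw [← hMN]
    exact le_inf hKL'M (hKL'CK.trans (Subgroup.centralizer_le_normalizer _))
  -- Step 9: `p ∣ |KL'|`, hence `p ∈ σ(M)`
  have hpKL' : p ∣ Nat.card KL' := by
    rw [← Cfsg.Agent.Lib.helper69.bgk_hall_card_eq hKLHall hKL'Hall, ← hYc]
    exact Subgroup.card_dvd_of_le hYKL
  have hdisj : (sigmaCore M ⊓ Subgroup.centralizer (K : Set G)) ⊓ K = ⊥ := by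
    have h1 := Cfsg.Agent.Lib.helper69.bgk_K_inf_sigmaCore hK hHallM
    apply le_bot_iff.mp
    rw [← h1]
    exact le_inf inf_le_right (inf_le_left.trans inf_le_left)
  have hKn : K ≤ Subgroup.normalizer
      ((sigmaCore M ⊓ Subgroup.centralizer (K : Set G) : Subgroup G) : Set G) := by
    refine le_trans ?_ (Subgroup.centralizer_le_normalizer _)
    rw [Subgroup.le_centralizer_iff]
    exact inf_le_right
  have hcardZ := Cfsg.Agent.Lib.helper3.zg_card_sup
    (sigmaCore M ⊓ Subgroup.centralizer (K : Set G)) K hKn hdisj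
  have hpq : p ≠ Nat.card K := fun h => hpL (h ▸ hqL)
  have hpZ : p ∣ Nat.card ↥(sigmaCore M ⊓ Subgroup.centralizer (K : Set G)) := by
    have h1 : p ∣ Nat.card ↥((sigmaCore M ⊓ Subgroup.centralizer (K : Set G)) ⊔ K) := by
      rw [sup_comm]
      exact hpKL'.trans (Subgroup.card_dvd_of_le hKL'Z)
    rw [hcardZ] at h1
    rcases (Nat.Prime.dvd_mul hp).mp h1 with h | h
    · exact h
    · exact absurd ((Nat.prime_dvd_prime_iff_eq hp hKp).mp h) hpq
  have hpM : p ∈ sigma M :=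
    hHallM.2.1 p hp (hpZ.trans (Subgroup.card_dvd_of_le inf_le_left))
  exact h78 M H hM hH ⟨p, hpM, hpH⟩

end Cfsg.Agent.Lib.helper90.BG1363
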