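import Cfsg.Agent.Lib.helper28.BG1436Imp
import Cfsg.Agent.Lib.helper28.BG1436Defs

/-!
S1436 piece PA (helper69, for helper28's split): B-G Theorem 14.4(d), `π(M) ∩ σ(N) ⊆ β(N)`.
-/

set_option autoImplicit false
set_option linter.style.haveILetI false

namespace Cfsg.Agent.Lib.helper69.BG1436

open Cfsg Subgroup

variable {G : Type*} [Group G]

/-- an element of a `p`-group lying in a subgroup of order prime to `p` is trivial. -/
theorem h69_eq_one_of_pgroup_coprime [Finite G] {p : ℕ} {H K : Subgroup G} (hH : IsPGroup p H)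
    (hK : (Nat.card K).Coprime p) {c : G} (hcH : c ∈ H) (hcK : c ∈ K) : c = 1 := by
  obtain ⟨k, hk⟩ := hH ⟨c, hcH⟩
  have hk' : c ^ (p ^ k) = 1 := by
    have h := congrArg Subtype.val hk
    rwa [Subgroup.coe_pow] at h
  have h1 : orderOf c ∣ p ^ k := orderOf_dvd_of_pow_eq_one hk'
  have h2 : orderOf c ∣ Nat.card K := Subgroup.orderOf_dvd_natCard K hcK
  have h3 : (orderOf c).Coprime (p ^ k) := (hK.pow_right k).coprime_dvd_left h2
  exact orderOf_eq_one_iff.mp (h3.eq_one_of_dvd h1)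

/-- `a ∈ W`, `y ∈ Y`, `a` normalizes `Y`, `y` normalizes `W`, `Y` a `p`-group and `|W|` prime to
`p`: then `a` and `y` commute. -/
theorem h69_comm_of_coprime [Finite G] {p : ℕ} {W Y : Subgroup G} (hY : IsPGroup p Y)
    (hW : (Nat.card W).Coprime p) {a y : G} (ha : a ∈ W) (hy : y ∈ Y)
    (haY : a ∈ normalizer (Y : Set G)) (hyW : y ∈ normalizer (W : Set G)) : a * y = y * a := by
  have hc1 : a * y * a⁻¹ * y⁻¹ ∈ Y :=
    Y.mul_mem ((Subgroup.mem_normalizer_iff.mp haY y).mp hy) (Y.inv_mem hy)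
  have hc2 : a * y * a⁻¹ * y⁻¹ ∈ W := by
    have h1 : y * a⁻¹ * y⁻¹ ∈ W := (Subgroup.mem_normalizer_iff.mp hyW a⁻¹).mp (W.inv_mem ha)
    have h2 := W.mul_mem ha h1
    have e : a * (y * a⁻¹ * y⁻¹) = a * y * a⁻¹ * y⁻¹ := by group
    rwa [e] at h2
  have h := h69_eq_one_of_pgroup_coprime hY hW hc1 hc2
  calc a * y = (a * y * a⁻¹ * y⁻¹) * (y * a) := by group
    _ = y * a := by rw [h, one_mul]

end Cfsg.Agent.Lib.helper69.BG1436

namespace Cfsg.Agent.Lib.helper28.BG1436

open Cfsg Subgroup Cfsg.Agent.Lib.helper69.BG1436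

variable {G : Type*} [Group G]

/-- (PA) B-G 14.4(d): `π(M) ∩ σ(N) ⊆ β(N)`. -/
theorem pair_beta [Finite G] (hG : IsMinSimpleOddOrder G) {M N : Subgroup G} {x : G} {r : ℕ}
    {A : Subgroup G} (hM : IsCoatom M) (hN : IsCoatom N) (F : PairFacts M N x r A)
    (p : ℕ) (hp : p ∈ sigma N) (hpM : p ∣ Nat.card M) : p ∈ beta N := by
  by_contra hpβ
  have hpp : p.Prime := hp.1
  have hpN : p ∣ Nat.card N := hp.2.1
  haveI : Fact p.Prime := ⟨hpp⟩
  haveI : Fact r.Prime := ⟨F.hr⟩
  obtain ⟨-, hrσN, hr2, hr1⟩ := F.hrN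
  have hrdM : r ∣ Nat.card M := F.hrM.2.1
  have hpr : p ≠ r := by
    rintro rfl
    exact hrσN hp
  have hpσM : p ∉ sigma M := by
    intro h
    obtain ⟨g, hg⟩ := (Cfsg.Agent.S1378.result hG).2 M N hM hN ⟨p, h, hp⟩
    exact F.hnc g hg
  have hAN : A ≤ N := F.hAle.trans inf_le_right
  have hAM : A ≤ M := F.hAle.trans inf_le_left
  have hH := (Cfsg.Agent.S1350.result hG N hN).1
  -- Step 1: r < p
  have h14N := ((Cfsg.Agent.S1414.result hG N hN).2.2.2.2 p hpp hpN hpβ).2.2
  have hrlt : r < p := by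
    have hrdvd : r ∣ (pPrimeCore p ↥N).index := by
      by_contra hnd
      haveI : (pPrimeCore p ↥N).Normal := Cfsg.Agent.Lib.helper40.pPrimeCore_normal' p ↥N
      have hAW : A ≤ (pPrimeCore p ↥N).map N.subtype := by
        intro a ha
        have haN : a ∈ N := hAN ha
        have h1 : (⟨a, haN⟩ : ↥N) ^ (pPrimeCore p ↥N).index ∈ pPrimeCore p ↥N :=
          Subgroup.pow_index_mem _ _
        have har : (⟨a, haN⟩ : ↥N) ^ r = 1 := by
          apply Subtype.ext
          rw [Subgroup.coe_pow]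
          exact F.hAel.2 a ha
        have hcop : Nat.Coprime (pPrimeCore p ↥N).index r :=
          ((Nat.Prime.coprime_iff_not_dvd F.hr).mpr hnd).symm
        obtain ⟨m, -, hm⟩ := Nat.exists_mul_mod_eq_one_of_coprime hcop F.hr.one_lt
        have h2 : (⟨a, haN⟩ : ↥N) ^ ((pPrimeCore p ↥N).index * m) = ⟨a, haN⟩ := by
          rw [pow_eq_pow_mod _ har, hm, pow_one]
        have h3 : (⟨a, haN⟩ : ↥N) ∈ pPrimeCore p ↥N := by
          rw [← h2, pow_mul]
          exact Subgroup.pow_mem _ h1 m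
        exact ⟨⟨a, haN⟩, h3, rfl⟩
      haveI : Group.IsNilpotent ↥(sigmaCore N) := F.hnil
      obtain ⟨P⟩ := (Sylow.nonempty : Nonempty (Sylow p ↥(sigmaCore N)))
      have hPn : (P : Subgroup ↥(sigmaCore N)).Normal :=
        Sylow.normal_of_normalizerCondition Group.normalizerCondition_of_isNilpotent P
      haveI : (P : Subgroup ↥(sigmaCore N)).Characteristic := Sylow.characteristic_of_normal P hPn
      have hNY : N ≤ normalizer
          (((P : Subgroup ↥(sigmaCore N)).map (sigmaCore N).subtype : Subgroup G) : Set G) :=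
        (Cfsg.Agent.Lib.helper71.BGA.le_normalizer_sigmaCore N).trans
          (Cfsg.Agent.Lib.helper1.normalizer_le_normalizer_map_of_characteristic (sigmaCore N)
            (P : Subgroup ↥(sigmaCore N)))
      have hYp : IsPGroup p ((P : Subgroup ↥(sigmaCore N)).map (sigmaCore N).subtype) := P.2.map _
      have hYσ : (P : Subgroup ↥(sigmaCore N)).map (sigmaCore N).subtype ≤ sigmaCore N :=
        Subgroup.map_subtype_le _
      have hσN : sigmaCore N ≤ N := Cfsg.Agent.Lib.helper71.BGA.sigmaCore_le N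
      have hpσ : p ∣ Nat.card (sigmaCore N) := by
        have h1 := Cfsg.Agent.Lib.helper69.bgk_card_mul_relIndex hH.1
        have h2 : ¬ p ∣ (sigmaCore N).relIndex N := hH.2.2 p hpp hp
        rw [← h1] at hpN
        exact (hpp.dvd_mul.mp hpN).resolve_right h2
      have hYne : (P : Subgroup ↥(sigmaCore N)).map (sigmaCore N).subtype ≠ ⊥ := by
        have h1 : (P : Subgroup ↥(sigmaCore N)) ≠ ⊥ := P.ne_bot_of_dvd_card hpσ
        intro h
        exact h1 ((Subgroup.map_eq_bot_iff_of_injective _ (Subgroup.subtype_injective _)).mp h)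
      have hWcop : (Nat.card ((pPrimeCore p ↥N).map N.subtype : Subgroup G)).Coprime p :=
        Cfsg.Agent.Lib.helper40.pPrimeCore_map_subtype_card_coprime p N
      have hNW : N ≤ normalizer (((pPrimeCore p ↥N).map N.subtype : Subgroup G) : Set G) :=
        Cfsg.Agent.Lib.helper40.le_normalizer_pPrimeCore_map_subtype p N
      have hYC : (P : Subgroup ↥(sigmaCore N)).map (sigmaCore N).subtype ≤
          sigmaCore N ⊓ centralizer (A : Set G) := by
        intro y hy
        refine Subgroup.mem_inf.mpr ⟨hYσ hy, ?_⟩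
        rw [Subgroup.mem_centralizer_iff]
        intro a ha
        exact h69_comm_of_coprime hYp hWcop (hAW ha) hy (hNY (hAN ha)) (hNW (hσN (hYσ hy)))
      rw [F.hCσA] at hYC
      exact hYne (le_bot_iff.mp hYC)
    have h := h14N r F.hr hrdvd
    omega
  -- Step 2
  have hideal : ¬ IsIdealPrime r G := (Cfsg.Agent.S1408.result hG N hN r hrσN hr2 hr1).1
  have hrβM : r ∉ beta M := fun h => hideal h.2
  have h14M := ((Cfsg.Agent.S1414.result hG M hM).2.2.2.2 r F.hr hrdM hrβM).2.2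
  have hpnd : ¬ p ∣ (pPrimeCore r ↥M).index := by
    intro h
    have h' := h14M p hpp h
    omega
  have hW'card : Nat.card ((pPrimeCore r ↥M).map M.subtype : Subgroup G) =
      Nat.card (pPrimeCore r ↥M) := Subgroup.card_subtype _ _
  have hpW' : p ∣ Nat.card ((pPrimeCore r ↥M).map M.subtype : Subgroup G) := by
    rw [hW'card]
    have h1 := Subgroup.card_mul_index (pPrimeCore r ↥M)
    have h2 : p ∣ Nat.card (pPrimeCore r ↥M) * (pPrimeCore r ↥M).index := by
      rw [h1]
      exact hpM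
    exact (hpp.dvd_mul.mp h2).resolve_right hpnd
  have hW'cop : (Nat.card ((pPrimeCore r ↥M).map M.subtype : Subgroup G)).Coprime r :=
    Cfsg.Agent.Lib.helper40.pPrimeCore_map_subtype_card_coprime r M
  have hW'M : (pPrimeCore r ↥M).map M.subtype ≤ M := Subgroup.map_subtype_le _
  -- Step 3
  have hAW' : A ≤ normalizer (((pPrimeCore r ↥M).map M.subtype : Subgroup G) : Set G) :=
    hAM.trans (Cfsg.Agent.Lib.helper40.le_normalizer_pPrimeCore_map_subtype r M)
  have hcop : (Nat.card A).Coprime (Nat.card ((pPrimeCore r ↥M).map M.subtype : Subgroup G)) := by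
    rw [F.hAcard]
    exact hW'cop.symm.pow_left 2
  have hsolv : Group.IsSolvable A := by
    haveI := F.hAel.1
    exact Group.isSolvable_of_comm (fun a b => mul_comm' a b)
  obtain ⟨Q, hQA⟩ := Cfsg.Agent.Lib.helper1.exists_invariant_sylow (p := p) A
    ((pPrimeCore r ↥M).map M.subtype) hAW' hcop (Or.inl hsolv)
  have hQ'p : IsPGroup p ((Q : Subgroup ↥((pPrimeCore r ↥M).map M.subtype)).map
      ((pPrimeCore r ↥M).map M.subtype).subtype) := Q.2.map _
  have hQ'W : (Q : Subgroup ↥((pPrimeCore r ↥M).map M.subtype)).map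
      ((pPrimeCore r ↥M).map M.subtype).subtype ≤ (pPrimeCore r ↥M).map M.subtype :=
    Subgroup.map_subtype_le _
  have hQ'ne : (Q : Subgroup ↥((pPrimeCore r ↥M).map M.subtype)).map
      ((pPrimeCore r ↥M).map M.subtype).subtype ≠ ⊥ := by
    have h1 : (Q : Subgroup ↥((pPrimeCore r ↥M).map M.subtype)) ≠ ⊥ := Q.ne_bot_of_dvd_card hpW'
    intro h
    exact h1 ((Subgroup.map_eq_bot_iff_of_injective _ (Subgroup.subtype_injective _)).mp h)
  have hσcop : (Nat.card (sigmaCore M)).Coprime p := by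
    rw [Nat.coprime_comm]
    refine (Nat.Prime.coprime_iff_not_dvd hpp).mpr (fun h => hpσM ?_)
    exact Cfsg.Agent.Lib.helper71.BG12.mem_sigma_of_dvd_card_sigmaCore M hpp h
  have hMσ : M ≤ normalizer (sigmaCore M : Set G) :=
    Cfsg.Agent.Lib.helper71.BGA.le_normalizer_sigmaCore M
  have hQC : (Q : Subgroup ↥((pPrimeCore r ↥M).map M.subtype)).map
      ((pPrimeCore r ↥M).map M.subtype).subtype ≤ centralizer (A : Set G) := by
    intro q hq
    rw [Subgroup.mem_centralizer_iff]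
    intro a ha
    exact h69_comm_of_coprime hQ'p hσcop (F.hAσ ha) hq (hQA ha) (hMσ (hW'M (hQ'W hq)))
  have hQMN : (Q : Subgroup ↥((pPrimeCore r ↥M).map M.subtype)).map
      ((pPrimeCore r ↥M).map M.subtype).subtype ≤ M ⊓ N :=
    le_inf (hQ'W.trans hW'M) (hQC.trans F.hCA)
  have hpQ : p ∣ Nat.card ((Q : Subgroup ↥((pPrimeCore r ↥M).map M.subtype)).map
      ((pPrimeCore r ↥M).map M.subtype).subtype : Subgroup G) := by
    obtain ⟨k, hk⟩ := IsPGroup.iff_card.mp hQ'p
    rw [hk]
    have hk0 : k ≠ 0 := by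
      rintro rfl
      rw [pow_zero] at hk
      exact hQ'ne (Subgroup.card_eq_one.mp hk)
    exact dvd_pow_self p hk0
  have hpMN : p ∣ Nat.card ↥(M ⊓ N) := hpQ.trans (Subgroup.card_dvd_of_le hQMN)
  have h1 := Cfsg.Agent.Lib.helper69.bgk_card_mul_relIndex hH.1
  have h2 := Cfsg.Agent.Lib.helper60.BGCentU.card_of_isComplIn F.hcompl
  have h3 : (sigmaCore N).relIndex N = Nat.card ↥(M ⊓ N) := by
    have hpos : 0 < Nat.card (sigmaCore N) := Nat.card_pos
    have h4 : Nat.card (sigmaCore N) * (sigmaCore N).relIndex N =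
        Nat.card (sigmaCore N) * Nat.card ↥(M ⊓ N) := by
      rw [h1, mul_comm, h2]
    exact Nat.eq_of_mul_eq_mul_left hpos h4
  exact hH.2.2 p hpp hp (h3 ▸ hpMN)

end Cfsg.Agent.Lib.helper28.BG1436
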