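import Mathlib
import Cfsg.Agent.Lib.helper68.HallPet

set_option autoImplicit false

namespace Cfsg.Agent.Lib.helper65.PearlG

open Cfsg.Agent.Lib.helper68

variable {G : Type*} [Group G] [Finite G]

/-- K7 core (helper69): the F4 step, with the K4 / K5 / K9A / HP statements as hypotheses. -/
theorem h69_pg_F4_step_core (p : ℕ) [Fact p.Prime] (hp2 : p ≠ 2) (n : ℕ) (x : G) (i : ℕ)
    (hi : 2 ≤ i) (hin : i + p + 1 ≤ n)
    (hK4 : ∀ m : G, m ∈ gam G i → m ∉ gam G (i + 1) → com m x ∉ gam G (i + 2))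
    (hK5 : ∀ (j : ℕ), 2 ≤ j → ∀ m : G, m ∈ gam G j → m ^ p ∈ gam G (j + p - 1))
    (hK9A : ∀ (T : Subgroup G) (j : ℕ), T ≤ gam G j → ∀ k, 1 ≤ k → ∀ a : ↥T,
      a ∈ gam ↥T k → (a : G) ∈ gam G (k * j))
    (hHP : ∀ (T N : Subgroup G),
      (∀ k, 2 ≤ k → ∀ a : ↥T, a ∈ gam ↥T k → (a : G) ^ (p.choose k) ∈ N) →
      ∀ a b : G, a ∈ T → b ∈ T → ∃ z ∈ N, (a * b) ^ p = a ^ p * b ^ p * z)
    (ih : ∀ m' ∈ gam G (i + 1), m' ∉ gam G (i + 2) → m' ^ p ∉ gam G (i + p + 1))
    (m : G) (hm : m ∈ gam G i) (hm' : m ∉ gam G (i + 1)) : m ^ p ∉ gam G (i + p) := by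
  have hp : p.Prime := Fact.out
  have hp3 : 3 ≤ p := by
    have := hp.two_le
    omega
  intro hmp
  have hx1 : x ∈ gam G 1 := by
    unfold gam
    simp
  have hM : ∀ k, 2 ≤ k → ∀ a : ↥(gam G i), a ∈ gam ↥(gam G i) k →
      (a : G) ^ (p.choose k) ∈ gam G (i + p + 1) := by
    intro k hk a ha
    have h1 : (a : G) ∈ gam G (k * i) := hK9A (gam G i) i le_rfl k (by omega) a ha
    rcases lt_trichotomy k p with hkp | hkp | hkp
    · obtain ⟨c, hc⟩ : p ∣ p.choose k := hp.dvd_choose_self (by omega) hkp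
      rw [hc, pow_mul]
      have h2 : (a : G) ∈ gam G (2 * i) := gam_antitone (Nat.mul_le_mul_right i hk) h1
      have h3 := hK5 (2 * i) (by omega) (a : G) h2
      have h4 : (a : G) ^ p ∈ gam G (i + p + 1) := gam_antitone (by omega) h3
      exact Subgroup.pow_mem _ h4 c
    · subst hkp
      rw [Nat.choose_self, pow_one]
      refine gam_antitone ?_ h1
      nlinarith
    · rw [Nat.choose_eq_zero_of_lt hkp, pow_zero]
      exact Subgroup.one_mem _
  have hcm : com m x ∈ gam G (i + 1) := com_mem hm hx1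
  obtain ⟨z, hz, hzeq⟩ := hHP (gam G i) (gam G (i + p + 1)) hM m (com m x) hm
    (gam_antitone (Nat.le_succ i) hcm)
  have e1 : m * com m x = x⁻¹ * m * x := by
    unfold com
    group
  have e2 : (x⁻¹ * m * x) ^ p = x⁻¹ * m ^ p * x := by
    have := conj_pow (a := x⁻¹) (b := m) (i := p)
    simpa using this
  rw [e1, e2] at hzeq
  have hc2 : com (m ^ p) x ∈ gam G (i + p + 1) := com_mem hmp hx1
  have e3 : com (m ^ p) x = com m x ^ p * z := by
    have h0 : com (m ^ p) x = (m ^ p)⁻¹ * (x⁻¹ * m ^ p * x) := by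
      unfold com
      group
    rw [h0, hzeq]
    group
  have h5 : com m x ^ p ∈ gam G (i + p + 1) := by
    have h6 : com m x ^ p = com (m ^ p) x * z⁻¹ := by
      rw [e3]
      group
    rw [h6]
    exact Subgroup.mul_mem _ hc2 (Subgroup.inv_mem _ hz)
  exact ih (com m x) hcm (hK4 m hm hm') h5

end Cfsg.Agent.Lib.helper65.PearlG
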