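import Mathlib
import Cfsg.Prelude.Def_KGroupFacts

/-!
Helper lemmas about central extensions and perfect groups (owner: helper69).
-/

set_option autoImplicit false

universe u v

namespace Cfsg.Agent.Lib.helper69

open scoped commutatorElement

/-- If all commutators `g x g⁻¹ x⁻¹` of `g` are central and `G` is perfect, then `g` is central. -/
theorem mem_center_of_forall_commutator_mem_center {G : Type*} [Group G] (hG : Group.IsPerfect G) (g : G)
    (h : ∀ x : G, g * x * g⁻¹ * x⁻¹ ∈ Subgroup.center G) : g ∈ Subgroup.center G := by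
  let φ : G →* G := MonoidHom.mk' (fun x => g * x * g⁻¹ * x⁻¹) (by
    intro x y
    have hy := Subgroup.mem_center_iff.mp (h y)
    have : g * (x * y) * g⁻¹ * (x * y)⁻¹ = (g * x * g⁻¹) * (g * y * g⁻¹ * y⁻¹) * x⁻¹ := by group
    rw [this, mul_assoc (g * x * g⁻¹), ← hy x⁻¹]
    group)
  have hφ : ∀ x, φ x ∈ Subgroup.center G := h
  have hker : commutator G ≤ φ.ker := by
    rw [commutator_eq_closure, Subgroup.closure_le]
    rintro _ ⟨x, y, rfl⟩
    rw [SetLike.mem_coe, MonoidHom.mem_ker, map_commutatorElement]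
    rw [commutatorElement_eq_one_iff_mul_comm]
    exact (Subgroup.mem_center_iff.mp (hφ y) (φ x))
  rw [hG.commutator_eq_top] at hker
  rw [Subgroup.mem_center_iff]
  intro x
  have hx : φ x = 1 := hker (Subgroup.mem_top x)
  have hx' : g * x * g⁻¹ * x⁻¹ = 1 := hx
  have : g * x = x * g := by
    have h2 : g * x = (g * x * g⁻¹ * x⁻¹) * (x * g) := by group
    rw [h2, hx', one_mul]
  exact this.symm

/-- Two homomorphisms out of a perfect group which differ by central elements are equal. -/
theorem hom_eq_of_perfect_of_central_diff {G H : Type*} [Group G] [Group H] (hG : Group.IsPerfect G)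
    (f₁ f₂ : G →* H) (h : ∀ g, f₁ g * (f₂ g)⁻¹ ∈ Subgroup.center H) : f₁ = f₂ := by
  let φ : G →* H := MonoidHom.mk' (fun g => f₁ g * (f₂ g)⁻¹) (by
    intro x y
    have hy := Subgroup.mem_center_iff.mp (h y)
    calc f₁ (x * y) * (f₂ (x * y))⁻¹ = f₁ x * (f₁ y * (f₂ y)⁻¹) * (f₂ x)⁻¹ := by
          rw [map_mul, map_mul]; group
      _ = f₁ x * ((f₂ x)⁻¹ * (f₁ y * (f₂ y)⁻¹)) := by rw [mul_assoc, hy (f₂ x)⁻¹]
      _ = f₁ x * (f₂ x)⁻¹ * (f₁ y * (f₂ y)⁻¹) := by group)
  have hφ : ∀ x, φ x ∈ Subgroup.center H := h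
  have hker : commutator G ≤ φ.ker := by
    rw [commutator_eq_closure, Subgroup.closure_le]
    rintro _ ⟨x, y, rfl⟩
    rw [SetLike.mem_coe, MonoidHom.mem_ker, map_commutatorElement]
    rw [commutatorElement_eq_one_iff_mul_comm]
    exact (Subgroup.mem_center_iff.mp (hφ y) (φ x))
  rw [hG.commutator_eq_top] at hker
  ext g
  have hx : φ g = 1 := hker (Subgroup.mem_top g)
  have hx' : f₁ g * (f₂ g)⁻¹ = 1 := hx
  exact mul_inv_eq_one.mp hx'

/-- In a central extension, the commutator of two elements depends only on their images. -/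
theorem commutatorElement_eq_of_map_eq {P G : Type*} [Group P] [Group G] (f : P →* G)
    (hker : f.ker ≤ Subgroup.center P) (p p' q q' : P) (hp : f p = f p') (hq : f q = f q') :
    ⁅p, q⁆ = ⁅p', q'⁆ := by
  have hzk : p'⁻¹ * p ∈ f.ker := by rw [MonoidHom.mem_ker, map_mul, map_inv, hp]; group
  have hwk : q'⁻¹ * q ∈ f.ker := by rw [MonoidHom.mem_ker, map_mul, map_inv, hq]; group
  have hz := Subgroup.mem_center_iff.mp (hker hzk)
  have hw := Subgroup.mem_center_iff.mp (hker hwk)
  have hp' : p = p' * (p'⁻¹ * p) := by group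
  have hq' : q = q' * (q'⁻¹ * q) := by group
  generalize p'⁻¹ * p = z at hz hp'
  generalize q'⁻¹ * q = w at hw hq'
  rw [hp', hq', commutatorElement_def, commutatorElement_def]
  calc p' * z * (q' * w) * (p' * z)⁻¹ * (q' * w)⁻¹
      = p' * (z * q') * (w * z⁻¹) * p'⁻¹ * w⁻¹ * q'⁻¹ := by group
    _ = p' * (q' * z) * (z⁻¹ * w) * p'⁻¹ * w⁻¹ * q'⁻¹ := by rw [hz q', hw z⁻¹]
    _ = p' * q' * (w * p'⁻¹) * w⁻¹ * q'⁻¹ := by group
    _ = p' * q' * (p'⁻¹ * w) * w⁻¹ * q'⁻¹ := by rw [hw p'⁻¹]
    _ = p' * q' * p'⁻¹ * q'⁻¹ := by group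

/-- Schur: in a central extension of a finite group, the commutator subgroup is finite. -/
theorem finite_commutator_of_central_ext {P G : Type*} [Group P] [Group G] [Finite G] (f : P →* G)
    (hker : f.ker ≤ Subgroup.center P) : Finite (commutator P) := by
  classical
  have hfin : Finite (commutatorSet P) := by
    -- a section of `f` on its range
    let s : f.range → P := fun g => Classical.choose g.2
    have hs : ∀ g : f.range, f (s g) = g := fun g => Classical.choose_spec g.2
    have hsub : commutatorSet P ⊆ Set.range (fun gh : f.range × f.range => ⁅s gh.1, s gh.2⁆) := by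
      rintro _ ⟨p, q, rfl⟩
      refine ⟨(⟨f p, p, rfl⟩, ⟨f q, q, rfl⟩), ?_⟩
      exact commutatorElement_eq_of_map_eq f hker _ _ _ _ (hs ⟨f p, p, rfl⟩) (hs ⟨f q, q, rfl⟩)
    exact (Set.finite_range _).subset hsub
  infer_instance

/-- A stem extension of a perfect group is perfect. -/
theorem isPerfect_of_stem {Γ G : Type*} [Group Γ] [Group G] (hG : Group.IsPerfect G) (σ : Γ →* G)
    (hσ : Cfsg.IsStemExtension σ) : Group.IsPerfect Γ := by
  obtain ⟨hsurj, _, hcomm⟩ := hσ
  rw [Group.isPerfect_def, eq_top_iff]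
  intro γ _
  have h1 : σ γ ∈ (commutator Γ).map σ := by
    rw [commutator_def, Subgroup.map_commutator, ← MonoidHom.range_eq_map,
      MonoidHom.range_eq_top_of_surjective σ hsurj, ← commutator_def, hG.commutator_eq_top]
    exact Subgroup.mem_top _
  obtain ⟨c, hc, hcγ⟩ := h1
  have h2 : γ * c⁻¹ ∈ σ.ker := by rw [MonoidHom.mem_ker, map_mul, map_inv, hcγ]; group
  have h3 : γ = (γ * c⁻¹) * c := by group
  rw [h3]
  exact (commutator Γ).mul_mem (hcomm h2) hc

/-- If `G` has trivial Schur multiplier then every finite stem extension of `G` has trivial kernel. -/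
theorem ker_eq_bot_of_hasCyclicSchurMultiplier_one {G : Type u} [Group G]
    (h : Cfsg.HasCyclicSchurMultiplier G 1) (Γ : Type u) [Group Γ] [Finite Γ] (σ : Γ →* G)
    (hσ : Cfsg.IsStemExtension σ) : σ.ker = ⊥ := by
  obtain ⟨π', hπ'⟩ := h.2 Γ σ hσ
  rw [Subgroup.eq_bot_iff_forall]
  intro k hk
  obtain ⟨a, ha⟩ := hπ' ⟨k, hk⟩
  have hsub : Subsingleton (Multiplicative (ZMod 1)) := by
    show Subsingleton (Fin 1); infer_instance
  have ha1 : a = 1 := Subsingleton.elim _ _
  rw [ha1, map_one] at ha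
  have := congrArg Subtype.val ha
  exact this.symm

/-- A perfect group all of whose finite stem extensions are trivial has the lifting property against every
central extension. -/
theorem lift_of_trivial_multiplier {G : Type u} [Group G] [Finite G] (hG : Group.IsPerfect G)
    (htriv : ∀ (Γ : Type u) [Group Γ] [Finite Γ] (σ : Γ →* G), Cfsg.IsStemExtension σ → σ.ker = ⊥)
    {Q : Type v} [Group Q] (π : G →* Q) (X : Type u) [Group X] (ξ : X →* Q) (hξ : Function.Surjective ξ)
    (hξk : ξ.ker ≤ Subgroup.center X) : ∃ η : G →* X, ξ.comp η = π := by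
  let P : Subgroup (G × X) := MonoidHom.eqLocus (π.comp (MonoidHom.fst G X)) (ξ.comp (MonoidHom.snd G X))
  let p₁ : P →* G := (MonoidHom.fst G X).comp P.subtype
  have hPmem : ∀ y : P, π y.1.1 = ξ y.1.2 := fun y => y.2
  have hp₁surj : Function.Surjective p₁ := by
    intro g
    obtain ⟨x, hx⟩ := hξ (π g)
    exact ⟨⟨(g, x), hx.symm⟩, rfl⟩
  have hp₁ker : p₁.ker ≤ Subgroup.center P := by
    intro y hy
    rw [Subgroup.mem_center_iff]
    intro w
    have hy1 : y.1.1 = 1 := hy
    have hy2 : y.1.2 ∈ ξ.ker := by rw [MonoidHom.mem_ker, ← hPmem y, hy1, map_one]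
    have hc := Subgroup.mem_center_iff.mp (hξk hy2) w.1.2
    apply Subtype.ext
    apply Prod.ext
    · show w.1.1 * y.1.1 = y.1.1 * w.1.1
      rw [hy1]; simp
    · exact hc
  haveI : Finite (commutator P) := finite_commutator_of_central_ext p₁ hp₁ker
  let σ : commutator P →* G := p₁.comp (commutator P).subtype
  have hσsurj : Function.Surjective σ := by
    intro g
    have h1 : g ∈ (commutator P).map p₁ := by
      rw [commutator_def, Subgroup.map_commutator, ← MonoidHom.range_eq_map,
        MonoidHom.range_eq_top_of_surjective p₁ hp₁surj, ← commutator_def, hG.commutator_eq_top]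
      exact Subgroup.mem_top _
    obtain ⟨c, hc, hcg⟩ := h1
    exact ⟨⟨c, hc⟩, hcg⟩
  have hperf : Group.IsPerfect (commutator P) := by
    rw [Subgroup.isPerfect_iff]
    apply le_antisymm
    · exact Subgroup.commutator_mono le_top le_top
    · conv_lhs => rw [commutator_def]
      rw [Subgroup.commutator_le]
      intro p _ q _
      obtain ⟨c, hc⟩ := hσsurj (p₁ p)
      obtain ⟨c', hc'⟩ := hσsurj (p₁ q)
      have : ⁅p, q⁆ = ⁅(c : P), (c' : P)⁆ :=
        commutatorElement_eq_of_map_eq p₁ hp₁ker _ _ _ _ hc.symm hc'.symm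
      rw [this]
      exact Subgroup.commutator_mem_commutator c.2 c'.2
  have hσ : Cfsg.IsStemExtension σ := by
    refine ⟨hσsurj, ?_, ?_⟩
    · intro y hy
      rw [Subgroup.mem_center_iff]
      intro w
      have hy' : (y : P) ∈ p₁.ker := hy
      have := Subgroup.mem_center_iff.mp (hp₁ker hy') (w : P)
      exact Subtype.ext this
    · intro y _
      rw [hperf.commutator_eq_top]; exact Subgroup.mem_top y
  have hbot := htriv (commutator P) σ hσ
  have hinj : Function.Injective σ := (MonoidHom.ker_eq_bot_iff σ).mp hbot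
  let e : commutator P ≃* G := MulEquiv.ofBijective σ ⟨hinj, hσsurj⟩
  refine ⟨(MonoidHom.snd G X).comp (P.subtype.comp ((commutator P).subtype.comp e.symm.toMonoidHom)), ?_⟩
  ext g
  show ξ ((e.symm g : P).1.2) = π g
  rw [← hPmem]
  have : σ (e.symm g) = g := e.apply_symm_apply g
  exact congrArg π this

/-- If a central extension `π : G →* Q` of a perfect group `G` lifts against all central extensions of `Q`, then
every stem extension of `G` has trivial kernel. -/
theorem ker_eq_bot_of_lifting {G : Type u} {Q : Type v} [Group G] [Group Q] (hG : Group.IsPerfect G)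
    (π : G →* Q) (hπ : Function.Surjective π) (hker : π.ker ≤ Subgroup.center G)
    (hL : ∀ (X : Type u) [Group X] (ξ : X →* Q), Function.Surjective ξ → ξ.ker ≤ Subgroup.center X →
      ∃ η : G →* X, ξ.comp η = π)
    (Γ : Type u) [Group Γ] (σ : Γ →* G) (hσ : Cfsg.IsStemExtension σ) : σ.ker = ⊥ := by
  have hΓ : Group.IsPerfect Γ := isPerfect_of_stem hG σ hσ
  obtain ⟨hsurj, hcent, hcomm⟩ := hσ
  have hξk : (π.comp σ).ker ≤ Subgroup.center Γ := by
    intro x hx
    apply mem_center_of_forall_commutator_mem_center hΓ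
    intro y
    apply hcent
    rw [MonoidHom.mem_ker]
    have hx' : σ x ∈ Subgroup.center G := hker hx
    have := Subgroup.mem_center_iff.mp hx' (σ y)
    simp only [map_mul, map_inv]
    rw [← this]; group
  obtain ⟨η, hη⟩ := hL Γ (π.comp σ) (hπ.comp hsurj) hξk
  have h1 : σ.comp η = MonoidHom.id G := by
    apply hom_eq_of_perfect_of_central_diff hG
    intro g
    apply hker
    have h3 : π (σ (η g)) = π g := congrArg (fun f : G →* Q => f g) hη
    rw [MonoidHom.mem_ker, map_mul, map_inv]
    show π (σ (η g)) * (π g)⁻¹ = 1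
    rw [h3]; group
  have h2 : η.comp σ = MonoidHom.id Γ := by
    apply hom_eq_of_perfect_of_central_diff hΓ
    intro γ
    apply hcent
    have h3 : σ (η (σ γ)) = σ γ := congrArg (fun f : G →* G => f (σ γ)) h1
    rw [MonoidHom.mem_ker, map_mul, map_inv]
    show σ (η (σ γ)) * (σ γ)⁻¹ = 1
    rw [h3]; group
  rw [Subgroup.eq_bot_iff_forall]
  intro k hk
  have h3 : η (σ k) = k := congrArg (fun f : Γ →* Γ => f k) h2
  rw [← h3, MonoidHom.mem_ker.mp hk, map_one]

end Cfsg.Agent.Lib.helper69
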