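import Mathlib
import Cfsg.Prelude.Def_KGroupFacts
import Cfsg.Agent.Lib.helper69.Central

/-!
Schur multiplier theory for `Cfsg.HasSchurMultiplier` (owner: helper69).

For a group `Q` let `F = FreeGroup Q`, `R` the kernel of `F → Q`, `E = F/[F,R]` (`CovGroup Q`) and
`Mult Q = (R/[F,R]) ∩ E'` (Hopf's formula).  We prove that `Mult Q` is the Schur multiplier of a finite group `Q`
in the sense of `Cfsg.HasSchurMultiplier`, the existence of Schur covers, and their universal property.
-/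

set_option autoImplicit false

universe u v w

namespace Cfsg.Agent.Lib.helper69

open scoped commutatorElement
open scoped IsMulCommutative

/-! ### Abstract part -/

/-- A subgroup contained in the centre is normal. -/
theorem normal_of_le_center' {E : Type*} [Group E] (S : Subgroup E) (h : S ≤ Subgroup.center E) :
    S.Normal := by
  constructor
  intro n hn g
  have h1 := Subgroup.mem_center_iff.mp (h hn) g
  rw [h1, mul_inv_cancel_right]
  exact hn

/-- A central subgroup `N` of a group `E` whose abelianisation-type map `ψ` lands in a finitely generated free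
abelian group has a subgroup `S` meeting the commutator subgroup trivially with `N ≤ S · E'`. -/
theorem exists_central_complement {E : Type*} [Group E] {B : Type*} [CommGroup B]
    [Module.Free ℤ (Additive B)] [Module.Finite ℤ (Additive B)]
    (ψ : E →* B) (hψ : ψ.ker ≤ commutator E) (N : Subgroup E) (hN : N ≤ Subgroup.center E) :
    ∃ S : Subgroup E, S ≤ N ∧ S ⊓ commutator E = ⊥ ∧ ∀ n ∈ N, ∃ s ∈ S, s⁻¹ * n ∈ commutator E := by
  classical
  let Nc : Subgroup (Subgroup.center E) := N.subgroupOf (Subgroup.center E)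
  let φ : Nc →* B := ψ.comp ((Subgroup.center E).subtype.comp Nc.subtype)
  let φl : Additive Nc →ₗ[ℤ] Additive B := (MonoidHom.toAdditive φ).toIntLinearMap
  obtain ⟨h, hh⟩ := Module.projective_lifting_property φl.rangeRestrict LinearMap.id
    φl.surjective_rangeRestrict
  have hh' : ∀ x : LinearMap.range φl, φl (h x) = (x : Additive B) := fun x =>
    congrArg Subtype.val (LinearMap.congr_fun hh x)
  have hψh : ∀ x : LinearMap.range φl,
      ψ (((Additive.toMul (h x) : Nc) : Subgroup.center E) : E) = Additive.toMul (x : Additive B) :=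
    fun x => congrArg Additive.toMul (hh' x)
  let S : Subgroup E :=
    { carrier := {e | ∃ x : LinearMap.range φl, (((Additive.toMul (h x) : Nc) : Subgroup.center E) : E) = e}
      one_mem' := ⟨0, by rw [map_zero]; rfl⟩
      mul_mem' := by
        rintro _ _ ⟨x, rfl⟩ ⟨y, rfl⟩
        exact ⟨x + y, by rw [map_add]; rfl⟩
      inv_mem' := by
        rintro _ ⟨x, rfl⟩
        exact ⟨-x, by rw [map_neg]; rfl⟩ }
  refine ⟨S, ?_, ?_, ?_⟩
  · rintro _ ⟨x, rfl⟩
    exact Subgroup.mem_subgroupOf.mp (Additive.toMul (h x) : Nc).2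
  · rw [eq_bot_iff]
    intro e he'
    obtain ⟨⟨x, rfl⟩, he⟩ := Subgroup.mem_inf.mp he'
    have h1 : ψ (((Additive.toMul (h x) : Nc) : Subgroup.center E) : E) = 1 :=
      (Abelianization.commutator_subset_ker ψ) he
    rw [hψh x] at h1
    have hx : x = 0 := Subtype.ext h1
    rw [Subgroup.mem_bot, hx, map_zero]
    rfl
  · intro n hn
    let nc : Nc := ⟨⟨n, hN hn⟩, Subgroup.mem_subgroupOf.mpr hn⟩
    let x : LinearMap.range φl := φl.rangeRestrict (Additive.ofMul nc)
    refine ⟨_, ⟨x, rfl⟩, hψ ?_⟩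
    rw [MonoidHom.mem_ker, map_mul, map_inv, hψh x]
    show (ψ n)⁻¹ * ψ n = 1
    rw [inv_mul_cancel]

/-- The multiplier part of a central extension `ρ : E → Q`: the subgroup `ker ρ ∩ E'`, as a subgroup of the
centre of `E` (so that it is a commutative group). -/
def multOf {E : Type u} {Q : Type v} [Group E] [Group Q] (ρ : E →* Q) : Subgroup (Subgroup.center E) :=
  (ρ.ker ⊓ commutator E).subgroupOf (Subgroup.center E)

theorem coe_mem_multOf {E : Type u} {Q : Type v} [Group E] [Group Q] (ρ : E →* Q) (m : multOf ρ) :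
    ((m : Subgroup.center E) : E) ∈ ρ.ker ⊓ commutator E :=
  Subgroup.mem_subgroupOf.mp m.2

section quotient

variable {E : Type u} {Q : Type v} [Group E] [Group Q] (ρ : E →* Q) (S : Subgroup E) [S.Normal]
  (hS : S ≤ ρ.ker)

/-- The quotient of a central extension by a complement to the multiplier part is a stem extension. -/
theorem stem_quotient (hρ : Function.Surjective ρ) (hker : ρ.ker ≤ Subgroup.center E)
    (hcov : ∀ k ∈ ρ.ker, ∃ s ∈ S, s⁻¹ * k ∈ commutator E) :
    Cfsg.IsStemExtension (QuotientGroup.lift S ρ hS) := by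
  refine ⟨?_, ?_, ?_⟩
  · intro q
    obtain ⟨e, rfl⟩ := hρ q
    exact ⟨QuotientGroup.mk e, rfl⟩
  · intro x hx
    obtain ⟨e, rfl⟩ := QuotientGroup.mk_surjective x
    have he : e ∈ ρ.ker := hx
    have hc := Subgroup.mem_center_iff.mp (hker he)
    rw [Subgroup.mem_center_iff]
    intro y
    obtain ⟨f, rfl⟩ := QuotientGroup.mk_surjective y
    rw [← QuotientGroup.mk_mul, ← QuotientGroup.mk_mul, hc f]
  · intro x hx
    obtain ⟨e, rfl⟩ := QuotientGroup.mk_surjective x
    have he : e ∈ ρ.ker := hx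
    obtain ⟨s, hs, hm⟩ := hcov e he
    have h1 : (QuotientGroup.mk e : E ⧸ S) = QuotientGroup.mk' S (s⁻¹ * e) := by
      show (QuotientGroup.mk e : E ⧸ S) = QuotientGroup.mk (s⁻¹ * e)
      rw [QuotientGroup.mk_mul, QuotientGroup.mk_inv, (QuotientGroup.eq_one_iff s).mpr hs, inv_one, one_mul]
    rw [h1]
    have h2 : QuotientGroup.mk' S (s⁻¹ * e) ∈ (commutator E).map (QuotientGroup.mk' S) :=
      Subgroup.mem_map_of_mem _ hm
    rw [commutator_def, Subgroup.map_commutator] at h2
    exact Subgroup.commutator_mono le_top le_top h2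

/-- The kernel of the quotient of a central extension by a complement to the multiplier part is the multiplier
part. -/
theorem ker_quotient_equiv (hker : ρ.ker ≤ Subgroup.center E) (hSc : S ⊓ commutator E = ⊥)
    (hcov : ∀ k ∈ ρ.ker, ∃ s ∈ S, s⁻¹ * k ∈ commutator E) :
    Nonempty ((QuotientGroup.lift S ρ hS).ker ≃* multOf ρ) := by
  let μ : multOf ρ →* (QuotientGroup.lift S ρ hS).ker :=
    ((QuotientGroup.mk' S).comp ((Subgroup.center E).subtype.comp (multOf ρ).subtype)).codRestrict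
      (QuotientGroup.lift S ρ hS).ker (fun m => by
        rw [MonoidHom.mem_ker]
        exact MonoidHom.mem_ker.mp (Subgroup.mem_inf.mp (coe_mem_multOf ρ m)).1)
  have hμ : ∀ m : multOf ρ, ((μ m : (QuotientGroup.lift S ρ hS).ker) : E ⧸ S) =
      QuotientGroup.mk ((m : Subgroup.center E) : E) := fun m => rfl
  have hinj : Function.Injective μ := by
    rw [injective_iff_map_eq_one]
    intro m hm
    have h1 : (QuotientGroup.mk ((m : Subgroup.center E) : E) : E ⧸ S) = 1 := by
      rw [← hμ m, hm]; rfl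
    have h2 : ((m : Subgroup.center E) : E) ∈ S := (QuotientGroup.eq_one_iff _).mp h1
    have h3 : ((m : Subgroup.center E) : E) ∈ S ⊓ commutator E :=
      Subgroup.mem_inf.mpr ⟨h2, (Subgroup.mem_inf.mp (coe_mem_multOf ρ m)).2⟩
    rw [hSc, Subgroup.mem_bot] at h3
    exact Subtype.ext (Subtype.ext h3)
  have hsurj : Function.Surjective μ := by
    rintro ⟨x, hx⟩
    obtain ⟨e, rfl⟩ := QuotientGroup.mk_surjective x
    have he : e ∈ ρ.ker := hx
    obtain ⟨s, hs, hm⟩ := hcov e he
    have hmk : s⁻¹ * e ∈ ρ.ker := Subgroup.mul_mem _ (Subgroup.inv_mem _ (hS hs)) he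
    refine ⟨⟨⟨s⁻¹ * e, hker hmk⟩, Subgroup.mem_subgroupOf.mpr (Subgroup.mem_inf.mpr ⟨hmk, hm⟩)⟩, ?_⟩
    apply Subtype.ext
    show (QuotientGroup.mk (s⁻¹ * e) : E ⧸ S) = QuotientGroup.mk e
    rw [QuotientGroup.mk_mul, QuotientGroup.mk_inv, (QuotientGroup.eq_one_iff s).mpr hs, inv_one, one_mul]
  exact ⟨(MulEquiv.ofBijective μ ⟨hinj, hsurj⟩).symm⟩

end quotient

section universal

variable {E : Type u} {Q : Type v} {Δ : Type w} [Group E] [Group Q] [Group Δ] (ρ : E →* Q) (τ : Δ →* Q)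
  (θ : E →* Δ)

/-- If `θ : E → Δ` lifts the surjection `ρ : E → Q` along a central extension `τ : Δ → Q`, then every commutator
of `Δ` comes from `E'`. -/
theorem commutator_le_map_of_lift (hρ : Function.Surjective ρ) (hτ : τ.ker ≤ Subgroup.center Δ)
    (hθ : τ.comp θ = ρ) : commutator Δ ≤ (commutator E).map θ := by
  rw [commutator_eq_closure, Subgroup.closure_le]
  rintro _ ⟨a, b, rfl⟩
  obtain ⟨ea, hea⟩ := hρ (τ a)
  obtain ⟨eb, heb⟩ := hρ (τ b)
  have ha : τ a = τ (θ ea) := by rw [← hea, ← hθ]; rfl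
  have hb : τ b = τ (θ eb) := by rw [← heb, ← hθ]; rfl
  have h1 : ⁅a, b⁆ = ⁅θ ea, θ eb⁆ := commutatorElement_eq_of_map_eq τ hτ a (θ ea) b (θ eb) ha hb
  rw [h1, ← map_commutatorElement]
  exact Subgroup.mem_map_of_mem θ (Subgroup.commutator_mem_commutator (Subgroup.mem_top _) (Subgroup.mem_top _))

/-- The multiplier part of `E` maps onto `ker τ ∩ Δ'`. -/
theorem exists_mem_mult_of_lift (hρ : Function.Surjective ρ) (hτ : τ.ker ≤ Subgroup.center Δ)
    (hθ : τ.comp θ = ρ) (x : Δ) (hx : x ∈ τ.ker ⊓ commutator Δ) :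
    ∃ m ∈ ρ.ker ⊓ commutator E, θ m = x := by
  obtain ⟨hx1, hx2⟩ := Subgroup.mem_inf.mp hx
  obtain ⟨m, hm, rfl⟩ := commutator_le_map_of_lift ρ τ θ hρ hτ hθ hx2
  refine ⟨m, Subgroup.mem_inf.mpr ⟨?_, hm⟩, rfl⟩
  rw [MonoidHom.mem_ker, ← hθ]
  exact MonoidHom.mem_ker.mp hx1

/-- A lift of `ρ` to a stem extension is surjective. -/
theorem surjective_of_lift_stem (hρ : Function.Surjective ρ) (hτ : τ.ker ≤ Subgroup.center Δ)
    (hτs : τ.ker ≤ commutator Δ) (hθ : τ.comp θ = ρ) : Function.Surjective θ := by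
  intro d
  obtain ⟨e, he⟩ := hρ (τ d)
  have hz : (θ e)⁻¹ * d ∈ τ.ker := by
    rw [MonoidHom.mem_ker, map_mul, map_inv, ← he, ← hθ]
    exact inv_mul_cancel _
  obtain ⟨m, _, hm⟩ := commutator_le_map_of_lift ρ τ θ hρ hτ hθ (hτs hz)
  exact ⟨e * m, by rw [map_mul, hm, mul_inv_cancel_left]⟩

/-- The multiplier part of `E`, as a group, maps onto `ker τ ∩ Δ'`. -/
theorem exists_surjective_mult_of_lift (hρ : Function.Surjective ρ) (hker : ρ.ker ≤ Subgroup.center E)
    (hτ : τ.ker ≤ Subgroup.center Δ) (hθ : τ.comp θ = ρ) :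
    ∃ π : multOf ρ →* ↥(τ.ker ⊓ commutator Δ), Function.Surjective π ∧
      ∀ m : multOf ρ, ((π m : ↥(τ.ker ⊓ commutator Δ)) : Δ) = θ ((m : Subgroup.center E) : E) := by
  have hmem : ∀ m : multOf ρ, θ ((m : Subgroup.center E) : E) ∈ τ.ker ⊓ commutator Δ := by
    intro m
    obtain ⟨h1, h2⟩ := Subgroup.mem_inf.mp (coe_mem_multOf ρ m)
    refine Subgroup.mem_inf.mpr ⟨?_, ?_⟩
    · rw [MonoidHom.mem_ker]
      have h3 : τ (θ ((m : Subgroup.center E) : E)) = ρ ((m : Subgroup.center E) : E) :=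
        DFunLike.congr_fun hθ _
      rw [h3]; exact MonoidHom.mem_ker.mp h1
    · have h3 : θ ((m : Subgroup.center E) : E) ∈ (commutator E).map θ := Subgroup.mem_map_of_mem θ h2
      rw [commutator_def, Subgroup.map_commutator] at h3
      exact Subgroup.commutator_mono le_top le_top h3
  refine ⟨(θ.comp ((Subgroup.center E).subtype.comp (multOf ρ).subtype)).codRestrict _ hmem, ?_,
    fun m => rfl⟩
  rintro ⟨x, hx⟩
  obtain ⟨m, hm, rfl⟩ := exists_mem_mult_of_lift ρ τ θ hρ hτ hθ x hx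
  exact ⟨⟨⟨m, hker (Subgroup.mem_inf.mp hm).1⟩, Subgroup.mem_subgroupOf.mpr hm⟩, rfl⟩

end universal

/-! ### The canonical central extension `F/[F,R]` -/

section concrete

variable (Q : Type u) [Group Q]

/-- The canonical free presentation `FreeGroup Q → Q`. -/
def freePres : FreeGroup Q →* Q := FreeGroup.lift id

theorem freePres_of (q : Q) : freePres Q (FreeGroup.of q) = q := by
  unfold freePres
  rw [FreeGroup.lift_apply_of]; rfl

theorem freePres_surjective : Function.Surjective (freePres Q) := fun q =>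
  ⟨FreeGroup.of q, freePres_of Q q⟩

/-- The subgroup `[F, R]` of the free group `F` on `Q`, `R` the kernel of `F → Q`. -/
def relComm : Subgroup (FreeGroup Q) := ⁅(⊤ : Subgroup (FreeGroup Q)), (freePres Q).ker⁆

instance relComm_normal : (relComm Q).Normal := by
  unfold relComm; infer_instance

theorem relComm_le_ker : relComm Q ≤ (freePres Q).ker := Subgroup.commutator_le_right _ _

/-- The group `E = F/[F,R]`, a central extension of `Q` through which every central extension of `Q`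
factors. -/
abbrev CovGroup : Type u := FreeGroup Q ⧸ relComm Q

/-- The projection `F/[F,R] → Q`. -/
def covHom : CovGroup Q →* Q := QuotientGroup.lift (relComm Q) (freePres Q) (relComm_le_ker Q)

theorem covHom_mk (f : FreeGroup Q) : covHom Q (QuotientGroup.mk f) = freePres Q f := rfl

theorem covHom_surjective : Function.Surjective (covHom Q) := fun q =>
  ⟨QuotientGroup.mk (FreeGroup.of q), freePres_of Q q⟩

theorem covHom_ker_le_center : (covHom Q).ker ≤ Subgroup.center (CovGroup Q) := by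
  intro e he
  obtain ⟨f, rfl⟩ := QuotientGroup.mk_surjective e
  have hf : f ∈ (freePres Q).ker := he
  rw [Subgroup.mem_center_iff]
  intro g
  obtain ⟨g', rfl⟩ := QuotientGroup.mk_surjective g
  rw [← QuotientGroup.mk_mul, ← QuotientGroup.mk_mul, QuotientGroup.eq]
  have h1 : ⁅g'⁻¹, f⁻¹⁆ ∈ relComm Q :=
    Subgroup.commutator_mem_commutator (Subgroup.mem_top _) (Subgroup.inv_mem _ hf)
  have h2 : (g' * f)⁻¹ * (f * g') = ⁅g'⁻¹, f⁻¹⁆⁻¹ := by
    rw [commutatorElement_def]; group
  rw [h2]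
  exact Subgroup.inv_mem _ h1

/-- Every central extension of `Q` receives a homomorphism from `F/[F,R]` over `Q`. -/
theorem exists_lift_covHom {Δ : Type w} [Group Δ] (τ : Δ →* Q) (hτ : Function.Surjective τ)
    (hker : τ.ker ≤ Subgroup.center Δ) : ∃ θ : CovGroup Q →* Δ, τ.comp θ = covHom Q := by
  let s : Q → Δ := Function.surjInv hτ
  have hs : ∀ q, τ (s q) = q := Function.surjInv_eq hτ
  let θ₀ : FreeGroup Q →* Δ := FreeGroup.lift s
  have h0 : τ.comp θ₀ = freePres Q := by
    apply FreeGroup.ext_hom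
    intro q
    show τ (FreeGroup.lift s (FreeGroup.of q)) = freePres Q (FreeGroup.of q)
    rw [FreeGroup.lift_apply_of, freePres_of, hs]
  have hle : relComm Q ≤ θ₀.ker := by
    unfold relComm
    rw [Subgroup.commutator_le]
    intro g₁ _ g₂ hg₂
    rw [MonoidHom.mem_ker, map_commutatorElement, commutatorElement_eq_one_iff_commute]
    have h1 : θ₀ g₂ ∈ τ.ker := by
      rw [MonoidHom.mem_ker]
      have h2 : τ (θ₀ g₂) = freePres Q g₂ := DFunLike.congr_fun h0 g₂
      rw [h2]; exact MonoidHom.mem_ker.mp hg₂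
    exact (Subgroup.mem_center_iff.mp (hker h1)) (θ₀ g₁)
  refine ⟨QuotientGroup.lift (relComm Q) θ₀ hle, ?_⟩
  apply MonoidHom.ext
  intro x
  obtain ⟨f, rfl⟩ := QuotientGroup.mk_surjective x
  exact DFunLike.congr_fun h0 f

/-- The map `F/[F,R] → F/F'`. -/
def covAb : CovGroup Q →* Abelianization (FreeGroup Q) :=
  QuotientGroup.lift (relComm Q) Abelianization.of (by
    rw [Abelianization.ker_of]
    exact Subgroup.commutator_mono le_top le_top)

theorem covAb_ker_le : (covAb Q).ker ≤ commutator (CovGroup Q) := by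
  intro e he
  obtain ⟨f, rfl⟩ := QuotientGroup.mk_surjective e
  have hf : f ∈ commutator (FreeGroup Q) := by
    rw [← Abelianization.ker_of]; exact he
  have h1 : (QuotientGroup.mk' (relComm Q)) f ∈
      (commutator (FreeGroup Q)).map (QuotientGroup.mk' (relComm Q)) := Subgroup.mem_map_of_mem _ hf
  rw [commutator_def, Subgroup.map_commutator] at h1
  exact Subgroup.commutator_mono le_top le_top h1

/-- The canonical Schur multiplier of `Q` (Hopf's formula): `(R ∩ F')/[F,R]`. -/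
def Mult : Type u := ↥(multOf (covHom Q))

instance Mult.instCommGroup : CommGroup (Mult Q) := inferInstanceAs (CommGroup ↥(multOf (covHom Q)))

instance Mult.instFinite [Finite Q] : Finite (Mult Q) := by
  haveI : Finite (commutator (CovGroup Q)) :=
    finite_commutator_of_central_ext (covHom Q) (covHom_ker_le_center Q)
  show Finite ↥(multOf (covHom Q))
  exact Finite.of_injective
    (fun m : ↥(multOf (covHom Q)) => (⟨((m : Subgroup.center (CovGroup Q)) : CovGroup Q),
      (Subgroup.mem_inf.mp (coe_mem_multOf (covHom Q) m)).2⟩ : commutator (CovGroup Q)))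
    (fun (a b : ↥(multOf (covHom Q))) h => by
      have h1 : ((a : Subgroup.center (CovGroup Q)) : CovGroup Q) =
          ((b : Subgroup.center (CovGroup Q)) : CovGroup Q) := by
        have h2 := congrArg (fun x : commutator (CovGroup Q) => (x : CovGroup Q)) h
        exact h2
      exact Subtype.ext (Subtype.ext h1))

/-- Schur covers exist, and can be chosen inside any subgroup `N` of the kernel `R/[F,R]` that supplements the
multiplier. The cover is given as a quotient of `F/[F,R]`. -/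
theorem exists_cover_quotient [Finite Q] (N : Subgroup (CovGroup Q)) (hN : N ≤ (covHom Q).ker)
    (hNcov : ∀ k ∈ (covHom Q).ker, ∃ n ∈ N, n⁻¹ * k ∈ commutator (CovGroup Q)) :
    ∃ (S : Subgroup (CovGroup Q)) (_ : S.Normal) (hS : S ≤ (covHom Q).ker), S ≤ N ∧
      Cfsg.IsStemExtension (QuotientGroup.lift S (covHom Q) hS) ∧
      Nonempty ((QuotientGroup.lift S (covHom Q) hS).ker ≃* Mult Q) ∧ Finite (CovGroup Q ⧸ S) := by
  haveI : Module.Free ℤ (Additive (Abelianization (FreeGroup Q))) :=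
    inferInstanceAs (Module.Free ℤ (FreeAbelianGroup Q))
  haveI : Module.Finite ℤ (Additive (Abelianization (FreeGroup Q))) :=
    inferInstanceAs (Module.Finite ℤ (FreeAbelianGroup Q))
  obtain ⟨S, hSN, hSc, hScov⟩ := exists_central_complement (covAb Q) (covAb_ker_le Q) N
    (hN.trans (covHom_ker_le_center Q))
  have hS : S ≤ (covHom Q).ker := hSN.trans hN
  haveI hSn : S.Normal := normal_of_le_center' S (hS.trans (covHom_ker_le_center Q))
  have hcov : ∀ k ∈ (covHom Q).ker, ∃ s ∈ S, s⁻¹ * k ∈ commutator (CovGroup Q) := by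
    intro k hk
    obtain ⟨n, hn, hnk⟩ := hNcov k hk
    obtain ⟨s, hs, hsn⟩ := hScov n hn
    refine ⟨s, hs, ?_⟩
    have : s⁻¹ * k = (s⁻¹ * n) * (n⁻¹ * k) := by group
    rw [this]
    exact Subgroup.mul_mem _ hsn hnk
  have hstem := stem_quotient (covHom Q) S hS (covHom_surjective Q) (covHom_ker_le_center Q) hcov
  obtain ⟨e⟩ := ker_quotient_equiv (covHom Q) S hS (covHom_ker_le_center Q) hSc hcov
  refine ⟨S, hSn, hS, hSN, hstem, ⟨e⟩, ?_⟩
  haveI : Finite (QuotientGroup.lift S (covHom Q) hS).ker := Finite.of_equiv (Mult Q) e.symm.toEquiv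
  haveI : Finite ((CovGroup Q ⧸ S) ⧸ (QuotientGroup.lift S (covHom Q) hS).ker) :=
    Finite.of_equiv Q (QuotientGroup.quotientKerEquivOfSurjective _ hstem.1).symm.toEquiv
  exact Finite.of_subgroup_quotient (QuotientGroup.lift S (covHom Q) hS).ker

/-- Every stem extension `τ : Δ → Q` of a finite group is a quotient of a Schur cover of `Q`. -/
theorem exists_cover_over_stem [Finite Q] {Δ : Type w} [Group Δ] (τ : Δ →* Q)
    (hτ : Cfsg.IsStemExtension τ) :
    ∃ (Γ : Type u) (_ : Group Γ) (_ : Finite Γ) (σ : Γ →* Q), Cfsg.IsStemExtension σ ∧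
      Nonempty (σ.ker ≃* Mult Q) ∧ ∃ β : Γ →* Δ, Function.Surjective β ∧ τ.comp β = σ := by
  obtain ⟨hτsurj, hτc, hτs⟩ := hτ
  obtain ⟨θ, hθ⟩ := exists_lift_covHom Q τ hτsurj hτc
  have hθsurj := surjective_of_lift_stem (covHom Q) τ θ (covHom_surjective Q) hτc hτs hθ
  have hθker : θ.ker ≤ (covHom Q).ker := by
    intro x hx
    rw [MonoidHom.mem_ker, ← hθ]
    show τ (θ x) = 1
    rw [MonoidHom.mem_ker.mp hx, map_one]
  have hNcov : ∀ k ∈ (covHom Q).ker, ∃ n ∈ θ.ker, n⁻¹ * k ∈ commutator (CovGroup Q) := by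
    intro k hk
    have hθk : θ k ∈ τ.ker ⊓ commutator Δ := by
      have h1 : θ k ∈ τ.ker := by
        rw [MonoidHom.mem_ker]
        have h2 : τ (θ k) = covHom Q k := DFunLike.congr_fun hθ k
        rw [h2]; exact MonoidHom.mem_ker.mp hk
      exact Subgroup.mem_inf.mpr ⟨h1, hτs h1⟩
    obtain ⟨m, hm, hmk⟩ := exists_mem_mult_of_lift (covHom Q) τ θ (covHom_surjective Q) hτc hθ _ hθk
    refine ⟨k * m⁻¹, ?_, ?_⟩
    · rw [MonoidHom.mem_ker, map_mul, map_inv, hmk, mul_inv_cancel]
    · have : (k * m⁻¹)⁻¹ * k = m := by group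
      rw [this]
      exact (Subgroup.mem_inf.mp hm).2
  obtain ⟨S, hSn, hS, hSN, hstem, he, hfin⟩ := exists_cover_quotient Q θ.ker hθker hNcov
  refine ⟨CovGroup Q ⧸ S, inferInstance, hfin, QuotientGroup.lift S (covHom Q) hS, hstem, he,
    QuotientGroup.lift S θ hSN, ?_, ?_⟩
  · intro d
    obtain ⟨e, rfl⟩ := hθsurj d
    exact ⟨QuotientGroup.mk e, rfl⟩
  · apply MonoidHom.ext
    intro x
    obtain ⟨e, rfl⟩ := QuotientGroup.mk_surjective x
    exact DFunLike.congr_fun hθ e

/-- A Schur cover of a finite group exists. -/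
theorem exists_cover [Finite Q] :
    ∃ (Γ : Type u) (_ : Group Γ) (_ : Finite Γ) (σ : Γ →* Q), Cfsg.IsStemExtension σ ∧
      Nonempty (σ.ker ≃* Mult Q) := by
  obtain ⟨Γ, i1, i2, σ, hσ, he, _⟩ := exists_cover_over_stem Q (MonoidHom.id Q)
    ⟨Function.surjective_id, by rw [MonoidHom.ker_id]; exact bot_le, by rw [MonoidHom.ker_id]; exact bot_le⟩
  exact ⟨Γ, i1, i2, σ, hσ, he⟩

/-- For every central extension `τ : Δ → Q`, the group `ker τ ∩ Δ'` is a homomorphic image of the canonical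
multiplier. -/
theorem exists_surjective_mult_of_central {Δ : Type w} [Group Δ] (τ : Δ →* Q)
    (hτ : Function.Surjective τ) (hker : τ.ker ≤ Subgroup.center Δ) :
    ∃ π : Mult Q →* ↥(τ.ker ⊓ commutator Δ), Function.Surjective π := by
  obtain ⟨θ, hθ⟩ := exists_lift_covHom Q τ hτ hker
  obtain ⟨π, hπ, _⟩ := exists_surjective_mult_of_lift (covHom Q) τ θ (covHom_surjective Q)
    (covHom_ker_le_center Q) hker hθ
  exact ⟨π, hπ⟩

/-- For every stem extension `τ : Δ → Q`, the kernel is a homomorphic image of the canonical multiplier. -/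
theorem exists_surjective_mult_of_stem {Δ : Type w} [Group Δ] (τ : Δ →* Q)
    (hτ : Cfsg.IsStemExtension τ) : ∃ π : Mult Q →* τ.ker, Function.Surjective π := by
  obtain ⟨hτsurj, hτc, hτs⟩ := hτ
  obtain ⟨π, hπ⟩ := exists_surjective_mult_of_central Q τ hτsurj hτc
  have hle : τ.ker ⊓ commutator Δ ≤ τ.ker := inf_le_left
  refine ⟨(Subgroup.inclusion hle).comp π, ?_⟩
  intro k
  obtain ⟨m, hm⟩ := hπ ⟨k.1, Subgroup.mem_inf.mpr ⟨k.2, hτs k.2⟩⟩
  refine ⟨m, ?_⟩
  apply Subtype.ext
  show ((π m : ↥(τ.ker ⊓ commutator Δ)) : Δ) = k.1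
  rw [hm]

/-- The canonical multiplier is the Schur multiplier of a finite group. -/
theorem hasSchurMultiplier_mult [Finite Q] : Cfsg.HasSchurMultiplier Q (Mult Q) := by
  refine ⟨?_, ?_⟩
  · obtain ⟨Γ, i1, i2, σ, hσ, he⟩ := exists_cover Q
    exact ⟨Γ, i1, i2, σ, hσ, he⟩
  · intro Γ _ _ σ hσ
    exact exists_surjective_mult_of_stem Q σ hσ

variable {Q}

/-- Any group satisfying `Cfsg.HasSchurMultiplier Q A` is isomorphic to the canonical multiplier. -/
theorem mulEquiv_mult_of_hasSchurMultiplier [Finite Q] {A : Type v} [CommGroup A]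
    (hA : Cfsg.HasSchurMultiplier Q A) : Nonempty (A ≃* Mult Q) := by
  obtain ⟨⟨Γ₀, _, _, σ₀, hσ₀, ⟨e₀⟩⟩, h2⟩ := hA
  obtain ⟨π₁, hπ₁⟩ := exists_surjective_mult_of_stem Q σ₀ hσ₀
  obtain ⟨Γ, _, _, σ, hσ, ⟨e₁⟩⟩ := exists_cover Q
  obtain ⟨π₂, hπ₂⟩ := h2 Γ σ hσ
  have hf₁ : Function.Surjective (fun m : Mult Q => e₀ (π₁ m)) := e₀.surjective.comp hπ₁
  have hf₂ : Function.Surjective (e₁.toMonoidHom.comp π₂) := e₁.surjective.comp hπ₂
  haveI : Finite A := Finite.of_surjective _ hf₁
  have hc : Nat.card A ≤ Nat.card (Mult Q) := Nat.card_le_card_of_surjective _ hf₁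
  have hbij : Function.Bijective (e₁.toMonoidHom.comp π₂) := hf₂.bijective_of_nat_card_le hc
  exact ⟨MulEquiv.ofBijective _ hbij⟩

/-- Characterisation of `Cfsg.HasSchurMultiplier` for finite groups. -/
theorem hasSchurMultiplier_iff [Finite Q] {A : Type v} [CommGroup A] :
    Cfsg.HasSchurMultiplier Q A ↔ Nonempty (A ≃* Mult Q) := by
  constructor
  · exact mulEquiv_mult_of_hasSchurMultiplier
  · rintro ⟨e⟩
    obtain ⟨⟨Γ₀, i1, i2, σ₀, hσ₀, ⟨e₀⟩⟩, h2⟩ := hasSchurMultiplier_mult Q
    refine ⟨⟨Γ₀, i1, i2, σ₀, hσ₀, ⟨e₀.trans e.symm⟩⟩, ?_⟩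
    intro Γ _ _ σ hσ
    obtain ⟨π, hπ⟩ := h2 Γ σ hσ
    exact ⟨π.comp e.toMonoidHom, hπ.comp e.surjective⟩

/-- If `A` is the Schur multiplier of `Q`, then for every central extension `τ : Δ → Q` (in any universe, not
necessarily finite), the group `ker τ ∩ Δ'` is a homomorphic image of `A`. -/
theorem exists_surjective_of_central [Finite Q] {A : Type v} [CommGroup A]
    (hA : Cfsg.HasSchurMultiplier Q A) {Δ : Type w} [Group Δ] (τ : Δ →* Q)
    (hτ : Function.Surjective τ) (hker : τ.ker ≤ Subgroup.center Δ) :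
    ∃ π : A →* ↥(τ.ker ⊓ commutator Δ), Function.Surjective π := by
  obtain ⟨e⟩ := mulEquiv_mult_of_hasSchurMultiplier hA
  obtain ⟨π, hπ⟩ := exists_surjective_mult_of_central Q τ hτ hker
  exact ⟨π.comp e.toMonoidHom, hπ.comp e.surjective⟩

/-- If `A` is the Schur multiplier of `Q`, every stem extension of `Q` (in any universe) is a quotient of a
Schur cover of `Q` with kernel isomorphic to `A`. -/
theorem exists_cover_over_stem' [Finite Q] {A : Type v} [CommGroup A]
    (hA : Cfsg.HasSchurMultiplier Q A) {Δ : Type w} [Group Δ] (τ : Δ →* Q)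
    (hτ : Cfsg.IsStemExtension τ) :
    ∃ (Γ : Type u) (_ : Group Γ) (_ : Finite Γ) (σ : Γ →* Q), Cfsg.IsStemExtension σ ∧
      Nonempty (σ.ker ≃* A) ∧ ∃ β : Γ →* Δ, Function.Surjective β ∧ τ.comp β = σ := by
  obtain ⟨e⟩ := mulEquiv_mult_of_hasSchurMultiplier hA
  obtain ⟨Γ, i1, i2, σ, hσ, ⟨e₁⟩, hβ⟩ := exists_cover_over_stem Q τ hτ
  exact ⟨Γ, i1, i2, σ, hσ, ⟨e₁.trans e.symm⟩, hβ⟩

end concrete

/-- A finite group has an isomorphic copy in every universe. -/
theorem exists_mulEquiv_univ (G : Type u) [Group G] [Finite G] :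
    ∃ (G' : Type v) (_ : Group G') (_ : Finite G'), Nonempty (G' ≃* G) := by
  obtain ⟨n, ⟨e⟩⟩ := Finite.exists_equiv_fin G
  let e' : ULift.{v} (Fin n) ≃ G := Equiv.ulift.trans e.symm
  letI : Group (ULift.{v} (Fin n)) := e'.group
  exact ⟨ULift.{v} (Fin n), inferInstance, inferInstance, ⟨e'.mulEquiv⟩⟩

end Cfsg.Agent.Lib.helper69
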