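import Mathlib

/-!
# Explicit Sylow `p`-subgroups of symmetric groups

The recursion `P_n = Z_p ≀ P_{n/p}` realised inside `Perm (ι × ZMod p)`:
`wreathSub p Q` is the group of permutations `(i, x) ↦ (σ i, x + f i)` with `σ ∈ Q`.

Main results:
* `card_wreathSub : Nat.card (wreathSub p Q) = Nat.card Q * p ^ Nat.card ι`
* `exists_sylow_perm`: every `Perm Ω` (`Ω` finite of size `n`) has a subgroup of order
  `p ^ v_p(n!)` generated by elements of order dividing `p`.
* `isGenP_sylow_perm`: Sylow `p`-subgroups of `S_n` are generated by elements of order `p`.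
* `isGenP_sylow_alt`: the same for `A_n`.
* `IsGenP.pow_mem_commutator`: such a group has elementary abelian abelianisation.
-/

set_option autoImplicit false

namespace Cfsg.Agent.Lib.helper69

open Equiv

section GenP

variable (p : ℕ)

/-- the group `K` is generated by its elements of order dividing `p`. -/
def IsGenP (K : Type*) [Group K] : Prop := Subgroup.closure {y : K | y ^ p = 1} = ⊤

/-- the subgroup `H` is generated by its elements of order dividing `p`. -/
def GoodSub {G : Type*} [Group G] (H : Subgroup G) : Prop :=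
  H ≤ Subgroup.closure {x | x ∈ H ∧ x ^ p = 1}

variable {p}

theorem IsGenP.of_mulEquiv {K L : Type*} [Group K] [Group L] (e : K ≃* L) (h : IsGenP p K) :
    IsGenP p L := by
  unfold IsGenP at h ⊢
  rw [eq_top_iff]
  intro x _
  have hx : e.symm x ∈ Subgroup.closure {y : K | y ^ p = 1} := by rw [h]; trivial
  have h2 : e (e.symm x) ∈ (Subgroup.closure {y : K | y ^ p = 1}).map e.toMonoidHom :=
    Subgroup.mem_map_of_mem _ hx
  rw [MonoidHom.map_closure] at h2
  rw [MulEquiv.apply_symm_apply] at h2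
  refine Subgroup.closure_mono ?_ h2
  rintro _ ⟨y, hy, rfl⟩
  show (e y) ^ p = 1
  have hy' : y ^ p = 1 := hy
  rw [← map_pow, hy', map_one]

theorem IsGenP.pow_mem_commutator {K : Type*} [Group K] (h : IsGenP p K) (x : K) :
    x ^ p ∈ commutator K := by
  have hle : Subgroup.closure {y : K | y ^ p = 1} ≤
      ((powMonoidHom p : Abelianization K →* Abelianization K).ker).comap Abelianization.of := by
    rw [Subgroup.closure_le]
    intro y hy
    have hy' : y ^ p = 1 := hy
    show Abelianization.of y ∈ (powMonoidHom p : Abelianization K →* Abelianization K).ker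
    rw [MonoidHom.mem_ker, powMonoidHom_apply, ← map_pow, hy', map_one]
  have hx : x ∈ Subgroup.closure {y : K | y ^ p = 1} := by rw [h]; trivial
  have h1 := hle hx
  have h2 : Abelianization.of x ∈ (powMonoidHom p : Abelianization K →* Abelianization K).ker :=
    h1
  rw [MonoidHom.mem_ker, powMonoidHom_apply, ← map_pow] at h2
  rw [← Abelianization.ker_of, MonoidHom.mem_ker]
  exact h2

theorem GoodSub.isGenP {G : Type*} [Group G] {H : Subgroup G} (h : GoodSub p H) :
    IsGenP p ↥H := by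
  unfold IsGenP
  rw [eq_top_iff]
  rintro ⟨x, hx⟩ -
  have key : ∀ y, y ∈ Subgroup.closure {x | x ∈ H ∧ x ^ p = 1} →
      ∃ hy : y ∈ H, (⟨y, hy⟩ : ↥H) ∈ Subgroup.closure {z : ↥H | z ^ p = 1} := by
    intro y hy
    induction hy using Subgroup.closure_induction with
    | mem y hy =>
      exact ⟨hy.1, Subgroup.subset_closure (by
        show (⟨y, hy.1⟩ : ↥H) ^ p = 1
        apply Subtype.ext
        simpa using hy.2)⟩
    | one => exact ⟨H.one_mem, Subgroup.one_mem _⟩
    | mul a b _ _ iha ihb =>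
      obtain ⟨ha, ha'⟩ := iha
      obtain ⟨hb, hb'⟩ := ihb
      exact ⟨H.mul_mem ha hb, Subgroup.mul_mem _ ha' hb'⟩
    | inv a _ iha =>
      obtain ⟨ha, ha'⟩ := iha
      exact ⟨H.inv_mem ha, Subgroup.inv_mem _ ha'⟩
  obtain ⟨_, h2⟩ := key x (h hx)
  exact h2

theorem GoodSub.map {G G' : Type*} [Group G] [Group G'] {H : Subgroup G} (h : GoodSub p H)
    (φ : G →* G') : GoodSub p (H.map φ) := by
  unfold GoodSub at h ⊢
  refine (Subgroup.map_mono h).trans ?_
  rw [MonoidHom.map_closure]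
  apply Subgroup.closure_mono
  rintro _ ⟨y, ⟨hy1, hy2⟩, rfl⟩
  exact ⟨Subgroup.mem_map_of_mem _ hy1, by rw [← map_pow, hy2, map_one]⟩

theorem goodSub_bot {G : Type*} [Group G] : GoodSub p (⊥ : Subgroup G) := bot_le

/-- a `p`-subgroup of Sylow order generated by elements of order `p`: every Sylow subgroup is
generated by elements of order `p`. -/
theorem isGenP_sylow_of_card [Fact p.Prime] {G : Type*} [Group G] [Finite G] (H : Subgroup G)
    (hc : Nat.card H = p ^ (Nat.card G).factorization p) (hg : IsGenP p ↥H) (P : Sylow p G) :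
    IsGenP p ↥(P : Subgroup G) := by
  have hH : IsPGroup p H := IsPGroup.of_card hc
  obtain ⟨P', hP'⟩ := hH.exists_le_sylow
  have heq : H = (P' : Subgroup G) := by
    apply Subgroup.eq_of_le_of_card_ge hP'
    rw [hc, Sylow.card_eq_multiplicity]
  obtain ⟨g, hg'⟩ := MulAction.exists_smul_eq G P' P
  have e1 : ↥H ≃* ↥(P' : Subgroup G) := MulEquiv.subgroupCongr heq
  have e2 : ↥(P' : Subgroup G) ≃* ↥((g • P' : Sylow p G) : Subgroup G) := Sylow.equivSMul P' g
  rw [hg'] at e2
  exact hg.of_mulEquiv (e1.trans e2)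

end GenP

section Wreath

variable (p : ℕ) [Fact p.Prime] {ι : Type*}

/-- the permutation `(i, x) ↦ (σ i, x + f i)` of `ι × ZMod p`. -/
def wrPerm (σ : Perm ι) (f : ι → ZMod p) : Perm (ι × ZMod p) where
  toFun a := (σ a.1, a.2 + f a.1)
  invFun a := (σ⁻¹ a.1, a.2 - f (σ⁻¹ a.1))
  left_inv a := by simp
  right_inv a := by simp

@[simp] theorem wrPerm_apply (σ : Perm ι) (f : ι → ZMod p) (i : ι) (x : ZMod p) :
    wrPerm p σ f (i, x) = (σ i, x + f i) := rfl

theorem wrPerm_mul (σ τ : Perm ι) (f g : ι → ZMod p) :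
    wrPerm p σ f * wrPerm p τ g = wrPerm p (σ * τ) (fun i => g i + f (τ i)) := by
  apply Equiv.ext
  rintro ⟨i, x⟩
  simp [add_assoc]

theorem wrPerm_one : wrPerm p (1 : Perm ι) (0 : ι → ZMod p) = 1 := by
  apply Equiv.ext
  rintro ⟨i, x⟩
  simp

theorem wrPerm_inv (σ : Perm ι) (f : ι → ZMod p) :
    (wrPerm p σ f)⁻¹ = wrPerm p σ⁻¹ (fun i => - f (σ⁻¹ i)) := by
  rw [inv_eq_iff_mul_eq_one, wrPerm_mul]
  rw [← wrPerm_one]
  congr 1
  · simp
  · funext i; simp

theorem wrPerm_injective : Function.Injective (fun a : Perm ι × (ι → ZMod p) => wrPerm p a.1 a.2) := by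
  rintro ⟨σ, f⟩ ⟨τ, g⟩ h
  have h1 : ∀ i, wrPerm p σ f (i, 0) = wrPerm p τ g (i, 0) := fun i => by
    have h' : wrPerm p σ f = wrPerm p τ g := h
    rw [h']
  simp only [wrPerm_apply, zero_add, Prod.mk.injEq] at h1
  have hσ : σ = τ := Equiv.ext fun i => (h1 i).1
  have hf : f = g := funext fun i => (h1 i).2
  rw [hσ, hf]

theorem wrPerm_base_pow (f : ι → ZMod p) (k : ℕ) :
    (wrPerm p (1 : Perm ι) f) ^ k = wrPerm p 1 (fun i => k • f i) := by
  induction k with
  | zero =>
    rw [pow_zero, ← wrPerm_one]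
    congr 1
    funext i; simp
  | succ k ih =>
    rw [pow_succ, ih, wrPerm_mul]
    congr 1
    funext i
    simp only [nsmul_eq_mul, Nat.cast_add, Nat.cast_one, Perm.coe_one, id_eq]
    ring

theorem wrPerm_base_pow_p (f : ι → ZMod p) : (wrPerm p (1 : Perm ι) f) ^ p = 1 := by
  rw [wrPerm_base_pow, ← wrPerm_one]
  congr 1
  funext i
  simp

theorem wrPerm_top_pow (σ : Perm ι) (k : ℕ) :
    (wrPerm p σ (0 : ι → ZMod p)) ^ k = wrPerm p (σ ^ k) 0 := by
  induction k with
  | zero => rw [pow_zero, pow_zero, wrPerm_one]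
  | succ k ih =>
    rw [pow_succ, ih, wrPerm_mul, pow_succ]
    congr 1
    funext i; simp

theorem wrPerm_eq_mul (σ : Perm ι) (f : ι → ZMod p) :
    wrPerm p σ f = wrPerm p σ 0 * wrPerm p 1 f := by
  rw [wrPerm_mul]
  congr 1
  funext i; simp

/-- the wreath product `Z_p ≀ Q` inside `Perm (ι × ZMod p)`. -/
def wreathSub (Q : Subgroup (Perm ι)) : Subgroup (Perm (ι × ZMod p)) where
  carrier := {g | ∃ σ ∈ Q, ∃ f : ι → ZMod p, g = wrPerm p σ f}
  one_mem' := ⟨1, Q.one_mem, 0, (wrPerm_one p).symm⟩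
  mul_mem' := by
    rintro _ _ ⟨σ, hσ, f, rfl⟩ ⟨τ, hτ, g, rfl⟩
    exact ⟨σ * τ, Q.mul_mem hσ hτ, _, wrPerm_mul p σ τ f g⟩
  inv_mem' := by
    rintro _ ⟨σ, hσ, f, rfl⟩
    exact ⟨σ⁻¹, Q.inv_mem hσ, _, wrPerm_inv p σ f⟩

theorem mem_wreathSub {Q : Subgroup (Perm ι)} {g : Perm (ι × ZMod p)} :
    g ∈ wreathSub p Q ↔ ∃ σ ∈ Q, ∃ f : ι → ZMod p, g = wrPerm p σ f := Iff.rfl

theorem card_wreathSub [Finite ι] (Q : Subgroup (Perm ι)) :
    Nat.card (wreathSub p Q) = Nat.card Q * p ^ Nat.card ι := by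
  have e : (↥Q × (ι → ZMod p)) ≃ ↥(wreathSub p Q) := by
    refine Equiv.ofBijective
      (fun a => ⟨wrPerm p a.1.1 a.2, ⟨a.1.1, a.1.2, a.2, rfl⟩⟩) ⟨?_, ?_⟩
    · rintro ⟨⟨σ, hσ⟩, f⟩ ⟨⟨τ, hτ⟩, g⟩ h
      have h1 : wrPerm p σ f = wrPerm p τ g := congrArg Subtype.val h
      have h2 := wrPerm_injective p (a₁ := (σ, f)) (a₂ := (τ, g)) h1
      simp only [Prod.mk.injEq] at h2
      obtain ⟨rfl, rfl⟩ := h2
      rfl
    · rintro ⟨g, σ, hσ, f, rfl⟩
      exact ⟨⟨⟨σ, hσ⟩, f⟩, rfl⟩
  rw [← Nat.card_congr e, Nat.card_prod, Nat.card_fun, Nat.card_zmod]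

theorem goodSub_wreathSub {Q : Subgroup (Perm ι)} (hQ : GoodSub p Q) :
    GoodSub p (wreathSub p Q) := by
  unfold GoodSub at hQ ⊢
  have htop : ∀ σ, σ ∈ Subgroup.closure {x | x ∈ Q ∧ x ^ p = 1} →
      wrPerm p σ (0 : ι → ZMod p) ∈
      Subgroup.closure {x | x ∈ wreathSub p Q ∧ x ^ p = 1} := by
    intro σ h1
    induction h1 using Subgroup.closure_induction with
    | mem y hy =>
      apply Subgroup.subset_closure
      refine ⟨⟨y, hy.1, 0, rfl⟩, ?_⟩
      rw [wrPerm_top_pow, hy.2, wrPerm_one]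
    | one => rw [wrPerm_one]; exact Subgroup.one_mem _
    | mul a b ha hb iha ihb =>
      have : wrPerm p (a * b) (0 : ι → ZMod p) = wrPerm p a 0 * wrPerm p b 0 := by
        rw [wrPerm_mul]; congr 1; funext i; simp
      rw [this]
      exact Subgroup.mul_mem _ iha ihb
    | inv a ha iha =>
      have : wrPerm p a⁻¹ (0 : ι → ZMod p) = (wrPerm p a 0)⁻¹ := by
        rw [wrPerm_inv]; congr 1; funext i; simp
      rw [this]
      exact Subgroup.inv_mem _ iha
  rintro _ ⟨σ, hσ, f, rfl⟩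
  rw [wrPerm_eq_mul]
  refine Subgroup.mul_mem _ (htop σ (hQ hσ)) (Subgroup.subset_closure ⟨⟨1, Q.one_mem, f, rfl⟩, ?_⟩)
  exact wrPerm_base_pow_p p f

end Wreath

section Even

variable {ι : Type*} [Fintype ι]

/-- the sum of the coordinates, as an additive homomorphism. -/
def sumHom (ι : Type*) [Fintype ι] : (ι → ZMod 2) →+ ZMod 2 where
  toFun f := ∑ i, f i
  map_zero' := by simp
  map_add' f g := by simp [Finset.sum_add_distrib]

theorem card_ker_sumHom [Nonempty ι] : Nat.card (sumHom ι).ker * 2 = 2 ^ Nat.card ι := by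
  classical
  have h1 := AddSubgroup.card_mul_index (sumHom ι).ker
  rw [AddSubgroup.index_ker] at h1
  have hsurj : Function.Surjective (sumHom ι) := by
    intro c
    obtain ⟨i₀⟩ := ‹Nonempty ι›
    refine ⟨Pi.single i₀ c, ?_⟩
    show ∑ i, (Pi.single i₀ c : ι → ZMod 2) i = c
    simp
  have h2 : Nat.card (sumHom ι).range = 2 := by
    rw [AddMonoidHom.range_eq_top.mpr hsurj, AddSubgroup.card_top, Nat.card_zmod]
  rw [h2] at h1
  rw [h1, Nat.card_fun, Nat.card_zmod]

/-- the even part of the wreath product `Z_2 ≀ Q`. -/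
def wreathSubEven (Q : Subgroup (Perm ι)) : Subgroup (Perm (ι × ZMod 2)) where
  carrier := {g | ∃ σ ∈ Q, ∃ f : ι → ZMod 2, ∑ i, f i = 0 ∧ g = wrPerm 2 σ f}
  one_mem' := ⟨1, Q.one_mem, 0, by simp, (wrPerm_one 2).symm⟩
  mul_mem' := by
    rintro _ _ ⟨σ, hσ, f, hf, rfl⟩ ⟨τ, hτ, g, hg, rfl⟩
    refine ⟨σ * τ, Q.mul_mem hσ hτ, _, ?_, wrPerm_mul 2 σ τ f g⟩
    rw [Finset.sum_add_distrib, hg, zero_add, Equiv.sum_comp τ f, hf]
  inv_mem' := by
    rintro _ ⟨σ, hσ, f, hf, rfl⟩
    refine ⟨σ⁻¹, Q.inv_mem hσ, _, ?_, wrPerm_inv 2 σ f⟩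
    rw [Finset.sum_neg_distrib, Equiv.sum_comp σ⁻¹ f, hf, neg_zero]

theorem card_wreathSubEven [Nonempty ι] (Q : Subgroup (Perm ι)) :
    Nat.card (wreathSubEven Q) * 2 = Nat.card Q * 2 ^ Nat.card ι := by
  have e : (↥Q × ↥(sumHom ι).ker) ≃ ↥(wreathSubEven Q) := by
    refine Equiv.ofBijective
      (fun a => ⟨wrPerm 2 a.1.1 a.2.1, ⟨a.1.1, a.1.2, a.2.1, a.2.2, rfl⟩⟩) ⟨?_, ?_⟩
    · rintro ⟨⟨σ, hσ⟩, ⟨f, hf⟩⟩ ⟨⟨τ, hτ⟩, ⟨g, hg⟩⟩ h
      have h1 : wrPerm 2 σ f = wrPerm 2 τ g := congrArg Subtype.val h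
      have h2 := wrPerm_injective 2 (a₁ := (σ, f)) (a₂ := (τ, g)) h1
      simp only [Prod.mk.injEq] at h2
      obtain ⟨rfl, rfl⟩ := h2
      rfl
    · rintro ⟨g, σ, hσ, f, hf, rfl⟩
      exact ⟨⟨⟨σ, hσ⟩, ⟨f, hf⟩⟩, rfl⟩
  rw [← Nat.card_congr e, Nat.card_prod, mul_assoc]
  exact congrArg (Nat.card ↥Q * ·) card_ker_sumHom

theorem goodSub_wreathSubEven {Q : Subgroup (Perm ι)} (hQ : GoodSub 2 Q) :
    GoodSub 2 (wreathSubEven Q) := by
  unfold GoodSub at hQ ⊢
  have htop : ∀ σ, σ ∈ Subgroup.closure {x | x ∈ Q ∧ x ^ 2 = 1} →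
      wrPerm 2 σ (0 : ι → ZMod 2) ∈
      Subgroup.closure {x | x ∈ wreathSubEven Q ∧ x ^ 2 = 1} := by
    intro σ h1
    induction h1 using Subgroup.closure_induction with
    | mem y hy =>
      apply Subgroup.subset_closure
      refine ⟨⟨y, hy.1, 0, by simp, rfl⟩, ?_⟩
      rw [wrPerm_top_pow, hy.2, wrPerm_one]
    | one => rw [wrPerm_one]; exact Subgroup.one_mem _
    | mul a b ha hb iha ihb =>
      have : wrPerm 2 (a * b) (0 : ι → ZMod 2) = wrPerm 2 a 0 * wrPerm 2 b 0 := by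
        rw [wrPerm_mul]; congr 1
      rw [this]
      exact Subgroup.mul_mem _ iha ihb
    | inv a ha iha =>
      have : wrPerm 2 a⁻¹ (0 : ι → ZMod 2) = (wrPerm 2 a 0)⁻¹ := by
        rw [wrPerm_inv]; congr 1; funext i; simp
      rw [this]
      exact Subgroup.inv_mem _ iha
  rintro _ ⟨σ, hσ, f, hf, rfl⟩
  rw [wrPerm_eq_mul]
  refine Subgroup.mul_mem _ (htop σ (hQ hσ))
    (Subgroup.subset_closure ⟨⟨1, Q.one_mem, f, hf, rfl⟩, ?_⟩)
  exact wrPerm_base_pow_p 2 f

theorem wreathSubEven_le_alt [DecidableEq ι] (Q : Subgroup (Perm ι)) :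
    wreathSubEven Q ≤ alternatingGroup (ι × ZMod 2) := by
  rintro _ ⟨σ, hσ, f, hf, rfl⟩
  rw [Equiv.Perm.mem_alternatingGroup, wrPerm_eq_mul, map_mul]
  have h1 : wrPerm 2 σ (0 : ι → ZMod 2) = Equiv.prodCongrLeft (fun _ : ZMod 2 => σ) := by
    apply Equiv.ext
    rintro ⟨i, x⟩
    simp
  have h2 : wrPerm 2 (1 : Perm ι) f = Equiv.prodCongrRight (fun i => Equiv.addRight (f i)) := by
    apply Equiv.ext
    rintro ⟨i, x⟩
    simp
  let χ : Multiplicative (ZMod 2) →* ℤˣ :=
    Equiv.Perm.sign.comp (MonoidHom.mk' (fun a : Multiplicative (ZMod 2) =>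
      (Equiv.addRight (Multiplicative.toAdd a) : Perm (ZMod 2)))
      (by intro a b; apply Equiv.ext; intro x; simp [add_comm, add_left_comm]))
  have h3 : ∀ c : ZMod 2, Equiv.Perm.sign (Equiv.addRight c : Perm (ZMod 2)) =
      χ (Multiplicative.ofAdd c) := fun c => rfl
  have h4 : ∏ i, Equiv.Perm.sign (Equiv.addRight (f i) : Perm (ZMod 2)) = 1 := by
    simp only [h3]
    rw [← map_prod, ← ofAdd_sum, hf, ofAdd_zero, map_one]
  have h5 : ∏ _k : ZMod 2, Equiv.Perm.sign σ = 1 := by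
    rw [Finset.prod_const]
    have : (Finset.univ : Finset (ZMod 2)).card = 2 := by
      rw [Finset.card_univ, ZMod.card]
    rw [this]
    exact Int.units_sq _
  rw [h1, h2, Equiv.Perm.sign_prodCongrLeft, Equiv.Perm.sign_prodCongrRight, h4, h5, mul_one]

end Even

section Main

variable (p : ℕ) [Fact p.Prime]

open Nat in
/-- every symmetric group has a `p`-subgroup of order `p ^ v_p(n!)` generated by elements of
order `p`. -/
theorem exists_sylow_perm (n : ℕ) : ∀ (Ω : Type) [Finite Ω], Nat.card Ω = n →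
    ∃ H : Subgroup (Perm Ω), Nat.card H = p ^ (n !).factorization p ∧ GoodSub p H := by
  induction n using Nat.strong_induction_on with
  | _ n ih =>
    intro Ω _ hΩ
    have hp := (Fact.out : p.Prime)
    rcases Nat.lt_or_ge n p with hlt | hge
    · refine ⟨⊥, ?_, goodSub_bot⟩
      rw [Subgroup.card_bot, Nat.factorization_eq_zero_of_not_dvd, pow_zero]
      rw [hp.dvd_factorial]; omega
    · obtain ⟨m, hm⟩ : ∃ m, m = n / p := ⟨_, rfl⟩
      obtain ⟨r, hr⟩ : ∃ r, r = n % p := ⟨_, rfl⟩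
      have hn : n = p * m + r := by rw [hm, hr]; exact (Nat.div_add_mod n p).symm
      have hrp : r < p := by rw [hr]; exact Nat.mod_lt _ hp.pos
      have hm1 : 1 ≤ m := by rw [hm]; exact Nat.div_pos hge hp.pos
      have hmn : m < n := by rw [hm]; exact Nat.div_lt_self (by omega) hp.one_lt
      obtain ⟨Q, hQc, hQg⟩ := ih m hmn (Fin m) (by simp)
      have hcard : Nat.card ((Fin m × ZMod p) ⊕ Fin r) = Nat.card Ω := by
        rw [Nat.card_sum, Nat.card_prod, Nat.card_zmod, hΩ, hn]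
        simp [mul_comm]
      obtain ⟨e⟩ := (Finite.card_eq).mp hcard
      let emb : Perm (Fin m × ZMod p) →* Perm Ω :=
        (e.permCongrHom.toMonoidHom.comp (Perm.sumCongrHom (Fin m × ZMod p) (Fin r))).comp
          (MonoidHom.inl _ _)
      have hemb : Function.Injective emb := by
        refine (e.permCongrHom.injective.comp Perm.sumCongrHom_injective).comp ?_
        intro a b hab
        exact (Prod.mk.injEq _ _ _ _ ▸ hab : a = b ∧ (1 : Perm (Fin r)) = 1).1
      refine ⟨(wreathSub p Q).map emb, ?_, (goodSub_wreathSub p hQg).map emb⟩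
      rw [Subgroup.card_map_of_injective hemb, card_wreathSub, hQc, ← pow_add]
      congr 1
      rw [Nat.factorization_def _ hp, Nat.factorization_def _ hp, hn,
        padicValNat_factorial_mul_add m hrp, padicValNat_factorial_mul]
      simp

/-- Sylow `p`-subgroups of `S_n` are generated by elements of order `p`. -/
theorem isGenP_sylow_perm (n : ℕ) (P : Sylow p (Perm (Fin n))) :
    IsGenP p ↥(P : Subgroup (Perm (Fin n))) := by
  obtain ⟨H, hc, hg⟩ := exists_sylow_perm p n (Fin n) (by simp)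
  refine isGenP_sylow_of_card H ?_ hg.isGenP P
  rw [hc, Nat.card_perm]
  simp

theorem mem_alternatingGroup_of_odd_orderOf {α : Type*} [Fintype α] [DecidableEq α]
    (x : Perm α) (h : Odd (orderOf x)) : x ∈ alternatingGroup α := by
  rw [Equiv.Perm.mem_alternatingGroup]
  have h1 : (Equiv.Perm.sign x) ^ orderOf x = 1 := by
    rw [← map_pow, pow_orderOf_eq_one, map_one]
  rcases Int.units_eq_one_or (Equiv.Perm.sign x) with h2 | h2
  · exact h2
  · rw [h2, h.neg_one_pow] at h1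
    exact absurd h1 (by decide)

open Nat in
/-- an explicit Sylow `2`-subgroup of `A_n`, generated by involutions. -/
theorem exists_sylow_alt_two (n : ℕ) (hn : 2 ≤ n) :
    ∃ H : Subgroup (Perm (Fin n)), H ≤ alternatingGroup (Fin n) ∧
      Nat.card H * 2 = 2 ^ (n !).factorization 2 ∧ GoodSub 2 H := by
  obtain ⟨m, hm⟩ : ∃ m, m = n / 2 := ⟨_, rfl⟩
  obtain ⟨r, hr⟩ : ∃ r, r = n % 2 := ⟨_, rfl⟩
  have hn' : n = 2 * m + r := by omega
  have hr2 : r < 2 := by omega
  have hm1 : 1 ≤ m := by omega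
  obtain ⟨Q, hQc, hQg⟩ := exists_sylow_perm 2 m (Fin m) (by simp)
  have hcard : Nat.card ((Fin m × ZMod 2) ⊕ Fin r) = Nat.card (Fin n) := by
    rw [Nat.card_sum, Nat.card_prod, Nat.card_zmod]
    simp only [Nat.card_eq_fintype_card, Fintype.card_fin]
    omega
  obtain ⟨e⟩ := (Finite.card_eq).mp hcard
  let emb : Perm (Fin m × ZMod 2) →* Perm (Fin n) :=
    (e.permCongrHom.toMonoidHom.comp (Perm.sumCongrHom (Fin m × ZMod 2) (Fin r))).comp
      (MonoidHom.inl _ _)
  have hemb : Function.Injective emb := by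
    refine (e.permCongrHom.injective.comp Perm.sumCongrHom_injective).comp ?_
    intro a b hab
    exact (Prod.mk.injEq _ _ _ _ ▸ hab : a = b ∧ (1 : Perm (Fin r)) = 1).1
  have : Nonempty (Fin m) := ⟨⟨0, hm1⟩⟩
  refine ⟨(wreathSubEven Q).map emb, ?_, ?_, (goodSub_wreathSubEven hQg).map emb⟩
  · rintro _ ⟨g, hg, rfl⟩
    have h1 := wreathSubEven_le_alt Q hg
    rw [Equiv.Perm.mem_alternatingGroup] at h1 ⊢
    have h2 : emb g = e.permCongr (Equiv.Perm.sumCongr g (1 : Perm (Fin r))) := rfl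
    rw [h2, Equiv.Perm.sign_permCongr, Equiv.Perm.sign_sumCongr, h1, map_one, mul_one]
  · rw [Subgroup.card_map_of_injective hemb, card_wreathSubEven, hQc, ← pow_add]
    congr 1
    rw [Nat.factorization_def _ Nat.prime_two, Nat.factorization_def _ Nat.prime_two, hn',
      padicValNat_factorial_mul_add m hr2, padicValNat_factorial_mul]
    simp

open Nat in
/-- Sylow `p`-subgroups of `A_n` are generated by elements of order `p`. -/
theorem isGenP_sylow_alt (n : ℕ) (Q : Sylow p (alternatingGroup (Fin n))) :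
    IsGenP p ↥(Q : Subgroup (alternatingGroup (Fin n))) := by
  have hp := (Fact.out : p.Prime)
  rcases Nat.lt_or_ge n 2 with hn | hn
  · have : Subsingleton (Fin n) := Fin.subsingleton_iff_le_one.mpr (by omega)
    have h1 : Subsingleton ↥(Q : Subgroup (alternatingGroup (Fin n))) := inferInstance
    have h2 := Subgroup.subsingleton_iff.mpr h1
    unfold IsGenP
    exact Subsingleton.elim _ _
  · have : Nontrivial (Fin n) := Fin.nontrivial_iff_two_le.mpr hn
    have hA : 2 * Nat.card (alternatingGroup (Fin n)) = n ! := by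
      rw [two_mul_nat_card_alternatingGroup, Nat.card_perm]; simp
    have key : ∃ H : Subgroup (Perm (Fin n)), H ≤ alternatingGroup (Fin n) ∧
        Nat.card H = p ^ (Nat.card (alternatingGroup (Fin n))).factorization p ∧
        GoodSub p H := by
      have hfac : (n !).factorization p = (2 : ℕ).factorization p +
          (Nat.card (alternatingGroup (Fin n))).factorization p := by
        rw [← hA, Nat.factorization_mul two_ne_zero Nat.card_pos.ne']; rfl
      by_cases hp2 : p = 2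
      · subst hp2
        obtain ⟨H, hle, hc, hg⟩ := exists_sylow_alt_two n hn
        refine ⟨H, hle, ?_, hg⟩
        rw [hfac, Nat.Prime.factorization_self Nat.prime_two, pow_add, pow_one, mul_comm 2] at hc
        exact Nat.eq_of_mul_eq_mul_right two_pos hc
      · obtain ⟨H, hc, hg⟩ := exists_sylow_perm p n (Fin n) (by simp)
        refine ⟨H, ?_, ?_, hg⟩
        · intro x hx
          apply mem_alternatingGroup_of_odd_orderOf
          have h1 : orderOf x ∣ p ^ (n !).factorization p :=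
            hc ▸ Subgroup.orderOf_dvd_natCard H hx
          have hodd : Odd p := hp.odd_of_ne_two hp2
          exact Odd.of_dvd_nat (hodd.pow) h1
        · rw [hc, hfac, Nat.factorization_eq_zero_of_not_dvd (n := 2) (p := p) ?_, zero_add]
          intro hd
          have := Nat.le_of_dvd two_pos hd
          have := hp.two_le
          omega
    obtain ⟨H, hle, hc, hg⟩ := key
    let e := Subgroup.subgroupOfEquivOfLe hle
    refine isGenP_sylow_of_card (H.subgroupOf (alternatingGroup (Fin n))) ?_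
      (hg.isGenP.of_mulEquiv e.symm) Q
    rw [Nat.card_congr e.toEquiv, hc]

end Main

end Cfsg.Agent.Lib.helper69
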