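import Mathlib
import Cfsg.Prelude.Def_LieExceptional
import Cfsg.Agent.Lib.helper42.AICDefs
import Cfsg.Agent.Lib.helper16.PP1Zass

/-!
S2202 piece Z2 (helper69): in the TI case the centralizer of every involution is an
elementary abelian 2-group.  `h69_cith_core` is the proof from the other pieces as hypotheses.
-/

set_option autoImplicit false
set_option linter.style.haveILetI false

open Cfsg.Agent.Lib.helper42.AIC

namespace Cfsg.Agent.Lib.helper69.AIC

theorem h69_mem_np_iff {G : Type*} [Group G] (P : Sylow 2 G) (g : G) : g ∈ NP P ↔ g • P = P :=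
  Sylow.smul_eq_iff_mem_normalizer.symm

theorem h69_cith_core {G : Type*} [Group G] [Finite G] (hA : AIC G) (hnn : NNor G)
    (hZ : Cfsg.IsZassenhausGroup G (Sylow 2 G))
    (hA1 : ∀ P : Sylow 2 G, ∀ x ∈ (P : Subgroup G), ∀ y ∈ (P : Subgroup G), x * y = y * x)
    (hA2' : ∀ P : Sylow 2 G, ∀ x ∈ CP P, ∀ y ∈ CP P, x * y = y * x)
    (hA10 : ∀ t : G, orderOf t = 2 →
      ∃ R : Sylow 2 G, t ∈ (R : Subgroup G) ∧ Subgroup.centralizer ({t} : Set G) = CP R)
    (hB2 : ∀ P Q : Sylow 2 G, P ≠ Q → ∀ x : G, x ∈ CP P → x ∈ NP Q → x = 1)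
    (hB3a : ∀ P Q : Sylow 2 G, P ≠ Q →
      Nat.card ↥(NP P ⊓ NP Q) = Nat.card {t : G // orderOf t = 2 ∧ t ∈ (P : Subgroup G)})
    (hC5 : ∀ P Q : Sylow 2 G, P ≠ Q → ∀ R : Sylow 2 G, R ≠ P → ∃ c ∈ CP P, c • Q = R) :
    CITH G := by
  classical
  intro t ht
  refine ⟨hA t ht, ?_⟩
  obtain ⟨R, htR, hCR⟩ := hA10 t ht
  rw [hCR]
  obtain ⟨Q, hRQ⟩ : ∃ Q : Sylow 2 G, R ≠ Q := by
    by_contra hcon
    push Not at hcon
    apply hnn R
    rw [← Subgroup.normalizer_eq_top_iff, Subgroup.eq_top_iff']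
    intro g
    exact (h69_mem_np_iff R g).mpr (hcon (g • R)).symm
  letI : Fintype (Sylow 2 G) := Fintype.ofFinite _
  have hcpnp : ∀ S : Sylow 2 G, ∀ c ∈ CP S, c ∈ NP S := fun S c hc =>
    Subgroup.centralizer_le_normalizer _ hc
  have hcard : Nat.card (CP R) + 1 = Fintype.card (Sylow 2 G) := by
    have hf : ∀ c : CP R, (c : G) • Q ≠ R := by
      intro c hc
      have h1 : (c : G) • R = R := (h69_mem_np_iff R c).mp (hcpnp R c c.2)
      have h2 : (c : G) • Q = (c : G) • R := by rw [hc, h1]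
      exact hRQ (MulAction.injective (c : G) h2).symm
    let f : CP R → {S : Sylow 2 G // S ≠ R} := fun c => ⟨(c : G) • Q, hf c⟩
    have hinj : Function.Injective f := by
      intro c c' h
      have h1 : (c : G) • Q = (c' : G) • Q := congrArg Subtype.val h
      have h2 : ((c' : G)⁻¹ * (c : G)) • Q = Q := by
        rw [mul_smul, h1, inv_smul_smul]
      have h3 : (c' : G)⁻¹ * (c : G) = 1 :=
        hB2 R Q hRQ _ ((CP R).mul_mem ((CP R).inv_mem c'.2) c.2) ((h69_mem_np_iff Q _).mpr h2)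
      apply Subtype.ext
      exact (inv_mul_eq_one.mp h3).symm
    have hsurj : Function.Surjective f := by
      rintro ⟨S, hS⟩
      obtain ⟨c, hc, hcS⟩ := hC5 R Q hRQ S hS
      exact ⟨⟨c, hc⟩, Subtype.ext hcS⟩
    have h1 : Nat.card (CP R) = Nat.card {S : Sylow 2 G // S ≠ R} :=
      Nat.card_congr (Equiv.ofBijective f ⟨hinj, hsurj⟩)
    have h2 : Nat.card (Option {S : Sylow 2 G // S ≠ R}) = Nat.card (Sylow 2 G) :=
      Nat.card_congr (Equiv.optionSubtypeNe R)
    rw [Finite.card_option] at h2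
    rw [h1, h2, Nat.card_eq_fintype_card]
  have hHa : CP R ≤ MulAction.stabilizer G R := by
    intro c hc
    rw [MulAction.mem_stabilizer_iff]
    exact (h69_mem_np_iff R c).mp (hcpnp R c hc)
  have hHfix : ∀ u ∈ CP R, u ≠ 1 → ∀ c : Sylow 2 G, u • c = c → c = R := by
    intro u hu hu1 c huc
    by_contra hcR
    exact hu1 (hB2 R c (fun h => hcR h.symm) u hu ((h69_mem_np_iff c u).mpr huc))
  have hres := Cfsg.Agent.Lib.helper16.PP1.zass_ab_result' hZ hRQ (CP R) hHa hcard hHfix (hA2' R)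
  have htCP : t ∈ CP R := by
    rw [← hCR]
    exact Subgroup.mem_centralizer_singleton_iff.mpr rfl
  have heven : 2 ∣ Nat.card (CP R) := by
    have h1 := orderOf_dvd_natCard (⟨t, htCP⟩ : CP R)
    rwa [Subgroup.orderOf_mk, ht] at h1
  have hpos : 0 < Nat.card (CP R) := Nat.card_pos
  rcases hres with ⟨hd, -, -⟩ | ⟨-, K, hKf, hKfin, hchar, hKcard, -⟩
  · have hstab : MulAction.stabilizer G R ⊓ MulAction.stabilizer G Q = NP R ⊓ NP Q := by
      rw [Sylow.stabilizer_eq_normalizer, Sylow.stabilizer_eq_normalizer]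
      rfl
    rw [hstab, hB3a R Q hRQ] at hd
    have hcnt : Nat.card (Option {s : G // orderOf s = 2 ∧ s ∈ (R : Subgroup G)}) =
        Nat.card (CP R) := by
      rw [Finite.card_option, hd]
      omega
    have hRCP : ∀ x ∈ (R : Subgroup G), x ∈ CP R := by
      intro x hx
      rw [Subgroup.mem_centralizer_iff]
      intro y hy
      exact hA1 R y hy x hx
    let f : Option {s : G // orderOf s = 2 ∧ s ∈ (R : Subgroup G)} → CP R := fun o =>
      match o with
      | none => 1
      | some s => ⟨s.1, hRCP s.1 s.2.2⟩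
    have hinj : Function.Injective f := by
      rintro (_ | ⟨s, hs2, hsR⟩) (_ | ⟨s', hs2', hsR'⟩) h
      · rfl
      · exfalso
        have h1 : (1 : G) = s' := congrArg Subtype.val h
        rw [← h1, orderOf_one] at hs2'
        omega
      · exfalso
        have h1 : s = (1 : G) := congrArg Subtype.val h
        rw [h1, orderOf_one] at hs2
        omega
      · have h1 : s = s' := congrArg Subtype.val h
        subst h1
        rfl
    have hbij : Function.Bijective f :=
      (Nat.bijective_iff_injective_and_card f).mpr ⟨hinj, hcnt⟩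
    intro c hc
    obtain ⟨o, ho⟩ := hbij.2 ⟨c, hc⟩
    rcases o with _ | ⟨s, hs2, hsR⟩
    · have h1 : (1 : G) = c := congrArg Subtype.val ho
      rw [← h1, one_pow]
    · have h1 : s = c := congrArg Subtype.val ho
      rw [← h1, ← hs2]
      exact pow_orderOf_eq_one s
  · exfalso
    have hKc : Fintype.card K = Nat.card (CP R) := by omega
    haveI : Fact (Nat.Prime (ringChar K)) := ⟨CharP.char_is_prime K (ringChar K)⟩
    obtain ⟨n, hp, hn⟩ := FiniteField.card K (ringChar K)
    rw [← hKc, hn] at heven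
    have h2 := (Nat.prime_dvd_prime_iff_eq Nat.prime_two hp).mp
      (Nat.prime_two.dvd_of_dvd_pow heven)
    exact hchar h2.symm

end Cfsg.Agent.Lib.helper69.AIC
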