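import Mathlib
import Cfsg.Prelude.Def_LieExceptional
import Cfsg.Agent.Lib.helper42.AICDefs
import Cfsg.Agent.Lib.helper42.AIC_A
import Cfsg.Agent.Lib.helper18.AIC_B2
import Cfsg.Agent.Lib.helper13.AIC_B3
import Cfsg.Agent.Lib.helper13.AIC_C5
import Cfsg.Agent.Lib.helper4.AIC_Z1
import Cfsg.Agent.Lib.helper69.AIC_Z2core

/-!
S2202 piece Z2 (helper69): in the TI case the centralizer of every involution is an elementary
abelian 2-group (verbatim skeleton statement).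
-/

set_option autoImplicit false

open Cfsg.Agent.Lib.helper42.AIC

namespace Cfsg.Agent.Lib.helper69.AIC

/-- Z2 -/
theorem cith_of_kti {G : Type*} [Group G] [Finite G] (hA : AIC G) (hnc : NCyc G) (hnn : NNor G)
    (hK : KTI G) : CITH G :=
  h69_cith_core hA hnn (Cfsg.Agent.Lib.helper4.AIC.zassenhaus hA hnc hnn hK)
    (Cfsg.Agent.Lib.helper42.AIC.sylow_comm hA hnc)
    (Cfsg.Agent.Lib.helper42.AIC.cp_comm hA hnc)
    (fun _ ht => Cfsg.Agent.Lib.helper42.AIC.exists_sylow_inv hA hnc ht)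
    (fun P Q hPQ _ hxP hxQ => Cfsg.Agent.Lib.helper18.AIC.cp_inf_np hA hnc hnn hK P Q hPQ hxP hxQ)
    (Cfsg.Agent.Lib.helper13.AIC.card_D hA hnc hnn hK)
    (Cfsg.Agent.Lib.helper13.AIC.cp_trans hA hnc hnn hK)

end Cfsg.Agent.Lib.helper69.AIC
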