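import Mathlib
import Cfsg.Agent.Lib.helper42.AICDefs

/-!
S2202 piece SP3 (helper69), core: the torus `T = {d ∈ D | w d w⁻¹ = d⁻¹}`, from SP1 (Z central),
SP2 (D commutative) and clause S5 of `KStruct` as hypotheses.
-/

set_option autoImplicit false

open Cfsg.Agent.Lib.helper42.AIC

namespace Cfsg.Agent.Lib.helper69.AIC

theorem h69_torus_core {G : Type*} [Group G] [Finite G] (Z : Subgroup G) (hZ : IsKsub Z)
    (P Q : Sylow 2 G) (w : G)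
    (hc : ∀ z ∈ Z, ∀ g : G, z * g = g * z)
    (hDc : ∀ d ∈ NP P ⊓ NP Q, ∀ e ∈ NP P ⊓ NP Q, d * e = e * d)
    (hS5 : ∀ d ∈ NP P ⊓ NP Q, ∃ z ∈ Z, w * d * w⁻¹ = d⁻¹ * z) :
    ∃ T : Subgroup G, T ≤ NP P ⊓ NP Q ∧ T ⊓ Z = ⊥ ∧
      (∀ d ∈ NP P ⊓ NP Q, ∃ t ∈ T, ∃ z ∈ Z, d = t * z) ∧
      (∀ t ∈ T, w * t * w⁻¹ = t⁻¹) ∧
      (∀ d ∈ NP P ⊓ NP Q, w * d * w⁻¹ = d⁻¹ → d ∈ T) := by
  have hZD : Z ≤ NP P ⊓ NP Q := by
    intro z hz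
    have h := ((hZ z).mp hz).2
    exact ⟨Subgroup.centralizer_le_normalizer _ (h P),
      Subgroup.centralizer_le_normalizer _ (h Q)⟩
  let T : Subgroup G :=
    { carrier := {d | d ∈ NP P ⊓ NP Q ∧ w * d * w⁻¹ = d⁻¹}
      mul_mem' := by
        rintro a b ⟨ha, ha'⟩ ⟨hb, hb'⟩
        refine ⟨Subgroup.mul_mem _ ha hb, ?_⟩
        calc w * (a * b) * w⁻¹ = (w * a * w⁻¹) * (w * b * w⁻¹) := by group
          _ = a⁻¹ * b⁻¹ := by rw [ha', hb']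
          _ = (b * a)⁻¹ := by group
          _ = (a * b)⁻¹ := by rw [hDc b hb a ha]
      one_mem' := ⟨Subgroup.one_mem _, by group⟩
      inv_mem' := by
        rintro a ⟨ha, ha'⟩
        refine ⟨Subgroup.inv_mem _ ha, ?_⟩
        calc w * a⁻¹ * w⁻¹ = (w * a * w⁻¹)⁻¹ := by group
          _ = a⁻¹⁻¹ := by rw [ha'] }
  have hT : ∀ d : G, d ∈ T ↔ (d ∈ NP P ⊓ NP Q ∧ w * d * w⁻¹ = d⁻¹) := fun d => Iff.rfl
  refine ⟨T, fun d hd => ((hT d).mp hd).1, ?_, ?_, fun t ht => ((hT t).mp ht).2,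
    fun d hd hd' => (hT d).mpr ⟨hd, hd'⟩⟩
  · rw [eq_bot_iff]
    rintro x ⟨hxT, hxZ⟩
    rw [Subgroup.mem_bot]
    have h1 : w * x * w⁻¹ = x⁻¹ := ((hT x).mp hxT).2
    have h2 : w * x * w⁻¹ = x := by
      rw [← hc x hxZ w]
      group
    have h4 : x⁻¹ = x := h1.symm.trans h2
    have h3 : x ^ 2 = 1 := by
      rw [pow_two]
      exact mul_eq_one_iff_eq_inv.mpr h4.symm
    have hodd := ((hZ x).mp hxZ).1
    have hdvd := orderOf_dvd_of_pow_eq_one h3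
    have h5 : orderOf x = 1 := by
      rcases (Nat.dvd_prime Nat.prime_two).mp hdvd with h | h
      · exact h
      · rw [h] at hodd
        exact absurd hodd (by decide)
    exact orderOf_eq_one_iff.mp h5
  · intro d hd
    obtain ⟨z, hz, hwd⟩ := hS5 d hd
    obtain ⟨k, hk⟩ := ((hZ z).mp hz).1
    obtain ⟨z₁, hz₁⟩ : ∃ z₁ : G, z₁ = z ^ (k + 1) := ⟨_, rfl⟩
    have hz1 : z₁ * z₁ = z := by
      rw [hz₁, ← pow_add]
      have e : k + 1 + (k + 1) = orderOf z + 1 := by omega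
      rw [e, pow_succ, pow_orderOf_eq_one, one_mul]
    have hz1Z : z₁ ∈ Z := by rw [hz₁]; exact Z.pow_mem hz _
    have hcz : ∀ g : G, z₁ * g = g * z₁ := hc _ hz1Z
    have hwz : w * z₁⁻¹ * w⁻¹ = z₁⁻¹ := by
      calc w * z₁⁻¹ * w⁻¹ = z₁⁻¹ * (z₁ * w) * z₁⁻¹ * w⁻¹ := by group
        _ = z₁⁻¹ * (w * z₁) * z₁⁻¹ * w⁻¹ := by rw [hcz w]
        _ = z₁⁻¹ := by group
    refine ⟨d * z₁⁻¹, (hT _).mpr ⟨Subgroup.mul_mem _ hd (Subgroup.inv_mem _ (hZD hz1Z)), ?_⟩,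
      z₁, hz1Z, by group⟩
    calc w * (d * z₁⁻¹) * w⁻¹ = (w * d * w⁻¹) * (w * z₁⁻¹ * w⁻¹) := by group
      _ = d⁻¹ * z * z₁⁻¹ := by rw [hwd, hwz]
      _ = d⁻¹ * z₁ := by rw [← hz1]; group
      _ = z₁ * d⁻¹ := (hcz d⁻¹).symm
      _ = (d * z₁⁻¹)⁻¹ := by group

end Cfsg.Agent.Lib.helper69.AIC
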