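import Mathlib
import Cfsg.Agent.Lib.helper42.AICDefs

/-!
S2202 piece E2 (helper69), core: step 1 of the induction, from the subgroup-transfer pieces
SUB1 - SUB3 and A2' as hypotheses.
-/

set_option autoImplicit false

open Cfsg.Agent.Lib.helper42.AIC

namespace Cfsg.Agent.Lib.helper69.AIC

theorem h69_step1_core {G : Type*} [Group G] [Finite G]
    (hsub1 : ∀ M : Subgroup G, AIC ↥M)
    (hsub2 : ∀ (M : Subgroup G) (P : Sylow 2 G), (P : Subgroup G) ≤ M → NCyc ↥M)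
    (hsub3 : ∀ (M : Subgroup G) (P : Sylow 2 G) (hPM : (P : Subgroup G) ≤ M) (x : ↥M),
      x ∈ CP (P.subtype hPM) ↔ (x : G) ∈ CP P)
    (hcomm : ∀ P : Sylow 2 G, ∀ x ∈ CP P, ∀ y ∈ CP P, x * y = y * x)
    (hIH : ∀ M : Subgroup G, M ≠ ⊤ → AIC ↥M → NCyc ↥M → KEq ↥M)
    (hZ1 : ∀ x : G, Odd (orderOf x) → (∀ P : Sylow 2 G, x ∈ CP P) → x = 1)
    (P Q : Sylow 2 G) (z : G) (hz1 : z ≠ 1) (hzo : Odd (orderOf z)) (hzP : z ∈ CP P)
    (hzQ : z ∈ CP Q) (x : G) (hxo : Odd (orderOf x)) (hxP : x ∈ CP P) : x ∈ CP Q := by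
  obtain ⟨X, hX⟩ : ∃ X : Subgroup G, X = Subgroup.centralizer ({z} : Set G) := ⟨_, rfl⟩
  have hXtop : X ≠ ⊤ := by
    intro h
    apply hz1
    apply hZ1 z hzo
    intro R
    rw [Subgroup.mem_centralizer_iff]
    intro y _
    have hy : y ∈ X := by rw [h]; exact Subgroup.mem_top y
    rw [hX, Subgroup.mem_centralizer_iff] at hy
    exact (hy z rfl).symm
  have hle : ∀ R : Sylow 2 G, z ∈ CP R → (R : Subgroup G) ≤ X := by
    intro R hzR y hy
    rw [hX, Subgroup.mem_centralizer_iff]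
    intro h hh
    rw [Set.mem_singleton_iff] at hh
    rw [hh]
    rw [Subgroup.mem_centralizer_iff] at hzR
    exact (hzR y hy).symm
  have hPX := hle P hzP
  have hQX := hle Q hzQ
  have hxX : x ∈ X := by
    rw [hX, Subgroup.mem_centralizer_iff]
    intro h hh
    rw [Set.mem_singleton_iff] at hh
    rw [hh]
    exact hcomm P z hzP x hxP
  have hKE := hIH X hXtop (hsub1 X) (hsub2 X P hPX)
  have h1 : (⟨x, hxX⟩ : ↥X) ∈ CP (P.subtype hPX) := (hsub3 X P hPX ⟨x, hxX⟩).mpr hxP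
  have h2 := hKE (P.subtype hPX) (Q.subtype hQX) ⟨x, hxX⟩
    (by rw [Subgroup.orderOf_mk]; exact hxo) h1
  exact (hsub3 X Q hQX ⟨x, hxX⟩).mp h2

end Cfsg.Agent.Lib.helper69.AIC
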