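import Mathlib
import Cfsg.Agent.Lib.helper42.AICDefs
import Cfsg.Agent.Lib.helper42.AIC_A
import Cfsg.Agent.Lib.helper4.AIC_SUB
import Cfsg.Agent.Lib.helper69.AIC_E2core

/-!
S2202 piece E2 (helper69): step 1 of the induction (verbatim skeleton statement).
-/

set_option autoImplicit false

open Cfsg.Agent.Lib.helper42.AIC

namespace Cfsg.Agent.Lib.helper69.AIC

/-- E2 : step 1 (uses the induction hypothesis for the centralizer of `z`) -/
theorem step1 {G : Type*} [Group G] [Finite G] (hA : AIC G) (hnc : NCyc G)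
    (hIH : ∀ M : Subgroup G, M ≠ ⊤ → AIC ↥M → NCyc ↥M → KEq ↥M)
    (hZ1 : ∀ x : G, Odd (orderOf x) → (∀ P : Sylow 2 G, x ∈ CP P) → x = 1)
    (P Q : Sylow 2 G) (z : G) (hz1 : z ≠ 1) (hzo : Odd (orderOf z)) (hzP : z ∈ CP P)
    (hzQ : z ∈ CP Q) (x : G) (hxo : Odd (orderOf x)) (hxP : x ∈ CP P) : x ∈ CP Q :=
  h69_step1_core (Cfsg.Agent.Lib.helper4.AIC.aic_sub hA) (Cfsg.Agent.Lib.helper4.AIC.ncyc_sub hnc)
    Cfsg.Agent.Lib.helper4.AIC.cp_sub (Cfsg.Agent.Lib.helper42.AIC.cp_comm hA hnc) hIH hZ1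
    P Q z hz1 hzo hzP hzQ x hxo hxP

end Cfsg.Agent.Lib.helper69.AIC
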