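import Mathlib
import Cfsg.Agent.Lib.helper45.SVDefs

set_option autoImplicit false

namespace Cfsg.Agent.Lib.helper45.SV

/-- ATOM (S), racer copy of `exists_atom` (verbatim statement): a minimal nonzero invariant
subspace. -/
theorem h69_exists_atom {F : Type*} [Field F] {V : Type*} [AddCommGroup V] [Module F V] [Finite V]
    (T : Module.End F V) (hV : Nontrivial V) :
    ∃ A : Submodule F V, (∀ v ∈ A, T v ∈ A) ∧ A ≠ ⊥ ∧
      ∀ U : Submodule F V, (∀ v ∈ U, T v ∈ U) → U ≤ A → U = ⊥ ∨ U = A := by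
  classical
  have hex : ∃ k : ℕ, ∃ A : Submodule F V, (∀ v ∈ A, T v ∈ A) ∧ A ≠ ⊥ ∧
      Module.finrank F A = k :=
    ⟨_, ⊤, fun v _ => Submodule.mem_top, top_ne_bot, rfl⟩
  obtain ⟨A, hA, hA0, hAk⟩ := Nat.find_spec hex
  refine ⟨A, hA, hA0, fun U hU hUA => ?_⟩
  by_cases hU0 : U = ⊥
  · exact Or.inl hU0
  · right
    have hmin : Nat.find hex ≤ Module.finrank F U := Nat.find_min' hex ⟨U, hU, hU0, rfl⟩
    exact Submodule.eq_of_le_of_finrank_le hUA (by rw [hAk]; exact hmin)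

end Cfsg.Agent.Lib.helper45.SV
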