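import Mathlib
import Cfsg.Agent.Lib.helper45.SVDefs

set_option autoImplicit false

namespace Cfsg.Agent.Lib.helper45.SV

universe uF uM uN

/-- Restriction to a pair of complementary invariant subspaces splits the intertwining maps. -/
noncomputable def h69_homSplitEquiv {F : Type uF} [Field F] {M : Type uM} {N : Type uN} [AddCommGroup M]
    [Module F M] [AddCommGroup N] [Module F N]
    (S : Module.End F M) (R : Module.End F N) (A B : Submodule F M) (hA : ∀ v ∈ A, S v ∈ A)
    (hB : ∀ v ∈ B, S v ∈ B) (h : IsCompl A B) :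
    {φ : M →ₗ[F] N // ∀ m, φ (S m) = R (φ m)} ≃
      {φ : A →ₗ[F] N // ∀ m, φ (S.restrict hA m) = R (φ m)} ×
        {φ : B →ₗ[F] N // ∀ m, φ (S.restrict hB m) = R (φ m)} where
  toFun φ := (⟨φ.1.comp A.subtype, fun m => φ.2 m⟩, ⟨φ.1.comp B.subtype, fun m => φ.2 m⟩)
  invFun ψ := ⟨LinearMap.ofIsCompl h ψ.1.1 ψ.2.1, by
    intro m
    have hm : m ∈ A ⊔ B := by rw [h.sup_eq_top]; exact Submodule.mem_top
    obtain ⟨a, ha, b, hb, rfl⟩ := Submodule.mem_sup.mp hm
    have e1 : LinearMap.ofIsCompl h ψ.1.1 ψ.2.1 (S a) = ψ.1.1 (S.restrict hA ⟨a, ha⟩) :=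
      LinearMap.ofIsCompl_apply_left h (S.restrict hA ⟨a, ha⟩)
    have e2 : LinearMap.ofIsCompl h ψ.1.1 ψ.2.1 (S b) = ψ.2.1 (S.restrict hB ⟨b, hb⟩) :=
      LinearMap.ofIsCompl_apply_right h (S.restrict hB ⟨b, hb⟩)
    have e3 : LinearMap.ofIsCompl h ψ.1.1 ψ.2.1 a = ψ.1.1 ⟨a, ha⟩ :=
      LinearMap.ofIsCompl_apply_left h (⟨a, ha⟩ : A)
    have e4 : LinearMap.ofIsCompl h ψ.1.1 ψ.2.1 b = ψ.2.1 ⟨b, hb⟩ :=
      LinearMap.ofIsCompl_apply_right h (⟨b, hb⟩ : B)
    rw [map_add, map_add, map_add, map_add, e1, e2, e3, e4, ψ.1.2, ψ.2.2]⟩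
  left_inv φ := by
    apply Subtype.ext
    exact LinearMap.ofIsCompl_eq h (fun u => rfl) (fun u => rfl)
  right_inv ψ := by
    apply Prod.ext
    · apply Subtype.ext
      apply LinearMap.ext
      intro u
      exact LinearMap.ofIsCompl_apply_left h u
    · apply Subtype.ext
      apply LinearMap.ext
      intro u
      exact LinearMap.ofIsCompl_apply_right h u

/-- HOM core: the count of intertwining maps from a semisimple module to a simple one, from the
statements of HOM1, CHP, IRR and ATOM (at the universe of `M`). -/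
theorem h69_card_hom_core {F : Type uF} [Field F] [Fintype F] [DecidableEq F] {N : Type uN}
    [AddCommGroup N] [Module F N] [Finite N] (R : Module.End F N)
    (hHOM1 : ∀ (M : Type uM) [AddCommGroup M] [Module F M] [Finite M] (S : Module.End F M)
      (_ : Nontrivial M) (_ : ∀ U : Submodule F M, (∀ v ∈ U, S v ∈ U) → U = ⊥ ∨ U = ⊤),
      (S.charpoly = R.charpoly →
        Nat.card {φ : M →ₗ[F] N // ∀ m, φ (S m) = R (φ m)} = Fintype.card F ^ Module.finrank F N) ∧
      (S.charpoly ≠ R.charpoly →
        Nat.card {φ : M →ₗ[F] N // ∀ m, φ (S m) = R (φ m)} = 1))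
    (hCHP : ∀ (V : Type uM) [AddCommGroup V] [Module F V] [Finite V] (T : Module.End F V)
      (A B : Submodule F V) (hA : ∀ v ∈ A, T v ∈ A) (hB : ∀ v ∈ B, T v ∈ B) (_ : IsCompl A B),
      T.charpoly = (T.restrict hA).charpoly * (T.restrict hB).charpoly)
    (hIRR : ∀ (M : Type uM) [AddCommGroup M] [Module F M] [Finite M] (S : Module.End F M)
      (_ : Nontrivial M) (_ : ∀ U : Submodule F M, (∀ v ∈ U, S v ∈ U) → U = ⊥ ∨ U = ⊤),
      Irreducible S.charpoly)
    (hATOM : ∀ (V : Type uM) [AddCommGroup V] [Module F V] [Finite V] (T : Module.End F V)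
      (_ : Nontrivial V), ∃ A : Submodule F V, (∀ v ∈ A, T v ∈ A) ∧ A ≠ ⊥ ∧
        ∀ U : Submodule F V, (∀ v ∈ U, T v ∈ U) → U ≤ A → U = ⊥ ∨ U = A) :
    ∀ (k : ℕ) (M : Type uM) [AddCommGroup M] [Module F M] [Finite M] (S : Module.End F M),
      S.IsSemisimple → Module.finrank F M = k →
      Nat.card {φ : M →ₗ[F] N // ∀ m, φ (S m) = R (φ m)} =
        Fintype.card F ^ (Module.finrank F N *
          (UniqueFactorizationMonoid.normalizedFactors S.charpoly).count R.charpoly) := by
  intro k
  induction k using Nat.strong_induction_on with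
  | _ k ih =>
  intro M _ _ _ S hS hk
  rcases subsingleton_or_nontrivial M with hsub | hM
  · -- trivial module
    have hcard : Nat.card {φ : M →ₗ[F] N // ∀ m, φ (S m) = R (φ m)} = 1 := by
      rw [Nat.card_eq_one_iff_unique]
      refine ⟨⟨fun a b => Subtype.ext (LinearMap.ext fun m => ?_)⟩, ⟨⟨0, fun m => ?_⟩⟩⟩
      · rw [Subsingleton.elim m 0, map_zero, map_zero]
      · simp
    have hcp : S.charpoly = 1 := by
      have hdeg : S.charpoly.natDegree = 0 := by
        rw [LinearMap.charpoly_natDegree]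
        exact Module.finrank_zero_of_subsingleton
      exact Polynomial.eq_one_of_monic_natDegree_zero (LinearMap.charpoly_monic S) hdeg
    rw [hcard, hcp, UniqueFactorizationMonoid.normalizedFactors_one, Multiset.count_zero, mul_zero,
      pow_zero]
  · obtain ⟨A, hAinv, hA0, hAmin⟩ := hATOM M S hM
    obtain ⟨B, hB', hAB⟩ := (Module.End.isSemisimple_iff.mp hS) A (fun v hv => hAinv v hv)
    have hBinv : ∀ v ∈ B, S v ∈ B := fun v hv => hB' hv
    have hAnt : Nontrivial A := Submodule.nontrivial_iff_ne_bot.mpr hA0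
    -- A is simple for the restriction
    have hAsimple : ∀ U : Submodule F A, (∀ v ∈ U, S.restrict hAinv v ∈ U) → U = ⊥ ∨ U = ⊤ := by
      intro U hU
      have hinj : Function.Injective (Submodule.map A.subtype) :=
        Submodule.map_injective_of_injective A.injective_subtype
      have hUinv : ∀ v ∈ U.map A.subtype, S v ∈ U.map A.subtype := by
        intro v hv
        obtain ⟨u, hu, rfl⟩ := Submodule.mem_map.mp hv
        exact Submodule.mem_map.mpr ⟨S.restrict hAinv u, hU u hu, rfl⟩
      have hle : U.map A.subtype ≤ A := by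
        intro v hv
        obtain ⟨u, _, rfl⟩ := Submodule.mem_map.mp hv
        exact u.2
      rcases hAmin _ hUinv hle with h0 | h1
      · left
        apply hinj
        rw [h0, Submodule.map_bot]
      · right
        apply hinj
        rw [h1, Submodule.map_subtype_top]
    have hcA := hHOM1 A (S.restrict hAinv) hAnt hAsimple
    have hirrA := hIRR A (S.restrict hAinv) hAnt hAsimple
    have hfr : Module.finrank F A + Module.finrank F B = Module.finrank F M :=
      Submodule.finrank_add_eq_of_isCompl hAB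
    have hApos : 0 < Module.finrank F A := Module.finrank_pos
    have hBlt : Module.finrank F B < k := by omega
    have hcB := ih (Module.finrank F B) hBlt B (S.restrict hBinv)
      (Module.End.IsSemisimple.restrict (p := B) hBinv hS) rfl
    have hchp := hCHP M S A B hAinv hBinv hAB
    have hmonA : (S.restrict hAinv).charpoly.Monic := LinearMap.charpoly_monic _
    have hmonB : (S.restrict hBinv).charpoly.Monic := LinearMap.charpoly_monic _
    have hnfA : UniqueFactorizationMonoid.normalizedFactors (S.restrict hAinv).charpoly =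
        {(S.restrict hAinv).charpoly} := by
      rw [UniqueFactorizationMonoid.normalizedFactors_irreducible hirrA, hmonA.normalize_eq_self]
    rw [Nat.card_congr (h69_homSplitEquiv S R A B hAinv hBinv hAB), Nat.card_prod, hcB, hchp,
      UniqueFactorizationMonoid.normalizedFactors_mul hmonA.ne_zero hmonB.ne_zero, hnfA,
      Multiset.count_add]
    by_cases hEq : (S.restrict hAinv).charpoly = R.charpoly
    · rw [hcA.1 hEq, hEq, Multiset.count_singleton_self, ← pow_add]
      congr 1
      ring
    · rw [hcA.2 hEq, Multiset.count_singleton, if_neg (fun h => hEq h.symm), zero_add, one_mul]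

end Cfsg.Agent.Lib.helper45.SV
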