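import Mathlib
import Cfsg.Agent.Lib.helper45.SVDefs
import Cfsg.Agent.Lib.helper69.SV_HOMcore
import Cfsg.Agent.Lib.helper69.SV_ATOM
import Cfsg.Agent.Lib.helper22.SV_CHP
import Cfsg.Agent.Lib.helper22.SV_IRR
import Cfsg.Agent.Lib.helper31.SV_HOM1

set_option autoImplicit false

namespace Cfsg.Agent.Lib.helper45.SV

/-- HOM (L, uses HOM1, CHP, IRR, ATOM). -/
theorem card_hom_simple {F : Type*} [Field F] [Fintype F] [DecidableEq F] {M N : Type*} [AddCommGroup M]
    [Module F M] [Finite M] [AddCommGroup N] [Module F N] [Finite N]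
    (S : Module.End F M) (hS : S.IsSemisimple) (R : Module.End F N) (hN : Nontrivial N)
    (hR : ∀ U : Submodule F N, (∀ v ∈ U, R v ∈ U) → U = ⊥ ∨ U = ⊤) :
    Nat.card {φ : M →ₗ[F] N // ∀ m, φ (S m) = R (φ m)} =
      Fintype.card F ^ (Module.finrank F N *
        (UniqueFactorizationMonoid.normalizedFactors S.charpoly).count R.charpoly) := by
  refine h69_card_hom_core R ?_ ?_ ?_ ?_ (Module.finrank F M) M S hS rfl
  · intro M' _ _ _ S' hM' hS'
    have h1 := card_hom_simple_simple S' hM' hS' R hN hR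
    constructor
    · intro h
      rw [h1, if_pos h]
    · intro h
      rw [h1, if_neg h]
  · intro V _ _ _ T A B hA hB h
    exact charpoly_of_isCompl T A B hA hB h
  · intro M' _ _ _ S' hM' hS'
    exact charpoly_irreducible_of_simple S' hM' hS'
  · intro V _ _ _ T hV
    exact h69_exists_atom T hV

end Cfsg.Agent.Lib.helper45.SV
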