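import Mathlib
import Cfsg.Agent.Lib.helper69.StemSylow
import Cfsg.Agent.Lib.helper46.SL2Sylow
import Cfsg.Agent.S0016

set_option autoImplicit false

namespace Cfsg.Agent.Lib.helper69

open scoped commutatorElement
open Matrix

variable {F : Type*} [Field F]

/-- Upper unitriangular elements of `SL₂`. -/
def sl2U (s : F) : Matrix.SpecialLinearGroup (Fin 2) F :=
  ⟨!![1, s; 0, 1], by simp [Matrix.det_fin_two]⟩

/-- Diagonal elements of `SL₂`. -/
def sl2D (c : F) (hc : c ≠ 0) : Matrix.SpecialLinearGroup (Fin 2) F :=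
  ⟨!![c, 0; 0, c⁻¹], by simp [Matrix.det_fin_two, hc]⟩

theorem sl2U_add (s t : F) : sl2U (s + t) = sl2U s * sl2U t := by
  apply Subtype.ext
  rw [Matrix.SpecialLinearGroup.coe_mul]
  simp [sl2U, add_comm]

theorem sl2U_zero : sl2U (0 : F) = 1 := by
  apply Subtype.ext
  simp [sl2U, Matrix.one_fin_two]

theorem sl2U_injective : Function.Injective (sl2U : F → Matrix.SpecialLinearGroup (Fin 2) F) := by
  intro s t h
  have := congrArg (fun g : Matrix.SpecialLinearGroup (Fin 2) F => g.1 0 1) h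
  simpa [sl2U] using this

theorem sl2D_conj (c : F) (hc : c ≠ 0) (s : F) :
    sl2D c hc * sl2U s * (sl2D c hc)⁻¹ = sl2U (c ^ 2 * s) := by
  rw [mul_inv_eq_iff_eq_mul]
  apply Subtype.ext
  rw [Matrix.SpecialLinearGroup.coe_mul, Matrix.SpecialLinearGroup.coe_mul]
  simp [sl2U, sl2D]
  field_simp

/-- The upper unitriangular subgroup. -/
def sl2USub : Subgroup (Matrix.SpecialLinearGroup (Fin 2) F) where
  carrier := Set.range sl2U
  mul_mem' := by
    rintro _ _ ⟨s, rfl⟩ ⟨t, rfl⟩
    exact ⟨s + t, sl2U_add s t⟩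
  one_mem' := ⟨0, sl2U_zero⟩
  inv_mem' := by
    rintro _ ⟨s, rfl⟩
    refine ⟨-s, ?_⟩
    apply eq_inv_of_mul_eq_one_left
    rw [← sl2U_add, neg_add_cancel, sl2U_zero]

theorem mem_sl2USub (g : Matrix.SpecialLinearGroup (Fin 2) F) : g ∈ sl2USub ↔ g ∈ Set.range sl2U :=
  Iff.rfl

theorem card_sl2USub : Nat.card (sl2USub : Subgroup (Matrix.SpecialLinearGroup (Fin 2) F)) = Nat.card F :=
  (Nat.card_congr (Equiv.ofInjective sl2U sl2U_injective)).symm

theorem not_dvd_index_sl2USub [Fintype F] (p n : ℕ) (hp : p.Prime) (hn : n ≠ 0)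
    (hq : Fintype.card F = p ^ n) :
    ¬ p ∣ (sl2USub : Subgroup (Matrix.SpecialLinearGroup (Fin 2) F)).index := by
  have h1 := Subgroup.index_mul_card (sl2USub : Subgroup (Matrix.SpecialLinearGroup (Fin 2) F))
  rw [card_sl2USub, Cfsg.Agent.Lib.helper46.card_SL2_factored, Nat.card_eq_fintype_card] at h1
  have hq0 : 0 < Fintype.card F := Fintype.card_pos
  have h2 : (sl2USub : Subgroup (Matrix.SpecialLinearGroup (Fin 2) F)).index =
      (Fintype.card F - 1) * (Fintype.card F + 1) := by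
    apply Nat.eq_of_mul_eq_mul_right hq0
    rw [h1, mul_comm]
  rw [h2]
  have hpq : p ∣ Fintype.card F := by rw [hq]; exact dvd_pow_self p hn
  intro hd
  rcases (Nat.Prime.dvd_mul hp).mp hd with h | h
  · have : p ∣ Fintype.card F - (Fintype.card F - 1) := Nat.dvd_sub hpq h
    have e : Fintype.card F - (Fintype.card F - 1) = 1 := by omega
    rw [e] at this
    exact hp.one_lt.ne' (Nat.dvd_one.mp this)
  · have : p ∣ (Fintype.card F + 1) - Fintype.card F := Nat.dvd_sub h hpq
    have e : (Fintype.card F + 1) - Fintype.card F = 1 := by omega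
    rw [e] at this
    exact hp.one_lt.ne' (Nat.dvd_one.mp this)

/-- A finite subgroup of `SL₂(F)` (characteristic `p`) without `p`-torsion and with a central element
`z`, `z² ≠ 1`, is cyclic: it acts faithfully on an eigenline of `z` over the algebraic closure. -/
theorem isCyclic_sl2_subgroup_of_central (p : ℕ) [Fact p.Prime] [CharP F p]
    (R : Subgroup (Matrix.SpecialLinearGroup (Fin 2) F)) [Finite R]
    (z : Matrix.SpecialLinearGroup (Fin 2) F) (hz : ∀ g ∈ R, g * z = z * g) (hz2 : z * z ≠ 1)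
    (hp : ∀ g ∈ R, g ^ p = 1 → g = 1) : IsCyclic R := by
  classical
  obtain ⟨K, _, _, _, hKdef⟩ : ∃ (K : Type _) (_ : Field K) (_ : Algebra F K) (_ : IsAlgClosed K),
      K = AlgebraicClosure F := ⟨AlgebraicClosure F, inferInstance, inferInstance, inferInstance, rfl⟩
  clear hKdef
  obtain ⟨ι, hιdef⟩ : ∃ ι : F →+* K, ι = algebraMap F K := ⟨_, rfl⟩
  have hι : Function.Injective ι := ι.injective
  obtain ⟨M, hM⟩ : ∃ M : Matrix.SpecialLinearGroup (Fin 2) F → Matrix (Fin 2) (Fin 2) K,
      ∀ g, M g = (g : Matrix (Fin 2) (Fin 2) F).map ι := ⟨_, fun _ => rfl⟩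
  have hMmul : ∀ g h, M (g * h) = M g * M h := by
    intro g h
    rw [hM, hM, hM, Matrix.SpecialLinearGroup.coe_mul, Matrix.map_mul]
  have hMone : M 1 = 1 := by
    rw [hM, Matrix.SpecialLinearGroup.coe_one, Matrix.map_one _ (map_zero ι) (map_one ι)]
  have hmv : ∀ (g : Matrix.SpecialLinearGroup (Fin 2) F) (w : Fin 2 → K),
      M g *ᵥ w = ![ι (g.1 0 0) * w 0 + ι (g.1 0 1) * w 1, ι (g.1 1 0) * w 0 + ι (g.1 1 1) * w 1] := by
    intro g w
    rw [hM]
    funext i
    fin_cases i <;> simp [Matrix.mulVec, dotProduct, Fin.sum_univ_two]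
  have hdetK : ∀ g : Matrix.SpecialLinearGroup (Fin 2) F,
      ι (g.1 0 0) * ι (g.1 1 1) - ι (g.1 0 1) * ι (g.1 1 0) = 1 := by
    intro g
    have := g.2
    rw [Matrix.det_fin_two] at this
    rw [← map_mul, ← map_mul, ← map_sub, this, map_one]
  -- eigenvector of z
  obtain ⟨μ, hμ⟩ := Module.End.exists_eigenvalue (Matrix.toLin' (M z))
  obtain ⟨v, hv⟩ := hμ.exists_hasEigenvector
  have hv0 : v ≠ 0 := hv.2
  have hzv : M z *ᵥ v = μ • v := by
    have := hv.apply_eq_smul
    rwa [Matrix.toLin'_apply] at this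
  have hvcoord : v 0 ≠ 0 ∨ v 1 ≠ 0 := by
    by_contra hcon
    push_neg at hcon
    apply hv0
    funext i
    fin_cases i
    · exact hcon.1
    · exact hcon.2
  have hdim : ∀ w : Fin 2 → K, M z *ᵥ w = μ • w → ∃ c : K, w = c • v := by
    intro w hw
    have e1 := congrFun hzv 0
    have e2 := congrFun hzv 1
    have e3 := congrFun hw 0
    have e4 := congrFun hw 1
    rw [hmv] at e1 e2 e3 e4
    simp only [Matrix.cons_val_zero, Matrix.cons_val_one, Pi.smul_apply, smul_eq_mul] at e1 e2 e3 e4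
    by_cases hD : v 0 * w 1 - v 1 * w 0 = 0
    · by_cases hv00 : v 0 = 0
      · have hv1 : v 1 ≠ 0 := by
          rcases hvcoord with h | h
          · exact absurd hv00 h
          · exact h
        have hw0 : w 0 = 0 := by
          rw [hv00, zero_mul, zero_sub, neg_eq_zero] at hD
          exact (mul_eq_zero.mp hD).resolve_left hv1
        refine ⟨w 1 / v 1, ?_⟩
        funext i
        fin_cases i
        · simp [hv00, hw0]
        · simp [div_mul_cancel₀ _ hv1]
      · refine ⟨w 0 / v 0, ?_⟩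
        funext i
        fin_cases i
        · simp [div_mul_cancel₀ _ hv00]
        · simp only [Fin.mk_one, Fin.isValue, Pi.smul_apply, smul_eq_mul]
          field_simp
          linear_combination hD
    · exfalso
      apply hz2
      have hb : ι (z.1 0 1) = 0 := by
        have : ι (z.1 0 1) * (v 0 * w 1 - v 1 * w 0) = 0 := by
          linear_combination (v 0) * e3 - (w 0) * e1
        exact (mul_eq_zero.mp this).resolve_right hD
      have hc : ι (z.1 1 0) = 0 := by
        have : ι (z.1 1 0) * (v 0 * w 1 - v 1 * w 0) = 0 := by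
          linear_combination (w 1) * e2 - (v 1) * e4
        exact (mul_eq_zero.mp this).resolve_right hD
      have ha : ι (z.1 0 0) = μ := by
        have : (ι (z.1 0 0) - μ) * (v 0 * w 1 - v 1 * w 0) = 0 := by
          linear_combination (w 1) * e1 - (v 1) * e3
        exact sub_eq_zero.mp ((mul_eq_zero.mp this).resolve_right hD)
      have hd : ι (z.1 1 1) = μ := by
        have : (ι (z.1 1 1) - μ) * (v 0 * w 1 - v 1 * w 0) = 0 := by
          linear_combination (v 0) * e4 - (w 0) * e2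
        exact sub_eq_zero.mp ((mul_eq_zero.mp this).resolve_right hD)
      have hb' : z.1 0 1 = 0 := hι (by rw [hb, map_zero])
      have hc' : z.1 1 0 = 0 := hι (by rw [hc, map_zero])
      have had : z.1 0 0 = z.1 1 1 := hι (by rw [ha, hd])
      have hdet := z.2
      rw [Matrix.det_fin_two, hb', zero_mul, sub_zero, ← had] at hdet
      apply Subtype.ext
      rw [Matrix.SpecialLinearGroup.coe_mul, Matrix.SpecialLinearGroup.coe_one]
      ext i j
      fin_cases i <;> fin_cases j <;>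
        simp [Matrix.mul_apply, Fin.sum_univ_two, hb', hc', ← had, hdet]
  have hex : ∀ g : R, ∃ c : K, M g.1 *ᵥ v = c • v := by
    intro g
    apply hdim
    rw [Matrix.mulVec_mulVec, ← hMmul, ← hz g.1 g.2, hMmul, ← Matrix.mulVec_mulVec, hzv,
      Matrix.mulVec_smul]
  choose χ hχ using hex
  have hsmul_inj : ∀ c c' : K, c • v = c' • v → c = c' := fun c c' h => smul_left_injective K hv0 h
  have χ_one : χ 1 = 1 := by
    apply hsmul_inj
    rw [← hχ 1, one_smul]
    show M (1 : Matrix.SpecialLinearGroup (Fin 2) F) *ᵥ v = v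
    rw [hMone, Matrix.one_mulVec]
  have χ_mul : ∀ g h : R, χ (g * h) = χ g * χ h := by
    intro g h
    apply hsmul_inj
    rw [← hχ (g * h)]
    show M (g.1 * h.1) *ᵥ v = _
    rw [hMmul, ← Matrix.mulVec_mulVec, hχ h, Matrix.mulVec_smul, hχ g, smul_smul, mul_comm]
  have hker : ∀ g : R, χ g = 1 → g = 1 := by
    intro g hg
    have e := hχ g
    rw [hg, one_smul] at e
    have e1 := congrFun e 0
    have e2 := congrFun e 1
    rw [hmv] at e1 e2
    simp only [Matrix.cons_val_zero, Matrix.cons_val_one] at e1 e2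
    have hdet := hdetK g.1
    have h0 : (ι (g.1.1 0 0) + ι (g.1.1 1 1) - 2) * v 0 = 0 := by
      linear_combination (v 0) * hdet - (ι (g.1.1 1 1) - 1) * e1 + ι (g.1.1 0 1) * e2
    have h1 : (ι (g.1.1 0 0) + ι (g.1.1 1 1) - 2) * v 1 = 0 := by
      linear_combination (v 1) * hdet - (ι (g.1.1 0 0) - 1) * e2 + ι (g.1.1 1 0) * e1
    have htrK : ι (g.1.1 0 0) + ι (g.1.1 1 1) - 2 = 0 := by
      rcases hvcoord with h | h
      · exact (mul_eq_zero.mp h0).resolve_right h
      · exact (mul_eq_zero.mp h1).resolve_right h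
    have htr : g.1.1 0 0 + g.1.1 1 1 = 2 * 1 := by
      apply hι
      rw [map_add, map_mul, map_one, mul_one, map_ofNat]
      exact sub_eq_zero.mp htrK
    have hpow := Cfsg.Agent.Lib.helper46.pow_char_eq_of_trace p g.1.1 g.1.2 1 (mul_one 1) htr
    rw [one_pow, one_smul] at hpow
    have hg1 : g.1 ^ p = 1 := by
      apply Subtype.ext
      rw [Matrix.SpecialLinearGroup.coe_pow, hpow, Matrix.SpecialLinearGroup.coe_one]
    exact Subtype.ext (hp g.1 g.2 hg1)
  let f : R →* K := { toFun := χ, map_one' := χ_one, map_mul' := χ_mul }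
  apply isCyclic_of_subgroup_isDomain f
  intro g h hgh
  have hgh' : χ g = χ h := hgh
  have h1 : χ (g * h⁻¹) = 1 := by
    rw [χ_mul, hgh', ← χ_mul, mul_inv_cancel, χ_one]
  exact mul_inv_eq_one.mp (hker _ h1)

/-- `r`-subgroups of `SL₂(F)`, for `r` odd and different from the characteristic, are cyclic. -/
theorem isCyclic_sl2_of_isPGroup_odd (p : ℕ) [Fact p.Prime] [CharP F p] (r : ℕ) [Fact r.Prime]
    (hr2 : r ≠ 2) (hrp : r ≠ p) (R : Subgroup (Matrix.SpecialLinearGroup (Fin 2) F)) [Finite R]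
    (hR : IsPGroup r R) : IsCyclic R := by
  by_cases htriv : R = ⊥
  · subst htriv
    exact isCyclic_of_subsingleton
  · haveI : Nontrivial R := (Subgroup.nontrivial_iff_ne_bot R).mpr htriv
    haveI := hR.center_nontrivial
    obtain ⟨⟨z, hzc⟩, hz1⟩ := exists_ne (1 : Subgroup.center R)
    apply isCyclic_sl2_subgroup_of_central p R z.1
    · intro g hg
      have := Subgroup.mem_center_iff.mp hzc ⟨g, hg⟩
      exact congrArg Subtype.val this
    · intro hzz
      obtain ⟨k, hk⟩ := hR z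
      have h2 : z ^ 2 = 1 := by
        apply Subtype.ext
        rw [pow_two]
        exact hzz
      have hcop : Nat.Coprime (r ^ k) 2 :=
        Nat.Coprime.pow_left k ((Nat.coprime_primes Fact.out Nat.prime_two).mpr hr2)
      have h3 := pow_gcd_eq_one.mpr ⟨hk, h2⟩
      rw [hcop.gcd_eq_one, pow_one] at h3
      exact hz1 (Subtype.ext h3)
    · intro g hg hgp
      obtain ⟨k, hk⟩ := hR ⟨g, hg⟩
      have hk' : g ^ r ^ k = 1 := congrArg Subtype.val hk
      have hcop : Nat.Coprime (r ^ k) p :=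
        Nat.Coprime.pow_left k ((Nat.coprime_primes Fact.out Fact.out).mpr hrp)
      have h3 := pow_gcd_eq_one.mpr ⟨hk', hgp⟩
      rwa [hcop.gcd_eq_one, pow_one] at h3

/-- `2`-subgroups of `SL₂(F)` in odd characteristic are cyclic or generalized quaternion. -/
theorem sl2_two_subgroup [Finite F] (h2 : (2 : F) ≠ 0)
    (R : Subgroup (Matrix.SpecialLinearGroup (Fin 2) F)) (hR : IsPGroup 2 R) :
    IsCyclic R ∨ ∃ n : ℕ, Nonempty (R ≃* QuaternionGroup (2 ^ n)) := by
  haveI : Fact (Nat.Prime 2) := ⟨Nat.prime_two⟩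
  have key : ∀ H : Subgroup R, Nat.card H = 2 → ∀ x : R,
      x ∈ H ↔ (x = 1 ∨ (x.1.1 : Matrix (Fin 2) (Fin 2) F) = -1) := by
    intro H hH x
    have hsq : ∀ y : R, y ∈ H → y = 1 ∨ (y.1.1 : Matrix (Fin 2) (Fin 2) F) = -1 := by
      intro y hy
      have h1 : (⟨y, hy⟩ : H) ^ 2 = 1 := by
        have h0 := pow_card_eq_one' (G := H) (x := ⟨y, hy⟩)
        rw [hH] at h0
        exact h0
      have h2' : (y.1.1 : Matrix (Fin 2) (Fin 2) F) * y.1.1 = 1 := by
        have h3 : y * y = 1 := by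
          have := congrArg Subtype.val h1
          rwa [pow_two] at this
        have h4 : y.1 * y.1 = 1 := congrArg Subtype.val h3
        have h5 := congrArg Subtype.val h4
        rwa [Matrix.SpecialLinearGroup.coe_mul] at h5
      rcases Cfsg.Agent.Lib.helper46.sq_eq_one_cases h2 y.1.1 y.1.2 h2' with h | h
      · left
        apply Subtype.ext
        apply Subtype.ext
        exact h
      · right
        exact h
    constructor
    · exact hsq x
    · rintro (rfl | hx)
      · exact H.one_mem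
      · obtain ⟨t, ht, ht1⟩ : ∃ t ∈ H, t ≠ 1 := by
          by_contra hcon
          push_neg at hcon
          have : H = ⊥ := (Subgroup.eq_bot_iff_forall H).mpr hcon
          rw [this, Subgroup.card_bot] at hH
          omega
        rcases hsq t ht with h | h
        · exact absurd h ht1
        · have : t = x := by
            apply Subtype.ext
            apply Subtype.ext
            rw [h, hx]
          rwa [← this]
  rcases Cfsg.Agent.S0016.result 2 hR (by
    intro H K hH hK
    ext x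
    rw [key H hH, key K hK]) with h | ⟨_, h⟩
  · exact Or.inl h
  · exact Or.inr h

open Polynomial in
/-- Existence of the auxiliary pair `(a, b)` in characteristic `2`. -/
theorem exists_pair_char_two [Fintype F] (h2 : (2 : F) = 0) (hq : 8 ≤ Fintype.card F) :
    ∃ a b : F, a ≠ 0 ∧ b ≠ 0 ∧ b ^ 2 = a ^ 2 + 1 ∧ a ^ 4 + a ^ 2 + 1 ≠ 0 := by
  have h1 : (X + 1 : F[X]) ≠ 0 := fun h => by
    have := congrArg (eval 0) h
    simp at this
  have h3 : (X ^ 4 + X ^ 2 + 1 : F[X]) ≠ 0 := fun h => by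
    have := congrArg (eval 0) h
    simp at this
  have hf : (X * (X + 1) * (X ^ 4 + X ^ 2 + 1) : F[X]) ≠ 0 := mul_ne_zero (mul_ne_zero X_ne_zero h1) h3
  have hdeg : (X * (X + 1) * (X ^ 4 + X ^ 2 + 1) : F[X]).natDegree ≤ 6 := by compute_degree
  obtain ⟨a, ha⟩ := exists_eval_ne_zero_of_natDegree_lt_card _ hf (by
    rw [Cardinal.mk_fintype]
    exact_mod_cast lt_of_le_of_lt hdeg (by omega))
  simp only [eval_mul, eval_X, eval_add, eval_one, eval_pow] at ha
  have ha0 : a ≠ 0 := fun h => ha (by rw [h]; ring)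
  have ha1 : a + 1 ≠ 0 := fun h => ha (by rw [h]; ring)
  have ha2 : a ^ 4 + a ^ 2 + 1 ≠ 0 := fun h => ha (by rw [h]; ring)
  exact ⟨a, a + 1, ha0, ha1, by linear_combination a * h2, ha2⟩

open Polynomial in
/-- Existence of the auxiliary pair `(a, b)` in odd characteristic. -/
theorem exists_pair_char_odd [Fintype F] (h2 : (2 : F) ≠ 0) (hq : 14 ≤ Fintype.card F) :
    ∃ a b : F, a ≠ 0 ∧ b ≠ 0 ∧ b ^ 2 = a ^ 2 + 1 ∧ a ^ 4 + a ^ 2 + 1 ≠ 0 := by
  have h1 : (X ^ 2 - 1 : F[X]) ≠ 0 := fun h => by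
    have := congrArg (eval 0) h
    simp at this
  have h3 : (X ^ 2 + 1 : F[X]) ≠ 0 := fun h => by
    have := congrArg (eval 0) h
    simp at this
  have h4 : ((X ^ 2 - 1) ^ 4 + 4 * X ^ 2 * (X ^ 2 - 1) ^ 2 + 16 * X ^ 4 : F[X]) ≠ 0 := fun h => by
    have := congrArg (eval 0) h
    simp at this
  have hf : (X * (X ^ 2 - 1) * (X ^ 2 + 1) *
      ((X ^ 2 - 1) ^ 4 + 4 * X ^ 2 * (X ^ 2 - 1) ^ 2 + 16 * X ^ 4) : F[X]) ≠ 0 :=
    mul_ne_zero (mul_ne_zero (mul_ne_zero X_ne_zero h1) h3) h4
  have hdeg : (X * (X ^ 2 - 1) * (X ^ 2 + 1) *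
      ((X ^ 2 - 1) ^ 4 + 4 * X ^ 2 * (X ^ 2 - 1) ^ 2 + 16 * X ^ 4) : F[X]).natDegree ≤ 13 := by
    compute_degree
  obtain ⟨s, hs⟩ := exists_eval_ne_zero_of_natDegree_lt_card _ hf (by
    rw [Cardinal.mk_fintype]
    exact_mod_cast lt_of_le_of_lt hdeg (by omega))
  simp only [eval_mul, eval_X, eval_add, eval_sub, eval_one, eval_pow, eval_ofNat] at hs
  have hs0 : s ≠ 0 := fun h => hs (by rw [h]; ring)
  have hs1 : s ^ 2 - 1 ≠ 0 := fun h => hs (by rw [h]; ring)
  have hs2 : s ^ 2 + 1 ≠ 0 := fun h => hs (by rw [h]; ring)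
  have hs3 : (s ^ 2 - 1) ^ 4 + 4 * s ^ 2 * (s ^ 2 - 1) ^ 2 + 16 * s ^ 4 ≠ 0 :=
    fun h => hs (by rw [h]; ring)
  refine ⟨(s - s⁻¹) / 2, (s + s⁻¹) / 2, ?_, ?_, ?_, ?_⟩
  · have e : (s - s⁻¹) / 2 = (s ^ 2 - 1) / (2 * s) := by field_simp
    rw [e]
    exact div_ne_zero hs1 (mul_ne_zero h2 hs0)
  · have e : (s + s⁻¹) / 2 = (s ^ 2 + 1) / (2 * s) := by field_simp
    rw [e]
    exact div_ne_zero hs2 (mul_ne_zero h2 hs0)
  · field_simp
    ring
  · have e : ((s - s⁻¹) / 2) ^ 4 + ((s - s⁻¹) / 2) ^ 2 + 1 =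
        ((s ^ 2 - 1) ^ 4 + 4 * s ^ 2 * (s ^ 2 - 1) ^ 2 + 16 * s ^ 4) / (2 ^ 4 * s ^ 4) := by
      field_simp
      ring
    rw [e]
    exact div_ne_zero hs3 (mul_ne_zero (pow_ne_zero 4 h2) (pow_ne_zero 4 hs0))

/-- Every finite stem extension of `SL₂(q)`, `q ≠ 4, 9`, has trivial kernel. -/
theorem sl2_stem_ker_eq_bot [Fintype F] (h4 : Fintype.card F ≠ 4) (h9 : Fintype.card F ≠ 9)
    {Γ : Type*} [Group Γ] [Finite Γ] (σ : Γ →* Matrix.SpecialLinearGroup (Fin 2) F)
    (hσ : Cfsg.IsStemExtension σ) : σ.ker = ⊥ := by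
  classical
  obtain ⟨p, hchar⟩ := CharP.exists F
  haveI := hchar
  obtain ⟨n, hp, hq⟩ := FiniteField.card F p
  haveI : Fact p.Prime := ⟨hp⟩
  apply stem_ker_eq_bot_of_forall_prime σ hσ
  intro r hr
  haveI : Fact r.Prime := ⟨hr⟩
  have hsurj := hσ.1
  have hcent := hσ.2.1
  have mk : ∀ R : Subgroup (Matrix.SpecialLinearGroup (Fin 2) F), ¬ r ∣ R.index →
      (∀ w ∈ σ.ker, w ∈ ⁅R.comap σ, R.comap σ⁆ → w = 1) →
      ∃ E : Subgroup Γ, σ.ker ≤ E ∧ ¬ r ∣ E.index ∧ ∀ w ∈ σ.ker, w ∈ ⁅E, E⁆ → w = 1 := by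
    intro R hR hprop
    refine ⟨R.comap σ, ?_, ?_, hprop⟩
    · intro x hx
      rw [Subgroup.mem_comap, MonoidHom.mem_ker.mp hx]
      exact R.one_mem
    · rwa [Subgroup.index_comap_of_surjective R hsurj]
  have hp2F : (2 : F) = 0 ↔ p = 2 := by
    have e : (2 : F) = ((2 : ℕ) : F) := by norm_num
    rw [e, CharP.cast_eq_zero_iff F p 2]
    exact Nat.prime_dvd_prime_iff_eq hp Nat.prime_two
  by_cases hrp : r = p
  · subst hrp
    apply mk sl2USub (not_dvd_index_sl2USub r n hr n.ne_zero hq)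
    by_cases hn : (n : ℕ) = 1
    · haveI : IsCyclic (sl2USub : Subgroup (Matrix.SpecialLinearGroup (Fin 2) F)) := by
        apply isCyclic_of_prime_card (p := r)
        rw [card_sl2USub, Nat.card_eq_fintype_card, hq, hn, pow_one]
      exact eq_one_of_mem_commutator_comap_of_isCyclic σ hcent _
    · have hn2 : 2 ≤ (n : ℕ) := by
        have := n.pos
        omega
      obtain ⟨a, b, ha, hb, hab, hν⟩ : ∃ a b : F, a ≠ 0 ∧ b ≠ 0 ∧ b ^ 2 = a ^ 2 + 1 ∧
          a ^ 4 + a ^ 2 + 1 ≠ 0 := by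
        by_cases hr2 : r = 2
        · apply exists_pair_char_two (hp2F.mpr hr2)
          rw [hq, hr2]
          have hn3 : 3 ≤ (n : ℕ) := by
            by_contra hcon
            have : (n : ℕ) = 2 := by omega
            rw [hq, hr2, this] at h4
            exact h4 (by norm_num)
          calc 8 = 2 ^ 3 := by norm_num
            _ ≤ 2 ^ (n : ℕ) := Nat.pow_le_pow_right (by norm_num) hn3
        · apply exists_pair_char_odd (fun h => hr2 (hp2F.mp h))
          rw [hq]
          have hr3 : 3 ≤ r := by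
            have := hr.two_le
            omega
          rcases Nat.lt_or_ge r 4 with h | h
          · have hr3' : r = 3 := by omega
            have hn3 : 3 ≤ (n : ℕ) := by
              by_contra hcon
              have : (n : ℕ) = 2 := by omega
              rw [hq, hr3', this] at h9
              exact h9 (by norm_num)
            rw [hr3']
            calc 14 ≤ 3 ^ 3 := by norm_num
              _ ≤ 3 ^ (n : ℕ) := Nat.pow_le_pow_right (by norm_num) hn3
          · have hr5 : 5 ≤ r := by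
              rcases Nat.lt_or_ge r 5 with h' | h'
              · have : r = 4 := by omega
                rw [this] at hr
                exact absurd hr (by norm_num)
              · exact h'
            calc 14 ≤ 5 ^ 2 := by norm_num
              _ ≤ r ^ 2 := Nat.pow_le_pow_left hr5 2
              _ ≤ r ^ (n : ℕ) := Nat.pow_le_pow_right (by omega) hn2
      apply eq_one_of_mem_commutator_comap_of_comm
      intro x y hx hy
      exact comm_of_root_subgroup σ hsurj hcent sl2U sl2U_add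
        (fun c hc => ⟨sl2D c hc, sl2D_conj c hc⟩) a b ha hb hab hν x y hx hy
  · obtain ⟨P⟩ : Nonempty (Sylow r (Matrix.SpecialLinearGroup (Fin 2) F)) := inferInstance
    apply mk (P : Subgroup (Matrix.SpecialLinearGroup (Fin 2) F)) P.not_dvd_index
    by_cases hr2 : r = 2
    · subst hr2
      have h2F : (2 : F) ≠ 0 := fun h => hrp (hp2F.mp h).symm
      rcases sl2_two_subgroup h2F (P : Subgroup (Matrix.SpecialLinearGroup (Fin 2) F)) P.2 with
        hcyc | ⟨m, ⟨e⟩⟩
      · haveI := hcyc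
        exact eq_one_of_mem_commutator_comap_of_isCyclic σ hcent _
      · apply eq_one_of_mem_commutator_comap
        intro z hz hz1
        refine eq_one_of_mem_commutator_of_quaternion (2 ^ m)
          (e.toMonoidHom.comp (σ.subgroupComap (P : Subgroup (Matrix.SpecialLinearGroup (Fin 2) F))))
          ?_ ?_ z hz ?_
        · exact e.surjective.comp (MonoidHom.subgroupComap_surjective_of_surjective σ _ hsurj)
        · intro x hx
          rw [MonoidHom.mem_ker, MonoidHom.comp_apply] at hx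
          have hx1 : (σ.subgroupComap (P : Subgroup (Matrix.SpecialLinearGroup (Fin 2) F))) x = 1 :=
            e.injective (by rw [map_one]; exact hx)
          have hx2 : (x : Γ) ∈ σ.ker := by
            rw [MonoidHom.mem_ker]
            exact congrArg Subtype.val hx1
          have hx3 := hcent hx2
          rw [Subgroup.mem_center_iff] at hx3 ⊢
          intro g
          exact Subtype.ext (hx3 g)
        · rw [MonoidHom.mem_ker, MonoidHom.comp_apply, hz1]
          exact map_one _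
    · haveI : IsCyclic (P : Subgroup (Matrix.SpecialLinearGroup (Fin 2) F)) :=
        isCyclic_sl2_of_isPGroup_odd p r hr2 hrp _ P.2
      exact eq_one_of_mem_commutator_comap_of_isCyclic σ hcent _

end Cfsg.Agent.Lib.helper69
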