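/-
Bender-Glauberman, the open case (NA) of Theorem 14.2 / statement S1430 (helper69).

Shared definitions for the proof of `Cfsg.Agent.Lib.helper71.BGRegNA.NAHyp`:
* `Cfg M E A P r p` : the (NA) configuration (hypotheses of `NAHyp`);
* `M1Cfg M A r M1 S1 Z` : the maximal subgroup `M1` over a Sylow `r`-subgroup `S1 ⊇ A` of `G`
  (the unique maximal subgroup containing `S1`, it contains `N_G(A)`), with a line `Z ≤ A`,
  `Z ≠ A ∩ C(M_σ)`, centralized by `(M1)_σ` and normal in `M1`.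
-/
import Mathlib
import Cfsg.Prelude.Def_OddOrderLocal

set_option autoImplicit false
open Cfsg

namespace Cfsg.Agent.Lib.helper69.NA

variable {G : Type*} [Group G]

/-- The (NA) configuration: `r ∈ τ₂(M)`, nonabelian Sylow `r`-subgroups, `A ≤ E` elementary abelian
of order `r ^ 2`, `P ≤ E` of order `p ∈ τ₁(M)` with `C_{M_σ}(P) ≠ 1` centralizing `A ∩ C(M_σ)`. -/
structure Cfg (M E A P : Subgroup G) (r p : ℕ) : Prop where
  hM : IsCoatom M
  hE : IsComplIn E (sigmaCore M) M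
  hr : r ∈ tau2 M
  hS : ∀ S : Sylow r G, ¬ IsMulCommutative (S : Subgroup G)
  hAE : A ≤ E
  hAe : IsElementaryAbelian r A
  hAc : Nat.card A = r ^ 2
  hp : p ∈ tau1 M
  hPE : P ≤ E
  hPc : Nat.card P = p
  hPs : sigmaCore M ⊓ Subgroup.centralizer (P : Set G) ≠ ⊥
  hPA : A ⊓ Subgroup.centralizer (sigmaCore M : Set G) ≤ Subgroup.centralizer (P : Set G)

/-- The maximal subgroup `M1` over the Sylow `r`-subgroup `S1 ⊇ A` of `G`, with the line `Z`. -/
structure M1Cfg (M A : Subgroup G) (r : ℕ) (M1 : Subgroup G) (S1 : Sylow r G) (Z : Subgroup G) :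
    Prop where
  hM1 : IsCoatom M1
  hne : M1 ≠ M
  hAS : A ≤ (S1 : Subgroup G)
  hS1 : (S1 : Subgroup G) ≤ M1
  huniq : ∀ L : Subgroup G, IsCoatom L → (S1 : Subgroup G) ≤ L → L = M1
  hNA : Subgroup.normalizer (A : Set G) ≤ M1
  hZA : Z ≤ A
  hZc : Nat.card Z = r
  hZne : Z ≠ A ⊓ Subgroup.centralizer (sigmaCore M : Set G)
  hZH : sigmaCore M1 ≤ Subgroup.centralizer (Z : Set G)
  hZn : M1 ≤ Subgroup.normalizer (Z : Set G)

end Cfsg.Agent.Lib.helper69.NA
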