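import Mathlib
import Cfsg.Agent.Lib.helper42.AICDefs
import Cfsg.Agent.S1230

/-!
S2202 piece F1 (helper69), core: a finite CIT group with non-cyclic, non-normal Sylow
2-subgroups is `SL(2, F)` for a finite field `F` of characteristic 2 (landed S1230 + I1 as a
hypothesis).
-/

set_option autoImplicit false
set_option linter.style.haveILetI false

open Cfsg.Agent.Lib.helper42.AIC

namespace Cfsg.Agent.Lib.helper69.AIC

theorem h69_sl_of_cith {X : Type*} [Group X] [Finite X] (hC : CITH X) (hnc : NCyc X)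
    (hnn : NNor X)
    (hI1 : ∀ (F : Type) [Field F] [Fintype F], CharP F 2 →
      Nonempty (Matrix.ProjectiveSpecialLinearGroup (Fin 2) F ≃*
        Matrix.SpecialLinearGroup (Fin 2) F)) :
    ∃ (F : Type) (_ : Field F) (_ : Fintype F), CharP F 2 ∧
      Nonempty (X ≃* Matrix.SpecialLinearGroup (Fin 2) F) := by
  obtain ⟨T⟩ : Nonempty (Sylow 2 X) := inferInstance
  obtain ⟨F, hF, hFin, hcard, ⟨e⟩⟩ := Cfsg.Agent.S1230.result T (hnc T) (hnn T) hC
  have hchar : CharP F 2 := by
    obtain ⟨n, hn⟩ := IsPGroup.iff_card.mp T.2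
    have hn1 : n ≠ 0 := by
      rintro rfl
      rw [pow_zero] at hn
      apply hnc T
      haveI : Subsingleton ↥(T : Subgroup X) := (Nat.card_eq_one_iff_unique.mp hn).1
      exact isCyclic_of_subsingleton
    haveI : Fact (Nat.Prime (ringChar F)) := ⟨CharP.char_is_prime F (ringChar F)⟩
    obtain ⟨m, hp, hm⟩ := FiniteField.card F (ringChar F)
    have h2 : 2 ∣ ringChar F ^ (m : ℕ) := by
      rw [← hm, hcard, hn]
      exact dvd_pow_self 2 hn1
    have h3 := (Nat.prime_dvd_prime_iff_eq Nat.prime_two hp).mp (Nat.prime_two.dvd_of_dvd_pow h2)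
    rw [h3]
    exact ringChar.charP F
  obtain ⟨e'⟩ := hI1 F hchar
  exact ⟨F, hF, hFin, hchar, ⟨e.trans e'⟩⟩

end Cfsg.Agent.Lib.helper69.AIC
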