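import Mathlib
import Cfsg.Agent.Lib.helper42.AICDefs
import Cfsg.Agent.Lib.helper46.AIC_QB1
import Cfsg.Agent.Lib.helper5.AIC_QK
import Cfsg.Agent.Lib.helper5.AIC_I1
import Cfsg.Agent.Lib.helper69.AIC_Z2
import Cfsg.Agent.Lib.helper69.AIC_F1core

/-!
S2202 piece F1 (helper69): `G ⧸ Z ≃* SL(2, F)` (verbatim skeleton statement).
-/

set_option autoImplicit false

open Cfsg.Agent.Lib.helper42.AIC

namespace Cfsg.Agent.Lib.helper69.AIC

/-- F1 -/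
theorem quot_iso {G : Type*} [Group G] [Finite G] (hA : AIC G) (hnc : NCyc G) (hnn : NNor G)
    (hE : KEq G) (Z : Subgroup G) [Z.Normal] (hZ : IsKsub Z) :
    ∃ (F : Type) (_ : Field F) (_ : Fintype F), CharP F 2 ∧
      Nonempty (G ⧸ Z ≃* Matrix.SpecialLinearGroup (Fin 2) F) := by
  have hZo : ∀ z ∈ Z, Odd (orderOf z) := fun z hz => ((hZ z).mp hz).1
  have hZc : ∀ z ∈ Z, ∀ P : Sylow 2 G, z ∈ CP P := fun z hz => ((hZ z).mp hz).2
  have hAq := Cfsg.Agent.Lib.helper46.AIC.aic_quot hA Z hZo hZc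
  have hncq := Cfsg.Agent.Lib.helper5.AIC.ncyc_quot hnc Z hZo hZc
  have hnnq := Cfsg.Agent.Lib.helper5.AIC.nnor_quot hnn Z hZo hZc
  have hKq := Cfsg.Agent.Lib.helper5.AIC.kti_quot hE Z hZ
  exact h69_sl_of_cith (cith_of_kti hAq hncq hnnq hKq) hncq hnnq
    (fun F _ _ hF => Cfsg.Agent.Lib.helper5.AIC.psl_equiv_sl F hF)

end Cfsg.Agent.Lib.helper69.AIC
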