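import Mathlib
import Cfsg.Agent.Lib.helper42.AICDefs
import Cfsg.Agent.Lib.helper42.AIC_W3
import Cfsg.Agent.Lib.helper42.AIC_STw
import Cfsg.Agent.Lib.helper69.AIC_SP3core

/-!
S2202 piece SP3 (helper69): the torus (verbatim skeleton statement).
-/

set_option autoImplicit false

open Cfsg.Agent.Lib.helper42.AIC

namespace Cfsg.Agent.Lib.helper69.AIC

/-- SP3 -/
theorem exists_torus {G : Type*} [Group G] [Finite G] (hA : AIC G) (hnc : NCyc G) (hnn : NNor G)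
    (hE : KEq G) (Z : Subgroup G) [Z.Normal] (hZ : IsKsub Z) (P Q : Sylow 2 G) (hPQ : P ≠ Q)
    (w : G) (hw : orderOf w = 2) (hwP : w • P = Q) :
    ∃ T : Subgroup G, T ≤ NP P ⊓ NP Q ∧ T ⊓ Z = ⊥ ∧
      (∀ d ∈ NP P ⊓ NP Q, ∃ t ∈ T, ∃ z ∈ Z, d = t * z) ∧
      (∀ t ∈ T, w * t * w⁻¹ = t⁻¹) ∧
      (∀ d ∈ NP P ⊓ NP Q, w * d * w⁻¹ = d⁻¹ → d ∈ T) :=
  h69_torus_core Z hZ P Q w (ksub_central hA hnc hnn hE Z hZ)
    (D_comm_keq hA hnc hnn hE Z hZ P Q hPQ)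
    ((keq_struct hA hnc hnn hE Z hZ).2.2.2.2.1 P Q hPQ w hw hwP)

end Cfsg.Agent.Lib.helper69.AIC
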