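import Mathlib
import Cfsg.Agent.Lib.helper8.BGT3Defs
import Cfsg.Agent.Lib.helper55.BGSigmaJ
import Cfsg.Agent.Lib.helper60.BGCentU
import Cfsg.Agent.Lib.helper71.BGTwelveAux
import Cfsg.Agent.Lib.helper71.BGTwelveThree
import Cfsg.Agent.Lib.helper71.BGTenA
import Cfsg.Agent.Lib.helper13.BG11a
import Cfsg.Agent.Lib.helper57.KWBasic
import Cfsg.Agent.Lib.helper54.BGThirteen
import Cfsg.Agent.Lib.helper69.BGKappaB
import Cfsg.Agent.S1350
import Cfsg.Agent.S1410
import Cfsg.Agent.S1414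

/-!
# S1430 (O-c), PIECE S1: `t3_common : HCommon G` (helper69)

`M`, `L` non-conjugate maximal subgroups, `q ∈ σ(M) ∩ σ(L)`, `S ≤ M ⊓ L` a Sylow `q`-subgroup of `G`.
Then `M ⊓ L ≤ N_G(S)` and some complement of `M_σ` in `M` lies in `L`.
-/

set_option autoImplicit false
open Cfsg

namespace Cfsg.Agent.Lib.helper69.BGT3

open Cfsg.Agent.Lib.helper8.BGT3

variable {G : Type*} [Group G]

/-- PIECE S1. -/
theorem t3_common [Finite G] (hG : IsMinSimpleOddOrder G) : HCommon G := by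
  intro M L hM hL hnc q S hqM hqL hSq hSM hSL hSidx
  have hU := Cfsg.Agent.Lib.helper13.bgx_uniq hG
  have hF := Cfsg.Agent.Lib.helper13.bgx_fus hG
  have hPL : Cfsg.Agent.Lib.helper8.BGPLenHyp G := by
    intro p hp H hH
    have : Fact p.Prime := ⟨hp⟩
    exact Cfsg.Agent.S1410.result hG p H hH
  obtain ⟨hodd, hsimple, hna, hsolv⟩ := id hG
  have hqp : q.Prime := hqM.1
  have : Fact q.Prime := ⟨hqp⟩
  have hNM : Subgroup.normalizer (S : Set G) ≤ M :=
    Cfsg.Agent.Lib.helper13.sigma_normalizer_le M hqM S hSM hSq hSidx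
  have hNL : Subgroup.normalizer (S : Set G) ≤ L :=
    Cfsg.Agent.Lib.helper13.sigma_normalizer_le L hqL S hSL hSq hSidx
  obtain ⟨hHallM, -, -⟩ := Cfsg.Agent.S1350.result hG M hM
  obtain ⟨hHallL, -, -⟩ := Cfsg.Agent.S1350.result hG L hL
  have hMsM : sigmaCore M ≤ M := hHallM.1
  have hLsL : sigmaCore L ≤ L := hHallL.1
  -- primes of `β(M)` are not in `σ(L)`
  have hβL : ∀ t : ℕ, t ∈ beta M → t ∉ sigma L := by
    intro t ht htL
    obtain ⟨k, hk⟩ := Cfsg.Agent.Lib.helper71.BG12.exists_conj_of_alpha_sigma hU hM hL ht.1 htL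
    apply hnc k⁻¹
    have hcomp : (MulAut.conj k⁻¹).toMonoidHom.comp (MulAut.conj k).toMonoidHom =
        MonoidHom.id G := by
      ext x
      simp only [MonoidHom.coe_comp, MulEquiv.coe_toMonoidHom, Function.comp_apply,
        MulAut.conj_apply, MonoidHom.id_apply]
      group
    rw [hk, Subgroup.map_map, hcomp, Subgroup.map_id]
  constructor
  · -- the normalizer part
    have hSMs : S ≤ sigmaCore M :=
      Cfsg.Agent.Lib.helper8.bg_pgroup_le_sigmaCore hG hU hF M hM hqM S hSM hSq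
    have hSLs : S ≤ sigmaCore L :=
      Cfsg.Agent.Lib.helper8.bg_pgroup_le_sigmaCore hG hU hF L hL hqL S hSL hSq
    have hSD0 : S ≤ sigmaCore M ⊓ sigmaCore L := le_inf hSMs hSLs
    have hDn : M ⊓ L ≤ Subgroup.normalizer ((sigmaCore M ⊓ sigmaCore L : Subgroup G) : Set G) := by
      intro g hg
      have h1 := Cfsg.Agent.Lib.helper71.BGA.le_normalizer_sigmaCore M hg.1
      have h2 := Cfsg.Agent.Lib.helper71.BGA.le_normalizer_sigmaCore L hg.2
      rw [Subgroup.mem_normalizer_iff] at h1 h2 ⊢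
      intro x
      exact ⟨fun hx => ⟨(h1 x).mp hx.1, (h2 x).mp hx.2⟩,
        fun hx => ⟨(h1 x).mpr hx.1, (h2 x).mpr hx.2⟩⟩
    have hD0β : ∀ r : ℕ, r.Prime → r ∣ Nat.card ↥(sigmaCore M ⊓ sigmaCore L) → r ∉ beta M := by
      intro r hr hrd hrβ
      apply hβL r hrβ
      exact hHallL.2.1 r hr (hrd.trans (Subgroup.card_dvd_of_le inf_le_right))
    obtain ⟨-, -, -, ⟨Hs, hHs, hHsn⟩, -⟩ := Cfsg.Agent.S1414.result hG M hM
    have hMsne : sigmaCore M ≠ ⊤ := fun h => hM.1 (top_le_iff.mp (h ▸ hMsM))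
    obtain ⟨l, hl⟩ := Cfsg.Agent.Lib.helper55.BGJ.exists_conj_le_of_relIndex
      (L := sigmaCore M) (D := Hs) (Y := sigmaCore M ⊓ sigmaCore L) (hsolv _ hMsne) inf_le_left
      (fun r hr hrd => hHs.2.2 r hr ⟨hr, hD0β r hr hrd⟩)
    have := hHsn
    have hnil : Group.IsNilpotent ↥(Hs.map (MulAut.conj l).toMonoidHom) :=
      Group.nilpotent_of_mulEquiv (Hs.equivMapOfInjective _ (MulAut.conj l).injective)
    have hD0n : Group.IsNilpotent ↥(sigmaCore M ⊓ sigmaCore L) :=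
      Cfsg.Agent.Lib.helper57.kw_isNilpotent_of_le hnil hl
    exact Cfsg.Agent.Lib.helper71.BG12.le_normalizer_of_nilpotent hD0n hDn hSD0 hSq
      (fun h => hSidx (h.trans (Dvd.intro _ (Subgroup.relIndex_mul_index hSD0))))
  · -- the complement
    obtain ⟨E₀, hE₀⟩ := Cfsg.Agent.Lib.helper60.BGSylU.exists_compl_sigmaCore hG M hM
    have hcop := Cfsg.Agent.Lib.helper54.compl_card_coprime hG M hM E₀ hE₀
    have hcard := Cfsg.Agent.Lib.helper29.IsComplIn.card_mul hE₀
    have hSLM : S ≤ L ⊓ M := le_inf hSL hSM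
    have hidxM : ¬ q ∣ S.relIndex M :=
      fun h => hSidx (h.trans (Dvd.intro _ (Subgroup.relIndex_mul_index hSM)))
    obtain ⟨l, hl⟩ := Cfsg.Agent.Lib.helper55.BGJ.exists_conj_le_of_relIndex
      (L := M) (D := M ⊓ L) (Y := E₀) (hsolv M hM.1) hE₀.1 (by
        intro r hr hrd
        have hrσ : r ∉ sigma M := by
          intro hrσ
          apply hHallM.2.2 r hr hrσ
          rw [← Cfsg.Agent.Lib.helper29.IsComplIn.card_left hE₀]
          exact hrd
        have hrβ : r ∉ beta M :=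
          fun h => hrσ (Cfsg.Agent.Lib.helper8.bg_alpha_sub_sigma hG hU M hM h.1)
        have h1 := Cfsg.Agent.Lib.helper55.BGJ.caseA_index hG hU hF hPL (M := L) (L := M) hM hqM
          S hSq hSLM hNL hidxM hr hrβ
        rwa [inf_comm] at h1)
    have hEle : E₀.map (MulAut.conj l⁻¹).toMonoidHom ≤ M ⊓ L := by
      rintro _ ⟨e, he, rfl⟩
      obtain ⟨d, hd, hde⟩ := hl he
      have h2 : (MulAut.conj l⁻¹).toMonoidHom e = d := by
        rw [← hde]
        simp only [MulEquiv.coe_toMonoidHom, MulAut.conj_apply]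
        group
      rw [h2]
      exact hd
    have hcardE : Nat.card ↥(E₀.map (MulAut.conj l⁻¹).toMonoidHom) = Nat.card E₀ :=
      Subgroup.card_map_of_injective (MulAut.conj l⁻¹).injective
    have hEMs : E₀.map (MulAut.conj l⁻¹).toMonoidHom ⊓ sigmaCore M = ⊥ :=
      disjoint_iff.mp (Subgroup.disjoint_of_coprime_natCard (by rw [hcardE]; exact hcop))
    exact ⟨E₀.map (MulAut.conj l⁻¹).toMonoidHom,
      Cfsg.Agent.Lib.helper69.bgk_isComplIn_of_card (hEle.trans inf_le_left) hMsM hEMs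
        (by rw [hcardE]; exact hcard),
      hEle.trans inf_le_right⟩

end Cfsg.Agent.Lib.helper69.BGT3
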