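import Mathlib

set_option autoImplicit false
set_option linter.unusedSectionVars false

namespace Cfsg.Agent.Lib.helper69

open Finset

section Core

variable {n : ℕ}

/-- A subgroup `U` of permutations of `ZMod n` behaving like the point stabiliser of `0` in a
permutation group containing all translations. -/
structure TransStab (U : Subgroup (Equiv.Perm (ZMod n))) : Prop where
  fix0 : ∀ u ∈ U, u 0 = 0
  shift : ∀ u ∈ U, ∀ a : ZMod n, ∃ v ∈ U, ∀ s, u (a + s) = u a + v s

/-- `U`-invariant sets. -/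
def UInv (U : Subgroup (Equiv.Perm (ZMod n))) (S : Set (ZMod n)) : Prop :=
  ∀ u ∈ U, ∀ x ∈ S, u x ∈ S

variable {U : Subgroup (Equiv.Perm (ZMod n))}

theorem UInv.mem_iff {S : Set (ZMod n)} (h : UInv U S) {u : Equiv.Perm (ZMod n)} (hu : u ∈ U)
    (x : ZMod n) : u x ∈ S ↔ x ∈ S := by
  constructor
  · intro hx
    have := h u⁻¹ (U.inv_mem hu) _ hx
    simpa using this
  · exact h u hu x

theorem uinv_closure (hU : TransStab U) {S : Set (ZMod n)} (h : UInv U S) :
    UInv U (AddSubgroup.closure S : Set (ZMod n)) := by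
  intro u hu x hx
  have key : ∀ y ∈ AddSubgroup.closure S, ∀ w ∈ U, w y ∈ AddSubgroup.closure S := by
    intro y hy
    induction hy using AddSubgroup.closure_induction with
    | mem y hy => exact fun w hw => AddSubgroup.subset_closure (h w hw y hy)
    | zero => intro w hw; rw [hU.fix0 w hw]; exact zero_mem _
    | add a b _ _ iha ihb =>
      intro w hw
      obtain ⟨v, hv, hvs⟩ := hU.shift w hw a
      rw [hvs b]
      exact add_mem (iha w hw) (ihb v hv)
    | neg a _ iha =>
      intro w hw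
      obtain ⟨v, hv, hvs⟩ := hU.shift w hw (-a)
      have h0 := hvs a
      rw [neg_add_cancel, hU.fix0 w hw] at h0
      have : w (-a) = -(v a) := by
        rw [eq_neg_iff_add_eq_zero]; exact h0.symm
      rw [this]
      exact neg_mem (iha v hv)
  exact key x hx u hu

/-- The translation stabiliser of a set. -/
def stabAdd (S : Set (ZMod n)) : AddSubgroup (ZMod n) where
  carrier := {h | ∀ x, h + x ∈ S ↔ x ∈ S}
  zero_mem' := by intro x; simp
  add_mem' := by
    intro a b ha hb x
    rw [add_assoc, ha, hb]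
  neg_mem' := by
    intro a ha x
    rw [← ha (-a + x)]
    simp

theorem mem_stabAdd {S : Set (ZMod n)} {h : ZMod n} :
    h ∈ stabAdd S ↔ ∀ x, h + x ∈ S ↔ x ∈ S := Iff.rfl

theorem uinv_stabAdd (hU : TransStab U) {S : Set (ZMod n)} (h : UInv U S) :
    UInv U (stabAdd S : Set (ZMod n)) := by
  intro u hu a ha x
  obtain ⟨v, hv, hvs⟩ := hU.shift u hu a
  have h1 := hvs (v⁻¹ x)
  have h2 : v (v⁻¹ x) = x := by simp
  rw [h2] at h1
  rw [← h1, h.mem_iff hu, (mem_stabAdd.1 ha), ← h.mem_iff hv, h2]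

end Core

section Count

variable {n : ℕ} [NeZero n] {U : Subgroup (Equiv.Perm (ZMod n))}

theorem card_filter_sub_mem_inv (hU : TransStab U) {S T : Finset (ZMod n)}
    (hS : UInv U (S : Set (ZMod n))) (hT : UInv U (T : Set (ZMod n)))
    {u : Equiv.Perm (ZMod n)} (hu : u ∈ U) (x : ZMod n) :
    (S.filter (fun s => u x - s ∈ T)).card = (S.filter (fun s => x - s ∈ T)).card := by
  symm
  apply Finset.card_bij (fun s _ => u s)
  · intro s hs
    rw [Finset.mem_filter] at hs ⊢
    refine ⟨hS u hu s hs.1, ?_⟩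
    obtain ⟨v, hv, hvs⟩ := hU.shift u hu s
    have h1 := hvs (x - s)
    rw [add_sub_cancel] at h1
    rw [h1, add_sub_cancel_left]
    exact hT v hv _ hs.2
  · intro a _ b _ h; exact u.injective h
  · intro b hb
    rw [Finset.mem_filter] at hb
    have h2 : u (u⁻¹ b) = b := by simp
    refine ⟨u⁻¹ b, ?_, h2⟩
    rw [Finset.mem_filter]
    have hb1 : u⁻¹ b ∈ S := hS u⁻¹ (U.inv_mem hu) b hb.1
    refine ⟨hb1, ?_⟩
    obtain ⟨v, hv, hvs⟩ := hU.shift u hu (u⁻¹ b)
    have h1 := hvs (x - u⁻¹ b)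
    rw [add_sub_cancel, h2] at h1
    rw [h1, add_sub_cancel_left] at hb
    exact (hT.mem_iff hv _).1 hb.2

/-- invariance of the coefficients of an element of the group algebra -/
def AInv (U : Subgroup (Equiv.Perm (ZMod n))) {k : Type*} [Semiring k]
    (f : AddMonoidAlgebra k (ZMod n)) : Prop :=
  ∀ u ∈ U, ∀ x, f.coeff (u x) = f.coeff x

theorem AInv.mul (hU : TransStab U) {k : Type*} [Semiring k] {f g : AddMonoidAlgebra k (ZMod n)}
    (hf : AInv U f) (hg : AInv U g) : AInv U (f * g) := by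
  intro u hu x
  rw [AddMonoidAlgebra.coeff_mul_apply_left, AddMonoidAlgebra.coeff_mul_apply_left]
  rw [Finsupp.sum_fintype _ _ (by simp), Finsupp.sum_fintype _ _ (by simp)]
  rw [← Equiv.sum_comp u]
  apply Finset.sum_congr rfl
  intro s _
  rw [hf u hu s]
  obtain ⟨v, hv, hvs⟩ := hU.shift u hu s
  have h1 := hvs (-s + x)
  rw [add_neg_cancel_left] at h1
  have h3 : -(u s) + u x = v (-s + x) := by rw [h1]; abel
  rw [h3, hg v hv]

theorem AInv.one (hU : TransStab U) {k : Type*} [Semiring k] :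
    AInv U (1 : AddMonoidAlgebra k (ZMod n)) := by
  intro u hu x
  rw [AddMonoidAlgebra.one_def, AddMonoidAlgebra.coeff_single, Finsupp.single_apply,
    Finsupp.single_apply]
  have : (0 = u x) ↔ (0 = x) := by
    constructor
    · intro h
      have : u 0 = u x := by rw [hU.fix0 u hu]; exact h
      exact u.injective this
    · intro h; rw [← h, hU.fix0 u hu]
  simp only [this]

theorem AInv.pow (hU : TransStab U) {k : Type*} [Semiring k] {f : AddMonoidAlgebra k (ZMod n)}
    (hf : AInv U f) (j : ℕ) : AInv U (f ^ j) := by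
  induction j with
  | zero => rw [pow_zero]; exact AInv.one hU
  | succ j ih => rw [pow_succ]; exact ih.mul hU hf

theorem frob_card (hU : TransStab U) {p : ℕ} [hp : Fact p.Prime] {S : Finset (ZMod n)}
    (hS : UInv U (S : Set (ZMod n))) {u : Equiv.Perm (ZMod n)} (hu : u ∈ U) (x : ZMod n) :
    (((S.filter (fun s => p • s = u x)).card : ℕ) : ZMod p) =
      (((S.filter (fun s => p • s = x)).card : ℕ) : ZMod p) := by
  classical
  have : CharP (AddMonoidAlgebra (ZMod p) (ZMod n)) p :=
    charP_of_injective_ringHom (f := (AddMonoidAlgebra.singleZeroRingHom :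
      ZMod p →+* AddMonoidAlgebra (ZMod p) (ZMod n))) (by
        intro a b hab
        have := congrArg (fun q : AddMonoidAlgebra (ZMod p) (ZMod n) => q.coeff 0) hab
        simpa using this) p
  set f : AddMonoidAlgebra (ZMod p) (ZMod n) := ∑ s ∈ S, AddMonoidAlgebra.single s 1 with hf
  have hfc : ∀ y, f.coeff y = if y ∈ S then 1 else 0 := by
    intro y
    rw [hf, AddMonoidAlgebra.coeff_sum, Finsupp.finsetSum_apply]
    simp [Finsupp.single_apply]
  have hfinv : AInv U f := by
    intro w hw y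
    rw [hfc, hfc]
    have := hS.mem_iff hw y
    simp only [Finset.mem_coe] at this
    simp only [this]
  have hpow : f ^ p = ∑ s ∈ S, AddMonoidAlgebra.single (p • s) (1 : ZMod p) := by
    rw [hf, sum_pow_char]
    apply Finset.sum_congr rfl
    intro s _
    rw [AddMonoidAlgebra.single_pow, one_pow]
  have hpc : ∀ y, (f ^ p).coeff y = (((S.filter (fun s => p • s = y)).card : ℕ) : ZMod p) := by
    intro y
    rw [hpow, AddMonoidAlgebra.coeff_sum, Finsupp.finsetSum_apply]
    simp only [AddMonoidAlgebra.coeff_single, Finsupp.single_apply]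
    rw [Finset.sum_boole]
  rw [← hpc, ← hpc]
  exact (hfinv.pow hU p) u hu x

end Count

section Main

theorem burnside_schur_core {n : ℕ} [NeZero n] {p m : ℕ} (hp : p.Prime) (hm : 2 ≤ m)
    (hn : n = p ^ m) (U : Subgroup (Equiv.Perm (ZMod n))) (hU : TransStab U)
    (hprim : ∀ H : AddSubgroup (ZMod n), UInv U (H : Set (ZMod n)) → H = ⊥ ∨ H = ⊤) :
    ∀ x y : ZMod n, x ≠ 0 → y ≠ 0 → ∃ u ∈ U, u x = y := by
  classical
  haveI : Fact p.Prime := ⟨hp⟩
  by_contra hcon
  push_neg at hcon
  obtain ⟨xx, yy, hxx, hyy, hxy⟩ := hcon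
  -- orbits
  set O : ZMod n → Finset (ZMod n) :=
    fun a => Finset.univ.filter (fun b => ∃ u ∈ U, u a = b) with hO
  have hOmem : ∀ a b, b ∈ O a ↔ ∃ u ∈ U, u a = b := by intro a b; simp [hO]
  have hOself : ∀ a, a ∈ O a := fun a => (hOmem a a).2 ⟨1, U.one_mem, rfl⟩
  have hOinv : ∀ a, UInv U (O a : Set (ZMod n)) := by
    intro a w hw b hb
    rw [Finset.mem_coe, hOmem] at hb ⊢
    obtain ⟨u, hu, rfl⟩ := hb
    exact ⟨w * u, U.mul_mem hw hu, rfl⟩
  -- Claim 1
  have claim1 : ∀ S : Set (ZMod n), UInv U S → ∀ H : AddSubgroup (ZMod n), H ≠ ⊤ →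
      S ⊆ H → ∀ s ∈ S, s = 0 := by
    intro S hS H hH hSH s hs
    have hcl : AddSubgroup.closure S ≤ H := (AddSubgroup.closure_le H).2 hSH
    rcases hprim _ (uinv_closure hU hS) with h | h
    · have : s ∈ AddSubgroup.closure S := AddSubgroup.subset_closure hs
      rw [h] at this
      exact (AddSubgroup.mem_bot).1 this
    · exfalso; apply hH; rw [eq_top_iff, ← h]; exact hcl
  -- arithmetic
  set k0 : ZMod n := ((p ^ (m - 1) : ℕ) : ZMod n) with hk0
  have hk0ne : k0 ≠ 0 := by
    rw [hk0, Ne, ZMod.natCast_eq_zero_iff, hn]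
    intro hdvd
    have h1 := Nat.le_of_dvd (pow_pos hp.pos _) hdvd
    have h2 : p ^ (m - 1) < p ^ m := Nat.pow_lt_pow_right hp.one_lt (by omega)
    omega
  have hpk0 : p • k0 = 0 := by
    rw [hk0, nsmul_eq_mul, ← Nat.cast_mul, ← pow_succ', show m - 1 + 1 = m by omega, ← hn]
    exact ZMod.natCast_self n
  let K : AddSubgroup (ZMod n) := (nsmulAddMonoidHom p : ZMod n →+ ZMod n).ker
  have hKmem : ∀ z, z ∈ K ↔ p • z = 0 := fun z => by simp [K, AddMonoidHom.mem_ker]
  have hKtop : K ≠ ⊤ := by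
    intro h
    have h1 : (1 : ZMod n) ∈ K := by rw [h]; trivial
    rw [hKmem, nsmul_eq_mul, mul_one, ZMod.natCast_eq_zero_iff, hn] at h1
    have h2 := Nat.le_of_dvd hp.pos h1
    have h3 : p ^ 1 < p ^ m := Nat.pow_lt_pow_right hp.one_lt (by omega)
    rw [pow_one] at h3; omega
  let P : AddSubgroup (ZMod n) := (nsmulAddMonoidHom p : ZMod n →+ ZMod n).range
  have hPmem : ∀ z, z ∈ P ↔ ∃ w, p • w = z := fun z => by simp [P, AddMonoidHom.mem_range]
  have hPtop : P ≠ ⊤ := by
    intro h
    have h1 : (1 : ZMod n) ∈ P := by rw [h]; trivial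
    obtain ⟨w, hw⟩ := (hPmem 1).1 h1
    apply hk0ne
    calc k0 = k0 * 1 := (mul_one _).symm
      _ = k0 * (p • w) := by rw [hw]
      _ = (p • k0) * w := by rw [nsmul_eq_mul, nsmul_eq_mul]; ring
      _ = 0 := by rw [hpk0, zero_mul]
  have hKcard : (Finset.univ.filter (fun z : ZMod n => p • z = 0)).card ≤ p := by
    have := IsAddCyclic.card_nsmul_eq_zero_le (α := ZMod n) hp.pos
    convert this
  -- Step 2
  have step2 : ∀ S : Finset (ZMod n), UInv U (S : Set (ZMod n)) → ∀ c ∈ S, p • c ≠ 0 →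
      ∀ k, p • k = 0 → c + k ∈ S := by
    intro S hS c hc hpc k hk
    have h1 : ∃ t ∈ O (p • c), t ∉ P := by
      by_contra hall
      push_neg at hall
      exact hpc (claim1 _ (hOinv (p • c)) P hPtop (fun t ht => hall t ht) _ (hOself _))
    obtain ⟨t, ht, htP⟩ := h1
    obtain ⟨u, hu, rfl⟩ := (hOmem _ _).1 ht
    have h2 := frob_card (p := p) hU hS hu (p • c)
    have h3 : S.filter (fun s => p • s = u (p • c)) = ∅ := by
      rw [Finset.filter_eq_empty_iff]
      intro s _ hs
      exact htP ((hPmem _).2 ⟨s, hs⟩)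
    rw [h3, Finset.card_empty, Nat.cast_zero] at h2
    have h4 : p ∣ (S.filter (fun s => p • s = p • c)).card := by
      rw [← ZMod.natCast_eq_zero_iff]
      exact h2.symm
    set Fb := S.filter (fun s => p • s = p • c) with hFb
    have hcF : c ∈ Fb := by rw [hFb, Finset.mem_filter]; exact ⟨hc, rfl⟩
    have hFpos : 0 < Fb.card := Finset.card_pos.2 ⟨c, hcF⟩
    have hFge : p ≤ Fb.card := Nat.le_of_dvd hFpos h4
    set Full := Finset.univ.filter (fun s : ZMod n => p • s = p • c) with hFull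
    have hFullcard : Full.card ≤ p := by
      have : Full.card = (Finset.univ.filter (fun z : ZMod n => p • z = 0)).card := by
        apply Finset.card_bij (fun s _ => s - c)
        · intro s hs
          rw [hFull, Finset.mem_filter] at hs
          rw [Finset.mem_filter]
          exact ⟨Finset.mem_univ _, by rw [smul_sub, hs.2, sub_self]⟩
        · intro a _ b _ h; exact sub_left_injective h
        · intro b hb
          rw [Finset.mem_filter] at hb
          refine ⟨b + c, ?_, by simp⟩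
          rw [hFull, Finset.mem_filter]
          exact ⟨Finset.mem_univ _, by rw [smul_add, hb.2, zero_add]⟩
      rw [this]; exact hKcard
    have hsub : Fb ⊆ Full := by
      intro s hs
      rw [hFb, Finset.mem_filter] at hs
      rw [hFull, Finset.mem_filter]
      exact ⟨Finset.mem_univ _, hs.2⟩
    have heq : Fb = Full := Finset.eq_of_subset_of_card_le hsub (hFullcard.trans hFge)
    have hck : c + k ∈ Full := by
      rw [hFull, Finset.mem_filter]
      exact ⟨Finset.mem_univ _, by rw [smul_add, hk, add_zero]⟩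
    rw [← heq, hFb, Finset.mem_filter] at hck
    exact hck.1
  -- the orbit of k0
  set T := O k0 with hT
  have hTinv : UInv U (T : Set (ZMod n)) := hOinv k0
  have hk0T : k0 ∈ T := hOself k0
  have hTK : ∃ x' ∈ T, p • x' ≠ 0 := by
    by_contra hall
    push_neg at hall
    exact hk0ne (claim1 _ hTinv K hKtop (fun t ht => (hKmem t).2 (hall t ht)) k0 hk0T)
  obtain ⟨x', hx'T, hx'K⟩ := hTK
  obtain ⟨u0, hu0, hu0x⟩ := (hOmem _ _).1 hx'T
  have hneg : ∀ S : Finset (ZMod n), UInv U (S : Set (ZMod n)) → ∀ w ∈ U, ∀ s, -s ∈ S →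
      -(w s) ∈ S := by
    intro S hS w hw s hs
    obtain ⟨v, hv, hvs⟩ := hU.shift w hw s
    have h0 := hvs (-s)
    rw [add_neg_cancel, hU.fix0 w hw] at h0
    have h1 : -(w s) = v (-s) := neg_eq_of_add_eq_zero_right h0.symm
    rw [h1]; exact hS v hv _ hs
  have hTtrans : ∀ a ∈ T, ∀ b ∈ T, ∃ w ∈ U, w a = b := by
    intro a ha b hb
    obtain ⟨u1, hu1, rfl⟩ := (hOmem _ _).1 ha
    obtain ⟨u2, hu2, rfl⟩ := (hOmem _ _).1 hb
    exact ⟨u2 * u1⁻¹, U.mul_mem hu2 (U.inv_mem hu1), by simp⟩
  set κ := T.filter (fun s => p • s = 0) with hκ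
  have hk0κ : k0 ∈ κ := by rw [hκ, Finset.mem_filter]; exact ⟨hk0T, hpk0⟩
  have hκpos : 0 < κ.card := Finset.card_pos.2 ⟨k0, hk0κ⟩
  by_cases hsym : ∀ t ∈ T, -t ∈ T
  · by_cases hK1 : ∀ k, p • k = 0 → k ≠ 0 → k ∈ T
    · -- B1
      set S : Finset (ZMod n) := insert 0 T with hS
      have hSinv : UInv U (S : Set (ZMod n)) := by
        intro w hw s hs
        rw [Finset.mem_coe, hS, Finset.mem_insert] at hs ⊢
        rcases hs with rfl | hs
        · left; exact hU.fix0 w hw
        · right; exact hTinv w hw s hs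
      have hdir : ∀ k, p • k = 0 → ∀ s ∈ S, k + s ∈ S := by
        intro k hk s hs
        by_cases hps : p • s = 0
        · by_cases h0 : k + s = 0
          · rw [h0, hS]; exact Finset.mem_insert_self _ _
          · rw [hS]; apply Finset.mem_insert_of_mem
            exact hK1 _ (by rw [smul_add, hk, hps, add_zero]) h0
        · have hsT : s ∈ T := by
            rw [hS, Finset.mem_insert] at hs
            rcases hs with rfl | hs
            · exact absurd (smul_zero p) hps
            · exact hs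
          rw [hS]; apply Finset.mem_insert_of_mem
          rw [add_comm]; exact step2 T hTinv s hsT hps k hk
      have hk0stab : k0 ∈ stabAdd (S : Set (ZMod n)) := by
        intro s
        constructor
        · intro h
          have := hdir (-k0) (by rw [smul_neg, hpk0, neg_zero]) _ h
          rwa [neg_add_cancel_left] at this
        · exact hdir k0 hpk0 s
      have htop : stabAdd (S : Set (ZMod n)) = ⊤ := by
        rcases hprim _ (uinv_stabAdd hU hSinv) with h | h
        · rw [h] at hk0stab; exact absurd ((AddSubgroup.mem_bot).1 hk0stab) hk0ne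
        · exact h
      have hall : ∀ z : ZMod n, z ≠ 0 → z ∈ T := by
        intro z hz
        have hz1 : z ∈ stabAdd (S : Set (ZMod n)) := by rw [htop]; trivial
        have hz2 := (hz1 0).2 (by rw [hS]; exact Finset.mem_coe.2 (Finset.mem_insert_self _ _))
        rw [add_zero, Finset.mem_coe, hS, Finset.mem_insert] at hz2
        exact hz2.resolve_left hz
      obtain ⟨w, hw, hwxy⟩ := hTtrans xx (hall xx hxx) yy (hall yy hyy)
      exact hxy w hw hwxy
    · -- B2
      push_neg at hK1
      obtain ⟨k1, hpk1, hk1ne, hk1T⟩ := hK1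
      set T' := O k1 with hT'
      have hT'inv : UInv U (T' : Set (ZMod n)) := hOinv k1
      have hk1T' : k1 ∈ T' := hOself k1
      have hdisj : ∀ s, s ∈ T → s ∈ T' → False := by
        intro s hs hs'
        obtain ⟨u1, hu1, rfl⟩ := (hOmem _ _).1 hs
        obtain ⟨u2, hu2, h12⟩ := (hOmem _ _).1 hs'
        apply hk1T
        rw [hT, hOmem]
        refine ⟨u2⁻¹ * u1, U.mul_mem (U.inv_mem hu2) hu1, ?_⟩
        rw [Equiv.Perm.mul_apply, ← h12]; simp
      have hT'K : ∃ x'' ∈ T', p • x'' ≠ 0 := by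
        by_contra hall
        push_neg at hall
        exact hk1ne (claim1 _ hT'inv K hKtop (fun t ht => (hKmem t).2 (hall t ht)) k1 hk1T')
      obtain ⟨x'', hx''T, hx''K⟩ := hT'K
      obtain ⟨w0, hw0, hw0x⟩ := (hOmem _ _).1 hx''T
      set κ' := T'.filter (fun s => p • s = 0) with hκ'
      have hk1κ' : k1 ∈ κ' := by rw [hκ', Finset.mem_filter]; exact ⟨hk1T', hpk1⟩
      -- invariance of the count
      have hc0 : (T.filter (fun s => x' - s ∈ T')).card = (T.filter (fun s => k0 - s ∈ T')).card := by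
        rw [← hu0x]; exact card_filter_sub_mem_inv hU hTinv hT'inv hu0 k0
      have hc1 : (T.filter (fun s => x'' - s ∈ T')).card = (T.filter (fun s => k1 - s ∈ T')).card := by
        rw [← hw0x]; exact card_filter_sub_mem_inv hU hTinv hT'inv hw0 k1
      -- lower bounds
      have hlow0 : κ'.card ≤ (T.filter (fun s => x' - s ∈ T')).card := by
        have hinj : Function.Injective (fun t : ZMod n => x' - t) := sub_right_injective
        rw [← Finset.card_image_of_injective κ' hinj]
        apply Finset.card_le_card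
        intro s hs
        rw [Finset.mem_image] at hs
        obtain ⟨t, ht, rfl⟩ := hs
        rw [hκ', Finset.mem_filter] at ht
        rw [Finset.mem_filter]
        refine ⟨?_, by rw [sub_sub_cancel]; exact ht.1⟩
        rw [sub_eq_add_neg]
        exact step2 T hTinv x' hx'T hx'K (-t) (by rw [smul_neg, ht.2, neg_zero])
      have hlow1 : κ.card ≤ (T.filter (fun s => x'' - s ∈ T')).card := by
        apply Finset.card_le_card
        intro s hs
        rw [hκ, Finset.mem_filter] at hs
        rw [Finset.mem_filter]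
        refine ⟨hs.1, ?_⟩
        rw [sub_eq_add_neg]
        exact step2 T' hT'inv x'' hx''T hx''K (-s) (by rw [smul_neg, hs.2, neg_zero])
      -- structure of the fibres over K
      have hfib : ∀ z, p • z = 0 → ∀ s ∈ T, z - s ∈ T' → p • s = 0 := by
        intro z hz s hs hzs
        by_contra hps
        have h1 : p • (z - s) ≠ 0 := by
          rw [smul_sub, hz, zero_sub]; exact neg_ne_zero.2 hps
        have h2 := step2 T' hT'inv (z - s) hzs h1 (-z) (by rw [smul_neg, hz, neg_zero])
        have h3 : z - s + -z = -s := by abel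
        rw [h3] at h2
        exact hdisj (-s) (hsym s hs) h2
      -- k0 - k1 ∈ T
      have hA : k0 - k1 ∈ T := by
        set Fk := T.filter (fun s => k0 - s ∈ T') with hFk
        have hinj : Function.Injective (fun t : ZMod n => k0 - t) := sub_right_injective
        have himg : Fk.image (fun t => k0 - t) ⊆ κ' := by
          intro t ht
          rw [Finset.mem_image] at ht
          obtain ⟨s, hs, rfl⟩ := ht
          rw [hFk, Finset.mem_filter] at hs
          rw [hκ', Finset.mem_filter]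
          refine ⟨hs.2, ?_⟩
          rw [smul_sub, hpk0, hfib k0 hpk0 s hs.1 hs.2, sub_zero]
        have hcard : κ'.card ≤ (Fk.image (fun t => k0 - t)).card := by
          rw [Finset.card_image_of_injective _ hinj, hFk, ← hc0]; exact hlow0
        have heq := Finset.eq_of_subset_of_card_le himg hcard
        have hk1 : k1 ∈ Fk.image (fun t => k0 - t) := by rw [heq]; exact hk1κ'
        rw [Finset.mem_image] at hk1
        obtain ⟨s, hs, hsk⟩ := hk1
        rw [hFk, Finset.mem_filter] at hs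
        have : s = k0 - k1 := by rw [← hsk]; abel
        rw [← this]; exact hs.1
      -- k1 - k0 ∈ T'
      have hB : k1 - k0 ∈ T' := by
        set Fk := T.filter (fun s => k1 - s ∈ T') with hFk
        have hsub : Fk ⊆ κ := by
          intro s hs
          rw [hFk, Finset.mem_filter] at hs
          rw [hκ, Finset.mem_filter]
          exact ⟨hs.1, hfib k1 hpk1 s hs.1 hs.2⟩
        have hcard : κ.card ≤ Fk.card := by rw [hFk, ← hc1]; exact hlow1
        have heq := Finset.eq_of_subset_of_card_le hsub hcard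
        have hk0F : k0 ∈ Fk := by rw [heq]; exact hk0κ
        rw [hFk, Finset.mem_filter] at hk0F
        exact hk0F.2
      have hC := hsym _ hA
      rw [neg_sub] at hC
      exact hdisj _ hC hB
  · -- A
    push_neg at hsym
    obtain ⟨t1, ht1, hnt1⟩ := hsym
    have hnoneg : ∀ s ∈ T, -s ∉ T := by
      intro s hs hns
      obtain ⟨w, hw, hws⟩ := hTtrans s hs t1 ht1
      apply hnt1
      rw [← hws]
      exact hneg T hTinv w hw s hns
    have hc0 : (T.filter (fun s => x' - s ∈ T)).card = (T.filter (fun s => k0 - s ∈ T)).card := by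
      rw [← hu0x]; exact card_filter_sub_mem_inv hU hTinv hTinv hu0 k0
    have hup : (T.filter (fun s => k0 - s ∈ T)).card ≤ κ.card := by
      apply Finset.card_le_card
      intro s hs
      rw [Finset.mem_filter] at hs
      rw [hκ, Finset.mem_filter]
      refine ⟨hs.1, ?_⟩
      by_contra hps
      have h1 : p • (k0 - s) ≠ 0 := by
        rw [smul_sub, hpk0, zero_sub]; exact neg_ne_zero.2 hps
      have h2 := step2 T hTinv (k0 - s) hs.2 h1 (-k0) (by rw [smul_neg, hpk0, neg_zero])
      have h3 : k0 - s + -k0 = -s := by abel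
      rw [h3] at h2
      exact hnoneg s hs.1 h2
    have hlow : 2 * κ.card ≤ (T.filter (fun s => x' - s ∈ T)).card := by
      have hinj : Function.Injective (fun t : ZMod n => x' - t) := sub_right_injective
      have hdis : Disjoint κ (κ.image (fun t => x' - t)) := by
        rw [Finset.disjoint_left]
        intro s hs hs2
        rw [Finset.mem_image] at hs2
        obtain ⟨t, ht, rfl⟩ := hs2
        rw [hκ, Finset.mem_filter] at hs ht
        apply hx'K
        have := hs.2
        rw [smul_sub, ht.2, sub_zero] at this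
        exact this
      have hcu : (κ ∪ κ.image (fun t => x' - t)).card = 2 * κ.card := by
        rw [Finset.card_union_of_disjoint hdis, Finset.card_image_of_injective _ hinj]; ring
      rw [← hcu]
      apply Finset.card_le_card
      intro s hs
      rw [Finset.mem_union] at hs
      rw [Finset.mem_filter]
      rcases hs with hs | hs
      · rw [hκ, Finset.mem_filter] at hs
        refine ⟨hs.1, ?_⟩
        rw [sub_eq_add_neg]
        exact step2 T hTinv x' hx'T hx'K (-s) (by rw [smul_neg, hs.2, neg_zero])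
      · rw [Finset.mem_image] at hs
        obtain ⟨t, ht, rfl⟩ := hs
        rw [hκ, Finset.mem_filter] at ht
        refine ⟨?_, by rw [sub_sub_cancel]; exact ht.1⟩
        rw [sub_eq_add_neg]
        exact step2 T hTinv x' hx'T hx'K (-t) (by rw [smul_neg, ht.2, neg_zero])
    omega

end Main

section Transport

/-- Every nontrivial subgroup of `ZMod (p ^ m)` contains `p ^ (m - 1)`. -/
theorem zmod_ppow_pred_mem {p m : ℕ} (hp : p.Prime) (hm : 1 ≤ m) (H : AddSubgroup (ZMod (p ^ m)))
    (hH : H ≠ ⊥) : ((p ^ (m - 1) : ℕ) : ZMod (p ^ m)) ∈ H := by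
  haveI : NeZero (p ^ m) := ⟨pow_ne_zero _ hp.ne_zero⟩
  obtain ⟨h, hhH, hh0⟩ : ∃ h ∈ H, h ≠ 0 := by
    by_contra hcon
    push_neg at hcon
    exact hH ((AddSubgroup.eq_bot_iff_forall H).2 hcon)
  have hd0 : h.val ≠ 0 := fun h0 => hh0 ((ZMod.val_eq_zero h).1 h0)
  have hdlt : h.val < p ^ m := ZMod.val_lt h
  obtain ⟨j, r, hr, hjr⟩ := Nat.exists_eq_pow_mul_and_not_dvd hd0 p hp.ne_one
  have hj : j < m := by
    by_contra hjm
    push_neg at hjm
    have h1 : p ^ m ≤ p ^ j := Nat.pow_le_pow_right hp.pos hjm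
    have hr0 : 0 < r := Nat.pos_of_ne_zero (fun h0 => hr (h0 ▸ dvd_zero p))
    have h2 : p ^ j ≤ p ^ j * r := Nat.le_mul_of_pos_right _ hr0
    omega
  have hcop : Nat.Coprime r p := ((Nat.Prime.coprime_iff_not_dvd hp).2 hr).symm
  obtain ⟨s, -, hs⟩ := Nat.exists_mul_mod_eq_one_of_coprime hcop hp.one_lt
  have hrs : r * s = 1 + p * (r * s / p) := by
    have := Nat.div_add_mod (r * s) p
    omega
  have hmem : (s * p ^ (m - 1 - j)) • h ∈ H := H.nsmul_mem hhH _
  have heq : (s * p ^ (m - 1 - j)) • h = ((p ^ (m - 1) : ℕ) : ZMod (p ^ m)) := by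
    have hh : h = ((h.val : ℕ) : ZMod (p ^ m)) := (ZMod.natCast_zmod_val h).symm
    rw [hh, hjr, nsmul_eq_mul, ← Nat.cast_mul]
    have e1 : s * p ^ (m - 1 - j) * (p ^ j * r) = p ^ (m - 1) + p ^ m * (r * s / p) := by
      have e2 : p ^ (m - 1 - j) * p ^ j = p ^ (m - 1) := by
        rw [← pow_add]; congr 1; omega
      have e3 : p ^ (m - 1) * p = p ^ m := by
        rw [← pow_succ]; congr 1; omega
      calc s * p ^ (m - 1 - j) * (p ^ j * r) = (p ^ (m - 1 - j) * p ^ j) * (r * s) := by ring
        _ = p ^ (m - 1) * (1 + p * (r * s / p)) := by rw [e2, ← hrs]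
        _ = p ^ (m - 1) + (p ^ (m - 1) * p) * (r * s / p) := by ring
        _ = p ^ (m - 1) + p ^ m * (r * s / p) := by rw [e3]
    rw [e1, Nat.cast_add, Nat.cast_mul (p ^ m), ZMod.natCast_self, zero_mul, add_zero]
  rw [← heq]
  exact hmem

/-- A permutation of order `p ^ m` of a set of size `p ^ m` is a full cycle: parametrisation
of the set by `ZMod (p ^ m)`. -/
theorem exists_cycle_param {Ω : Type*} [Fintype Ω] {p m : ℕ} (hp : p.Prime) (hm : 1 ≤ m)
    (hΩ : Fintype.card Ω = p ^ m) (σ : Equiv.Perm Ω) (hσ : orderOf σ = p ^ m) :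
    ∃ E : ZMod (p ^ m) ≃ Ω, ∀ (k : ℕ) (x : ZMod (p ^ m)),
      (σ ^ k) (E x) = E ((k : ZMod (p ^ m)) + x) := by
  classical
  haveI : NeZero (p ^ m) := ⟨pow_ne_zero _ hp.ne_zero⟩
  set n := p ^ m with hn
  have hn0 : 0 < n := pow_pos hp.pos _
  have hpow1 : σ ^ n = 1 := by rw [← hσ]; exact pow_orderOf_eq_one σ
  -- a point moved by σ^(p^(m-1))
  have hne1 : σ ^ (p ^ (m - 1)) ≠ 1 := by
    apply pow_ne_one_of_lt_orderOf (pow_ne_zero _ hp.ne_zero)
    rw [hσ]
    exact Nat.pow_lt_pow_right hp.one_lt (by omega)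
  obtain ⟨ω₀, hω₀⟩ : ∃ ω₀, (σ ^ (p ^ (m - 1))) ω₀ ≠ ω₀ := by
    by_contra hcon
    push_neg at hcon
    exact hne1 (Equiv.ext hcon)
  -- the period of ω₀ is n
  have hper : ∀ d : ℕ, (σ ^ d) ω₀ = ω₀ → n ∣ d := by
    intro d hd
    have h1 : (σ ^ (Nat.gcd d n)) ω₀ = ω₀ := by
      have hz : (σ ^ ((Nat.gcd d n : ℕ) : ℤ)) = (σ ^ d) ^ (Nat.gcdA d n) := by
        rw [Nat.gcd_eq_gcd_ab d n, zpow_add, zpow_mul, zpow_mul, zpow_natCast, zpow_natCast, hpow1,
          one_zpow, mul_one]
      have h2 : ((σ ^ d) ^ (Nat.gcdA d n)) ω₀ = ω₀ :=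
        Equiv.Perm.zpow_apply_eq_self_of_apply_eq_self hd _
      rw [← hz, zpow_natCast] at h2
      exact h2
    obtain ⟨j, hj, hgj⟩ := (Nat.dvd_prime_pow hp).1 (Nat.gcd_dvd_right d n)
    by_cases hjm : j = m
    · rw [hjm] at hgj
      rw [← hn] at hgj
      rw [← hgj]
      exact Nat.gcd_dvd_left d n
    · exfalso
      apply hω₀
      have hjle : j ≤ m - 1 := by omega
      have e : p ^ (m - 1) = p ^ j * p ^ (m - 1 - j) := by
        rw [← pow_add]; congr 1; omega
      rw [e, pow_mul, ← hgj]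
      exact Equiv.Perm.pow_apply_eq_self_of_apply_eq_self h1 _
  let e : ZMod n → Ω := fun i => (σ ^ i.val) ω₀
  have hinj' : ∀ a b : ℕ, a ≤ b → b < n → (σ ^ a) ω₀ = (σ ^ b) ω₀ → a = b := by
    intro a b hab hb h
    have h1 : (σ ^ (b - a)) ω₀ = ω₀ := by
      have : σ ^ b = σ ^ a * σ ^ (b - a) := by rw [← pow_add]; congr 1; omega
      rw [this, Equiv.Perm.mul_apply] at h
      exact ((σ ^ a).injective h).symm
    have h2 := hper _ h1
    have h3 : b - a = 0 := Nat.eq_zero_of_dvd_of_lt h2 (by omega)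
    omega
  have hinj : Function.Injective e := by
    intro i j hij
    apply ZMod.val_injective n
    rcases le_total i.val j.val with h | h
    · exact hinj' _ _ h (ZMod.val_lt j) hij
    · exact (hinj' _ _ h (ZMod.val_lt i) hij.symm).symm
  have hbij : Function.Bijective e := by
    rw [Fintype.bijective_iff_injective_and_card]
    exact ⟨hinj, by rw [ZMod.card, hΩ]⟩
  refine ⟨Equiv.ofBijective e hbij, ?_⟩
  intro k x
  show (σ ^ k) ((σ ^ x.val) ω₀) = (σ ^ ((k : ZMod n) + x).val) ω₀
  rw [← Equiv.Perm.mul_apply, ← pow_add]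
  have hmod : ∀ t : ℕ, σ ^ (t % n) = σ ^ t := by
    intro t
    have := pow_mod_orderOf σ t
    rw [hσ] at this
    exact this
  have hval : ((k : ZMod n) + x).val = (k + x.val) % n := by
    rw [ZMod.val_add, ZMod.val_natCast, Nat.add_mod, Nat.mod_mod, Nat.mod_eq_of_lt (ZMod.val_lt x)]
    conv_rhs => rw [Nat.add_mod, Nat.mod_eq_of_lt (ZMod.val_lt x)]
  rw [hval, hmod]

/-- The transported point stabiliser. -/
def transU {Ω : Type*} {n : ℕ} (E : ZMod n ≃ Ω) (G : Subgroup (Equiv.Perm Ω)) :
    Subgroup (Equiv.Perm (ZMod n)) where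
  carrier := {u | E.permCongrHom u ∈ G ∧ u 0 = 0}
  mul_mem' := by
    rintro u v ⟨hu, hu0⟩ ⟨hv, hv0⟩
    refine ⟨by rw [map_mul]; exact G.mul_mem hu hv, ?_⟩
    rw [Equiv.Perm.mul_apply, hv0, hu0]
  one_mem' := ⟨by rw [map_one]; exact G.one_mem, rfl⟩
  inv_mem' := by
    rintro u ⟨hu, hu0⟩
    refine ⟨by rw [map_inv]; exact G.inv_mem hu, ?_⟩
    rw [Equiv.Perm.inv_eq_iff_eq]; exact hu0.symm

theorem mem_transU {Ω : Type*} {n : ℕ} {E : ZMod n ≃ Ω} {G : Subgroup (Equiv.Perm Ω)}
    {u : Equiv.Perm (ZMod n)} : u ∈ transU E G ↔ E.permCongrHom u ∈ G ∧ u 0 = 0 := Iff.rfl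

theorem transStab_transU {Ω : Type*} {n : ℕ} (E : ZMod n ≃ Ω) (G : Subgroup (Equiv.Perm Ω))
    (hT : ∀ a : ZMod n, E.permCongrHom (Equiv.addLeft a) ∈ G) : TransStab (transU E G) where
  fix0 := fun u hu => hu.2
  shift := by
    intro u hu a
    refine ⟨Equiv.addLeft (-(u a)) * u * Equiv.addLeft a, ⟨?_, ?_⟩, ?_⟩
    · rw [map_mul, map_mul]
      exact G.mul_mem (G.mul_mem (hT _) hu.1) (hT _)
    · simp
    · intro s
      simp

/-- Transport of the Burnside--Schur core: an invariant proper nontrivial congruence. -/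
theorem burnside_schur_transport {Ω : Type*} {n : ℕ} [NeZero n] {p m : ℕ} (hp : p.Prime)
    (hm : 2 ≤ m) (hn : n = p ^ m) (E : ZMod n ≃ Ω) (G : Subgroup (Equiv.Perm Ω))
    (σ : Equiv.Perm Ω) (hσ : σ ∈ G)
    (hE : ∀ (k : ℕ) (x : ZMod n), (σ ^ k) (E x) = E ((k : ZMod n) + x))
    (h2 : ¬ MulAction.IsMultiplyPretransitive G Ω 2) :
    ∃ H : AddSubgroup (ZMod n), H ≠ ⊥ ∧ H ≠ ⊤ ∧
      ∀ γ ∈ G, ∀ ω ω' : Ω, E.symm ω' - E.symm ω ∈ H → E.symm (γ ω') - E.symm (γ ω) ∈ H := by
  classical
  have hψ : ∀ (w : Equiv.Perm (ZMod n)) (ω : Ω), E.permCongrHom w ω = E (w (E.symm ω)) :=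
    fun w ω => rfl
  have hT : ∀ a : ZMod n, E.permCongrHom (Equiv.addLeft a) ∈ G := by
    intro a
    have : E.permCongrHom (Equiv.addLeft a) = σ ^ a.val := by
      ext ω
      rw [hψ]
      have h1 := hE a.val (E.symm ω)
      rw [ZMod.natCast_zmod_val, Equiv.apply_symm_apply] at h1
      rw [h1]
      rfl
    rw [this]
    exact G.pow_mem hσ _
  have hU : TransStab (transU E G) := transStab_transU E G hT
  have key : ∃ H : AddSubgroup (ZMod n),
      UInv (transU E G) (H : Set (ZMod n)) ∧ H ≠ ⊥ ∧ H ≠ ⊤ := by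
    by_contra hcon
    apply h2
    have hprim : ∀ H : AddSubgroup (ZMod n),
        UInv (transU E G) (H : Set (ZMod n)) → H = ⊥ ∨ H = ⊤ := by
      intro H hH
      by_contra h
      push_neg at h
      exact hcon ⟨H, hH, h.1, h.2⟩
    have hcore := burnside_schur_core hp hm hn (transU E G) hU hprim
    rw [MulAction.is_two_pretransitive_iff]
    intro a b c d hab hcd
    obtain ⟨u, hu, hux⟩ := hcore (E.symm b - E.symm a) (E.symm d - E.symm c)
      (sub_ne_zero.2 (fun h => hab (E.symm.injective h).symm))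
      (sub_ne_zero.2 (fun h => hcd (E.symm.injective h).symm))
    have hw : E.permCongrHom (Equiv.addLeft (E.symm c) * u * Equiv.addLeft (-(E.symm a))) ∈ G := by
      rw [map_mul, map_mul]
      exact G.mul_mem (G.mul_mem (hT _) hu.1) (hT _)
    refine ⟨⟨_, hw⟩, ?_, ?_⟩
    · show E.permCongrHom (Equiv.addLeft (E.symm c) * u * Equiv.addLeft (-(E.symm a))) a = c
      rw [hψ]
      simp [hu.2]
    · show E.permCongrHom (Equiv.addLeft (E.symm c) * u * Equiv.addLeft (-(E.symm a))) b = d
      rw [hψ]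
      have h1 : -(E.symm a) + E.symm b = E.symm b - E.symm a := by abel
      simp [h1, hux]
  obtain ⟨H, hH, hbot, htop⟩ := key
  refine ⟨H, hbot, htop, ?_⟩
  intro γ hγ ω ω' hR
  have hu : Equiv.addLeft (-(E.symm (γ ω))) * E.symm.permCongrHom γ * Equiv.addLeft (E.symm ω)
      ∈ transU E G := by
    refine ⟨?_, ?_⟩
    · rw [map_mul, map_mul]
      have : E.permCongrHom (E.symm.permCongrHom γ) = γ := by
        ext x; simp
      rw [this]
      exact G.mul_mem (G.mul_mem (hT _) hγ) (hT _)
    · simp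
  have h3 := hH _ hu _ hR
  have h4 : (Equiv.addLeft (-(E.symm (γ ω))) * E.symm.permCongrHom γ * Equiv.addLeft (E.symm ω))
      (E.symm ω' - E.symm ω) = E.symm (γ ω') - E.symm (γ ω) := by
    simp
    abel
  rw [h4] at h3
  exact h3

end Transport


end Cfsg.Agent.Lib.helper69
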