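import Mathlib
import Cfsg.Prelude.Def_KGroupFacts
import Cfsg.Agent.Lib.helper69.SchurCover

/-!
Lifting projective representations to Schur covers (owner: helper69).
-/

set_option autoImplicit false

universe u v w

namespace Cfsg.Agent.Lib.helper69

open scoped commutatorElement
open scoped IsMulCommutative

/-- A homomorphism from a subgroup `S` meeting the commutator subgroup trivially into a divisible commutative
group extends to the whole group. -/
theorem exists_extension_of_divisible {G : Type*} [Group G] (S : Subgroup G)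
    (hS : S ⊓ commutator G = ⊥) {D : Type*} [CommGroup D]
    (hD : ∀ k : ℕ, 0 < k → ∀ d : D, ∃ x : D, x ^ k = d) (f : S →* D) :
    ∃ l : G →* D, ∀ s : S, l (s : G) = f s := by
  classical
  let a : S →* Abelianization G := Abelianization.of.comp S.subtype
  have ha : Function.Injective a := by
    rw [injective_iff_map_eq_one]
    intro s hs
    have h1 : (s : G) ∈ commutator G := by
      rw [← Abelianization.ker_of]; exact hs
    have h2 : (s : G) ∈ S ⊓ commutator G := Subgroup.mem_inf.mpr ⟨s.2, h1⟩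
    rw [hS, Subgroup.mem_bot] at h2
    exact Subtype.ext h2
  have hsurj : ∀ {n : ℤ}, n ≠ 0 → Function.Surjective (fun x : Additive D => n • x) := by
    intro n hn d
    obtain ⟨k, rfl | rfl⟩ := Int.eq_nat_or_neg n
    · have hk : 0 < k := by
        rcases Nat.eq_zero_or_pos k with h | h
        · exact absurd (by rw [h]; rfl) hn
        · exact h
      obtain ⟨x, hx⟩ := hD k hk (Additive.toMul d)
      refine ⟨Additive.ofMul x, ?_⟩
      show (k : ℤ) • Additive.ofMul x = d
      rw [natCast_zsmul, ← ofMul_pow, hx]; rfl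
    · have hk : 0 < k := by
        rcases Nat.eq_zero_or_pos k with h | h
        · exact absurd (by rw [h]; rfl) hn
        · exact h
      obtain ⟨x, hx⟩ := hD k hk (Additive.toMul d)⁻¹
      refine ⟨Additive.ofMul x, ?_⟩
      show (-(k : ℤ)) • Additive.ofMul x = d
      rw [neg_zsmul, natCast_zsmul, ← ofMul_pow, hx, ofMul_inv, neg_neg]; rfl
  haveI : DivisibleBy (Additive D) ℤ := divisibleByOfSMulRightSurj (Additive D) ℤ hsurj
  have hB : Module.Baer ℤ (Additive D) := Module.Baer.of_divisible _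
  let e : S ≃* a.range := MonoidHom.ofInjective ha
  let f' : Additive a.range →+ Additive D := MonoidHom.toAdditive (f.comp e.symm.toMonoidHom)
  let j : Additive a.range →+ Additive (Abelianization G) := MonoidHom.toAdditive a.range.subtype
  obtain ⟨h, hh⟩ := hB.extension_property_addMonoidHom j
    (by intro x y hxy; exact Subtype.ext hxy) f'
  refine ⟨(MonoidHom.toAdditive.symm h).comp Abelianization.of, ?_⟩
  intro s
  have h1 : h (j (Additive.ofMul (e s))) = f' (Additive.ofMul (e s)) :=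
    DFunLike.congr_fun hh (Additive.ofMul (e s))
  have h2 : f' (Additive.ofMul (e s)) = Additive.ofMul (f s) := by
    show Additive.ofMul (f (e.symm (e s))) = Additive.ofMul (f s)
    rw [e.symm_apply_apply]
  rw [h2] at h1
  exact congrArg Additive.toMul h1

/-- If `σ : Γ → Q` is a Schur cover (stem extension with kernel isomorphic to the multiplier), then the kernel
of any lift `F/[F,R] → Γ` of the canonical projection meets the commutator subgroup trivially. -/
theorem cover_ker_inf_commutator_eq_bot {Q : Type u} [Group Q] [Finite Q] {A : Type v} [CommGroup A]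
    (hA : Cfsg.HasSchurMultiplier Q A) {Γ : Type w} [Group Γ] (σ : Γ →* Q)
    (hσ : Cfsg.IsStemExtension σ) (hk : Nonempty (σ.ker ≃* A)) (θ : CovGroup Q →* Γ)
    (hθ : σ.comp θ = covHom Q) : θ.ker ⊓ commutator (CovGroup Q) = ⊥ := by
  obtain ⟨eA⟩ := mulEquiv_mult_of_hasSchurMultiplier hA
  obtain ⟨ek⟩ := hk
  obtain ⟨π, hπ, hπv⟩ := exists_surjective_mult_of_lift (covHom Q) σ θ (covHom_surjective Q)
    (covHom_ker_le_center Q) hσ.2.1 hθ
  have heq : σ.ker ⊓ commutator Γ = σ.ker := inf_eq_left.mpr hσ.2.2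
  haveI : Finite ↥(multOf (covHom Q)) := (inferInstance : Finite (Mult Q))
  have hcard : Nat.card ↥(multOf (covHom Q)) ≤ Nat.card ↥(σ.ker ⊓ commutator Γ) := by
    rw [heq]
    have h1 : Nat.card σ.ker = Nat.card (Mult Q) := Nat.card_congr (ek.trans eA).toEquiv
    rw [h1]
    exact le_rfl
  have hbij := hπ.bijective_of_nat_card_le hcard
  rw [eq_bot_iff]
  intro x hx
  obtain ⟨hx1, hx2⟩ := Subgroup.mem_inf.mp hx
  have hxK : x ∈ (covHom Q).ker := by
    rw [MonoidHom.mem_ker, ← hθ]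
    show σ (θ x) = 1
    rw [MonoidHom.mem_ker.mp hx1, map_one]
  let m : multOf (covHom Q) := ⟨⟨x, covHom_ker_le_center Q hxK⟩,
    Subgroup.mem_subgroupOf.mpr (Subgroup.mem_inf.mpr ⟨hxK, hx2⟩)⟩
  have hm : π m = 1 := by
    apply Subtype.ext
    rw [hπv m]
    exact MonoidHom.mem_ker.mp hx1
  have hm1 : m = 1 := hbij.1 (by rw [hm, map_one])
  rw [Subgroup.mem_bot]
  exact congrArg (fun m : multOf (covHom Q) => ((m : Subgroup.center (CovGroup Q)) : CovGroup Q)) hm1

/-- Projective homomorphisms lift to Schur covers: if `σ : Γ → Q` is a Schur cover of the finite group `Q` and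
`P` is a group with divisible centre, then every homomorphism `Q → P / Z(P)` lifts to a homomorphism `Γ → P`. -/
theorem exists_lift_of_cover {Q : Type u} [Group Q] [Finite Q] {A : Type v} [CommGroup A]
    (hA : Cfsg.HasSchurMultiplier Q A) {Γ : Type w} [Group Γ] (σ : Γ →* Q)
    (hσ : Cfsg.IsStemExtension σ) (hk : Nonempty (σ.ker ≃* A)) {P : Type*} [Group P]
    (hP : ∀ k : ℕ, 0 < k → ∀ d ∈ Subgroup.center P, ∃ x ∈ Subgroup.center P, x ^ k = d)
    (γ : Q →* P ⧸ Subgroup.center P) :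
    ∃ ρ : Γ →* P, (QuotientGroup.mk' (Subgroup.center P)).comp ρ = γ.comp σ := by
  classical
  let X : Subgroup (Q × P) := MonoidHom.eqLocus (γ.comp (MonoidHom.fst Q P))
    ((QuotientGroup.mk' (Subgroup.center P)).comp (MonoidHom.snd Q P))
  have hX : ∀ x : X, γ x.1.1 = QuotientGroup.mk' (Subgroup.center P) x.1.2 := fun x => x.2
  let τ : X →* Q := (MonoidHom.fst Q P).comp X.subtype
  have hτsurj : Function.Surjective τ := by
    intro q
    obtain ⟨g, hg⟩ := QuotientGroup.mk'_surjective (Subgroup.center P) (γ q)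
    exact ⟨⟨(q, g), hg.symm⟩, rfl⟩
  have hτker : τ.ker ≤ Subgroup.center X := by
    intro x hx
    have h1 : x.1.1 = 1 := hx
    have h2 : x.1.2 ∈ Subgroup.center P := by
      have h3 := hX x
      rw [h1, map_one] at h3
      exact (QuotientGroup.eq_one_iff _).mp h3.symm
    rw [Subgroup.mem_center_iff]
    intro y
    apply Subtype.ext
    apply Prod.ext
    · show y.1.1 * x.1.1 = x.1.1 * y.1.1
      rw [h1, mul_one, one_mul]
    · show y.1.2 * x.1.2 = x.1.2 * y.1.2
      exact Subgroup.mem_center_iff.mp h2 y.1.2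
  obtain ⟨θ, hθ⟩ := exists_lift_covHom Q τ hτsurj hτker
  let θ₂ : CovGroup Q →* P := (MonoidHom.snd Q P).comp (X.subtype.comp θ)
  have hθ₂ : ∀ e, QuotientGroup.mk' (Subgroup.center P) (θ₂ e) = γ (covHom Q e) := by
    intro e
    have h1 := hX (θ e)
    have h2 : (θ e).1.1 = covHom Q e := DFunLike.congr_fun hθ e
    rw [h2] at h1
    exact h1.symm
  obtain ⟨θΓ, hθΓ⟩ := exists_lift_covHom Q σ hσ.1 hσ.2.1
  have hθΓsurj := surjective_of_lift_stem (covHom Q) σ θΓ (covHom_surjective Q) hσ.2.1 hσ.2.2 hθΓ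
  have hSc : θΓ.ker ⊓ commutator (CovGroup Q) = ⊥ := cover_ker_inf_commutator_eq_bot hA σ hσ hk θΓ hθΓ
  have hmemZ : ∀ s : θΓ.ker, θ₂ (s : CovGroup Q) ∈ Subgroup.center P := by
    intro s
    apply (QuotientGroup.eq_one_iff _).mp
    show QuotientGroup.mk' (Subgroup.center P) (θ₂ s) = 1
    rw [hθ₂]
    have h0 : covHom Q (s : CovGroup Q) = 1 := by
      have h1 : σ (θΓ (s : CovGroup Q)) = covHom Q (s : CovGroup Q) :=
        DFunLike.congr_fun hθΓ (s : CovGroup Q)
      rw [← h1, MonoidHom.mem_ker.mp s.2, map_one]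
    rw [h0, map_one]
  let f : θΓ.ker →* Subgroup.center P := (θ₂.comp θΓ.ker.subtype).codRestrict (Subgroup.center P) hmemZ
  have hD : ∀ k : ℕ, 0 < k → ∀ d : Subgroup.center P, ∃ x : Subgroup.center P, x ^ k = d := by
    intro k hk d
    obtain ⟨x, hx, hxd⟩ := hP k hk d d.2
    exact ⟨⟨x, hx⟩, Subtype.ext hxd⟩
  obtain ⟨l, hl⟩ := exists_extension_of_divisible θΓ.ker hSc hD f
  let ρ₀ : CovGroup Q →* P := MonoidHom.mk' (fun e => θ₂ e * ((l e : Subgroup.center P) : P)⁻¹) (by
    intro a b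
    have hc := Subgroup.mem_center_iff.mp (Subgroup.inv_mem _ (l a).2)
    rw [map_mul, map_mul, Subgroup.coe_mul]
    calc θ₂ a * θ₂ b * (((l a : Subgroup.center P) : P) * ((l b : Subgroup.center P) : P))⁻¹
        = θ₂ a * ((θ₂ b * ((l b : Subgroup.center P) : P)⁻¹) * ((l a : Subgroup.center P) : P)⁻¹) := by
          group
      _ = θ₂ a * (((l a : Subgroup.center P) : P)⁻¹ * (θ₂ b * ((l b : Subgroup.center P) : P)⁻¹)) := by
          rw [hc]
      _ = θ₂ a * ((l a : Subgroup.center P) : P)⁻¹ * (θ₂ b * ((l b : Subgroup.center P) : P)⁻¹) := by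
          group)
  have hρ₀ : ∀ e, ρ₀ e = θ₂ e * ((l e : Subgroup.center P) : P)⁻¹ := fun e => rfl
  have hρ₀ker : θΓ.ker ≤ ρ₀.ker := by
    intro s hs
    rw [MonoidHom.mem_ker, hρ₀]
    have h1 := hl ⟨s, hs⟩
    have h2 : ((l s : Subgroup.center P) : P) = θ₂ s := congrArg Subtype.val h1
    rw [h2, mul_inv_cancel]
  let ρ : Γ →* P := θΓ.liftOfSurjective hθΓsurj ⟨ρ₀, hρ₀ker⟩
  have hρ : ∀ e, ρ (θΓ e) = ρ₀ e := fun e =>
    MonoidHom.liftOfRightInverse_comp_apply θΓ _ (Function.rightInverse_surjInv hθΓsurj) ⟨ρ₀, hρ₀ker⟩ e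
  refine ⟨ρ, ?_⟩
  apply MonoidHom.ext
  intro g
  obtain ⟨e, rfl⟩ := hθΓsurj g
  show QuotientGroup.mk' (Subgroup.center P) (ρ (θΓ e)) = γ (σ (θΓ e))
  have h1 : σ (θΓ e) = covHom Q e := DFunLike.congr_fun hθΓ e
  rw [hρ e, h1, ← hθ₂ e, hρ₀, map_mul, map_inv]
  have h2 : QuotientGroup.mk' (Subgroup.center P) ((l e : Subgroup.center P) : P) = 1 :=
    (QuotientGroup.eq_one_iff _).mpr (l e).2
  rw [h2, inv_one, mul_one]

/-- The centre of `GL n ℂ` is divisible. -/
theorem center_GL_complex_divisible (n : ℕ) (k : ℕ) (hk : 0 < k)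
    (d : GL (Fin n) ℂ) (hd : d ∈ Subgroup.center (GL (Fin n) ℂ)) :
    ∃ x ∈ Subgroup.center (GL (Fin n) ℂ), x ^ k = d := by
  rw [Matrix.GeneralLinearGroup.center_eq_range_scalar] at hd ⊢
  obtain ⟨c, rfl⟩ := hd
  obtain ⟨z, hz⟩ := IsAlgClosed.exists_pow_nat_eq (c : ℂ) hk
  have hz0 : z ≠ 0 := by
    rintro rfl
    rw [zero_pow hk.ne'] at hz
    exact c.ne_zero hz.symm
  refine ⟨Matrix.GeneralLinearGroup.scalar (Fin n) (Units.mk0 z hz0), ⟨_, rfl⟩, ?_⟩
  rw [← map_pow]
  congr 1
  apply Units.ext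
  rw [Units.val_pow_eq_pow_val, Units.val_mk0, hz]

end Cfsg.Agent.Lib.helper69
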