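import Mathlib
import Cfsg.Prelude.Def_KGroupFacts
import Cfsg.Agent.Lib.helper69.ProjLift

/-!
Uniqueness of Schur covers (owner: helper69): two Schur covers of a finite group `Q` are isomorphic over `Q` as
soon as `|Q^ab|` and `|M(Q)|` are coprime, and otherwise there are two Schur covers not isomorphic over `Q`.
-/

set_option autoImplicit false

universe u v w w'

namespace Cfsg.Agent.Lib.helper69

open scoped commutatorElement
open scoped IsMulCommutative

/-- The abelianisation of a free group is torsion free. -/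
theorem abelianization_freeGroup_pow_eq_one (Q : Type*) (x : Abelianization (FreeGroup Q)) (p : ℕ)
    (hp : 0 < p) (h : x ^ p = 1) : x = 1 := by
  let y : FreeAbelianGroup Q := Additive.ofMul x
  have h0 : p • y = 0 := congrArg Additive.ofMul h
  have h1 : (p : ℤ) • y = 0 := by rw [natCast_zsmul]; exact h0
  rcases smul_eq_zero.mp h1 with h2 | h2
  · exact absurd (Int.natCast_eq_zero.mp h2) hp.ne'
  · exact congrArg Additive.toMul h2

/-- In a free `ℤ`-module, an element that is not divisible by `p` has a coordinate not divisible by `p`. -/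
theorem exists_functional_not_dvd {P : Type*} [AddCommGroup P] [Module.Free ℤ P] (p : ℤ) (x₀ : P)
    (h : ∀ y : P, x₀ ≠ p • y) : ∃ f : P →ₗ[ℤ] ℤ, ¬ p ∣ f x₀ := by
  classical
  let b := Module.Free.chooseBasis ℤ P
  by_contra hcon
  simp only [not_exists, not_not] at hcon
  have hc : ∀ i, p ∣ b.repr x₀ i := fun i => hcon (b.coord i)
  apply h (b.repr.symm (Finsupp.mapRange (fun a => a / p) (by simp) (b.repr x₀)))
  apply b.repr.injective
  rw [map_smul, LinearEquiv.apply_symm_apply]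
  ext i
  simp only [Finsupp.smul_apply, Finsupp.mapRange_apply, smul_eq_mul]
  exact (Int.mul_ediv_cancel' (hc i)).symm

/-- Homomorphisms out of `F/[F,R]` lift along surjections whose fibres over the image of `R/[F,R]` are
central. -/
theorem exists_lift_covGroup {Q : Type u} [Group Q] {X : Type v} {Y : Type w} [Group X] [Group Y]
    (p : X →* Y) (hp : Function.Surjective p) (g : CovGroup Q →* Y)
    (hc : ∀ x : X, (∃ k ∈ (covHom Q).ker, g k = p x) → x ∈ Subgroup.center X) :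
    ∃ α : CovGroup Q →* X, p.comp α = g := by
  let α₀ : FreeGroup Q →* X :=
    FreeGroup.lift (fun q => Function.surjInv hp (g (QuotientGroup.mk (FreeGroup.of q))))
  have h0 : p.comp α₀ = g.comp (QuotientGroup.mk' (relComm Q)) := by
    apply FreeGroup.ext_hom
    intro q
    show p (FreeGroup.lift _ (FreeGroup.of q)) = g (QuotientGroup.mk (FreeGroup.of q))
    rw [FreeGroup.lift_apply_of, Function.surjInv_eq hp]
  have hle : relComm Q ≤ α₀.ker := by
    unfold relComm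
    rw [Subgroup.commutator_le]
    intro g₁ _ g₂ hg₂
    rw [MonoidHom.mem_ker, map_commutatorElement, commutatorElement_eq_one_iff_commute]
    have h1 : α₀ g₂ ∈ Subgroup.center X := by
      apply hc
      refine ⟨QuotientGroup.mk g₂, ?_, (DFunLike.congr_fun h0 g₂).symm⟩
      rw [MonoidHom.mem_ker, covHom_mk]
      exact MonoidHom.mem_ker.mp hg₂
    exact (Subgroup.mem_center_iff.mp h1) (α₀ g₁)
  refine ⟨QuotientGroup.lift (relComm Q) α₀ hle, ?_⟩
  apply MonoidHom.ext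
  intro x
  obtain ⟨f, rfl⟩ := QuotientGroup.mk_surjective x
  exact DFunLike.congr_fun h0 f

/-- The quotient of `F/[F,R]` by a complement to the multiplier is a Schur cover. -/
theorem cover_of_complement (Q : Type u) [Group Q] [Finite Q] (S : Subgroup (CovGroup Q))
    (hS : S ≤ (covHom Q).ker) (hSc : S ⊓ commutator (CovGroup Q) = ⊥)
    (hcov : ∀ k ∈ (covHom Q).ker, ∃ s ∈ S, s⁻¹ * k ∈ commutator (CovGroup Q)) :
    ∃ (_ : S.Normal), Cfsg.IsStemExtension (QuotientGroup.lift S (covHom Q) hS) ∧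
      Nonempty ((QuotientGroup.lift S (covHom Q) hS).ker ≃* Mult Q) ∧ Finite (CovGroup Q ⧸ S) := by
  haveI hSn : S.Normal := normal_of_le_center' S (hS.trans (covHom_ker_le_center Q))
  have hstem := stem_quotient (covHom Q) S hS (covHom_surjective Q) (covHom_ker_le_center Q) hcov
  obtain ⟨e⟩ := ker_quotient_equiv (covHom Q) S hS (covHom_ker_le_center Q) hSc hcov
  refine ⟨hSn, hstem, ⟨e⟩, ?_⟩
  haveI : Finite (QuotientGroup.lift S (covHom Q) hS).ker := Finite.of_equiv (Mult Q) e.symm.toEquiv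
  haveI : Finite ((CovGroup Q ⧸ S) ⧸ (QuotientGroup.lift S (covHom Q) hS).ker) :=
    Finite.of_equiv Q (QuotientGroup.quotientKerEquivOfSurjective _ hstem.1).symm.toEquiv
  exact Finite.of_subgroup_quotient (QuotientGroup.lift S (covHom Q) hS).ker

/-- Elements of `F/[F,R]` mapping into `Q'` decompose along a complement. -/
theorem exists_decomp_of_complement {Q : Type u} [Group Q] (S : Subgroup (CovGroup Q))
    (hcov : ∀ k ∈ (covHom Q).ker, ∃ s ∈ S, s⁻¹ * k ∈ commutator (CovGroup Q))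
    (e : CovGroup Q) (he : covHom Q e ∈ commutator Q) :
    ∃ s ∈ S, ∃ c ∈ commutator (CovGroup Q), e = s * c := by
  have h1 : commutator Q ≤ (commutator (CovGroup Q)).map (covHom Q) :=
    commutator_le_map_of_lift (covHom Q) (MonoidHom.id Q) (covHom Q) (covHom_surjective Q)
      (by rw [MonoidHom.ker_id]; exact bot_le) (MonoidHom.id_comp _)
  obtain ⟨c, hc, hce⟩ := h1 he
  have hk : e * c⁻¹ ∈ (covHom Q).ker := by
    rw [MonoidHom.mem_ker, map_mul, map_inv, hce, mul_inv_cancel]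
  obtain ⟨s, hs, hsk⟩ := hcov _ hk
  refine ⟨s, hs, s⁻¹ * e, ?_, by group⟩
  have h2 : s⁻¹ * e = (s⁻¹ * (e * c⁻¹)) * c := by group
  rw [h2]
  exact Subgroup.mul_mem _ hsk hc

/-- The kernel of a lift to a stem extension supplements the multiplier. -/
theorem ker_lift_cov {Q : Type u} [Group Q] {Γ : Type v} [Group Γ] (σ : Γ →* Q)
    (hσ : Cfsg.IsStemExtension σ) (θ : CovGroup Q →* Γ) (hθ : σ.comp θ = covHom Q) :
    ∀ k ∈ (covHom Q).ker, ∃ s ∈ θ.ker, s⁻¹ * k ∈ commutator (CovGroup Q) := by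
  intro k hk
  have hθk : θ k ∈ σ.ker ⊓ commutator Γ := by
    have h1 : θ k ∈ σ.ker := by
      rw [MonoidHom.mem_ker]
      have h2 : σ (θ k) = covHom Q k := DFunLike.congr_fun hθ k
      rw [h2]; exact MonoidHom.mem_ker.mp hk
    exact Subgroup.mem_inf.mpr ⟨h1, hσ.2.2 h1⟩
  obtain ⟨m, hm, hmk⟩ := exists_mem_mult_of_lift (covHom Q) σ θ (covHom_surjective Q) hσ.2.1 hθ _ hθk
  refine ⟨k * m⁻¹, ?_, ?_⟩
  · rw [MonoidHom.mem_ker, map_mul, map_inv, hmk, mul_inv_cancel]
  · have h3 : (k * m⁻¹)⁻¹ * k = m := by group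
    rw [h3]
    exact (Subgroup.mem_inf.mp hm).2

theorem ker_lift_le {Q : Type u} [Group Q] {Γ : Type v} [Group Γ] (σ : Γ →* Q)
    (θ : CovGroup Q →* Γ) (hθ : σ.comp θ = covHom Q) : θ.ker ≤ (covHom Q).ker := by
  intro x hx
  rw [MonoidHom.mem_ker, ← hθ]
  show σ (θ x) = 1
  rw [MonoidHom.mem_ker.mp hx, map_one]

/-- The order of a central extension. -/
theorem card_of_ker_equiv {Γ : Type v} {Q : Type u} [Group Γ] [Group Q] (σ : Γ →* Q)
    (hσ : Function.Surjective σ) {A : Type w} [Group A] (e : σ.ker ≃* A) :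
    Nat.card Γ = Nat.card Q * Nat.card A := by
  rw [Subgroup.card_eq_card_quotient_mul_card_subgroup σ.ker,
    Nat.card_congr (QuotientGroup.quotientKerEquivOfSurjective σ hσ).toEquiv, Nat.card_congr e.toEquiv]

/-- If `|Q^ab|` and `|M(Q)|` are coprime, any two Schur covers of `Q` are isomorphic over `Q`. -/
theorem cover_unique_of_coprime {Q : Type u} [Group Q] [Finite Q] {A : Type v} [CommGroup A]
    (hA : Cfsg.HasSchurMultiplier Q A)
    (hcop : Nat.Coprime (Nat.card (Abelianization Q)) (Nat.card A))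
    {Γ₁ : Type w} {Γ₂ : Type w'} [Group Γ₁] [Finite Γ₁] [Group Γ₂] [Finite Γ₂]
    (σ₁ : Γ₁ →* Q) (σ₂ : Γ₂ →* Q) (h₁ : Cfsg.IsStemExtension σ₁) (h₂ : Cfsg.IsStemExtension σ₂)
    (k₁ : Nonempty (σ₁.ker ≃* A)) (k₂ : Nonempty (σ₂.ker ≃* A)) :
    ∃ e : Γ₁ ≃* Γ₂, σ₂.comp e.toMonoidHom = σ₁ := by
  classical
  obtain ⟨eA⟩ := mulEquiv_mult_of_hasSchurMultiplier hA
  obtain ⟨θ₁, hθ₁⟩ := exists_lift_covHom Q σ₁ h₁.1 h₁.2.1
  obtain ⟨θ₂, hθ₂⟩ := exists_lift_covHom Q σ₂ h₂.1 h₂.2.1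
  have hθ₁s := surjective_of_lift_stem (covHom Q) σ₁ θ₁ (covHom_surjective Q) h₁.2.1 h₁.2.2 hθ₁
  have hS₁ := cover_ker_inf_commutator_eq_bot hA σ₁ h₁ k₁ θ₁ hθ₁
  have hS₂ := cover_ker_inf_commutator_eq_bot hA σ₂ h₂ k₂ θ₂ hθ₂
  have hS₁K := ker_lift_le σ₁ θ₁ hθ₁
  have hcov₁ := ker_lift_cov σ₁ h₁ θ₁ hθ₁
  obtain ⟨π₂, hπ₂, hπ₂v⟩ := exists_surjective_mult_of_lift (covHom Q) σ₂ θ₂ (covHom_surjective Q)
    (covHom_ker_le_center Q) h₂.2.1 hθ₂
  have hπ₂inj : Function.Injective π₂ := by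
    rw [injective_iff_map_eq_one]
    intro m hm
    have h1 : θ₂ ((m : Subgroup.center (CovGroup Q)) : CovGroup Q) = 1 := by
      rw [← hπ₂v m, hm]; rfl
    have h2 : ((m : Subgroup.center (CovGroup Q)) : CovGroup Q) ∈ θ₂.ker ⊓ commutator (CovGroup Q) :=
      Subgroup.mem_inf.mpr ⟨h1, (Subgroup.mem_inf.mp (coe_mem_multOf _ m)).2⟩
    rw [hS₂, Subgroup.mem_bot] at h2
    exact Subtype.ext (Subtype.ext h2)
  let e₂ := MulEquiv.ofBijective π₂ ⟨hπ₂inj, hπ₂⟩
  have hg : ∀ s : θ₁.ker, θ₂ (s : CovGroup Q) ∈ σ₂.ker ⊓ commutator Γ₂ := by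
    intro s
    have h1 : θ₂ (s : CovGroup Q) ∈ σ₂.ker := by
      rw [MonoidHom.mem_ker]
      have h2 : σ₂ (θ₂ (s : CovGroup Q)) = covHom Q (s : CovGroup Q) := DFunLike.congr_fun hθ₂ _
      rw [h2]; exact MonoidHom.mem_ker.mp (hS₁K s.2)
    exact Subgroup.mem_inf.mpr ⟨h1, h₂.2.2 h1⟩
  let g : θ₁.ker →* ↥(σ₂.ker ⊓ commutator Γ₂) := (θ₂.comp θ₁.ker.subtype).codRestrict _ hg
  let δ₀ : θ₁.ker →* multOf (covHom Q) := e₂.symm.toMonoidHom.comp g
  have hδ₀ : ∀ s : θ₁.ker,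
      θ₂ ((δ₀ s : Subgroup.center (CovGroup Q)) : CovGroup Q) = θ₂ (s : CovGroup Q) := by
    intro s
    rw [← hπ₂v (δ₀ s)]
    have h1 : π₂ (δ₀ s) = g s := e₂.apply_symm_apply (g s)
    rw [h1]; rfl
  -- the abelianisation
  let a : θ₁.ker →* Abelianization (CovGroup Q) := Abelianization.of.comp θ₁.ker.subtype
  have ha : Function.Injective a := by
    rw [injective_iff_map_eq_one]
    intro s hs
    have h1 : (s : CovGroup Q) ∈ commutator (CovGroup Q) := by
      rw [← Abelianization.ker_of]; exact hs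
    have h2 : (s : CovGroup Q) ∈ θ₁.ker ⊓ commutator (CovGroup Q) := Subgroup.mem_inf.mpr ⟨s.2, h1⟩
    rw [hS₁, Subgroup.mem_bot] at h2
    exact Subtype.ext h2
  let eJ : θ₁.ker ≃* a.range := MonoidHom.ofInjective ha
  have hpow : ∀ b : Abelianization (CovGroup Q), b ^ Nat.card (Abelianization Q) ∈ a.range := by
    intro b
    obtain ⟨e, rfl⟩ := QuotientGroup.mk_surjective b
    have he : covHom Q (e ^ Nat.card (Abelianization Q)) ∈ commutator Q := by
      rw [← Abelianization.ker_of, MonoidHom.mem_ker, map_pow, map_pow]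
      exact pow_card_eq_one'
    obtain ⟨s, hs, c, hc, hsc⟩ := exists_decomp_of_complement θ₁.ker hcov₁ _ he
    refine ⟨⟨s, hs⟩, ?_⟩
    show Abelianization.of s = (Abelianization.of e) ^ Nat.card (Abelianization Q)
    have h3 : Abelianization.of c = 1 := by
      rw [← MonoidHom.mem_ker, Abelianization.ker_of]; exact hc
    rw [← map_pow, hsc, map_mul, h3, mul_one]
  have hc : Nat.card (multOf (covHom Q)) = Nat.card A := Nat.card_congr eA.symm.toEquiv
  obtain ⟨u, v, huv⟩ : IsCoprime (Nat.card (Abelianization Q) : ℤ) (Nat.card (multOf (covHom Q)) : ℤ) := by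
    rw [hc]; exact Nat.isCoprime_iff_coprime.mpr hcop
  let lam : CovGroup Q →* multOf (covHom Q) :=
    (zpowGroupHom u).comp (δ₀.comp (eJ.symm.toMonoidHom.comp
      (((powMonoidHom (Nat.card (Abelianization Q))).codRestrict a.range hpow).comp Abelianization.of)))
  haveI : Finite (multOf (covHom Q)) := (inferInstance : Finite (Mult Q))
  have hlam : ∀ s : θ₁.ker, lam (s : CovGroup Q) = δ₀ s := by
    intro s
    have h1 : eJ.symm ⟨(Abelianization.of (s : CovGroup Q)) ^ Nat.card (Abelianization Q), hpow _⟩ =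
        s ^ Nat.card (Abelianization Q) := by
      rw [MulEquiv.symm_apply_eq]
      apply Subtype.ext
      show (Abelianization.of (s : CovGroup Q)) ^ Nat.card (Abelianization Q) =
        a (s ^ Nat.card (Abelianization Q))
      rw [map_pow]; rfl
    show (δ₀ (eJ.symm ⟨(Abelianization.of (s : CovGroup Q)) ^ Nat.card (Abelianization Q), hpow _⟩)) ^ u =
      δ₀ s
    rw [h1, map_pow, ← zpow_natCast, ← zpow_mul]
    have h2 : (Nat.card (Abelianization Q) : ℤ) * u = 1 - (Nat.card (multOf (covHom Q)) : ℤ) * v := by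
      linarith
    rw [h2, zpow_sub, zpow_one, zpow_mul, zpow_natCast, pow_card_eq_one', one_zpow, inv_one, mul_one]
  have hlamK : ∀ e : CovGroup Q,
      θ₂ ((lam e : Subgroup.center (CovGroup Q)) : CovGroup Q) ∈ σ₂.ker := by
    intro e
    rw [MonoidHom.mem_ker]
    have h1 : σ₂ (θ₂ ((lam e : Subgroup.center (CovGroup Q)) : CovGroup Q)) =
        covHom Q ((lam e : Subgroup.center (CovGroup Q)) : CovGroup Q) := DFunLike.congr_fun hθ₂ _
    rw [h1]
    exact MonoidHom.mem_ker.mp (Subgroup.mem_inf.mp (coe_mem_multOf _ (lam e))).1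
  let β : CovGroup Q →* Γ₂ :=
    MonoidHom.mk' (fun e => θ₂ e * (θ₂ ((lam e : Subgroup.center (CovGroup Q)) : CovGroup Q))⁻¹) (by
      intro x y
      have hcx := Subgroup.mem_center_iff.mp (Subgroup.inv_mem _ (h₂.2.1 (hlamK x)))
      rw [map_mul, map_mul, Subgroup.coe_mul, Subgroup.coe_mul, map_mul]
      calc θ₂ x * θ₂ y * (θ₂ ((lam x : Subgroup.center (CovGroup Q)) : CovGroup Q) *
              θ₂ ((lam y : Subgroup.center (CovGroup Q)) : CovGroup Q))⁻¹
          = θ₂ x * ((θ₂ y * (θ₂ ((lam y : Subgroup.center (CovGroup Q)) : CovGroup Q))⁻¹) *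
              (θ₂ ((lam x : Subgroup.center (CovGroup Q)) : CovGroup Q))⁻¹) := by group
        _ = θ₂ x * ((θ₂ ((lam x : Subgroup.center (CovGroup Q)) : CovGroup Q))⁻¹ *
              (θ₂ y * (θ₂ ((lam y : Subgroup.center (CovGroup Q)) : CovGroup Q))⁻¹)) := by rw [hcx]
        _ = θ₂ x * (θ₂ ((lam x : Subgroup.center (CovGroup Q)) : CovGroup Q))⁻¹ *
              (θ₂ y * (θ₂ ((lam y : Subgroup.center (CovGroup Q)) : CovGroup Q))⁻¹) := by group)
  have hβ : ∀ e, β e = θ₂ e * (θ₂ ((lam e : Subgroup.center (CovGroup Q)) : CovGroup Q))⁻¹ :=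
    fun e => rfl
  have hβker : θ₁.ker ≤ β.ker := by
    intro s hs
    rw [MonoidHom.mem_ker, hβ, hlam ⟨s, hs⟩, hδ₀ ⟨s, hs⟩, mul_inv_cancel]
  let ebar : Γ₁ →* Γ₂ := θ₁.liftOfSurjective hθ₁s ⟨β, hβker⟩
  have hebar : ∀ e, ebar (θ₁ e) = β e := fun e =>
    MonoidHom.liftOfRightInverse_comp_apply θ₁ _ (Function.rightInverse_surjInv hθ₁s) ⟨β, hβker⟩ e
  have hcomp : σ₂.comp ebar = σ₁ := by
    apply MonoidHom.ext
    intro g
    obtain ⟨e, rfl⟩ := hθ₁s g
    show σ₂ (ebar (θ₁ e)) = σ₁ (θ₁ e)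
    have h1 : σ₂ (θ₂ e) = covHom Q e := DFunLike.congr_fun hθ₂ e
    have h2 : σ₁ (θ₁ e) = covHom Q e := DFunLike.congr_fun hθ₁ e
    rw [hebar, hβ, map_mul, map_inv, h1, h2, MonoidHom.mem_ker.mp (hlamK e), inv_one, mul_one]
  have hsurj : Function.Surjective ebar :=
    surjective_of_lift_stem σ₁ σ₂ ebar h₁.1 h₂.2.1 h₂.2.2 hcomp
  have hcard : Nat.card Γ₁ ≤ Nat.card Γ₂ := by
    obtain ⟨e₁'⟩ := k₁
    obtain ⟨e₂'⟩ := k₂
    rw [card_of_ker_equiv σ₁ h₁.1 e₁', card_of_ker_equiv σ₂ h₂.1 e₂']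
  exact ⟨MulEquiv.ofBijective ebar (hsurj.bijective_of_nat_card_le hcard), hcomp⟩

/-- If a prime `p` divides both `|Q^ab|` and `|M(Q)|`, there are two Schur covers of `Q` that are not isomorphic
over `Q`. -/
theorem exists_nonisomorphic_covers {Q : Type u} [Group Q] [Finite Q] (p : ℕ) [Fact p.Prime]
    (hp1 : p ∣ Nat.card (Abelianization Q)) (hp2 : p ∣ Nat.card (Mult Q)) :
    ∃ (Γ₁ Γ₂ : Type u) (_ : Group Γ₁) (_ : Finite Γ₁) (_ : Group Γ₂) (_ : Finite Γ₂)
      (σ₁ : Γ₁ →* Q) (σ₂ : Γ₂ →* Q), Cfsg.IsStemExtension σ₁ ∧ Cfsg.IsStemExtension σ₂ ∧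
      Nonempty (σ₁.ker ≃* Mult Q) ∧ Nonempty (σ₂.ker ≃* Mult Q) ∧
      ¬ ∃ e : Γ₁ ≃* Γ₂, σ₂.comp e.toMonoidHom = σ₁ := by
  classical
  have hpp : p.Prime := Fact.out
  haveI : Module.Free ℤ (Additive (Abelianization (FreeGroup Q))) :=
    inferInstanceAs (Module.Free ℤ (FreeAbelianGroup Q))
  haveI : Module.Finite ℤ (Additive (Abelianization (FreeGroup Q))) :=
    inferInstanceAs (Module.Finite ℤ (FreeAbelianGroup Q))
  -- Step 1: a complement `S`
  obtain ⟨S, hS, hSc, hcov⟩ := exists_central_complement (covAb Q) (covAb_ker_le Q) (covHom Q).ker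
    (covHom_ker_le_center Q)
  have hSZ : S ≤ Subgroup.center (CovGroup Q) := hS.trans (covHom_ker_le_center Q)
  -- Step 2: an element `e₀` of order `p` modulo `S E'`
  obtain ⟨qb, hqb⟩ := exists_prime_orderOf_dvd_card' p hp1
  obtain ⟨q, hq0⟩ := QuotientGroup.mk_surjective qb
  have hq : Abelianization.of q = qb := hq0
  obtain ⟨e₀, he₀⟩ := covHom_surjective Q q
  have hmapc : ∀ c ∈ commutator (CovGroup Q), covHom Q c ∈ commutator Q := by
    intro c hc
    have h1 := Subgroup.mem_map_of_mem (covHom Q) hc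
    rw [commutator_def, Subgroup.map_commutator] at h1
    exact Subgroup.commutator_mono le_top le_top h1
  have hne : ∀ s ∈ S, ∀ c ∈ commutator (CovGroup Q), e₀ ≠ s * c := by
    intro s hs c hc h
    have h1 : covHom Q e₀ ∈ commutator Q := by
      rw [h, map_mul, MonoidHom.mem_ker.mp (hS hs), one_mul]
      exact hmapc c hc
    rw [he₀, ← Abelianization.ker_of, MonoidHom.mem_ker, hq] at h1
    rw [h1, orderOf_one] at hqb
    exact hpp.one_lt.ne hqb
  have hpow : covHom Q (e₀ ^ p) ∈ commutator Q := by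
    rw [← Abelianization.ker_of, MonoidHom.mem_ker, map_pow, map_pow, he₀, hq, ← hqb]
    exact pow_orderOf_eq_one _
  obtain ⟨s₀, hs₀, c₀, hc₀, hsc⟩ := exists_decomp_of_complement S hcov (e₀ ^ p) hpow
  have hs₀p : ∀ t ∈ S, s₀ ≠ t ^ p := by
    intro t ht h
    have htc := hSZ ht
    have h1 : covAb Q (e₀ * t⁻¹) ^ p = 1 := by
      rw [← map_pow]
      have h2 : (e₀ * t⁻¹) ^ p = e₀ ^ p * (t ^ p)⁻¹ := by
        rw [Commute.mul_pow, inv_pow]
        exact (Subgroup.mem_center_iff.mp (Subgroup.inv_mem _ htc)) e₀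
      rw [h2, hsc, h, map_mul, map_mul, map_inv, mul_comm (covAb Q (t ^ p)), mul_assoc, mul_inv_cancel,
        mul_one]
      exact (Abelianization.commutator_subset_ker (covAb Q)) hc₀
    have h4 := abelianization_freeGroup_pow_eq_one Q _ p hpp.pos h1
    have h5 : e₀ * t⁻¹ ∈ commutator (CovGroup Q) := covAb_ker_le Q h4
    refine hne t ht (e₀ * t⁻¹) h5 ?_
    have h6 := Subgroup.mem_center_iff.mp htc (e₀ * t⁻¹)
    rw [← h6]; group
  -- Step 3: an element of the multiplier that is not a `p`-th power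
  haveI : Finite (multOf (covHom Q)) := (inferInstance : Finite (Mult Q))
  obtain ⟨z₀, hz₀⟩ : ∃ z₀ : multOf (covHom Q), ∀ w : multOf (covHom Q), w ^ p ≠ z₀ := by
    obtain ⟨x, hx⟩ := exists_prime_orderOf_dvd_card' (G := multOf (covHom Q)) p hp2
    by_contra hcon
    simp only [not_exists, not_forall, not_not] at hcon
    have hsurj : Function.Surjective (fun w : multOf (covHom Q) => w ^ p) := fun z => hcon z
    have hinj := Finite.injective_iff_surjective.mpr hsurj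
    have h1 : x ^ p = (1 : multOf (covHom Q)) ^ p := by
      rw [one_pow, ← hx]; exact pow_orderOf_eq_one x
    have hx1 : x = 1 := hinj h1
    rw [hx1, orderOf_one] at hx
    exact hpp.one_lt.ne hx
  -- Step 4: a homomorphism `δ : S → M` with `δ s₀` not a `p`-th power
  let eS : S.subgroupOf (Subgroup.center (CovGroup Q)) ≃* S := Subgroup.subgroupOfEquivOfLe hSZ
  let φ : S.subgroupOf (Subgroup.center (CovGroup Q)) →* Abelianization (FreeGroup Q) :=
    (covAb Q).comp ((Subgroup.center (CovGroup Q)).subtype.comp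
      (S.subgroupOf (Subgroup.center (CovGroup Q))).subtype)
  let φl : Additive (S.subgroupOf (Subgroup.center (CovGroup Q))) →ₗ[ℤ]
      Additive (Abelianization (FreeGroup Q)) := (MonoidHom.toAdditive φ).toIntLinearMap
  have hφinj : Function.Injective φ := by
    rw [injective_iff_map_eq_one]
    intro x hx
    have h1 : ((x : Subgroup.center (CovGroup Q)) : CovGroup Q) ∈ commutator (CovGroup Q) :=
      covAb_ker_le Q hx
    have h2 : ((x : Subgroup.center (CovGroup Q)) : CovGroup Q) ∈ S ⊓ commutator (CovGroup Q) :=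
      Subgroup.mem_inf.mpr ⟨Subgroup.mem_subgroupOf.mp x.2, h1⟩
    rw [hSc, Subgroup.mem_bot] at h2
    exact Subtype.ext (Subtype.ext h2)
  have hφlinj : Function.Injective φl := fun x y hxy => hφinj hxy
  let x₀ : LinearMap.range φl := φl.rangeRestrict (Additive.ofMul (eS.symm ⟨s₀, hs₀⟩))
  have hx₀ : ∀ y : LinearMap.range φl, x₀ ≠ (p : ℤ) • y := by
    intro y h
    obtain ⟨t, ht⟩ := y.2
    have h1 : φl (Additive.ofMul (eS.symm ⟨s₀, hs₀⟩)) = φl ((p : ℤ) • t) := by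
      rw [map_smul, ht]
      exact congrArg Subtype.val h
    have h2 := hφlinj h1
    have h3 : (eS.symm ⟨s₀, hs₀⟩ : S.subgroupOf (Subgroup.center (CovGroup Q))) =
        (Additive.toMul t) ^ p := by
      have h4 := congrArg Additive.toMul h2
      rw [natCast_zsmul] at h4
      exact h4
    have h5 : s₀ = (((Additive.toMul t : S.subgroupOf (Subgroup.center (CovGroup Q))) :
        Subgroup.center (CovGroup Q)) : CovGroup Q) ^ p :=
      congrArg (fun x : S.subgroupOf (Subgroup.center (CovGroup Q)) =>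
        ((x : Subgroup.center (CovGroup Q)) : CovGroup Q)) h3
    exact hs₀p _ (Subgroup.mem_subgroupOf.mp (Additive.toMul t).2) h5
  obtain ⟨f, hf⟩ := exists_functional_not_dvd (p : ℤ) x₀ hx₀
  let δ : S →* multOf (covHom Q) :=
    MonoidHom.mk' (fun s => z₀ ^ (f (φl.rangeRestrict (Additive.ofMul (eS.symm s))))) (by
      intro a b
      rw [map_mul, ofMul_mul, map_add, map_add, zpow_add])
  have hδs₀ : ∀ w : multOf (covHom Q), δ ⟨s₀, hs₀⟩ ≠ w ^ p := by
    intro w hw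
    have h1 : z₀ ^ (f x₀) = w ^ p := hw
    have hcop : IsCoprime (f x₀) (p : ℤ) :=
      (isCoprime_comm).mp ((Nat.prime_iff_prime_int.mp hpp).coprime_iff_not_dvd.mpr hf)
    obtain ⟨u, v, huv⟩ := hcop
    apply hz₀ (w ^ u * z₀ ^ v)
    calc (w ^ u * z₀ ^ v) ^ p = (w ^ p) ^ u * z₀ ^ (v * p) := by
          rw [mul_pow, ← zpow_natCast (w ^ u), ← zpow_mul, ← zpow_natCast (z₀ ^ v), ← zpow_mul,
            ← zpow_natCast w, ← zpow_mul, mul_comm u]
      _ = z₀ ^ (u * f x₀ + v * p) := by rw [← h1, ← zpow_mul, zpow_add, mul_comm u]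
      _ = z₀ := by rw [huv, zpow_one]
  -- Step 5: the twisted complement
  have hδmem : ∀ s : S, ((δ s : Subgroup.center (CovGroup Q)) : CovGroup Q) ∈
      (covHom Q).ker ⊓ commutator (CovGroup Q) := fun s => coe_mem_multOf _ (δ s)
  let η : S →* CovGroup Q :=
    MonoidHom.mk' (fun s => (s : CovGroup Q) * ((δ s : Subgroup.center (CovGroup Q)) : CovGroup Q)) (by
      intro a b
      have hc := Subgroup.mem_center_iff.mp (δ a).1.2 (b : CovGroup Q)
      rw [map_mul]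
      show (a : CovGroup Q) * (b : CovGroup Q) *
          (((δ a : Subgroup.center (CovGroup Q)) : CovGroup Q) *
            ((δ b : Subgroup.center (CovGroup Q)) : CovGroup Q)) =
        (a : CovGroup Q) * ((δ a : Subgroup.center (CovGroup Q)) : CovGroup Q) *
          ((b : CovGroup Q) * ((δ b : Subgroup.center (CovGroup Q)) : CovGroup Q))
      calc (a : CovGroup Q) * (b : CovGroup Q) *
            (((δ a : Subgroup.center (CovGroup Q)) : CovGroup Q) *
              ((δ b : Subgroup.center (CovGroup Q)) : CovGroup Q))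
          = (a : CovGroup Q) * (((b : CovGroup Q) * ((δ a : Subgroup.center (CovGroup Q)) : CovGroup Q)) *
              ((δ b : Subgroup.center (CovGroup Q)) : CovGroup Q)) := by group
        _ = (a : CovGroup Q) * ((((δ a : Subgroup.center (CovGroup Q)) : CovGroup Q) * (b : CovGroup Q)) *
              ((δ b : Subgroup.center (CovGroup Q)) : CovGroup Q)) := by rw [hc]
        _ = (a : CovGroup Q) * ((δ a : Subgroup.center (CovGroup Q)) : CovGroup Q) *
              ((b : CovGroup Q) * ((δ b : Subgroup.center (CovGroup Q)) : CovGroup Q)) := by group)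
  have hη : ∀ s : S, η s = (s : CovGroup Q) * ((δ s : Subgroup.center (CovGroup Q)) : CovGroup Q) :=
    fun s => rfl
  have hT : η.range ≤ (covHom Q).ker := by
    rintro _ ⟨s, rfl⟩
    rw [hη]
    exact Subgroup.mul_mem _ (hS s.2) (Subgroup.mem_inf.mp (hδmem s)).1
  have hTc : η.range ⊓ commutator (CovGroup Q) = ⊥ := by
    rw [eq_bot_iff]
    intro x hx
    obtain ⟨⟨s, rfl⟩, hx2⟩ := Subgroup.mem_inf.mp hx
    have h1 : (s : CovGroup Q) ∈ commutator (CovGroup Q) := by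
      have h0 : (s : CovGroup Q) = η s * ((δ s : Subgroup.center (CovGroup Q)) : CovGroup Q)⁻¹ := by
        rw [hη]; group
      rw [h0]
      exact Subgroup.mul_mem _ hx2 (Subgroup.inv_mem _ (Subgroup.mem_inf.mp (hδmem s)).2)
    have h2 : (s : CovGroup Q) ∈ S ⊓ commutator (CovGroup Q) := Subgroup.mem_inf.mpr ⟨s.2, h1⟩
    rw [hSc, Subgroup.mem_bot] at h2
    have h3 : s = 1 := Subtype.ext h2
    rw [Subgroup.mem_bot, h3, map_one]
  have hTcov : ∀ k ∈ (covHom Q).ker, ∃ x ∈ η.range, x⁻¹ * k ∈ commutator (CovGroup Q) := by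
    intro k hk
    obtain ⟨s, hs, hsk⟩ := hcov k hk
    refine ⟨η ⟨s, hs⟩, ⟨⟨s, hs⟩, rfl⟩, ?_⟩
    have h0 : (η ⟨s, hs⟩)⁻¹ * k =
        ((δ ⟨s, hs⟩ : Subgroup.center (CovGroup Q)) : CovGroup Q)⁻¹ * (s⁻¹ * k) := by
      rw [hη]; group
    rw [h0]
    exact Subgroup.mul_mem _ (Subgroup.inv_mem _ (Subgroup.mem_inf.mp (hδmem _)).2) hsk
  obtain ⟨hSn, hstem₁, he₁, hfin₁⟩ := cover_of_complement Q S hS hSc hcov
  obtain ⟨hTn, hstem₂, he₂, hfin₂⟩ := cover_of_complement Q η.range hT hTc hTcov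
  refine ⟨CovGroup Q ⧸ S, CovGroup Q ⧸ η.range, inferInstance, hfin₁, inferInstance, hfin₂,
    QuotientGroup.lift S (covHom Q) hS, QuotientGroup.lift η.range (covHom Q) hT, hstem₁, hstem₂,
    he₁, he₂, ?_⟩
  rintro ⟨ebar, hebar⟩
  -- Step 7: lift the isomorphism to an endomorphism `α` of `F/[F,R]`
  obtain ⟨α, hα⟩ := exists_lift_covGroup (QuotientGroup.mk' η.range) (QuotientGroup.mk'_surjective _)
    (ebar.toMonoidHom.comp (QuotientGroup.mk' S)) (by
      rintro x ⟨k, hk, hkx⟩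
      apply covHom_ker_le_center Q
      rw [MonoidHom.mem_ker]
      have h1 : QuotientGroup.lift η.range (covHom Q) hT (QuotientGroup.mk' η.range x) = covHom Q x := rfl
      have h2 : (QuotientGroup.lift η.range (covHom Q) hT) (ebar (QuotientGroup.mk' S k)) =
          QuotientGroup.lift S (covHom Q) hS (QuotientGroup.mk' S k) := DFunLike.congr_fun hebar _
      rw [← h1, ← hkx]
      show (QuotientGroup.lift η.range (covHom Q) hT) (ebar (QuotientGroup.mk' S k)) = 1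
      rw [h2]
      exact MonoidHom.mem_ker.mp hk)
  have hα1 : ∀ e, QuotientGroup.mk' η.range (α e) = ebar (QuotientGroup.mk' S e) :=
    fun e => DFunLike.congr_fun hα e
  have hα2 : ∀ e, covHom Q (α e) = covHom Q e := by
    intro e
    have h1 : QuotientGroup.lift η.range (covHom Q) hT (QuotientGroup.mk' η.range (α e)) =
        covHom Q (α e) := rfl
    rw [← h1, hα1]
    exact DFunLike.congr_fun hebar (QuotientGroup.mk' S e)
  have hαc : ∀ c ∈ commutator (CovGroup Q), α c = c := by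
    have hle : commutator (CovGroup Q) ≤ MonoidHom.eqLocus α (MonoidHom.id (CovGroup Q)) := by
      rw [commutator_eq_closure, Subgroup.closure_le]
      rintro _ ⟨a, b, rfl⟩
      show α ⁅a, b⁆ = ⁅a, b⁆
      rw [map_commutatorElement]
      exact commutatorElement_eq_of_map_eq (covHom Q) (covHom_ker_le_center Q) (α a) a (α b) b
        (hα2 a) (hα2 b)
    intro c hc
    exact hle hc
  -- Step 8: the obstruction
  have hk₀ : e₀⁻¹ * α e₀ ∈ (covHom Q).ker := by
    rw [MonoidHom.mem_ker, map_mul, map_inv, hα2, inv_mul_cancel]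
  have hk₀Z := covHom_ker_le_center Q hk₀
  have hαs₀ : α s₀ = s₀ * (e₀⁻¹ * α e₀) ^ p := by
    have h1 : α (e₀ ^ p) = e₀ ^ p * (e₀⁻¹ * α e₀) ^ p := by
      rw [map_pow]
      have h0 : α e₀ = e₀ * (e₀⁻¹ * α e₀) := by group
      rw [← Commute.mul_pow (Subgroup.mem_center_iff.mp hk₀Z e₀), ← h0]
    rw [hsc, map_mul, hαc c₀ hc₀] at h1
    have hkp := Subgroup.mem_center_iff.mp (Subgroup.pow_mem _ hk₀Z p) c₀
    have h2 : α s₀ * c₀ = s₀ * (e₀⁻¹ * α e₀) ^ p * c₀ := by
      rw [h1, mul_assoc, hkp, mul_assoc]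
    exact mul_right_cancel h2
  have hmem : α s₀ ∈ η.range := by
    have h1 := hα1 s₀
    have h2 : QuotientGroup.mk' S s₀ = 1 := (QuotientGroup.eq_one_iff s₀).mpr hs₀
    rw [h2, map_one] at h1
    exact (QuotientGroup.eq_one_iff _).mp h1
  obtain ⟨s', hs'⟩ := hmem
  obtain ⟨t, ht, htk⟩ := hcov _ hk₀
  have hm₀K : t⁻¹ * (e₀⁻¹ * α e₀) ∈ (covHom Q).ker :=
    Subgroup.mul_mem _ (Subgroup.inv_mem _ (hS ht)) hk₀
  have htc := Subgroup.mem_center_iff.mp (hSZ ht)
  have hk₀p : (e₀⁻¹ * α e₀) ^ p = t ^ p * (t⁻¹ * (e₀⁻¹ * α e₀)) ^ p := by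
    have h0 : e₀⁻¹ * α e₀ = t * (t⁻¹ * (e₀⁻¹ * α e₀)) := by group
    rw [← Commute.mul_pow (htc _).symm, ← h0]
  have hkey : (s₀ * t ^ p)⁻¹ * (s' : CovGroup Q) = (t⁻¹ * (e₀⁻¹ * α e₀)) ^ p *
      ((δ s' : Subgroup.center (CovGroup Q)) : CovGroup Q)⁻¹ := by
    have h1 : (s' : CovGroup Q) * ((δ s' : Subgroup.center (CovGroup Q)) : CovGroup Q) =
        s₀ * (t ^ p * (t⁻¹ * (e₀⁻¹ * α e₀)) ^ p) := by
      rw [← hη, hs', hαs₀, hk₀p]
    have h2 : (s' : CovGroup Q) = s₀ * (t ^ p * (t⁻¹ * (e₀⁻¹ * α e₀)) ^ p) *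
        ((δ s' : Subgroup.center (CovGroup Q)) : CovGroup Q)⁻¹ := by
      rw [← h1]; group
    rw [h2]; group
  have hin : (s₀ * t ^ p)⁻¹ * (s' : CovGroup Q) ∈ S ⊓ commutator (CovGroup Q) := by
    refine Subgroup.mem_inf.mpr ⟨Subgroup.mul_mem _ (Subgroup.inv_mem _
      (Subgroup.mul_mem _ hs₀ (Subgroup.pow_mem _ ht p))) s'.2, ?_⟩
    rw [hkey]
    exact Subgroup.mul_mem _ (Subgroup.pow_mem _ htk p)
      (Subgroup.inv_mem _ (Subgroup.mem_inf.mp (hδmem s')).2)
  rw [hSc, Subgroup.mem_bot] at hin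
  have hs'eq : (s' : CovGroup Q) = s₀ * t ^ p := (inv_mul_eq_one.mp hin).symm
  have hδs' : ((δ s' : Subgroup.center (CovGroup Q)) : CovGroup Q) = (t⁻¹ * (e₀⁻¹ * α e₀)) ^ p := by
    have h1 : (t⁻¹ * (e₀⁻¹ * α e₀)) ^ p * ((δ s' : Subgroup.center (CovGroup Q)) : CovGroup Q)⁻¹ = 1 := by
      rw [← hkey]; exact hin
    exact (mul_inv_eq_one.mp h1).symm
  have hs'S : s' = ⟨s₀, hs₀⟩ * ⟨t, ht⟩ ^ p := Subtype.ext (by rw [hs'eq]; rfl)
  let m₀ : multOf (covHom Q) := ⟨⟨t⁻¹ * (e₀⁻¹ * α e₀), covHom_ker_le_center Q hm₀K⟩,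
    Subgroup.mem_subgroupOf.mpr (Subgroup.mem_inf.mpr ⟨hm₀K, htk⟩)⟩
  have hfinal : δ ⟨s₀, hs₀⟩ = (m₀ * (δ ⟨t, ht⟩)⁻¹) ^ p := by
    have h1 : δ s' = δ ⟨s₀, hs₀⟩ * (δ ⟨t, ht⟩) ^ p := by rw [hs'S, map_mul, map_pow]
    have h2 : δ s' = m₀ ^ p := Subtype.ext (Subtype.ext (by rw [hδs']; rfl))
    rw [mul_pow, inv_pow, ← h2, h1, mul_inv_cancel_right]
  exact hδs₀ _ hfinal

end Cfsg.Agent.Lib.helper69
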