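import Mathlib
import Cfsg.Prelude.Def_CaseTheorems

/-!
S5213 piece G4 (helper69): rank 2 — an involution commuting with two distinct commuting
involutions `a`, `b` is `a`, `b` or `a * b`.
-/

set_option autoImplicit false

namespace Cfsg.Agent.Lib.helper69.FS13

/-- PIECE G4: rank 2 -- an involution commuting with two distinct commuting involutions `a`, `b`
is `a`, `b` or `a * b` (else `{1,a,b,ab,t,ta,tb,tab}` is elementary abelian of order 8). -/
theorem inv_mem_four {T : Type*} [Group T] [Finite T] (h2 : Cfsg.PRankLE 2 2 T) (a b t : T)
    (ha : orderOf a = 2) (hb : orderOf b = 2) (ht : orderOf t = 2) (hab : a ≠ b)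
    (hc : a * b = b * a) (hta : t * a = a * t) (htb : t * b = b * t) :
    t = a ∨ t = b ∨ t = a * b := by
  classical
  by_contra hne
  push Not at hne
  obtain ⟨h1, h2', h3⟩ := hne
  have ha2 : a ^ 2 = 1 := by rw [← ha]; exact pow_orderOf_eq_one a
  have hb2 : b ^ 2 = 1 := by rw [← hb]; exact pow_orderOf_eq_one b
  have ht2 : t ^ 2 = 1 := by rw [← ht]; exact pow_orderOf_eq_one t
  have ha1 : a ≠ 1 := by
    rintro rfl
    simp at ha
  have hb1 : b ≠ 1 := by
    rintro rfl
    simp at hb
  have ht1 : t ≠ 1 := by
    rintro rfl
    simp at ht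
  have hcomm : ∀ x ∈ ({a, b, t} : Set T), ∀ y ∈ ({a, b, t} : Set T), x * y = y * x := by
    intro x hx y hy
    simp only [Set.mem_insert_iff, Set.mem_singleton_iff] at hx hy
    rcases hx with rfl | rfl | rfl <;> rcases hy with rfl | rfl | rfl <;>
      first
        | rfl
        | exact hc
        | exact hc.symm
        | exact hta
        | exact hta.symm
        | exact htb
        | exact htb.symm
  have hA : IsMulCommutative (Subgroup.closure ({a, b, t} : Set T)) :=
    Subgroup.isMulCommutative_closure hcomm
  have hexp : ∀ x ∈ Subgroup.closure ({a, b, t} : Set T), x ^ 2 = 1 := by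
    intro x hx
    induction hx using Subgroup.closure_induction with
    | mem x hx =>
      simp only [Set.mem_insert_iff, Set.mem_singleton_iff] at hx
      rcases hx with rfl | rfl | rfl <;> assumption
    | one => simp
    | mul x y hx hy ihx ihy =>
      have hxy : Commute x y := setLike_mul_comm hx hy
      rw [hxy.mul_pow, ihx, ihy, one_mul]
    | inv x hx ih => rw [inv_pow, ih, inv_one]
  have hcard := h2 _ hA hexp
  have haA : a ∈ Subgroup.closure ({a, b, t} : Set T) := Subgroup.subset_closure (by simp)
  have hbA : b ∈ Subgroup.closure ({a, b, t} : Set T) := Subgroup.subset_closure (by simp)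
  have htA : t ∈ Subgroup.closure ({a, b, t} : Set T) := Subgroup.subset_closure (by simp)
  have hsub : ((({1, a, b, a * b, t} : Finset T) : Set T)) ⊆
      (Subgroup.closure ({a, b, t} : Set T) : Set T) := by
    intro x hx
    simp only [Finset.coe_insert, Finset.coe_singleton, Set.mem_insert_iff,
      Set.mem_singleton_iff] at hx
    rcases hx with rfl | rfl | rfl | rfl | rfl
    · exact Subgroup.one_mem _
    · exact haA
    · exact hbA
    · exact Subgroup.mul_mem _ haA hbA
    · exact htA
  have hab1 : a * b ≠ 1 := by
    intro h
    apply hab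
    have : a = b⁻¹ := eq_inv_of_mul_eq_one_left h
    rw [this]
    exact inv_eq_of_mul_eq_one_left (by rw [← pow_two]; exact hb2)
  have haab : a ≠ a * b := by
    intro h
    apply hb1
    have : a * 1 = a * b := by rw [mul_one]; exact h
    exact (mul_left_cancel this).symm
  have hbab : b ≠ a * b := by
    intro h
    apply ha1
    have : 1 * b = a * b := by rw [one_mul]; exact h
    exact (mul_right_cancel this).symm
  have h5 : ({1, a, b, a * b, t} : Finset T).card = 5 := by
    rw [Finset.card_insert_of_notMem, Finset.card_insert_of_notMem, Finset.card_insert_of_notMem,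
      Finset.card_insert_of_notMem, Finset.card_singleton]
    · simp only [Finset.mem_singleton]
      exact fun h => h3 h.symm
    · simp only [Finset.mem_insert, Finset.mem_singleton, not_or]
      exact ⟨hbab, fun h => h2' h.symm⟩
    · simp only [Finset.mem_insert, Finset.mem_singleton, not_or]
      exact ⟨hab, haab, fun h => h1 h.symm⟩
    · simp only [Finset.mem_insert, Finset.mem_singleton, not_or]
      exact ⟨fun h => ha1 h.symm, fun h => hb1 h.symm, fun h => hab1 h.symm, fun h => ht1 h.symm⟩
  have hge : 5 ≤ Nat.card (Subgroup.closure ({a, b, t} : Set T)) := by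
    have h6 := Set.ncard_le_ncard hsub (Set.toFinite _)
    rw [Set.ncard_coe_finset, h5] at h6
    have h7 : Nat.card (Subgroup.closure ({a, b, t} : Set T)) =
        ((Subgroup.closure ({a, b, t} : Set T) : Set T)).ncard := rfl
    rw [h7]
    exact h6
  norm_num at hcard
  omega

end Cfsg.Agent.Lib.helper69.FS13
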