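import Mathlib

/-!
S5213 piece G5 (helper69): three involutions `a`, `b`, `a * b`, each moved by some automorphism:
some automorphism permutes them cyclically.
-/

set_option autoImplicit false

namespace Cfsg.Agent.Lib.helper69.FS13

/-- an automorphism without fixed point on the three involutions is a 3-cycle -/
theorem h69_cyc_of_fpf {T : Type*} [Group T] (x y z : T)
    (hxy : x ≠ y) (hxz : x ≠ z) (hyz : y ≠ z)
    (hx2 : orderOf x = 2) (hy2 : orderOf y = 2) (hz2 : orderOf z = 2)
    (hV : ∀ t : T, orderOf t = 2 → t = x ∨ t = y ∨ t = z) (σ : MulAut T)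
    (hx : σ x ≠ x) (hy : σ y ≠ y) (hz : σ z ≠ z) :
    (σ x = y ∧ σ y = z ∧ σ z = x) ∨ (σ x = z ∧ σ z = y ∧ σ y = x) := by
  have ox : orderOf (σ x) = 2 := by rw [MulEquiv.orderOf_eq]; exact hx2
  have oy : orderOf (σ y) = 2 := by rw [MulEquiv.orderOf_eq]; exact hy2
  have oz : orderOf (σ z) = 2 := by rw [MulEquiv.orderOf_eq]; exact hz2
  rcases hV _ ox with h1 | h1 | h1 <;> rcases hV _ oy with h2 | h2 | h2 <;>
    rcases hV _ oz with h3 | h3 | h3 <;>
    first
      | exact absurd h1 hx
      | exact absurd h2 hy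
      | exact absurd h3 hz
      | exact absurd (σ.injective (h1.trans h2.symm)) hxy
      | exact absurd (σ.injective (h1.trans h3.symm)) hxz
      | exact absurd (σ.injective (h2.trans h3.symm)) hyz
      | exact Or.inl ⟨h1, h2, h3⟩
      | exact Or.inr ⟨h1, h3, h2⟩

/-- a 3-cycle is transitive on the three involutions -/
theorem h69_trans_of_cyc {T : Type*} [Group T] (x y z : T)
    (hV : ∀ t : T, orderOf t = 2 → t = x ∨ t = y ∨ t = z) (σ : MulAut T)
    (h1 : σ x = y) (h2 : σ y = z) (h3 : σ z = x) :
    ∀ s t : T, orderOf s = 2 → orderOf t = 2 → ∃ k : ℕ, (σ ^ k) s = t := by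
  intro s t hs ht
  rcases hV s hs with rfl | rfl | rfl <;> rcases hV t ht with rfl | rfl | rfl <;>
    first
      | (refine ⟨0, ?_⟩; simp; done)
      | (refine ⟨1, ?_⟩; simp [h1, h2, h3]; done)
      | (refine ⟨2, ?_⟩; simp [pow_two, h1, h2, h3]; done)

/-- from an automorphism moving `x` and fixing `d`, and one moving `d`, build a fixed-point-free
one -/
theorem h69_fpf_aux {T : Type*} [Group T] (x d e : T)
    (hxd : x ≠ d) (hxe : x ≠ e) (hde : d ≠ e)
    (hx2 : orderOf x = 2) (hd2 : orderOf d = 2) (he2 : orderOf e = 2)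
    (hV : ∀ t : T, orderOf t = 2 → t = x ∨ t = d ∨ t = e) (α β : MulAut T)
    (hαx : α x ≠ x) (hαd : α d = d) (hβd : β d ≠ d) :
    ∃ φ : MulAut T, φ x ≠ x ∧ φ d ≠ d ∧ φ e ≠ e := by
  have oax : orderOf (α x) = 2 := by rw [MulEquiv.orderOf_eq]; exact hx2
  have oae : orderOf (α e) = 2 := by rw [MulEquiv.orderOf_eq]; exact he2
  have obx : orderOf (β x) = 2 := by rw [MulEquiv.orderOf_eq]; exact hx2
  have obd : orderOf (β d) = 2 := by rw [MulEquiv.orderOf_eq]; exact hd2
  have obe : orderOf (β e) = 2 := by rw [MulEquiv.orderOf_eq]; exact he2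
  -- α = (x e)
  have hαx' : α x = e := by
    rcases hV _ oax with h | h | h
    · exact absurd h hαx
    · exact absurd (α.injective (h.trans hαd.symm)) hxd
    · exact h
  have hαe' : α e = x := by
    rcases hV _ oae with h | h | h
    · exact h
    · exact absurd (α.injective (h.trans hαd.symm)) hde.symm
    · exact absurd (α.injective (h.trans hαx'.symm)) hxe.symm
  by_cases hβx : β x = x
  · -- β = (d e)
    have hβd' : β d = e := by
      rcases hV _ obd with h | h | h
      · exact absurd (β.injective (h.trans hβx.symm)) hxd.symm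
      · exact absurd h hβd
      · exact h
    have hβe' : β e = d := by
      rcases hV _ obe with h | h | h
      · exact absurd (β.injective (h.trans hβx.symm)) hxe.symm
      · exact h
      · exact absurd (β.injective (h.trans hβd'.symm)) hde.symm
    refine ⟨α * β, ?_, ?_, ?_⟩
    · rw [MulAut.mul_apply, hβx, hαx']; exact hxe.symm
    · rw [MulAut.mul_apply, hβd', hαe']; exact hxd
    · rw [MulAut.mul_apply, hβe', hαd]; exact hde
  · by_cases hβe : β e = e
    · -- β = (d x)
      have hβx' : β x = d := by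
        rcases hV _ obx with h | h | h
        · exact absurd h hβx
        · exact h
        · exact absurd (β.injective (h.trans hβe.symm)) hxe
      have hβd' : β d = x := by
        rcases hV _ obd with h | h | h
        · exact h
        · exact absurd h hβd
        · exact absurd (β.injective (h.trans hβe.symm)) hde
      refine ⟨α * β, ?_, ?_, ?_⟩
      · rw [MulAut.mul_apply, hβx', hαd]; exact hxd.symm
      · rw [MulAut.mul_apply, hβd', hαx']; exact hde.symm
      · rw [MulAut.mul_apply, hβe, hαe']; exact hxe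
    · exact ⟨β, hβx, hβd, hβe⟩

/-- PIECE G5: three involutions `a`, `b`, `a * b`, each moved by some automorphism: some
automorphism permutes them cyclically. (`α := α_a`; if it is not a 3-cycle it swaps two of them
and fixes the third `c`; then `β := α_c` is a 3-cycle or `α * β` is.) -/
theorem three_cycle {T : Type*} [Group T] (a b : T) (ha : orderOf a = 2) (hb : orderOf b = 2)
    (hab : a ≠ b) (hc : a * b = b * a)
    (hall : ∀ t : T, orderOf t = 2 → t = a ∨ t = b ∨ t = a * b)
    (hmove : ∀ t : T, orderOf t = 2 → ∃ α : MulAut T, α t ≠ t) :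
    ∃ φ : MulAut T, ∀ s t : T, orderOf s = 2 → orderOf t = 2 → ∃ k : ℕ, (φ ^ k) s = t := by
  have ha2 : a ^ 2 = 1 := by rw [← ha]; exact pow_orderOf_eq_one a
  have hb2 : b ^ 2 = 1 := by rw [← hb]; exact pow_orderOf_eq_one b
  have ha1 : a ≠ 1 := by
    rintro rfl
    simp at ha
  have hb1 : b ≠ 1 := by
    rintro rfl
    simp at hb
  have hab1 : a * b ≠ 1 := by
    intro h
    apply hab
    have : a = b⁻¹ := eq_inv_of_mul_eq_one_left h
    rw [this]
    exact inv_eq_of_mul_eq_one_left (by rw [← pow_two]; exact hb2)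
  have haab : a ≠ a * b := by
    intro h
    apply hb1
    have : a * 1 = a * b := by rw [mul_one]; exact h
    exact (mul_left_cancel this).symm
  have hbab : b ≠ a * b := by
    intro h
    apply ha1
    have : 1 * b = a * b := by rw [one_mul]; exact h
    exact (mul_right_cancel this).symm
  have hab2 : orderOf (a * b) = 2 := by
    apply orderOf_eq_prime
    · have hcm : Commute a b := hc
      rw [hcm.mul_pow, ha2, hb2, one_mul]
    · exact hab1
  -- a fixed-point-free automorphism
  have hfpf : ∃ φ : MulAut T, φ a ≠ a ∧ φ b ≠ b ∧ φ (a * b) ≠ a * b := by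
    obtain ⟨α, hα⟩ := hmove a ha
    by_cases hαb : α b = b
    · obtain ⟨β, hβ⟩ := hmove b hb
      exact h69_fpf_aux a b (a * b) hab haab hbab ha hb hab2 hall α β hα hαb hβ
    · by_cases hαab : α (a * b) = a * b
      · obtain ⟨β, hβ⟩ := hmove (a * b) hab2
        have hall' : ∀ t : T, orderOf t = 2 → t = a ∨ t = a * b ∨ t = b := by
          intro t ht
          rcases hall t ht with h | h | h
          · exact Or.inl h
          · exact Or.inr (Or.inr h)
          · exact Or.inr (Or.inl h)
        obtain ⟨φ, h1, h2, h3⟩ :=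
          h69_fpf_aux a (a * b) b haab hab hbab.symm ha hab2 hb hall' α β hα hαab hβ
        exact ⟨φ, h1, h3, h2⟩
      · exact ⟨α, hα, hαb, hαab⟩
  obtain ⟨φ, h1, h2, h3⟩ := hfpf
  refine ⟨φ, ?_⟩
  rcases h69_cyc_of_fpf a b (a * b) hab haab hbab ha hb hab2 hall φ h1 h2 h3 with
    ⟨k1, k2, k3⟩ | ⟨k1, k2, k3⟩
  · exact h69_trans_of_cyc a b (a * b) hall φ k1 k2 k3
  · have hall' : ∀ t : T, orderOf t = 2 → t = a ∨ t = a * b ∨ t = b := by
      intro t ht
      rcases hall t ht with h | h | h
      · exact Or.inl h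
      · exact Or.inr (Or.inr h)
      · exact Or.inr (Or.inl h)
    exact h69_trans_of_cyc a (a * b) b hall' φ k1 k2 k3

end Cfsg.Agent.Lib.helper69.FS13
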