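import Mathlib

set_option autoImplicit false

namespace Cfsg.Agent.Lib.helper69

/-- If the commutative group `B` is generated by a family `b` indexed by `ι`, and `ψ : B →* W`
has image of "finite index" in the free abelian group `W` of finite rank, then the kernel of `ψ`
is generated by `|ι| - rank W` elements. -/
theorem exists_generators_ker {B : Type*} [CommGroup B] {W : Type*} [CommGroup W]
    [Module.Free ℤ (Additive W)] [Module.Finite ℤ (Additive W)]
    {ι : Type*} [Fintype ι] (b : ι → B) (hb : Subgroup.closure (Set.range b) = ⊤)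
    (ψ : B →* W) (d : ℕ) (hd : d ≠ 0) (hψ : ∀ w : W, ∃ x : B, ψ x = w ^ d) :
    ∃ T : Finset ψ.ker, T.card ≤ Fintype.card ι - Module.finrank ℤ (Additive W) ∧
      Subgroup.closure (T : Set ψ.ker) = ⊤ := by
  classical
  let g : (ι → ℤ) →ₗ[ℤ] Additive B := Fintype.linearCombination ℤ (fun i => Additive.ofMul (b i))
  have hg : ∀ x : B, ∃ v, g v = Additive.ofMul x := by
    intro x
    have hx : x ∈ Subgroup.closure (Set.range b) := by rw [hb]; trivial
    induction hx using Subgroup.closure_induction with
    | mem y hy =>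
      obtain ⟨i, rfl⟩ := hy
      exact ⟨Pi.single i 1, by simp [g, Fintype.linearCombination_apply, Pi.single_apply]⟩
    | one => exact ⟨0, by simp⟩
    | mul y z _ _ hy hz =>
      obtain ⟨v, hv⟩ := hy
      obtain ⟨u, hu⟩ := hz
      exact ⟨v + u, by rw [map_add, hv, hu]; rfl⟩
    | inv y _ hy =>
      obtain ⟨v, hv⟩ := hy
      exact ⟨-v, by rw [map_neg, hv]; rfl⟩
  let ψ' : Additive B →ₗ[ℤ] Additive W := (MonoidHom.toAdditive ψ).toIntLinearMap
  have hψ' : ∀ x : B, ψ' (Additive.ofMul x) = Additive.ofMul (ψ x) := fun x => rfl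
  let f : (ι → ℤ) →ₗ[ℤ] Additive W := ψ' ∘ₗ g
  have hrange : Module.finrank ℤ (LinearMap.range f) = Module.finrank ℤ (Additive W) := by
    apply le_antisymm (Submodule.finrank_le _)
    have hmem : ∀ w : Additive W, ((d : ℤ) • (LinearMap.id : Additive W →ₗ[ℤ] Additive W)) w
        ∈ LinearMap.range f := by
      intro w
      obtain ⟨x, hx⟩ := hψ (Additive.toMul w)
      obtain ⟨v, hv⟩ := hg x
      refine ⟨v, ?_⟩
      show ψ' (g v) = _
      rw [hv, hψ', hx]
      simp
    let h : Additive W →ₗ[ℤ] LinearMap.range f :=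
      LinearMap.codRestrict (LinearMap.range f) ((d : ℤ) • LinearMap.id) hmem
    have hinj : Function.Injective h := by
      intro w₁ w₂ hw
      have h1 : (d : ℤ) • w₁ = (d : ℤ) • w₂ := congrArg Subtype.val hw
      exact smul_right_injective _ (by exact_mod_cast hd : (d : ℤ) ≠ 0) h1
    exact LinearMap.finrank_le_finrank_of_injective hinj
  have hrn : Module.finrank ℤ (LinearMap.range f) + Module.finrank ℤ (LinearMap.ker f)
      = Fintype.card ι := by
    rw [← f.quotKerEquivRange.finrank_eq]
    have h1 := Submodule.finrank_quotient_add_finrank (LinearMap.ker f)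
    rw [h1]
    simp
  have hK : Module.finrank ℤ (LinearMap.ker f)
      = Fintype.card ι - Module.finrank ℤ (Additive W) := by omega
  let bas := Module.finBasis ℤ (LinearMap.ker f)
  have hmemker : ∀ v : LinearMap.ker f, Additive.toMul (g (v : ι → ℤ)) ∈ ψ.ker := by
    intro v
    rw [MonoidHom.mem_ker]
    have h1 : f (v : ι → ℤ) = 0 := v.2
    exact h1
  let t : Fin (Module.finrank ℤ (LinearMap.ker f)) → ψ.ker :=
    fun j => ⟨Additive.toMul (g (bas j : ι → ℤ)), hmemker (bas j)⟩
  refine ⟨Finset.univ.image t, ?_, ?_⟩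
  · rw [← hK]
    exact (Finset.card_image_le).trans (by simp)
  · rw [eq_top_iff]
    rintro ⟨x, hx⟩ -
    obtain ⟨v, hv⟩ := hg x
    have hvK : v ∈ LinearMap.ker f := by
      rw [LinearMap.mem_ker]
      show ψ' (g v) = 0
      rw [hv, hψ']
      show ψ x = 1
      exact MonoidHom.mem_ker.mp hx
    let C : Subgroup ψ.ker := Subgroup.closure ((Finset.univ.image t : Finset ψ.ker) : Set ψ.ker)
    let gK : LinearMap.ker f → ψ.ker := fun v => ⟨Additive.toMul (g (v : ι → ℤ)), hmemker v⟩
    let S : AddSubgroup (LinearMap.ker f) :=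
      { carrier := {v | gK v ∈ C}
        add_mem' := by
          intro v u hv hu
          have h1 : gK (v + u) = gK v * gK u := by
            apply Subtype.ext
            show Additive.toMul (g ((v : ι → ℤ) + (u : ι → ℤ))) = _
            rw [map_add]; rfl
          show gK (v + u) ∈ C
          rw [h1]; exact C.mul_mem hv hu
        zero_mem' := by
          have h1 : gK 0 = 1 := by
            apply Subtype.ext
            show Additive.toMul (g (0 : ι → ℤ)) = _
            rw [map_zero]; rfl
          show gK 0 ∈ C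
          rw [h1]; exact C.one_mem
        neg_mem' := by
          intro v hv
          have h1 : gK (-v) = (gK v)⁻¹ := by
            apply Subtype.ext
            show Additive.toMul (g (-(v : ι → ℤ))) = _
            rw [map_neg]; rfl
          show gK (-v) ∈ C
          rw [h1]; exact C.inv_mem hv }
    have hS : (⊤ : Submodule ℤ (LinearMap.ker f)) ≤ AddSubgroup.toIntSubmodule S := by
      rw [← bas.span_eq, Submodule.span_le]
      rintro _ ⟨j, rfl⟩
      show gK (bas j) ∈ C
      apply Subgroup.subset_closure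
      rw [Finset.coe_image]
      exact ⟨j, by simp, rfl⟩
    have h2 : gK ⟨v, hvK⟩ ∈ C := hS (Submodule.mem_top (x := (⟨v, hvK⟩ : LinearMap.ker f)))
    have h3 : gK ⟨v, hvK⟩ = ⟨x, hx⟩ := by
      apply Subtype.ext
      show Additive.toMul (g v) = x
      rw [hv]; rfl
    rw [h3] at h2
    exact h2

end Cfsg.Agent.Lib.helper69
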