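import Mathlib
import Cfsg.Prelude.Def_HallClasses

/-!
# Hall subgroups of symmetric and alternating groups: counterexamples to `E_π`

* `exists_conj_mem_of_not_dvd_index`: a `p`-element is conjugate into every subgroup of index prime to `p`.
* `not_hall_perm_of_two`: `S_p` has no Hall `π`-subgroup if `2, p ∈ π`, `r ∉ π`, `r < p`.
* `not_hall_perm_of_odd`: `S_p` has no Hall `π`-subgroup if `q < p` odd primes in `π`, `2 ∉ π`.
* `not_hall_alt`: `A_{r+1}` has no Hall `π`-subgroup if all primes `< r` are in `π`, `r ∉ π`, `r ≥ 5`.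
-/

set_option autoImplicit false

namespace Cfsg.Agent.Lib.helper69

open Equiv Equiv.Perm MulAction

/-- a `p`-element is conjugate into any subgroup of index prime to `p`. -/
theorem exists_conj_mem_of_not_dvd_index {G : Type*} [Group G] (p : ℕ) [Fact p.Prime]
    (H : Subgroup G) (hH : ¬ p ∣ H.index) (x : G) (hx : IsPGroup p (Subgroup.zpowers x)) :
    ∃ g : G, g⁻¹ * x * g ∈ H := by
  obtain ⟨a, ha⟩ := hx.nonempty_fixed_point_of_prime_not_dvd_card (G ⧸ H)
    (by rwa [← Subgroup.index_eq_card])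
  induction a using QuotientGroup.induction_on with
  | H g =>
    refine ⟨g, ?_⟩
    have h1 := ha ⟨x, Subgroup.mem_zpowers x⟩
    have h2 : ((x * g : G) : G ⧸ H) = (g : G ⧸ H) := h1
    rw [QuotientGroup.eq] at h2
    have h3 := H.inv_mem h2
    simpa [mul_assoc] using h3

/-- a subgroup of `S_n` of index prime to the prime `s ≤ n` contains an `s`-cycle. -/
theorem exists_cycle_mem {n : ℕ} (H : Subgroup (Perm (Fin n))) (s : ℕ) (hs : s.Prime)
    (hsn : s ≤ n) (hH : ¬ s ∣ H.index) : ∃ τ ∈ H, τ.cycleType = {s} := by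
  have : Fact s.Prime := ⟨hs⟩
  have : NeZero n := ⟨by have := hs.two_le; omega⟩
  have hs2 := hs.two_le
  let i : Fin n := ⟨s - 1, by omega⟩
  have hi0 : i ≠ 0 := by
    intro h
    have := congrArg Fin.val h
    simp [i] at this
    omega
  have hct : (Fin.cycleRange i).cycleType = {s} := by
    rw [Fin.cycleType_cycleRange hi0]
    simp [i]
    omega
  have hord : orderOf (Fin.cycleRange i) = s := by
    rw [← Equiv.Perm.lcm_cycleType, hct]
    simp
  have hpg : IsPGroup s (Subgroup.zpowers (Fin.cycleRange i)) := by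
    apply IsPGroup.of_card (n := 1)
    rw [Nat.card_zpowers, hord, pow_one]
  obtain ⟨g, hg⟩ := exists_conj_mem_of_not_dvd_index s H hH _ hpg
  refine ⟨_, hg, ?_⟩
  have : g⁻¹ * Fin.cycleRange i * g = g⁻¹ * Fin.cycleRange i * g⁻¹⁻¹ := by simp
  rw [this, Equiv.Perm.cycleType_conj, hct]

/-- a subgroup of `S_p` containing a `p`-cycle is primitive. -/
theorem isPreprimitive_of_cycle_mem {p : ℕ} (hp : p.Prime) (H : Subgroup (Perm (Fin p)))
    (σ : Perm (Fin p)) (hσ : σ ∈ H) (hct : σ.cycleType = {p}) : IsPreprimitive H (Fin p) := by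
  have hc : σ.IsCycle := by rw [← card_cycleType_eq_one, hct]; simp
  have hsupp : σ.support.card = p := by rw [← sum_cycleType, hct]; simp
  have huniv : σ.support = Finset.univ := Finset.eq_univ_of_card σ.support (by simp [hsupp])
  have hall : ∀ x, σ x ≠ x := fun x => Equiv.Perm.mem_support.mp (huniv ▸ Finset.mem_univ x)
  have : IsPretransitive H (Fin p) := by
    refine ⟨fun x y => ?_⟩
    obtain ⟨i, hi⟩ := hc.exists_zpow_eq (hall x) (hall y)
    exact ⟨⟨σ ^ i, H.zpow_mem hσ i⟩, hi⟩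
  exact IsPreprimitive.of_prime_card (by simpa using hp)

/-- `S_p` has no Hall `π`-subgroup if `2, p ∈ π` and some prime `r < p` is not in `π`. -/
theorem not_hall_perm_of_two (π : Set ℕ) (p r : ℕ) (hp : p.Prime) (hr : r.Prime) (h2 : 2 ∈ π)
    (hpπ : p ∈ π) (hrπ : r ∉ π) (hrp : r < p) : ¬ Cfsg.IsEPiGroup π (Perm (Fin p)) := by
  rintro ⟨H, hH1, hH2⟩
  obtain ⟨σ, hσ, hσc⟩ := exists_cycle_mem H p hp le_rfl (hH2 p hp hpπ)
  obtain ⟨τ, hτ, hτc⟩ := exists_cycle_mem H 2 Nat.prime_two hp.two_le (hH2 2 Nat.prime_two h2)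
  have hprim := isPreprimitive_of_cycle_mem hp H σ hσ hσc
  have hsw : τ.IsSwap := by
    rw [← card_support_eq_two, ← sum_cycleType, hτc]; simp
  have htop : H = ⊤ := subgroup_eq_top_of_isPreprimitive_of_isSwap_mem hprim τ hsw hτ
  apply hrπ
  apply hH1 r hr
  rw [htop, Subgroup.card_top, Nat.card_perm, Nat.card_eq_fintype_card, Fintype.card_fin]
  exact (hr.dvd_factorial).mpr hrp.le

/-- `S_p` has no Hall `π`-subgroup if `q < p` are primes in `π` and `2 ∉ π`. -/
theorem not_hall_perm_of_odd (π : Set ℕ) (p q : ℕ) (hp : p.Prime) (hq : q.Prime) (h2 : 2 ∉ π)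
    (hpπ : p ∈ π) (hqπ : q ∈ π) (hqp : q < p) : ¬ Cfsg.IsEPiGroup π (Perm (Fin p)) := by
  rintro ⟨H, hH1, hH2⟩
  obtain ⟨σ, hσ, hσc⟩ := exists_cycle_mem H p hp le_rfl (hH2 p hp hpπ)
  obtain ⟨τ, hτ, hτc⟩ := exists_cycle_mem H q hq hqp.le (hH2 q hq hqπ)
  have hprim := isPreprimitive_of_cycle_mem hp H σ hσ hσc
  have hτcyc : τ.IsCycle := by rw [← card_cycleType_eq_one, hτc]; simp
  have hsupp : τ.support.card = q := by rw [← sum_cycleType, hτc]; simp
  have hq2 := hq.two_le
  have hncard : ((τ.support : Set (Fin p))ᶜ).ncard = (p - q - 1) + 1 := by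
    have h1 := Set.ncard_add_ncard_compl (τ.support : Set (Fin p))
    rw [Set.ncard_coe_finset, hsupp, Nat.card_eq_fintype_card, Fintype.card_fin] at h1
    omega
  have htr := isPretransitive_of_isCycle_mem hτcyc hτ
  have h2t : IsMultiplyPretransitive H (Fin p) 2 :=
    hprim.is_two_pretransitive hncard (by
      rw [Nat.card_eq_fintype_card, Fintype.card_fin]; omega) htr
  rw [is_two_pretransitive_iff] at h2t
  have hp3 : 2 < p := by omega
  let a : Fin p := ⟨0, by omega⟩
  let b : Fin p := ⟨1, by omega⟩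
  have hab : a ≠ b := by
    intro h
    have := congrArg Fin.val h
    simp [a, b] at this
  obtain ⟨g, hga, hgb⟩ := h2t hab hab.symm
  apply h2
  apply hH1 2 Nat.prime_two
  refine dvd_trans ?_ (orderOf_dvd_natCard g)
  by_contra hodd
  have hodd' : orderOf g % 2 = 1 := by omega
  have key : ∀ k : ℕ, (g ^ (2 * k + 1)) • a = b := by
    intro k
    induction k with
    | zero => simpa using hga
    | succ k ih =>
      have e : 2 * (k + 1) + 1 = (2 * k + 1) + 1 + 1 := by ring
      have : g ^ (2 * (k + 1) + 1) = g * (g * g ^ (2 * k + 1)) := by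
        rw [e, pow_succ', pow_succ']
      rw [this, mul_smul, mul_smul, ih, hgb, hga]
  have h1 := key (orderOf g / 2)
  have h3 : 2 * (orderOf g / 2) + 1 = orderOf g := by omega
  rw [h3, pow_orderOf_eq_one, one_smul] at h1
  exact hab h1

open Nat in
/-- `A_{r+1}` has no Hall `π`-subgroup if all primes below the prime `r ≥ 5` are in `π` and `r ∉ π`. -/
theorem not_hall_alt (π : Set ℕ) (r : ℕ) (hr : r.Prime) (hr5 : 5 ≤ r)
    (hlt : ∀ s : ℕ, s.Prime → s < r → s ∈ π) (hrπ : r ∉ π) :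
    ¬ Cfsg.IsEPiGroup π (alternatingGroup (Fin (r + 1))) := by
  rintro ⟨H, hH1, hH2⟩
  have : Nontrivial (Fin (r + 1)) := Fin.nontrivial_iff_two_le.mpr (by omega)
  have hcard : 2 * Nat.card (alternatingGroup (Fin (r + 1))) = (r + 1)! := by
    rw [two_mul_nat_card_alternatingGroup, Nat.card_perm, Nat.card_eq_fintype_card,
      Fintype.card_fin]
  have hidx_dvd : H.index ∣ (r + 1)! := by
    rw [← hcard]; exact dvd_mul_of_dvd_right (H.index_dvd_card) 2
  have hrodd : r % 2 = 1 := by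
    rcases hr.eq_two_or_odd with h | h
    · omega
    · exact h
  have hprime : ∀ {s : ℕ}, s.Prime → s ∣ H.index → s = r := by
    intro s hs hsd
    have h1 : s ≤ r + 1 := (hs.dvd_factorial).mp (hsd.trans hidx_dvd)
    have h2 : s ∉ π := fun h => hH2 s hs h hsd
    have h3 : ¬ s < r := fun h => h2 (hlt s hs h)
    have h4 : s ≠ r + 1 := by
      rintro rfl
      have h5 : 2 ∣ r + 1 := by omega
      rcases (Nat.dvd_prime hs).mp h5 with h | h <;> omega
    omega
  have hne : H.index ≠ 0 := Subgroup.index_ne_zero_of_finite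
  have hpow := Nat.eq_prime_pow_of_unique_prime_dvd hne hprime
  obtain ⟨k, hk⟩ : ∃ k, k = H.index.primeFactorsList.length := ⟨_, rfl⟩
  rw [← hk] at hpow
  have hfac : (r + 1)! = r * ((r + 1) * (r - 1)!) := by
    rw [Nat.factorial_succ, ← Nat.mul_factorial_pred (by omega : r ≠ 0)]
    ring
  have hk1 : k ≤ 1 := by
    by_contra hk2
    have h1 : r ^ 2 ∣ (r + 1)! := (pow_dvd_pow r (by omega)).trans (hpow ▸ hidx_dvd)
    rw [hfac, pow_two] at h1
    have h2 : r ∣ (r + 1) * (r - 1)! := Nat.dvd_of_mul_dvd_mul_left hr.pos h1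
    rcases hr.dvd_mul.mp h2 with h | h
    · have : r ∣ 1 := (Nat.dvd_add_right (dvd_refl r)).mp h
      have := Nat.le_of_dvd one_pos this
      omega
    · have := (hr.dvd_factorial).mp h
      omega
  have hrG : r ∣ Nat.card (alternatingGroup (Fin (r + 1))) := by
    have h1 : r ∣ 2 * Nat.card (alternatingGroup (Fin (r + 1))) := by
      rw [hcard]; exact (hr.dvd_factorial).mpr (by omega)
    rcases hr.dvd_mul.mp h1 with h | h
    · have := Nat.le_of_dvd (by norm_num) h
      omega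
    · exact h
  interval_cases k
  · -- index 1
    rw [pow_zero, Subgroup.index_eq_one] at hpow
    apply hrπ
    apply hH1 r hr
    rw [hpow, Subgroup.card_top]
    exact hrG
  · -- index r
    rw [pow_one] at hpow
    have hs : IsSimpleGroup (alternatingGroup (Fin (r + 1))) :=
      alternatingGroup.isSimpleGroup (by rw [Nat.card_eq_fintype_card, Fintype.card_fin]; omega)
    rcases (Subgroup.normalCore_normal H).eq_bot_or_eq_top with h | h
    · rw [Subgroup.normalCore_eq_ker, MonoidHom.ker_eq_bot_iff] at h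
      have h1 := Nat.card_le_card_of_injective _ h
      rw [Nat.card_perm, ← Subgroup.index_eq_card, hpow] at h1
      have h2 : (r + 1)! ≤ 2 * r ! := by rw [← hcard]; omega
      rw [Nat.factorial_succ] at h2
      have h3 : 0 < r ! := Nat.factorial_pos r
      nlinarith
    · have h1 : H = ⊤ := top_le_iff.mp (h ▸ Subgroup.normalCore_le H)
      rw [h1, Subgroup.index_top] at hpow
      omega

/-- in a finite group, `D_π` implies `E_π`. -/
theorem isEPiGroup_of_isDPiGroup {G : Type*} [Group G] [Finite G] (π : Set ℕ)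
    (h : Cfsg.IsDPiGroup π G) : Cfsg.IsEPiGroup π G := by
  have hbot : Cfsg.IsPiSubgroup π (⊥ : Subgroup G) := by
    intro p hp hd
    rw [Subgroup.card_bot] at hd
    exact absurd (Nat.dvd_one.mp hd) hp.one_lt.ne'
  obtain ⟨M₀, -, hM₀⟩ := Finite.exists_le_maximal (p := Cfsg.IsPiSubgroup π) hbot
  refine ⟨M₀, hM₀.1, ?_⟩
  intro p hp hpπ hd
  have : Fact p.Prime := ⟨hp⟩
  let P : Sylow p G := default
  have hP : Cfsg.IsPiSubgroup π (P : Subgroup G) := by
    intro s hs hsd
    obtain ⟨n, hn⟩ := IsPGroup.iff_card.mp P.2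
    rw [hn] at hsd
    rw [(Nat.prime_dvd_prime_iff_eq hs hp).mp (hs.dvd_of_dvd_pow hsd)]
    exact hpπ
  obtain ⟨M₁, hPM, hM₁⟩ := Finite.exists_le_maximal (p := Cfsg.IsPiSubgroup π) hP
  obtain ⟨g, hg⟩ := h M₀ M₁ hM₀ hM₁
  have hcard : Nat.card M₁ = Nat.card M₀ := by
    rw [hg]
    exact (Nat.card_congr
      (Subgroup.equivMapOfInjective M₀ _ (MulAut.conj g).injective).toEquiv).symm
  have hidx : M₁.index = M₀.index := by
    have h1 := M₁.card_mul_index
    have h0 := M₀.card_mul_index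
    rw [hcard, ← h0] at h1
    exact Nat.eq_of_mul_eq_mul_left Nat.card_pos h1
  have h1 : M₁.index ∣ (P : Subgroup G).index := Subgroup.index_dvd_of_le hPM
  rw [hidx] at h1
  exact P.not_dvd_index (hd.trans h1)

/-- the trivial cases of `E_π`. -/
theorem isEPiGroup_of_trivial {G : Type*} [Group G] [Finite G] (π : Set ℕ)
    (h : (∀ p q : ℕ, p.Prime → q.Prime → p ∈ π → q ∈ π → p = q) ∨ ∀ p : ℕ, p.Prime → p ∈ π) :
    Cfsg.IsEPiGroup π G := by
  rcases h with h | h
  · by_cases hex : ∃ p : ℕ, p.Prime ∧ p ∈ π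
    · obtain ⟨p₀, hp₀, hp₀π⟩ := hex
      have : Fact p₀.Prime := ⟨hp₀⟩
      let P : Sylow p₀ G := default
      refine ⟨P, ?_, ?_⟩
      · intro s hs hsd
        obtain ⟨n, hn⟩ := IsPGroup.iff_card.mp P.2
        rw [hn] at hsd
        rw [(Nat.prime_dvd_prime_iff_eq hs hp₀).mp (hs.dvd_of_dvd_pow hsd)]
        exact hp₀π
      · intro s hs hsπ
        rw [h s p₀ hs hp₀ hsπ hp₀π]
        exact P.not_dvd_index
    · refine ⟨⊥, ?_, ?_⟩
      · intro p hp hd
        rw [Subgroup.card_bot] at hd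
        exact absurd (Nat.dvd_one.mp hd) hp.one_lt.ne'
      · intro p hp hpπ
        exact absurd ⟨p, hp, hpπ⟩ hex
  · refine ⟨⊤, fun p hp _ => h p hp, ?_⟩
    intro p hp _ hd
    rw [Subgroup.index_top] at hd
    exact absurd (Nat.dvd_one.mp hd) hp.one_lt.ne'

open Pointwise in
/-- the trivial cases of `D_π`. -/
theorem isDPiGroup_of_trivial {G : Type*} [Group G] [Finite G] (π : Set ℕ)
    (h : (∀ p q : ℕ, p.Prime → q.Prime → p ∈ π → q ∈ π → p = q) ∨ ∀ p : ℕ, p.Prime → p ∈ π) :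
    Cfsg.IsDPiGroup π G := by
  intro H K hH hK
  rcases h with h | h
  · by_cases hex : ∃ p : ℕ, p.Prime ∧ p ∈ π
    · obtain ⟨p₀, hp₀, hp₀π⟩ := hex
      have : Fact p₀.Prime := ⟨hp₀⟩
      have hpi : ∀ Q : Subgroup G, IsPGroup p₀ Q → Cfsg.IsPiSubgroup π Q := by
        intro Q hQ s hs hsd
        obtain ⟨n, hn⟩ := IsPGroup.iff_card.mp hQ
        rw [hn] at hsd
        rw [(Nat.prime_dvd_prime_iff_eq hs hp₀).mp (hs.dvd_of_dvd_pow hsd)]
        exact hp₀π
      have hpg : ∀ Q : Subgroup G, Cfsg.IsPiSubgroup π Q → IsPGroup p₀ Q := by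
        intro Q hQ
        have h1 : Nat.card Q = p₀ ^ (Nat.card Q).primeFactorsList.length := by
          apply Nat.eq_prime_pow_of_unique_prime_dvd Nat.card_pos.ne'
          intro s hs hsd
          exact h s p₀ hs hp₀ (hQ s hs hsd) hp₀π
        exact IsPGroup.of_card h1
      let P : Sylow p₀ G := ⟨H, hpg H hH.1, fun {Q} hQ hle =>
        le_antisymm (hH.2 (hpi Q hQ) hle) hle⟩
      let Q : Sylow p₀ G := ⟨K, hpg K hK.1, fun {Q} hQ hle =>
        le_antisymm (hK.2 (hpi Q hQ) hle) hle⟩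
      obtain ⟨g, hg⟩ := MulAction.exists_smul_eq G P Q
      refine ⟨g, ?_⟩
      have h1 : (Q : Subgroup G) = MulAut.conj g • (P : Subgroup G) := by
        rw [← hg]; rfl
      exact h1
    · have hb : ∀ Q : Subgroup G, Cfsg.IsPiSubgroup π Q → Q = ⊥ := by
        intro Q hQ
        apply Subgroup.eq_bot_of_card_eq
        by_contra hne
        obtain ⟨s, hs, hsd⟩ := Nat.exists_prime_and_dvd hne
        exact hex ⟨s, hs, hQ s hs hsd⟩
      refine ⟨1, ?_⟩
      rw [hb H hH.1, hb K hK.1]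
      simp
  · have ht : ∀ Q : Subgroup G, Maximal (Cfsg.IsPiSubgroup π) Q → Q = ⊤ := by
      intro Q hQ
      exact top_le_iff.mp (hQ.2 (fun p hp _ => h p hp) le_top)
    refine ⟨1, ?_⟩
    rw [ht H hH, ht K hK]
    simp

/-- a set of primes `π` with two primes and missing a prime: some finite group has no
Hall `π`-subgroup. -/
theorem exists_not_isEPiGroup (π : Set ℕ)
    (hbad : ¬ ((∀ p q : ℕ, p.Prime → q.Prime → p ∈ π → q ∈ π → p = q) ∨
      ∀ p : ℕ, p.Prime → p ∈ π)) :
    ∃ (G : Type) (_ : Group G) (_ : Finite G), ¬ Cfsg.IsEPiGroup π G := by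
  classical
  rw [not_or] at hbad
  obtain ⟨h1, h2⟩ := hbad
  push_neg at h1 h2
  obtain ⟨p, q, hp, hq, hpπ, hqπ, hpq⟩ := h1
  obtain ⟨r, hr, hrπ⟩ := h2
  by_cases h2π : 2 ∈ π
  · by_cases hA : ∃ p' r' : ℕ, p'.Prime ∧ r'.Prime ∧ p' ∈ π ∧ r' ∉ π ∧ r' < p'
    · obtain ⟨p', r', hp', hr', hp'π, hr'π, hlt⟩ := hA
      exact ⟨Perm (Fin p'), inferInstance, inferInstance,
        not_hall_perm_of_two π p' r' hp' hr' h2π hp'π hr'π hlt⟩
    · push_neg at hA
      have hex : ∃ n : ℕ, n.Prime ∧ n ∉ π := ⟨r, hr, hrπ⟩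
      obtain ⟨hr₀, hr₀π⟩ := Nat.find_spec hex
      have hmin : ∀ s : ℕ, s.Prime → s < Nat.find hex → s ∈ π := by
        intro s hs hlt
        by_contra hsπ
        exact Nat.find_min hex hlt ⟨hs, hsπ⟩
      obtain ⟨r₀, hr₀def⟩ : ∃ r₀, r₀ = Nat.find hex := ⟨_, rfl⟩
      rw [← hr₀def] at hr₀ hr₀π hmin
      have hr5 : 5 ≤ r₀ := by
        by_contra hlt
        have h2le := hr₀.two_le
        have h3 : r₀ = 3 := by
          interval_cases r₀
          · exact absurd h2π hr₀π
          · rfl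
          · norm_num at hr₀
        subst h3
        -- a prime of π other than 2
        obtain ⟨x, hx, hxπ, hx2⟩ : ∃ x : ℕ, x.Prime ∧ x ∈ π ∧ x ≠ 2 := by
          by_cases hp2 : p = 2
          · exact ⟨q, hq, hqπ, fun h => hpq (hp2.trans h.symm)⟩
          · exact ⟨p, hp, hpπ, hp2⟩
        have hx3 : x ≤ 3 := hA x 3 hx hr₀ hxπ hr₀π
        have hx2' := hx.two_le
        interval_cases x
        · exact hx2 rfl
        · exact hr₀π hxπ
      exact ⟨alternatingGroup (Fin (r₀ + 1)), inferInstance, inferInstance,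
        not_hall_alt π r₀ hr₀ hr5 hmin hr₀π⟩
  · rcases lt_or_gt_of_ne hpq with hlt | hlt
    · exact ⟨Perm (Fin q), inferInstance, inferInstance,
        not_hall_perm_of_odd π q p hq hp h2π hqπ hpπ hlt⟩
    · exact ⟨Perm (Fin p), inferInstance, inferInstance,
        not_hall_perm_of_odd π p q hp hq h2π hpπ hqπ hlt⟩

end Cfsg.Agent.Lib.helper69
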