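import Mathlib
import Cfsg.Agent.Lib.helper69.SchurCover

/-!
# Hopf's formula for an arbitrary presentation

For a surjection `π : F →* Q` with kernel `R`, `PresCov π = F/[F,R]` is a central extension
`presHom π` of `Q`.  If `π` lifts to the universal central extension `CovGroup Q` (e.g. `F` free),
then `ker (presHom π) ⊓ commutator (PresCov π)` is the Schur multiplier of `Q`.
-/

set_option autoImplicit false

namespace Cfsg.Agent.Lib.helper69

universe u v w

open scoped commutatorElement

section general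

variable {F : Type w} [Group F] {Q : Type u} [Group Q] (π : F →* Q)

/-- `[F, R]` for `R = ker π`. -/
def presComm : Subgroup F := ⁅(⊤ : Subgroup F), π.ker⁆

instance presComm_normal : (presComm π).Normal := by
  unfold presComm; infer_instance

theorem presComm_le_ker : presComm π ≤ π.ker := Subgroup.commutator_le_right _ _

/-- `F/[F,R]`. -/
abbrev PresCov : Type w := F ⧸ presComm π

/-- The projection `F/[F,R] → Q`. -/
def presHom : PresCov π →* Q := QuotientGroup.lift (presComm π) π (presComm_le_ker π)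

theorem presHom_mk (f : F) : presHom π (QuotientGroup.mk f) = π f := rfl

theorem presHom_surjective (hπ : Function.Surjective π) : Function.Surjective (presHom π) :=
  fun q => by
    obtain ⟨f, hf⟩ := hπ q
    exact ⟨QuotientGroup.mk f, hf⟩

theorem presHom_ker_le_center : (presHom π).ker ≤ Subgroup.center (PresCov π) := by
  intro e he
  obtain ⟨f, rfl⟩ := QuotientGroup.mk_surjective e
  have hf : f ∈ π.ker := he
  rw [Subgroup.mem_center_iff]
  intro g
  obtain ⟨g', rfl⟩ := QuotientGroup.mk_surjective g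
  rw [← QuotientGroup.mk_mul, ← QuotientGroup.mk_mul, QuotientGroup.eq]
  have h1 : ⁅g'⁻¹, f⁻¹⁆ ∈ presComm π :=
    Subgroup.commutator_mem_commutator (Subgroup.mem_top _) (Subgroup.inv_mem _ hf)
  have h2 : (g' * f)⁻¹ * (f * g') = ⁅g'⁻¹, f⁻¹⁆⁻¹ := by
    rw [commutatorElement_def]; group
  rw [h2]
  exact Subgroup.inv_mem _ h1

theorem presHom_ker_eq_map : (presHom π).ker = π.ker.map (QuotientGroup.mk' (presComm π)) := by
  ext e
  obtain ⟨f, rfl⟩ := QuotientGroup.mk_surjective e
  constructor
  · intro he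
    exact ⟨f, he, rfl⟩
  · rintro ⟨f', hf', h⟩
    rw [MonoidHom.mem_ker, ← h]
    exact hf'

/-- A lift of `π` to a central extension of `Q` descends to `F/[F,R]`. -/
theorem exists_lift_presHom {Δ : Type v} [Group Δ] (τ : Δ →* Q)
    (hker : τ.ker ≤ Subgroup.center Δ) (θ₀ : F →* Δ) (h0 : τ.comp θ₀ = π) :
    ∃ θ : PresCov π →* Δ, τ.comp θ = presHom π ∧ ∀ f : F, θ (QuotientGroup.mk f) = θ₀ f := by
  have hle : presComm π ≤ θ₀.ker := by
    unfold presComm
    rw [Subgroup.commutator_le]
    intro g₁ _ g₂ hg₂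
    rw [MonoidHom.mem_ker, map_commutatorElement, commutatorElement_eq_one_iff_commute]
    have h1 : θ₀ g₂ ∈ τ.ker := by
      rw [MonoidHom.mem_ker]
      have h2 : τ (θ₀ g₂) = π g₂ := DFunLike.congr_fun h0 g₂
      rw [h2]; exact MonoidHom.mem_ker.mp hg₂
    exact (Subgroup.mem_center_iff.mp (hker h1)) (θ₀ g₁)
  refine ⟨QuotientGroup.lift (presComm π) θ₀ hle, ?_, fun f => rfl⟩
  apply MonoidHom.ext
  intro x
  obtain ⟨f, rfl⟩ := QuotientGroup.mk_surjective x
  exact DFunLike.congr_fun h0 f

/-- The map `F/[F,R] → F/F'`. -/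
def presAb : PresCov π →* Abelianization F :=
  QuotientGroup.lift (presComm π) Abelianization.of (by
    rw [Abelianization.ker_of]
    exact Subgroup.commutator_mono le_top le_top)

theorem presAb_mk (f : F) : presAb π (QuotientGroup.mk f) = Abelianization.of f := rfl

theorem presAb_ker_le : (presAb π).ker ≤ commutator (PresCov π) := by
  intro e he
  obtain ⟨f, rfl⟩ := QuotientGroup.mk_surjective e
  have hf : f ∈ commutator F := by
    rw [← Abelianization.ker_of]; exact he
  have h1 : (QuotientGroup.mk' (presComm π)) f ∈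
      (commutator F).map (QuotientGroup.mk' (presComm π)) := Subgroup.mem_map_of_mem _ hf
  rw [commutator_def, Subgroup.map_commutator] at h1
  exact Subgroup.commutator_mono le_top le_top h1

theorem commutator_le_presAb_ker : commutator (PresCov π) ≤ (presAb π).ker :=
  Abelianization.commutator_subset_ker _

end general

/-- Comparison lemma: a central extension of the finite group `Q` that maps to the universal
central extension `CovGroup Q` over `Q` has multiplier part isomorphic to `Mult Q`. -/
theorem nonempty_mulEquiv_mult_of_lift {Q : Type u} [Group Q] [Finite Q] {E : Type w} [Group E]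
    (ρ : E →* Q) (hρ : Function.Surjective ρ) (hker : ρ.ker ≤ Subgroup.center E)
    (θ : E →* CovGroup Q) (hθ : (covHom Q).comp θ = ρ) :
    Nonempty (Mult Q ≃* ↥(ρ.ker ⊓ commutator E)) := by
  obtain ⟨π₁, hπ₁, -⟩ := exists_surjective_mult_of_lift ρ (covHom Q) θ hρ hker
    (covHom_ker_le_center Q) hθ
  obtain ⟨π₂, hπ₂⟩ := exists_surjective_mult_of_central Q ρ hρ hker
  -- `multOf ρ ≃ ker ρ ⊓ E'`
  have hle : ρ.ker ⊓ commutator E ≤ Subgroup.center E := inf_le_left.trans hker
  let e₁ : multOf ρ ≃* ↥(ρ.ker ⊓ commutator E) := Subgroup.subgroupOfEquivOfLe hle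
  have hle' : (covHom Q).ker ⊓ commutator (CovGroup Q) ≤ Subgroup.center (CovGroup Q) :=
    inf_le_left.trans (covHom_ker_le_center Q)
  let e₂ : Mult Q ≃* ↥((covHom Q).ker ⊓ commutator (CovGroup Q)) :=
    Subgroup.subgroupOfEquivOfLe hle'
  haveI : Finite ↥(ρ.ker ⊓ commutator E) := Finite.of_surjective π₂ hπ₂
  have hc1 : Nat.card ↥(ρ.ker ⊓ commutator E) ≤ Nat.card (Mult Q) :=
    Nat.card_le_card_of_surjective π₂ hπ₂
  have hc2 : Nat.card (Mult Q) ≤ Nat.card ↥(ρ.ker ⊓ commutator E) := by
    have h1 : Function.Surjective (fun x : ↥(ρ.ker ⊓ commutator E) => e₂.symm (π₁ (e₁.symm x))) :=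
      e₂.symm.surjective.comp (hπ₁.comp e₁.symm.surjective)
    exact Nat.card_le_card_of_surjective _ h1
  have hcard : Nat.card (Mult Q) = Nat.card ↥(ρ.ker ⊓ commutator E) := le_antisymm hc2 hc1
  have hbij : Function.Bijective π₂ :=
    (Nat.bijective_iff_surjective_and_card π₂).mpr ⟨hπ₂, hcard⟩
  exact ⟨MulEquiv.ofBijective π₂ hbij⟩

/-- Hopf's formula for a free presentation `π : FreeGroup X → Q` of a finite group. -/
theorem nonempty_mulEquiv_of_free {X : Type w} {Q : Type u} [Group Q] [Finite Q]
    (π : FreeGroup X →* Q) (hπ : Function.Surjective π) {A : Type v} [CommGroup A]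
    (hA : Cfsg.HasSchurMultiplier Q A) :
    Nonempty (A ≃* ↥((presHom π).ker ⊓ commutator (PresCov π))) := by
  let s : Q → CovGroup Q := Function.surjInv (covHom_surjective Q)
  have hs : ∀ q, covHom Q (s q) = q := Function.surjInv_eq (covHom_surjective Q)
  let θ₀ : FreeGroup X →* CovGroup Q := FreeGroup.lift (fun x => s (π (FreeGroup.of x)))
  have h0 : (covHom Q).comp θ₀ = π := by
    apply FreeGroup.ext_hom
    intro x
    show covHom Q (FreeGroup.lift (fun x => s (π (FreeGroup.of x))) (FreeGroup.of x)) = _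
    rw [FreeGroup.lift_apply_of, hs]
  obtain ⟨θ, hθ, -⟩ := exists_lift_presHom π (covHom Q) (covHom_ker_le_center Q) θ₀ h0
  obtain ⟨e⟩ := nonempty_mulEquiv_mult_of_lift (presHom π) (presHom_surjective π hπ)
    (presHom_ker_le_center π) θ hθ
  obtain ⟨e'⟩ := mulEquiv_mult_of_hasSchurMultiplier hA
  exact ⟨e'.trans e⟩

end Cfsg.Agent.Lib.helper69
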