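import Mathlib
import Cfsg.Prelude.Def_KGroupFacts

/-!
# Central extensions twisted by a tensor pairing

`TensExt a₁ a₂` is the central extension of `G` by `M ⊗[ℤ] N` with multiplication
`(g, c) (h, d) = (g h, c + d + a₁ g ⊗ a₂ h)`, for `a₁ : G →* Multiplicative M`,
`a₂ : G →* Multiplicative N`.  (owner: helper69)
-/

set_option autoImplicit false

universe u v w

namespace Cfsg.Agent.Lib.helper69

open scoped commutatorElement TensorProduct

/-- Finite abelian groups have finite tensor product. -/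
theorem finite_tensorProduct (M : Type v) (N : Type w) [AddCommGroup M] [AddCommGroup N]
    [Finite M] [Finite N] : Finite (M ⊗[ℤ] N) := by
  haveI : Module.Finite ℤ M := Module.Finite.of_finite
  haveI : Module.Finite ℤ N := Module.Finite.of_finite
  haveI : AddGroup.FG (M ⊗[ℤ] N) :=
    Module.Finite.iff_addGroup_fg.mp (Module.Finite.tensorProduct ℤ M N)
  apply AddCommGroup.finite_of_fg_torsion
  intro x
  rw [isOfFinAddOrder_iff_nsmul_eq_zero]
  refine ⟨Nat.card M, Nat.card_pos, ?_⟩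
  induction x using TensorProduct.induction_on with
  | zero => simp
  | tmul m n =>
    rw [← natCast_zsmul, TensorProduct.smul_tmul', natCast_zsmul, card_nsmul_eq_zero',
      TensorProduct.zero_tmul]
  | add x y hx hy => rw [nsmul_add, hx, hy, add_zero]

/-- The twisted extension of `G` by `M ⊗ N`. -/
@[ext] structure TensExt {G : Type u} {M : Type v} {N : Type w} [Group G] [AddCommGroup M]
    [AddCommGroup N] (a₁ : G →* Multiplicative M) (a₂ : G →* Multiplicative N) where
  /-- the component in `G` -/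
  g : G
  /-- the central component -/
  c : M ⊗[ℤ] N

namespace TensExt

variable {G : Type u} {M : Type v} {N : Type w} [Group G] [AddCommGroup M] [AddCommGroup N]
  (a₁ : G →* Multiplicative M) (a₂ : G →* Multiplicative N)

instance instGroup : Group (TensExt a₁ a₂) where
  mul x y := ⟨x.g * y.g, x.c + y.c + Multiplicative.toAdd (a₁ x.g) ⊗ₜ[ℤ] Multiplicative.toAdd (a₂ y.g)⟩
  one := ⟨1, 0⟩
  inv x := ⟨x.g⁻¹, -x.c + Multiplicative.toAdd (a₁ x.g) ⊗ₜ[ℤ] Multiplicative.toAdd (a₂ x.g)⟩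
  mul_assoc x y z := by
    apply TensExt.ext
    · exact mul_assoc _ _ _
    · show x.c + y.c + Multiplicative.toAdd (a₁ x.g) ⊗ₜ[ℤ] Multiplicative.toAdd (a₂ y.g) + z.c +
          Multiplicative.toAdd (a₁ (x.g * y.g)) ⊗ₜ[ℤ] Multiplicative.toAdd (a₂ z.g) =
        x.c + (y.c + z.c + Multiplicative.toAdd (a₁ y.g) ⊗ₜ[ℤ] Multiplicative.toAdd (a₂ z.g)) +
          Multiplicative.toAdd (a₁ x.g) ⊗ₜ[ℤ] Multiplicative.toAdd (a₂ (y.g * z.g))
      rw [map_mul a₁, map_mul a₂, toAdd_mul, toAdd_mul, TensorProduct.add_tmul,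
        TensorProduct.tmul_add]
      abel
  one_mul x := by
    apply TensExt.ext
    · exact one_mul _
    · show 0 + x.c + Multiplicative.toAdd (a₁ 1) ⊗ₜ[ℤ] Multiplicative.toAdd (a₂ x.g) = x.c
      rw [map_one a₁, toAdd_one, TensorProduct.zero_tmul]; abel
  mul_one x := by
    apply TensExt.ext
    · exact mul_one _
    · show x.c + 0 + Multiplicative.toAdd (a₁ x.g) ⊗ₜ[ℤ] Multiplicative.toAdd (a₂ 1) = x.c
      rw [map_one a₂, toAdd_one, TensorProduct.tmul_zero]; abel
  inv_mul_cancel x := by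
    apply TensExt.ext
    · exact inv_mul_cancel _
    · show -x.c + Multiplicative.toAdd (a₁ x.g) ⊗ₜ[ℤ] Multiplicative.toAdd (a₂ x.g) + x.c +
          Multiplicative.toAdd (a₁ x.g⁻¹) ⊗ₜ[ℤ] Multiplicative.toAdd (a₂ x.g) = 0
      rw [map_inv a₁, toAdd_inv, TensorProduct.neg_tmul]; abel

@[simp] theorem mul_g (x y : TensExt a₁ a₂) : (x * y).g = x.g * y.g := rfl
@[simp] theorem mul_c (x y : TensExt a₁ a₂) :
    (x * y).c = x.c + y.c + Multiplicative.toAdd (a₁ x.g) ⊗ₜ[ℤ] Multiplicative.toAdd (a₂ y.g) := rfl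
@[simp] theorem one_g : (1 : TensExt a₁ a₂).g = 1 := rfl
@[simp] theorem one_c : (1 : TensExt a₁ a₂).c = 0 := rfl
@[simp] theorem inv_g (x : TensExt a₁ a₂) : x⁻¹.g = x.g⁻¹ := rfl
@[simp] theorem inv_c (x : TensExt a₁ a₂) :
    x⁻¹.c = -x.c + Multiplicative.toAdd (a₁ x.g) ⊗ₜ[ℤ] Multiplicative.toAdd (a₂ x.g) := rfl

theorem finite [Finite G] [Finite M] [Finite N] : Finite (TensExt a₁ a₂) := by
  haveI := finite_tensorProduct M N
  exact Finite.of_injective (fun x : TensExt a₁ a₂ => (x.g, x.c))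
    (fun _ _ h => TensExt.ext (congrArg Prod.fst h) (congrArg Prod.snd h))

/-- The projection of the twisted extension onto `G`. -/
def proj : TensExt a₁ a₂ →* G where
  toFun x := x.g
  map_one' := rfl
  map_mul' _ _ := rfl

@[simp] theorem proj_apply (x : TensExt a₁ a₂) : proj a₁ a₂ x = x.g := rfl

theorem proj_surjective : Function.Surjective (proj a₁ a₂) := fun g => ⟨⟨g, 0⟩, rfl⟩

/-- The commutator of two lifts of commuting elements. -/
theorem commutator_mk (g h : G) (hgh : g * h = h * g) :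
    ⁅(⟨g, 0⟩ : TensExt a₁ a₂), (⟨h, 0⟩ : TensExt a₁ a₂)⁆ =
      (⟨1, Multiplicative.toAdd (a₁ g) ⊗ₜ[ℤ] Multiplicative.toAdd (a₂ h) -
        Multiplicative.toAdd (a₁ h) ⊗ₜ[ℤ] Multiplicative.toAdd (a₂ g)⟩ : TensExt a₁ a₂) := by
  rw [commutatorElement_def]
  apply TensExt.ext
  · simp only [mul_g, inv_g]
    rw [hgh]; group
  · simp only [mul_g, inv_g, mul_c, inv_c, map_mul a₁, map_inv a₁, map_inv a₂, toAdd_mul, toAdd_inv,
      TensorProduct.add_tmul, TensorProduct.neg_tmul, TensorProduct.tmul_neg]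
    abel

/-- A homomorphism into `G` on which `a₂` is trivial lifts to the twisted extension. -/
def liftHom {H : Type*} [Group H] (j : H →* G) (hj : ∀ h, a₂ (j h) = 1) : H →* TensExt a₁ a₂ where
  toFun h := ⟨j h, 0⟩
  map_one' := by
    apply TensExt.ext
    · exact map_one j
    · rfl
  map_mul' x y := by
    apply TensExt.ext
    · exact map_mul j x y
    · show (0 : M ⊗[ℤ] N) = 0 + 0 + Multiplicative.toAdd (a₁ (j x)) ⊗ₜ[ℤ] Multiplicative.toAdd (a₂ (j y))
      rw [hj y, toAdd_one, TensorProduct.tmul_zero]; abel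

/-- A homomorphism into `G` on which `a₁` is trivial lifts to the twisted extension. -/
def liftHom' {H : Type*} [Group H] (j : H →* G) (hj : ∀ h, a₁ (j h) = 1) : H →* TensExt a₁ a₂ where
  toFun h := ⟨j h, 0⟩
  map_one' := by
    apply TensExt.ext
    · exact map_one j
    · rfl
  map_mul' x y := by
    apply TensExt.ext
    · exact map_mul j x y
    · show (0 : M ⊗[ℤ] N) = 0 + 0 + Multiplicative.toAdd (a₁ (j x)) ⊗ₜ[ℤ] Multiplicative.toAdd (a₂ (j y))
      rw [hj x, toAdd_one, TensorProduct.zero_tmul]; abel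

/-- The central elements `(1, c)`. -/
def inrHom : Multiplicative (M ⊗[ℤ] N) →* TensExt a₁ a₂ where
  toFun c := ⟨1, Multiplicative.toAdd c⟩
  map_one' := rfl
  map_mul' x y := by
    apply TensExt.ext
    · exact (one_mul 1).symm
    · show Multiplicative.toAdd (x * y) = Multiplicative.toAdd x + Multiplicative.toAdd y +
        Multiplicative.toAdd (a₁ 1) ⊗ₜ[ℤ] Multiplicative.toAdd (a₂ 1)
      rw [map_one a₁, toAdd_one, TensorProduct.zero_tmul, add_zero]; rfl

end TensExt

end Cfsg.Agent.Lib.helper69
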