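import Mathlib
import Cfsg.Prelude.Def_KGroupFacts
import Cfsg.Agent.Lib.helper69.SchurCover
import Cfsg.Agent.Lib.helper69.TensExt

/-!
# The Schur multiplier of a direct product (Künneth formula, S3959)
-/

set_option autoImplicit false

universe u v w

namespace Cfsg.Agent.Lib.helper69

open scoped commutatorElement TensorProduct

/-- `⁅a * b, c⁆ = ⁅a, c⁆ * ⁅b, c⁆` when `⁅b, c⁆` is central. -/
theorem commutatorElement_mul_left_of_mem_center {Γ : Type*} [Group Γ] (a b c : Γ)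
    (h : ⁅b, c⁆ ∈ Subgroup.center Γ) : ⁅a * b, c⁆ = ⁅a, c⁆ * ⁅b, c⁆ := by
  have hz := Subgroup.mem_center_iff.mp h
  rw [commutatorElement_def] at hz h
  rw [commutatorElement_def, commutatorElement_def, commutatorElement_def]
  calc a * b * c * (a * b)⁻¹ * c⁻¹ = a * ((b * c * b⁻¹ * c⁻¹) * (c * a⁻¹ * c⁻¹)) := by group
    _ = a * ((c * a⁻¹ * c⁻¹) * (b * c * b⁻¹ * c⁻¹)) := by rw [hz (c * a⁻¹ * c⁻¹)]
    _ = a * c * a⁻¹ * c⁻¹ * (b * c * b⁻¹ * c⁻¹) := by group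

/-- `⁅a, b * c⁆ = ⁅a, b⁆ * ⁅a, c⁆` when `⁅a, c⁆` is central. -/
theorem commutatorElement_mul_right_of_mem_center {Γ : Type*} [Group Γ] (a b c : Γ)
    (h : ⁅a, c⁆ ∈ Subgroup.center Γ) : ⁅a, b * c⁆ = ⁅a, b⁆ * ⁅a, c⁆ := by
  have hz := Subgroup.mem_center_iff.mp h
  rw [commutatorElement_def] at hz h
  rw [commutatorElement_def, commutatorElement_def, commutatorElement_def]
  calc a * (b * c) * a⁻¹ * (b * c)⁻¹ = a * b * a⁻¹ * ((a * c * a⁻¹ * c⁻¹) * b⁻¹) := by group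
    _ = a * b * a⁻¹ * (b⁻¹ * (a * c * a⁻¹ * c⁻¹)) := by rw [hz b⁻¹]
    _ = a * b * a⁻¹ * b⁻¹ * (a * c * a⁻¹ * c⁻¹) := by group

/-- A bimultiplicative pairing `Q₁ × Q₂ → K` into a commutative group induces a homomorphism from
the tensor product of the abelianizations. -/
theorem exists_tensor_hom {Q₁ : Type u} {Q₂ : Type v} [Group Q₁] [Group Q₂] {K : Type w}
    [CommGroup K] (P : Q₁ → Q₂ → K) (hP₁ : ∀ a b c, P (a * b) c = P a c * P b c)
    (hP₂ : ∀ a b c, P a (b * c) = P a b * P a c) :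
    ∃ T : Multiplicative (Additive (Abelianization Q₁) ⊗[ℤ] Additive (Abelianization Q₂)) →* K,
      ∀ (a : Q₁) (b : Q₂), T (Multiplicative.ofAdd
        (Additive.ofMul (Abelianization.of a) ⊗ₜ[ℤ] Additive.ofMul (Abelianization.of b))) = P a b := by
  let P₁ : Q₁ →* (Q₂ →* K) :=
    MonoidHom.mk' (fun a => MonoidHom.mk' (fun b => P a b) (fun b c => hP₂ a b c))
      (fun a b => by
        ext c
        exact hP₁ a b c)
  let L : (Q₂ →* K) →* (Abelianization Q₂ →* K) :=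
    MonoidHom.mk' (fun f => Abelianization.lift f) (fun f g => by
      apply Abelianization.hom_ext
      ext x
      simp)
  let P₂ : Abelianization Q₁ →* (Abelianization Q₂ →* K) := Abelianization.lift (L.comp P₁)
  have hP₂val : ∀ a b, P₂ (Abelianization.of a) (Abelianization.of b) = P a b := by
    intro a b
    show (Abelianization.lift (L.comp P₁) (Abelianization.of a)) (Abelianization.of b) = P a b
    rw [Abelianization.lift_apply_of]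
    show Abelianization.lift (P₁ a) (Abelianization.of b) = P a b
    rw [Abelianization.lift_apply_of]
    rfl
  let t₀ : Additive (Abelianization Q₁) →+ (Additive (Abelianization Q₂) →+ Additive K) :=
    AddMonoidHom.mk' (fun m => MonoidHom.toAdditive (P₂ (Additive.toMul m))) (fun m m' => by
      apply AddMonoidHom.ext
      intro n
      show Additive.ofMul (P₂ (Additive.toMul (m + m')) (Additive.toMul n)) = _
      rw [toMul_add, map_mul]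
      rfl)
  have hbal : ∀ (r : ℤ) (m : Additive (Abelianization Q₁)) (n : Additive (Abelianization Q₂)),
      t₀ (r • m) n = t₀ m (r • n) := by
    intro r m n
    rw [map_zsmul, AddMonoidHom.zsmul_apply, map_zsmul]
  let T₀ : (Additive (Abelianization Q₁) ⊗[ℤ] Additive (Abelianization Q₂)) →+ Additive K :=
    TensorProduct.liftAddHom t₀ hbal
  refine ⟨AddMonoidHom.toMultiplicativeLeft T₀, fun a b => ?_⟩
  show Additive.toMul (T₀ (Additive.ofMul (Abelianization.of a) ⊗ₜ[ℤ]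
    Additive.ofMul (Abelianization.of b))) = P a b
  rw [TensorProduct.liftAddHom_tmul]
  exact hP₂val a b


/-- The universal property for the direct product: the kernel of every stem extension of
`Q₁ × Q₂` is an image of `A × B × (Q₁ᵃᵇ ⊗ Q₂ᵃᵇ)`. -/
theorem exists_surjective_prod_tensor {Q₁ : Type u} {Q₂ : Type v} [Group Q₁] [Group Q₂]
    [Finite Q₁] [Finite Q₂] {A B : Type w} [CommGroup A] [CommGroup B]
    (hA : Cfsg.HasSchurMultiplier Q₁ A) (hB : Cfsg.HasSchurMultiplier Q₂ B)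
    (Γ : Type (max u v)) [Group Γ] (σ : Γ →* Q₁ × Q₂) (hσ : Cfsg.IsStemExtension σ) :
    ∃ π : A × B × Multiplicative (Additive (Abelianization Q₁) ⊗[ℤ]
      Additive (Abelianization Q₂)) →* σ.ker, Function.Surjective π := by
  classical
  obtain ⟨hsurj, hcen, hder⟩ := hσ
  letI : CommGroup σ.ker :=
    { (inferInstance : Group σ.ker) with
      mul_comm := fun a b => Subtype.ext (Subgroup.mem_center_iff.mp (hcen b.2) (a : Γ)) }
  obtain ⟨Γ₁, hΓ₁⟩ : ∃ S : Subgroup Γ, S = ((MonoidHom.snd Q₁ Q₂).comp σ).ker := ⟨_, rfl⟩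
  obtain ⟨Γ₂, hΓ₂⟩ : ∃ S : Subgroup Γ, S = ((MonoidHom.fst Q₁ Q₂).comp σ).ker := ⟨_, rfl⟩
  have hn₁ : Γ₁.Normal := hΓ₁ ▸ MonoidHom.normal_ker _
  have hn₂ : Γ₂.Normal := hΓ₂ ▸ MonoidHom.normal_ker _
  have hm₁ : ∀ x : Γ, x ∈ Γ₁ ↔ (σ x).2 = 1 := by intro x; rw [hΓ₁]; rfl
  have hm₂ : ∀ x : Γ, x ∈ Γ₂ ↔ (σ x).1 = 1 := by intro x; rw [hΓ₂]; rfl
  have hcc : ∀ x ∈ Γ₁, ∀ y ∈ Γ₂, ⁅x, y⁆ ∈ σ.ker := by
    intro x hx y hy
    rw [MonoidHom.mem_ker, map_commutatorElement, commutatorElement_def]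
    rw [hm₁] at hx; rw [hm₂] at hy
    apply Prod.ext
    · simp [hy]
    · simp [hx]
  have hτ₁s : Function.Surjective ((MonoidHom.fst Q₁ Q₂).comp (σ.comp Γ₁.subtype)) := by
    intro q
    obtain ⟨x, hx⟩ := hsurj (q, 1)
    exact ⟨⟨x, (hm₁ x).2 (by rw [hx])⟩, by change (σ x).1 = q; rw [hx]⟩
  have hτ₂s : Function.Surjective ((MonoidHom.snd Q₁ Q₂).comp (σ.comp Γ₂.subtype)) := by
    intro q
    obtain ⟨x, hx⟩ := hsurj (1, q)
    exact ⟨⟨x, (hm₂ x).2 (by rw [hx])⟩, by change (σ x).2 = q; rw [hx]⟩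
  have hτ₁k : ∀ x : Γ₁, ((MonoidHom.fst Q₁ Q₂).comp (σ.comp Γ₁.subtype)) x = 1 →
      (x : Γ) ∈ σ.ker := by
    intro x hx
    rw [MonoidHom.mem_ker]
    exact Prod.ext hx ((hm₁ x).1 x.2)
  have hτ₂k : ∀ x : Γ₂, ((MonoidHom.snd Q₁ Q₂).comp (σ.comp Γ₂.subtype)) x = 1 →
      (x : Γ) ∈ σ.ker := by
    intro x hx
    rw [MonoidHom.mem_ker]
    exact Prod.ext ((hm₂ x).1 x.2) hx
  generalize hτ₁def : (MonoidHom.fst Q₁ Q₂).comp (σ.comp Γ₁.subtype) = τ₁ at hτ₁s hτ₁k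
  generalize hτ₂def : (MonoidHom.snd Q₁ Q₂).comp (σ.comp Γ₂.subtype) = τ₂ at hτ₂s hτ₂k
  -- the commutator pairing
  let s₁ : Q₁ → Γ := fun q => Function.surjInv hsurj (q, 1)
  let s₂ : Q₂ → Γ := fun q => Function.surjInv hsurj (1, q)
  have hs₁ : ∀ q, σ (s₁ q) = (q, 1) := fun q => Function.surjInv_eq hsurj _
  have hs₂ : ∀ q, σ (s₂ q) = (1, q) := fun q => Function.surjInv_eq hsurj _
  have hs₁m : ∀ q, s₁ q ∈ Γ₁ := fun q => (hm₁ _).2 (by rw [hs₁])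
  have hs₂m : ∀ q, s₂ q ∈ Γ₂ := fun q => (hm₂ _).2 (by rw [hs₂])
  let P : Q₁ → Q₂ → σ.ker := fun a b => ⟨⁅s₁ a, s₂ b⁆, hcc _ (hs₁m a) _ (hs₂m b)⟩
  have hPval : ∀ x ∈ Γ₁, ∀ y ∈ Γ₂, ((P (σ x).1 (σ y).2 : σ.ker) : Γ) = ⁅x, y⁆ := by
    intro x hx y hy
    show ⁅s₁ (σ x).1, s₂ (σ y).2⁆ = ⁅x, y⁆
    apply commutatorElement_eq_of_map_eq σ hcen
    · rw [hs₁]; exact Prod.ext rfl ((hm₁ x).1 hx).symm
    · rw [hs₂]; exact Prod.ext ((hm₂ y).1 hy).symm rfl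
  have hP₁ : ∀ a b c, P (a * b) c = P a c * P b c := by
    intro a b c
    apply Subtype.ext
    have h1 := hPval (s₁ a * s₁ b) (Γ₁.mul_mem (hs₁m a) (hs₁m b)) (s₂ c) (hs₂m c)
    rw [map_mul, hs₁, hs₁, hs₂] at h1
    have h2 : ((P (a * b) c : σ.ker) : Γ) = ⁅s₁ a * s₁ b, s₂ c⁆ := h1
    rw [h2, commutatorElement_mul_left_of_mem_center _ _ _ (hcen (hcc _ (hs₁m b) _ (hs₂m c)))]
    rfl
  have hP₂ : ∀ a b c, P a (b * c) = P a b * P a c := by
    intro a b c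
    apply Subtype.ext
    have h1 := hPval (s₁ a) (hs₁m a) (s₂ b * s₂ c) (Γ₂.mul_mem (hs₂m b) (hs₂m c))
    rw [map_mul, hs₁, hs₂, hs₂] at h1
    have h2 : ((P a (b * c) : σ.ker) : Γ) = ⁅s₁ a, s₂ b * s₂ c⁆ := h1
    rw [h2, commutatorElement_mul_right_of_mem_center _ _ _ (hcen (hcc _ (hs₁m a) _ (hs₂m c)))]
    rfl
  obtain ⟨T, hT⟩ := exists_tensor_hom P hP₁ hP₂
  -- the decomposition of the commutator subgroup
  have hdecomp : ∀ g : Γ, ∃ x₁ ∈ Γ₁, ∃ x₂ ∈ Γ₂, g = x₁ * x₂ := by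
    intro g
    obtain ⟨x₁, hx₁⟩ := hsurj ((σ g).1, 1)
    refine ⟨x₁, (hm₁ x₁).2 (by rw [hx₁]), x₁⁻¹ * g, (hm₂ _).2 ?_, by group⟩
    rw [map_mul, map_inv, hx₁]
    simp
  have hnc₁ : (⁅Γ₁, Γ₁⁆).Normal := Subgroup.commutator_normal Γ₁ Γ₁
  have hnc₂ : (⁅Γ₂, Γ₂⁆).Normal := Subgroup.commutator_normal Γ₂ Γ₂
  have hnc₁₂ : (⁅Γ₁, Γ₂⁆).Normal := Subgroup.commutator_normal Γ₁ Γ₂
  obtain ⟨H, hH⟩ : ∃ H : Subgroup Γ, H = ⁅Γ₁, Γ₁⁆ ⊔ ⁅Γ₂, Γ₂⁆ ⊔ ⁅Γ₁, Γ₂⁆ := ⟨_, rfl⟩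
  have hHn : H.Normal := by rw [hH]; infer_instance
  have hcomle : commutator Γ ≤ H := by
    rw [commutator_def, Subgroup.commutator_le]
    intro g _ h _
    obtain ⟨x₁, hx₁, x₂, hx₂, rfl⟩ := hdecomp g
    obtain ⟨y₁, hy₁, y₂, hy₂, rfl⟩ := hdecomp h
    have hcm : ∀ a b : Γ, ⁅a, b⁆ ∈ H →
        Commute (QuotientGroup.mk' H a) (QuotientGroup.mk' H b) := by
      intro a b hab
      rw [← commutatorElement_eq_one_iff_commute, ← map_commutatorElement]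
      exact (QuotientGroup.eq_one_iff _).mpr hab
    have c11 := hcm x₁ y₁ (by
      rw [hH]
      exact le_sup_of_le_left (le_sup_left (a := ⁅Γ₁, Γ₁⁆))
        (Subgroup.commutator_mem_commutator hx₁ hy₁))
    have c12 := hcm x₁ y₂ (by
      rw [hH]
      exact (le_sup_right (b := ⁅Γ₁, Γ₂⁆)) (Subgroup.commutator_mem_commutator hx₁ hy₂))
    have c21 := hcm x₂ y₁ (by
      rw [hH]
      refine (le_sup_right (b := ⁅Γ₁, Γ₂⁆)) ?_
      rw [Subgroup.commutator_comm]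
      exact Subgroup.commutator_mem_commutator hx₂ hy₁)
    have c22 := hcm x₂ y₂ (by
      rw [hH]
      exact le_sup_of_le_left (le_sup_right (b := ⁅Γ₂, Γ₂⁆))
        (Subgroup.commutator_mem_commutator hx₂ hy₂))
    have hc : Commute (QuotientGroup.mk' H (x₁ * x₂)) (QuotientGroup.mk' H (y₁ * y₂)) := by
      rw [map_mul, map_mul]
      exact Commute.mul_left (c11.mul_right c12) (c21.mul_right c22)
    rw [← commutatorElement_eq_one_iff_commute, ← map_commutatorElement] at hc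
    exact (QuotientGroup.eq_one_iff _).mp hc
  obtain ⟨π₁, hπ₁⟩ := exists_surjective_of_central hA τ₁ hτ₁s (by
    intro x hx
    rw [Subgroup.mem_center_iff]
    intro g
    apply Subtype.ext
    exact Subgroup.mem_center_iff.1 (hcen (hτ₁k x hx)) g)
  obtain ⟨π₂, hπ₂⟩ := exists_surjective_of_central hB τ₂ hτ₂s (by
    intro x hx
    rw [Subgroup.mem_center_iff]
    intro g
    apply Subtype.ext
    exact Subgroup.mem_center_iff.1 (hcen (hτ₂k x hx)) g)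
  let ι₁ : ↥(τ₁.ker ⊓ commutator Γ₁) →* σ.ker :=
    MonoidHom.codRestrict (Γ₁.subtype.comp (Subgroup.subtype _)) σ.ker
      (fun x => hτ₁k x.1 x.2.1)
  let ι₂ : ↥(τ₂.ker ⊓ commutator Γ₂) →* σ.ker :=
    MonoidHom.codRestrict (Γ₂.subtype.comp (Subgroup.subtype _)) σ.ker
      (fun x => hτ₂k x.1 x.2.1)
  obtain ⟨Pi, hPi⟩ : ∃ Pi : A × B × Multiplicative (Additive (Abelianization Q₁) ⊗[ℤ]
      Additive (Abelianization Q₂)) →* σ.ker, ∀ a b t, ((Pi (a, b, t) : σ.ker) : Γ) =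
      (((π₁ a : ↥(τ₁.ker ⊓ commutator Γ₁)) : Γ₁) : Γ) *
        ((((π₂ b : ↥(τ₂.ker ⊓ commutator Γ₂)) : Γ₂) : Γ) * ((T t : σ.ker) : Γ)) :=
    ⟨MonoidHom.coprod (ι₁.comp π₁) (MonoidHom.coprod (ι₂.comp π₂) T), fun a b t => rfl⟩
  refine ⟨Pi, ?_⟩
  rintro ⟨k, hk⟩
  have hk' := hcomle (hder hk)
  rw [hH] at hk'
  obtain ⟨u, hu, d, hd, hkud⟩ := Subgroup.mem_sup_of_normal_right.1 hk'
  obtain ⟨c₁, hc₁, c₂, hc₂, hu12⟩ := Subgroup.mem_sup_of_normal_right.1 hu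
  have hc₁Γ : c₁ ∈ Γ₁ := Subgroup.commutator_le_left Γ₁ Γ₁ hc₁
  have hc₂Γ : c₂ ∈ Γ₂ := Subgroup.commutator_le_left Γ₂ Γ₂ hc₂
  -- `d` is a value of `T`
  have hDle : ⁅Γ₁, Γ₂⁆ ≤ (T.range).map σ.ker.subtype := by
    rw [Subgroup.commutator_le]
    intro x hx y hy
    refine ⟨P (σ x).1 (σ y).2, ⟨_, hT _ _⟩, hPval x hx y hy⟩
  obtain ⟨dK, ⟨t, ht⟩, hdK⟩ := hDle hd
  have hdK' : (dK : Γ) = d := hdK
  have hdker : σ d = 1 := by rw [← hdK']; exact dK.2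
  have hσc : σ c₁ * σ c₂ = 1 := by
    have h0 : σ k = 1 := hk
    rw [← hkud, ← hu12, map_mul, map_mul, hdker, mul_one] at h0
    exact h0
  have h1 : σ c₁ = 1 := by
    apply Prod.ext
    · have h0 := congrArg Prod.fst hσc
      simp only [Prod.fst_mul, Prod.fst_one] at h0
      rw [(hm₂ c₂).1 hc₂Γ, mul_one] at h0
      exact h0
    · exact (hm₁ c₁).1 hc₁Γ
  have h2 : σ c₂ = 1 := by rw [h1, one_mul] at hσc; exact hσc
  rw [← Subgroup.map_subtype_commutator] at hc₁ hc₂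
  obtain ⟨d₁, hd₁, hd₁c⟩ := hc₁
  obtain ⟨d₂, hd₂, hd₂c⟩ := hc₂
  have hd₁c' : (d₁ : Γ) = c₁ := hd₁c
  have hd₂c' : (d₂ : Γ) = c₂ := hd₂c
  have hd₁k : d₁ ∈ τ₁.ker := by
    rw [MonoidHom.mem_ker, ← hτ₁def]
    change (σ (d₁ : Γ)).1 = 1
    rw [hd₁c', h1]; rfl
  have hd₂k : d₂ ∈ τ₂.ker := by
    rw [MonoidHom.mem_ker, ← hτ₂def]
    change (σ (d₂ : Γ)).2 = 1
    rw [hd₂c', h2]; rfl
  obtain ⟨a, ha⟩ := hπ₁ ⟨d₁, hd₁k, hd₁⟩
  obtain ⟨b, hb⟩ := hπ₂ ⟨d₂, hd₂k, hd₂⟩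
  refine ⟨(a, b, t), ?_⟩
  apply Subtype.ext
  rw [hPi, ha, hb, ht]
  change (d₁ : Γ) * ((d₂ : Γ) * (dK : Γ)) = k
  rw [hd₁c', hd₂c', hdK', ← mul_assoc, hu12, hkud]


/-- Existence of a stem extension of `Q₁ × Q₂` with kernel `ker σ₁ × ker σ₂ × (Q₁ᵃᵇ ⊗ Q₂ᵃᵇ)`,
given stem extensions `σᵢ` of `Qᵢ`. -/
theorem exists_stem_prod_tensor {Γ₁ : Type u} {Γ₂ : Type v} {Q₁ : Type u} {Q₂ : Type v}
    [Group Γ₁] [Group Γ₂] [Group Q₁] [Group Q₂] [Finite Γ₁] [Finite Γ₂] [Finite Q₁] [Finite Q₂]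
    (σ₁ : Γ₁ →* Q₁) (σ₂ : Γ₂ →* Q₂) (h₁ : Cfsg.IsStemExtension σ₁)
    (h₂ : Cfsg.IsStemExtension σ₂) :
    ∃ (Γ : Type (max u v)) (_ : Group Γ) (_ : Finite Γ) (σ : Γ →* Q₁ × Q₂),
      Cfsg.IsStemExtension σ ∧ Nonempty (σ.ker ≃* σ₁.ker × σ₂.ker ×
        Multiplicative (Additive (Abelianization Q₁) ⊗[ℤ] Additive (Abelianization Q₂))) := by
  classical
  obtain ⟨hs₁, hc₁, hd₁⟩ := h₁
  obtain ⟨hs₂, hc₂, hd₂⟩ := h₂
  let a₁ : Γ₁ × Γ₂ →* Multiplicative (Additive (Abelianization Q₁)) :=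
    { toFun := fun x => Multiplicative.ofAdd (Additive.ofMul (Abelianization.of (σ₁ x.1)))
      map_one' := by rw [Prod.fst_one, map_one, map_one]; rfl
      map_mul' := fun x y => by rw [Prod.fst_mul, map_mul, map_mul]; rfl }
  let a₂ : Γ₁ × Γ₂ →* Multiplicative (Additive (Abelianization Q₂)) :=
    { toFun := fun x => Multiplicative.ofAdd (Additive.ofMul (Abelianization.of (σ₂ x.2)))
      map_one' := by rw [Prod.snd_one, map_one, map_one]; rfl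
      map_mul' := fun x y => by rw [Prod.snd_mul, map_mul, map_mul]; rfl }
  have ha₁ : ∀ x : Γ₁ × Γ₂, σ₁ x.1 = 1 → a₁ x = 1 := by
    intro x hx
    show Multiplicative.ofAdd (Additive.ofMul (Abelianization.of (σ₁ x.1))) = 1
    rw [hx, map_one]; rfl
  have ha₂ : ∀ x : Γ₁ × Γ₂, σ₂ x.2 = 1 → a₂ x = 1 := by
    intro x hx
    show Multiplicative.ofAdd (Additive.ofMul (Abelianization.of (σ₂ x.2))) = 1
    rw [hx, map_one]; rfl
  haveI : Finite (TensExt a₁ a₂) := TensExt.finite a₁ a₂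
  let σ : TensExt a₁ a₂ →* Q₁ × Q₂ := (σ₁.prodMap σ₂).comp (TensExt.proj a₁ a₂)
  have hσ : ∀ x : TensExt a₁ a₂, σ x = (σ₁ x.g.1, σ₂ x.g.2) := fun x => rfl
  have hker : ∀ x : TensExt a₁ a₂, x ∈ σ.ker ↔ σ₁ x.g.1 = 1 ∧ σ₂ x.g.2 = 1 := by
    intro x
    rw [MonoidHom.mem_ker, hσ, Prod.ext_iff]
    rfl
  refine ⟨TensExt a₁ a₂, inferInstance, inferInstance, σ, ⟨?_, ?_, ?_⟩, ?_⟩
  · rintro ⟨q₁, q₂⟩
    obtain ⟨x₁, rfl⟩ := hs₁ q₁
    obtain ⟨x₂, rfl⟩ := hs₂ q₂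
    exact ⟨⟨(x₁, x₂), 0⟩, rfl⟩
  · intro k hk
    obtain ⟨hk1, hk2⟩ := (hker k).mp hk
    rw [Subgroup.mem_center_iff]
    intro x
    apply TensExt.ext
    · rw [TensExt.mul_g, TensExt.mul_g]
      apply Prod.ext
      · exact Subgroup.mem_center_iff.mp (hc₁ (MonoidHom.mem_ker.mpr hk1)) x.g.1
      · exact Subgroup.mem_center_iff.mp (hc₂ (MonoidHom.mem_ker.mpr hk2)) x.g.2
    · rw [TensExt.mul_c, TensExt.mul_c, ha₁ k.g hk1, ha₂ k.g hk2, toAdd_one, toAdd_one,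
        TensorProduct.zero_tmul, TensorProduct.tmul_zero]
      abel
  · intro k hk
    obtain ⟨hk1, hk2⟩ := (hker k).mp hk
    let ι₁ : Γ₁ →* TensExt a₁ a₂ := TensExt.liftHom a₁ a₂ (MonoidHom.inl Γ₁ Γ₂) (fun h => by
      apply ha₂
      show σ₂ 1 = 1
      exact map_one σ₂)
    let ι₂ : Γ₂ →* TensExt a₁ a₂ := TensExt.liftHom' a₁ a₂ (MonoidHom.inr Γ₁ Γ₂) (fun h => by
      apply ha₁
      show σ₁ 1 = 1
      exact map_one σ₁)
    have hι₁ : ∀ x ∈ commutator Γ₁, ι₁ x ∈ commutator (TensExt a₁ a₂) := by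
      intro x hx
      have hle : (commutator Γ₁).map ι₁ ≤ commutator (TensExt a₁ a₂) := by
        rw [commutator_def, commutator_def, Subgroup.map_commutator]
        exact Subgroup.commutator_mono le_top le_top
      exact hle ⟨x, hx, rfl⟩
    have hι₂ : ∀ x ∈ commutator Γ₂, ι₂ x ∈ commutator (TensExt a₁ a₂) := by
      intro x hx
      have hle : (commutator Γ₂).map ι₂ ≤ commutator (TensExt a₁ a₂) := by
        rw [commutator_def, commutator_def, Subgroup.map_commutator]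
        exact Subgroup.commutator_mono le_top le_top
      exact hle ⟨x, hx, rfl⟩
    have hinr : ∀ c : Additive (Abelianization Q₁) ⊗[ℤ] Additive (Abelianization Q₂),
        TensExt.inrHom a₁ a₂ (Multiplicative.ofAdd c) ∈ commutator (TensExt a₁ a₂) := by
      intro c
      induction c using TensorProduct.induction_on with
      | zero =>
        have : TensExt.inrHom a₁ a₂ (Multiplicative.ofAdd 0) = 1 := map_one _
        rw [this]; exact Subgroup.one_mem _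
      | tmul m n =>
        obtain ⟨q₁, hq₁⟩ := QuotientGroup.mk_surjective (Additive.toMul m)
        obtain ⟨q₂, hq₂⟩ := QuotientGroup.mk_surjective (Additive.toMul n)
        obtain ⟨x₁, rfl⟩ := hs₁ q₁
        obtain ⟨x₂, rfl⟩ := hs₂ q₂
        have hcomm : ((x₁, 1) : Γ₁ × Γ₂) * (1, x₂) = (1, x₂) * (x₁, 1) := by
          apply Prod.ext <;> simp
        have h1 := TensExt.commutator_mk a₁ a₂ (x₁, 1) (1, x₂) hcomm
        have e1 : Multiplicative.toAdd (a₁ ((x₁, 1) : Γ₁ × Γ₂)) = m := by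
          show Additive.ofMul (Abelianization.of (σ₁ x₁)) = m
          exact (congrArg Additive.ofMul hq₁).trans (ofMul_toMul m)
        have e2 : Multiplicative.toAdd (a₂ ((1, x₂) : Γ₁ × Γ₂)) = n := by
          show Additive.ofMul (Abelianization.of (σ₂ x₂)) = n
          exact (congrArg Additive.ofMul hq₂).trans (ofMul_toMul n)
        have e3 : a₁ ((1, x₂) : Γ₁ × Γ₂) = 1 := ha₁ _ (map_one σ₁)
        rw [e1, e2, e3, toAdd_one, TensorProduct.zero_tmul, sub_zero] at h1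
        have h2 : TensExt.inrHom a₁ a₂ (Multiplicative.ofAdd (m ⊗ₜ[ℤ] n)) =
            ⁅(⟨(x₁, 1), 0⟩ : TensExt a₁ a₂), (⟨(1, x₂), 0⟩ : TensExt a₁ a₂)⁆ := by
          rw [h1]; rfl
        rw [h2]
        exact Subgroup.commutator_mem_commutator (Subgroup.mem_top _) (Subgroup.mem_top _)
      | add x y hx hy =>
        rw [ofAdd_add, map_mul]
        exact Subgroup.mul_mem _ hx hy
    have hkeq : k = ι₁ k.g.1 * ι₂ k.g.2 * TensExt.inrHom a₁ a₂ (Multiplicative.ofAdd k.c) := by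
      apply TensExt.ext
      · show k.g = (k.g.1, 1) * (1, k.g.2) * 1
        apply Prod.ext <;> simp
      · show k.c = (0 : Additive (Abelianization Q₁) ⊗[ℤ] Additive (Abelianization Q₂)) + 0 +
          Multiplicative.toAdd (a₁ ((k.g.1, 1) : Γ₁ × Γ₂)) ⊗ₜ[ℤ]
            Multiplicative.toAdd (a₂ ((1, k.g.2) : Γ₁ × Γ₂)) + k.c +
          Multiplicative.toAdd (a₁ (((k.g.1, 1) : Γ₁ × Γ₂) * (1, k.g.2))) ⊗ₜ[ℤ]
            Multiplicative.toAdd (a₂ (1 : Γ₁ × Γ₂))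
        rw [ha₁ ((k.g.1, 1) : Γ₁ × Γ₂) hk1, map_one a₂, toAdd_one, TensorProduct.zero_tmul,
          toAdd_one, TensorProduct.tmul_zero]
        abel
    rw [hkeq]
    exact Subgroup.mul_mem _ (Subgroup.mul_mem _ (hι₁ _ (hd₁ (MonoidHom.mem_ker.mpr hk1)))
      (hι₂ _ (hd₂ (MonoidHom.mem_ker.mpr hk2)))) (hinr k.c)
  · refine ⟨{ toFun := fun k => (⟨k.1.g.1, MonoidHom.mem_ker.mpr ((hker k.1).mp k.2).1⟩,
                ⟨k.1.g.2, MonoidHom.mem_ker.mpr ((hker k.1).mp k.2).2⟩, Multiplicative.ofAdd k.1.c)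
              invFun := fun x => ⟨⟨((x.1 : Γ₁), (x.2.1 : Γ₂)), Multiplicative.toAdd x.2.2⟩,
                (hker _).mpr ⟨MonoidHom.mem_ker.mp x.1.2, MonoidHom.mem_ker.mp x.2.1.2⟩⟩
              left_inv := fun k => rfl
              right_inv := fun x => rfl
              map_mul' := fun k l => ?_ }⟩
    have hk1 := ((hker k.1).mp k.2).1
    apply Prod.ext
    · rfl
    · apply Prod.ext
      · rfl
      · show Multiplicative.ofAdd (k.1.c + l.1.c +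
          Multiplicative.toAdd (a₁ k.1.g) ⊗ₜ[ℤ] Multiplicative.toAdd (a₂ l.1.g)) =
          Multiplicative.ofAdd k.1.c * Multiplicative.ofAdd l.1.c
        rw [ha₁ k.1.g hk1, toAdd_one, TensorProduct.zero_tmul, add_zero]
        rfl

end Cfsg.Agent.Lib.helper69
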