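import Mathlib

/-!
helper69 (S5075, sub-piece of QUOT): `SL(X)` is transitive on incident pairs (vector, linear form)
when `dim X ≥ 3`.
-/

set_option autoImplicit false
set_option linter.style.haveILetI false

namespace Cfsg.Agent.Lib.helper69.McL

open Module

/-- `SL(X)` is transitive on incident (vector, functional) pairs, `dim X ≥ 3` (any field). -/
theorem h69_sl_trans_field {K : Type*} [Field K] {X : Type*} [AddCommGroup X] [Module K X]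
    [FiniteDimensional K X] (h3 : 3 ≤ Module.finrank K X)
    (x₀ x : X) (ξ₀ ξ : Module.Dual K X) (hx₀ : x₀ ≠ 0) (hξ₀ : ξ₀ ≠ 0) (h₀ : ξ₀ x₀ = 0)
    (hx : x ≠ 0) (hξ : ξ ≠ 0) (h : ξ x = 0) :
    ∃ g : X ≃ₗ[K] X, LinearMap.det (g : X →ₗ[K] X) = 1 ∧ g x₀ = x ∧ ∀ v, ξ (g v) = ξ₀ v := by
  classical
  obtain ⟨n₀, b₀, i₀, j₀, hij₀, hx₀b, hξ₀b⟩ := exists_basis_of_pairing_eq_zero h₀ hξ₀ hx₀
  obtain ⟨n, b, i, j, hij, hxb, hξb⟩ := exists_basis_of_pairing_eq_zero h hξ hx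
  haveI : Fintype ↥n₀ := FiniteDimensional.fintypeBasisIndex b₀
  haveI : Fintype ↥n := FiniteDimensional.fintypeBasisIndex b
  have hc₀ : Fintype.card ↥n₀ = Module.finrank K X := (Module.finrank_eq_card_basis b₀).symm
  have hc : Fintype.card ↥n = Module.finrank K X := (Module.finrank_eq_card_basis b).symm
  obtain ⟨σ₁⟩ : Nonempty (↥n₀ ≃ ↥n) :=
    ⟨(Fintype.equivFinOfCardEq hc₀).trans (Fintype.equivFinOfCardEq hc).symm⟩
  obtain ⟨σ₂, hσ₂i⟩ : ∃ σ₂ : ↥n₀ ≃ ↥n, σ₂ i₀ = i :=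
    ⟨σ₁.trans (Equiv.swap (σ₁ i₀) i), by simp⟩
  obtain ⟨σ, hσi, hσj⟩ : ∃ σ : ↥n₀ ≃ ↥n, σ i₀ = i ∧ σ j₀ = j := by
    refine ⟨σ₂.trans (Equiv.swap (σ₂ j₀) j), ?_, by simp⟩
    show Equiv.swap (σ₂ j₀) j (σ₂ i₀) = i
    rw [hσ₂i]
    apply Equiv.swap_apply_of_ne_of_ne
    · intro h'
      rw [← hσ₂i] at h'
      exact hij₀ (σ₂.injective h')
    · exact hij
  obtain ⟨k, hki, hkj⟩ : ∃ k : ↥n, k ≠ i ∧ k ≠ j := by
    have h2 : 2 < Fintype.card ↥n := by omega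
    obtain ⟨a, b', c, hab, hac, hbc⟩ := Fintype.two_lt_card_iff.mp h2
    by_cases ha : a = i
    · by_cases hb : b' = j
      · exact ⟨c, fun h' => hac (ha.trans h'.symm), fun h' => hbc (hb.trans h'.symm)⟩
      · exact ⟨b', fun h' => hab (ha.trans h'.symm), hb⟩
    · by_cases ha' : a = j
      · by_cases hb : b' = i
        · exact ⟨c, fun h' => hbc (hb.trans h'.symm), fun h' => hac (ha'.trans h'.symm)⟩
        · exact ⟨b', hb, fun h' => hab (ha'.trans h'.symm)⟩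
      · exact ⟨a, ha, ha'⟩
  obtain ⟨g₁, hg₁⟩ : ∃ g₁ : X ≃ₗ[K] X, ∀ m, g₁ (b₀ m) = b (σ m) :=
    ⟨b₀.equiv b σ, fun m => Basis.equiv_apply b₀ m b σ⟩
  obtain ⟨u, hu⟩ : ∃ u : Kˣ, (u : K) * LinearMap.det (g₁ : X →ₗ[K] X) = 1 :=
    ⟨(LinearEquiv.det g₁)⁻¹, by rw [← LinearEquiv.coe_det]; exact Units.inv_mul _⟩
  obtain ⟨w, hwk, hwne⟩ : ∃ w : ↥n → Kˣ, w k = u ∧ ∀ m, m ≠ k → w m = 1 :=
    ⟨Function.update 1 k u, Function.update_self .., fun m hm => by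
      rw [Function.update_of_ne hm]; rfl⟩
  have hwi : w i = 1 := hwne i (Ne.symm hki)
  have hwj : w j = 1 := hwne j (Ne.symm hkj)
  obtain ⟨s, hs⟩ : ∃ s : X ≃ₗ[K] X, ∀ m, s (b m) = (w m : K) • b m :=
    ⟨b.equiv (b.unitsSMul w) (Equiv.refl _), fun m => by
      rw [Basis.equiv_apply, Basis.unitsSMul_apply, Units.smul_def]; rfl⟩
  have hdets : LinearMap.det (s : X →ₗ[K] X) = (u : K) := by
    have h1 := Basis.det_comp b (s : X →ₗ[K] X) b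
    rw [Basis.det_self, mul_one] at h1
    have h2 : (⇑(s : X →ₗ[K] X) ∘ ⇑b) = ⇑(b.unitsSMul w) := by
      funext m
      rw [Basis.unitsSMul_apply, Units.smul_def]
      exact hs m
    rw [h2, Basis.det_unitsSMul_self] at h1
    rw [← h1, Finset.prod_eq_single k]
    · rw [hwk]
    · intro m _ hm
      rw [hwne m hm]
      rfl
    · intro h'
      exact absurd (Finset.mem_univ k) h'
  refine ⟨g₁.trans s, ?_, ?_, ?_⟩
  · rw [LinearEquiv.coe_trans, LinearMap.det_comp, hdets]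
    exact hu
  · show s (g₁ x₀) = x
    rw [hx₀b, hg₁, hσi, hs, hwi, Units.val_one, one_smul, ← hxb]
  · intro v
    have hcomp : ξ ∘ₗ ((g₁.trans s : X ≃ₗ[K] X) : X →ₗ[K] X) = ξ₀ := by
      apply b₀.ext
      intro m
      show ξ (s (g₁ (b₀ m))) = ξ₀ (b₀ m)
      rw [hg₁, hs, hξb, hξ₀b, map_smul, Basis.coord_apply, Basis.coord_apply, Basis.repr_self,
        Basis.repr_self]
      by_cases hm : m = j₀
      · subst hm
        rw [hσj, hwj, Finsupp.single_eq_same, Finsupp.single_eq_same, Units.val_one, one_smul]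
      · have hσm : σ m ≠ j := fun h' => hm (σ.injective (h'.trans hσj.symm))
        rw [Finsupp.single_eq_of_ne hσm.symm, Finsupp.single_eq_of_ne (Ne.symm hm), smul_zero]
    exact LinearMap.congr_fun hcomp v

/-- the same over `ZMod p`, in the form used for S5075 / QUOT. -/
theorem h69_sl_trans {p : ℕ} [Fact p.Prime] {X : Type*} [AddCommGroup X] [Module (ZMod p) X]
    [Finite X] (h3 : 3 ≤ Module.finrank (ZMod p) X)
    (x₀ x : X) (ξ₀ ξ : Module.Dual (ZMod p) X) (hx₀ : x₀ ≠ 0) (hξ₀ : ξ₀ ≠ 0) (h₀ : ξ₀ x₀ = 0)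
    (hx : x ≠ 0) (hξ : ξ ≠ 0) (h : ξ x = 0) :
    ∃ g : X ≃ₗ[ZMod p] X, LinearMap.det (g : X →ₗ[ZMod p] X) = 1 ∧ g x₀ = x ∧
      ∀ v, ξ (g v) = ξ₀ v := by
  haveI : Module.Finite (ZMod p) X := Module.Finite.of_finite
  exact h69_sl_trans_field h3 x₀ x ξ₀ ξ hx₀ hξ₀ h₀ hx hξ h

end Cfsg.Agent.Lib.helper69.McL
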