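import Mathlib
import Cfsg.Prelude.Def_KGroupFacts

/-!
Helper lemmas about stem extensions and the Schur multiplier predicate `Cfsg.HasSchurMultiplier`
(owner: helper69).
-/

set_option autoImplicit false

universe u v

namespace Cfsg.Agent.Lib.helper69

open scoped commutatorElement

/-- A finite group all of whose finite stem extensions have trivial kernel has trivial Schur multiplier. -/
theorem hasCyclicSchurMultiplier_one_of_forall_ker_eq_bot {G : Type u} [Group G] [Finite G]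
    (h : ∀ (Γ : Type u) [Group Γ] [Finite Γ] (σ : Γ →* G), Cfsg.IsStemExtension σ → σ.ker = ⊥) :
    Cfsg.HasCyclicSchurMultiplier G 1 := by
  constructor
  · refine ⟨G, inferInstance, inferInstance, MonoidHom.id G, ⟨Function.surjective_id, ?_, ?_⟩, ?_⟩
    · rw [MonoidHom.ker_id]; exact bot_le
    · rw [MonoidHom.ker_id]; exact bot_le
    · have hsub : Subsingleton (MonoidHom.id G).ker := by
        rw [MonoidHom.ker_id]; infer_instance
      have hsub2 : Subsingleton (Multiplicative (ZMod 1)) := by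
        show Subsingleton (Fin 1); infer_instance
      exact ⟨{ toFun := fun _ => 1
               invFun := fun _ => 1
               left_inv := fun x => Subsingleton.elim _ _
               right_inv := fun x => Subsingleton.elim _ _
               map_mul' := fun x y => Subsingleton.elim _ _ }⟩
  · intro Γ _ _ σ hσ
    have hk := h Γ σ hσ
    refine ⟨1, ?_⟩
    intro x
    refine ⟨1, ?_⟩
    have hsub : Subsingleton σ.ker := by
      rw [hk]; infer_instance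
    exact Subsingleton.elim _ _

/-- If the group `K` is generated by an element `k₀` with `k₀ ^ n = 1`, then `K` is a homomorphic image of
the cyclic group of order `n`. -/
theorem exists_surjective_of_generator {K : Type*} [Group K] (n : ℕ) (k₀ : K) (hk : k₀ ^ n = 1)
    (hgen : ∀ k : K, ∃ j : ℤ, k = k₀ ^ j) : ∃ π : Multiplicative (ZMod n) →* K, Function.Surjective π := by
  let f : ℤ →+ Additive K := zmultiplesHom (Additive K) (Additive.ofMul k₀)
  have hf : f n = 0 := by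
    show (n : ℤ) • Additive.ofMul k₀ = 0
    rw [← ofMul_zpow, zpow_natCast, hk]; rfl
  let g : ZMod n →+ Additive K := ZMod.lift n ⟨f, hf⟩
  refine ⟨AddMonoidHom.toMultiplicativeLeft g, ?_⟩
  intro k
  obtain ⟨j, rfl⟩ := hgen k
  refine ⟨Multiplicative.ofAdd (j : ZMod n), ?_⟩
  show Additive.toMul (g (j : ZMod n)) = k₀ ^ j
  have : g (j : ZMod n) = f j := ZMod.lift_coe n ⟨f, hf⟩ j
  rw [this]
  show Additive.toMul (j • Additive.ofMul k₀) = k₀ ^ j
  rw [← ofMul_zpow]; rfl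

/-- In a central extension, two elements mapping into the powers of the image of a fixed element commute. -/
theorem comm_of_map_zpow {Γ G : Type*} [Group Γ] [Group G] (σ : Γ →* G) (hker : σ.ker ≤ Subgroup.center Γ)
    (a x y : Γ) (hx : ∃ i : ℤ, σ x = σ a ^ i) (hy : ∃ j : ℤ, σ y = σ a ^ j) : x * y = y * x := by
  obtain ⟨i, hi⟩ := hx
  obtain ⟨j, hj⟩ := hy
  have hzx : x * (a ^ i)⁻¹ ∈ Subgroup.center Γ :=
    hker (by rw [MonoidHom.mem_ker, map_mul, map_inv, map_zpow, hi]; group)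
  have hzy : y * (a ^ j)⁻¹ ∈ Subgroup.center Γ :=
    hker (by rw [MonoidHom.mem_ker, map_mul, map_inv, map_zpow, hj]; group)
  have c1 := Subgroup.mem_center_iff.mp hzx
  have c2 := Subgroup.mem_center_iff.mp hzy
  have hx' : x = x * (a ^ i)⁻¹ * a ^ i := by group
  have hy' : y = y * (a ^ j)⁻¹ * a ^ j := by group
  generalize x * (a ^ i)⁻¹ = zx at *
  generalize y * (a ^ j)⁻¹ = zy at *
  rw [hx', hy']
  calc zx * a ^ i * (zy * a ^ j) = zx * (a ^ i * zy) * a ^ j := by group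
    _ = zx * (zy * a ^ i) * a ^ j := by rw [c2 (a ^ i)]
    _ = (zx * zy) * (a ^ i * a ^ j) := by group
    _ = (zy * zx) * (a ^ j * a ^ i) := by
        rw [c1 zy, ← zpow_add, ← zpow_add, add_comm]
    _ = zy * (zx * a ^ j) * a ^ i := by group
    _ = zy * (a ^ j * zx) * a ^ i := by rw [c1 (a ^ j)]
    _ = zy * a ^ j * (zx * a ^ i) := by group

/-- If `B` is an abelian subgroup normalised by `t` and `Γ = B ∪ B t`, then every element of the
commutator subgroup of `Γ` has the form `t b t⁻¹ b⁻¹` with `b ∈ B`. -/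
theorem commutator_eq_of_abelian_index_two {Γ : Type*} [Group Γ] (B : Subgroup Γ) (t : Γ)
    (hB : ∀ x ∈ B, ∀ y ∈ B, x * y = y * x)
    (ht : ∀ b ∈ B, t * b * t⁻¹ ∈ B)
    (hcov : ∀ g : Γ, g ∈ B ∨ g * t⁻¹ ∈ B) :
    ∀ k ∈ commutator Γ, ∃ b ∈ B, k = t * b * t⁻¹ * b⁻¹ := by
  let C : Subgroup Γ :=
    { carrier := {k | ∃ b ∈ B, k = t * b * t⁻¹ * b⁻¹}
      mul_mem' := by
        rintro _ _ ⟨b₁, hb₁, rfl⟩ ⟨b₂, hb₂, rfl⟩
        refine ⟨b₁ * b₂, B.mul_mem hb₁ hb₂, ?_⟩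
        have h1 := hB b₁⁻¹ (B.inv_mem hb₁) (t * b₂ * t⁻¹ * b₂⁻¹) (B.mul_mem (ht b₂ hb₂) (B.inv_mem hb₂))
        calc t * b₁ * t⁻¹ * b₁⁻¹ * (t * b₂ * t⁻¹ * b₂⁻¹)
            = t * b₁ * t⁻¹ * (b₁⁻¹ * (t * b₂ * t⁻¹ * b₂⁻¹)) := by group
          _ = t * b₁ * t⁻¹ * ((t * b₂ * t⁻¹ * b₂⁻¹) * b₁⁻¹) := by rw [h1]
          _ = t * (b₁ * b₂) * t⁻¹ * (b₁ * b₂)⁻¹ := by group
      one_mem' := ⟨1, B.one_mem, by group⟩
      inv_mem' := by
        rintro _ ⟨b, hb, rfl⟩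
        refine ⟨b⁻¹, B.inv_mem hb, ?_⟩
        have h1 := hB b hb (t * b⁻¹ * t⁻¹) (ht _ (B.inv_mem hb))
        calc (t * b * t⁻¹ * b⁻¹)⁻¹ = b * (t * b⁻¹ * t⁻¹) := by group
          _ = (t * b⁻¹ * t⁻¹) * b := h1
          _ = t * b⁻¹ * t⁻¹ * (b⁻¹)⁻¹ := by group }
  have hC : commutator Γ ≤ C := by
    rw [commutator_def, Subgroup.commutator_le]
    intro g₁ _ g₂ _
    have case_B : ∀ b₁ ∈ B, ∀ g : Γ, ⁅b₁, g⁆ ∈ C := by
      intro b₁ hb₁ g
      rcases hcov g with hg | hg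
      · have : ⁅b₁, g⁆ = 1 := by
          rw [commutatorElement_eq_one_iff_mul_comm]; exact hB b₁ hb₁ g hg
        rw [this]; exact C.one_mem
      · have hg' : g = g * t⁻¹ * t := by group
        generalize g * t⁻¹ = b₂ at hg hg'
        refine ⟨b₁⁻¹, B.inv_mem hb₁, ?_⟩
        have hu : t * b₁⁻¹ * t⁻¹ ∈ B := ht _ (B.inv_mem hb₁)
        rw [hg', commutatorElement_def]
        calc b₁ * (b₂ * t) * b₁⁻¹ * (b₂ * t)⁻¹ = b₁ * (b₂ * (t * b₁⁻¹ * t⁻¹)) * b₂⁻¹ := by group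
          _ = b₁ * ((t * b₁⁻¹ * t⁻¹) * b₂) * b₂⁻¹ := by rw [hB b₂ hg _ hu]
          _ = b₁ * (t * b₁⁻¹ * t⁻¹) := by group
          _ = (t * b₁⁻¹ * t⁻¹) * b₁ := hB b₁ hb₁ _ hu
          _ = t * b₁⁻¹ * t⁻¹ * (b₁⁻¹)⁻¹ := by group
    rcases hcov g₁ with h1 | h1
    · exact case_B g₁ h1 g₂
    · rcases hcov g₂ with h2 | h2
      · have := case_B g₂ h2 g₁
        rw [← commutatorElement_inv]
        exact C.inv_mem this
      · have hg₁ : g₁ = g₁ * t⁻¹ * t := by group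
        have hg₂ : g₂ = g₂ * t⁻¹ * t := by group
        generalize g₁ * t⁻¹ = b₁ at h1 hg₁
        generalize g₂ * t⁻¹ = b₂ at h2 hg₂
        refine ⟨b₂ * b₁⁻¹, B.mul_mem h2 (B.inv_mem h1), ?_⟩
        have hu : t * (b₂ * b₁⁻¹) * t⁻¹ ∈ B := ht _ (B.mul_mem h2 (B.inv_mem h1))
        rw [hg₁, hg₂, commutatorElement_def]
        calc b₁ * t * (b₂ * t) * (b₁ * t)⁻¹ * (b₂ * t)⁻¹ = b₁ * (t * (b₂ * b₁⁻¹) * t⁻¹) * b₂⁻¹ := by group
          _ = (t * (b₂ * b₁⁻¹) * t⁻¹) * b₁ * b₂⁻¹ := by rw [hB b₁ h1 _ hu]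
          _ = t * (b₂ * b₁⁻¹) * t⁻¹ * (b₂ * b₁⁻¹)⁻¹ := by group
  intro k hk
  exact hC hk

/-- Stem extensions of a group `G = ⟨ρ⟩ ∪ ⟨ρ⟩τ` in which `τ` normalises `⟨ρ⟩`: every element of the kernel is a
commutator `t b t⁻¹ b⁻¹` of a fixed lift `t` of `τ` with an element `b` mapping into `⟨ρ⟩`. -/
theorem stem_ker_form {Γ G : Type*} [Group Γ] [Group G] (σ : Γ →* G) (hσ : Cfsg.IsStemExtension σ)
    (ρ τ : G) (hnorm : ∀ i : ℤ, ∃ j : ℤ, τ * ρ ^ i * τ⁻¹ = ρ ^ j)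
    (hcov : ∀ g : G, (∃ i : ℤ, g = ρ ^ i) ∨ (∃ i : ℤ, g * τ⁻¹ = ρ ^ i))
    (t : Γ) (ht : σ t = τ) :
    ∀ k ∈ σ.ker, ∃ (b : Γ) (i : ℤ), σ b = ρ ^ i ∧ k = t * b * t⁻¹ * b⁻¹ := by
  obtain ⟨hsurj, hcent, hcomm⟩ := hσ
  obtain ⟨a, ha⟩ := hsurj ρ
  let B : Subgroup Γ := (Subgroup.zpowers ρ).comap σ
  have hBmem : ∀ x : Γ, x ∈ B ↔ ∃ i : ℤ, σ x = ρ ^ i := by
    intro x
    show σ x ∈ Subgroup.zpowers ρ ↔ _
    rw [Subgroup.mem_zpowers_iff]
    constructor
    · rintro ⟨i, hi⟩; exact ⟨i, hi.symm⟩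
    · rintro ⟨i, hi⟩; exact ⟨i, hi.symm⟩
  have key := commutator_eq_of_abelian_index_two B t
    (by
      intro x hx y hy
      apply comm_of_map_zpow σ hcent a x y
      · rw [ha]; exact (hBmem x).mp hx
      · rw [ha]; exact (hBmem y).mp hy)
    (by
      intro b hb
      obtain ⟨i, hi⟩ := (hBmem b).mp hb
      obtain ⟨j, hj⟩ := hnorm i
      rw [hBmem]
      exact ⟨j, by rw [map_mul, map_mul, map_inv, ht, hi, hj]⟩)
    (by
      intro g
      rcases hcov (σ g) with ⟨i, hi⟩ | ⟨i, hi⟩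
      · left; rw [hBmem]; exact ⟨i, hi⟩
      · right; rw [hBmem]; exact ⟨i, by rw [map_mul, map_inv, ht, hi]⟩)
  intro k hk
  obtain ⟨b, hb, hkb⟩ := key k (hcomm hk)
  obtain ⟨i, hi⟩ := (hBmem b).mp hb
  exact ⟨b, i, hi, hkb⟩

/-- In `ZMod n` with `n` odd, `x + x = 0` forces `x = 0`. -/
theorem zmod_odd_double_eq_zero {n : ℕ} (hn : Odd n) (x : ZMod n) (h : x + x = 0) : x = 0 := by
  obtain ⟨m, hm⟩ := hn
  have h0 : ((2 * m + 1 : ℕ) : ZMod n) = 0 := by rw [← hm]; exact ZMod.natCast_self n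
  push_cast at h0
  linear_combination x * h0 - (m : ZMod n) * h

/-- In `ZMod (m + m)`, `x + x = 0` forces `x = 0` or `x = m`. -/
theorem zmod_double_eq_zero (N m : ℕ) [NeZero N] (hN : N = m + m) (x : ZMod N) (h : x + x = 0) :
    x = 0 ∨ x = (m : ZMod N) := by
  have hlt : x.val < N := ZMod.val_lt x
  have h1 : ((x.val + x.val : ℕ) : ZMod N) = 0 := by
    push_cast
    rw [ZMod.natCast_zmod_val]; exact h
  rw [ZMod.natCast_eq_zero_iff] at h1
  obtain ⟨c, hc⟩ := h1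
  have hNpos : 0 < N := NeZero.pos N
  have hc2 : c < 2 := by
    by_contra hcon
    rw [not_lt] at hcon
    have : 2 * N ≤ N * c := by nlinarith
    omega
  interval_cases c
  · left
    have : x.val = 0 := by omega
    rw [← ZMod.natCast_zmod_val x, this]; simp
  · right
    have : x.val = m := by omega
    rw [← ZMod.natCast_zmod_val x, this]

/-- Dihedral group: conjugation by the reflection `sr 0` maps rotations to rotations. -/
theorem dihedral_norm (n : ℕ) (i : ℤ) :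
    ∃ j : ℤ, DihedralGroup.sr (0 : ZMod n) * DihedralGroup.r (1 : ZMod n) ^ i * (DihedralGroup.sr (0 : ZMod n))⁻¹
      = DihedralGroup.r (1 : ZMod n) ^ j := by
  refine ⟨-i, ?_⟩
  rw [DihedralGroup.r_one_zpow, DihedralGroup.r_one_zpow, DihedralGroup.inv_sr, DihedralGroup.sr_mul_r,
    DihedralGroup.sr_mul_sr]
  congr 1
  push_cast; ring

/-- Dihedral group: every element is a rotation or a rotation times the reflection `sr 0`. -/
theorem dihedral_cov (n : ℕ) (g : DihedralGroup n) :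
    (∃ i : ℤ, g = DihedralGroup.r (1 : ZMod n) ^ i) ∨
      (∃ i : ℤ, g * (DihedralGroup.sr (0 : ZMod n))⁻¹ = DihedralGroup.r (1 : ZMod n) ^ i) := by
  rcases g with j | j
  · left
    refine ⟨(ZMod.cast j : ℤ), ?_⟩
    rw [DihedralGroup.r_one_zpow, ZMod.intCast_zmod_cast]
  · right
    refine ⟨(ZMod.cast (0 - j) : ℤ), ?_⟩
    rw [DihedralGroup.r_one_zpow, ZMod.intCast_zmod_cast, DihedralGroup.inv_sr, DihedralGroup.sr_mul_sr]

/-- The kernel of a stem extension of a dihedral group consists of commutators `t b t⁻¹ b⁻¹`, where `t` lifts the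
reflection `sr 0` and `b` lifts a rotation `r i` with `i + i = 0`. -/
theorem dihedral_stem_ker (n : ℕ) {Γ : Type*} [Group Γ] (σ : Γ →* DihedralGroup n) (hσ : Cfsg.IsStemExtension σ)
    (t : Γ) (ht : σ t = DihedralGroup.sr 0) :
    ∀ k ∈ σ.ker, ∃ (b : Γ) (i : ZMod n), σ b = DihedralGroup.r i ∧ i + i = 0 ∧ k = t * b * t⁻¹ * b⁻¹ := by
  intro k hk
  obtain ⟨b, i, hb, rfl⟩ := stem_ker_form σ hσ (DihedralGroup.r 1) (DihedralGroup.sr 0) (dihedral_norm n)
    (dihedral_cov n) t ht k hk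
  rw [DihedralGroup.r_one_zpow] at hb
  refine ⟨b, (i : ZMod n), hb, ?_, rfl⟩
  have h1 : σ (t * b * t⁻¹ * b⁻¹) = 1 := hk
  simp only [map_mul, map_inv] at h1
  rw [ht, hb, DihedralGroup.inv_sr, DihedralGroup.sr_mul_r,
    DihedralGroup.sr_mul_sr, DihedralGroup.inv_r, DihedralGroup.r_mul_r, DihedralGroup.one_def] at h1
  have h2 : (0 : ZMod n) - (0 + (i : ZMod n)) + -(i : ZMod n) = 0 := by injection h1
  linear_combination -h2

/-- A commutator `t b t⁻¹ b⁻¹` with `b` central is trivial. -/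
theorem comm_central_eq_one {Γ : Type*} [Group Γ] (t b : Γ) (hb : b ∈ Subgroup.center Γ) :
    t * b * t⁻¹ * b⁻¹ = 1 := by
  have := Subgroup.mem_center_iff.mp hb t
  rw [this]; group

theorem zmod_two_mul_self (n : ℕ) : ((n : ZMod (2 * n)) + n) = 0 := by
  have h : ((2 * n : ℕ) : ZMod (2 * n)) = 0 := ZMod.natCast_self (2 * n)
  rw [← h]; push_cast; ring

theorem quaternion_a_one_zpow (n : ℕ) (k : ℤ) :
    (QuaternionGroup.a (1 : ZMod (2 * n))) ^ k = QuaternionGroup.a (k : ZMod (2 * n)) := by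
  obtain ⟨m, rfl | rfl⟩ := Int.eq_nat_or_neg k
  · rw [zpow_natCast, QuaternionGroup.a_one_pow]; simp
  · rw [zpow_neg, zpow_natCast, QuaternionGroup.a_one_pow]
    show QuaternionGroup.a (-(m : ZMod (2 * n))) = _
    simp

theorem quaternion_inv_xa (n : ℕ) (i : ZMod (2 * n)) :
    (QuaternionGroup.xa i)⁻¹ = QuaternionGroup.xa ((n : ZMod (2 * n)) + i) := rfl

theorem quaternion_inv_a (n : ℕ) (i : ZMod (2 * n)) :
    (QuaternionGroup.a i)⁻¹ = QuaternionGroup.a (-i) := rfl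

/-- Dicyclic group: conjugation by `xa 0` maps powers of `a 1` to powers of `a 1`. -/
theorem quaternion_norm (n : ℕ) (i : ℤ) :
    ∃ j : ℤ, QuaternionGroup.xa (0 : ZMod (2 * n)) * QuaternionGroup.a (1 : ZMod (2 * n)) ^ i *
      (QuaternionGroup.xa (0 : ZMod (2 * n)))⁻¹ = QuaternionGroup.a (1 : ZMod (2 * n)) ^ j := by
  refine ⟨-i, ?_⟩
  rw [quaternion_a_one_zpow, quaternion_a_one_zpow, quaternion_inv_xa, QuaternionGroup.xa_mul_a,
    QuaternionGroup.xa_mul_xa]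
  congr 1
  have h2 := zmod_two_mul_self n
  push_cast
  linear_combination h2

/-- Dicyclic group: every element is a power of `a 1` or such a power times `xa 0`. -/
theorem quaternion_cov (n : ℕ) (g : QuaternionGroup n) :
    (∃ i : ℤ, g = QuaternionGroup.a (1 : ZMod (2 * n)) ^ i) ∨
      (∃ i : ℤ, g * (QuaternionGroup.xa (0 : ZMod (2 * n)))⁻¹ = QuaternionGroup.a (1 : ZMod (2 * n)) ^ i) := by
  rcases g with j | j
  · left
    refine ⟨(ZMod.cast j : ℤ), ?_⟩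
    rw [quaternion_a_one_zpow, ZMod.intCast_zmod_cast]
  · right
    refine ⟨(ZMod.cast ((n : ZMod (2 * n)) + ((n : ZMod (2 * n)) + 0) - j) : ℤ), ?_⟩
    rw [quaternion_a_one_zpow, ZMod.intCast_zmod_cast, quaternion_inv_xa, QuaternionGroup.xa_mul_xa]

/-- The kernel of a stem extension of a dicyclic group consists of commutators `t b t⁻¹ b⁻¹`, where `t` lifts
`xa 0` and `b` lifts `a i` with `i + i = 0`. -/
theorem quaternion_stem_ker (n : ℕ) {Γ : Type*} [Group Γ] (σ : Γ →* QuaternionGroup n)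
    (hσ : Cfsg.IsStemExtension σ) (t : Γ) (ht : σ t = QuaternionGroup.xa 0) :
    ∀ k ∈ σ.ker, ∃ (b : Γ) (i : ZMod (2 * n)), σ b = QuaternionGroup.a i ∧ i + i = 0 ∧ k = t * b * t⁻¹ * b⁻¹ := by
  intro k hk
  obtain ⟨b, i, hb, rfl⟩ := stem_ker_form σ hσ (QuaternionGroup.a 1) (QuaternionGroup.xa 0) (quaternion_norm n)
    (quaternion_cov n) t ht k hk
  rw [quaternion_a_one_zpow] at hb
  refine ⟨b, (i : ZMod (2 * n)), hb, ?_, rfl⟩
  have h1 : σ (t * b * t⁻¹ * b⁻¹) = 1 := hk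
  simp only [map_mul, map_inv] at h1
  rw [ht, hb, quaternion_inv_xa, QuaternionGroup.xa_mul_a, QuaternionGroup.xa_mul_xa, quaternion_inv_a,
    QuaternionGroup.a_mul_a, QuaternionGroup.one_def] at h1
  have h2 : (n : ZMod (2 * n)) + ((n : ZMod (2 * n)) + 0) - (0 + (i : ZMod (2 * n))) + -(i : ZMod (2 * n)) = 0 := by
    injection h1
  have h3 := zmod_two_mul_self n
  linear_combination h3 - h2

end Cfsg.Agent.Lib.helper69
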