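import Mathlib
import Cfsg.Prelude.Def_KGroupFacts
import Cfsg.Agent.Lib.helper69.SchurCover
import Cfsg.Agent.Lib.helper69.Schur

/-!
Schur multiplier of metacyclic groups (owner: helper69).
-/

set_option autoImplicit false

universe u v w

namespace Cfsg.Agent.Lib.helper69

open scoped commutatorElement

/-! ### Abstract assembly -/

/-- A homomorphism from the cyclic group of order `n` sending the generator to an element of order
dividing `n`. -/
theorem exists_zmod_hom {K : Type*} [Group K] (n : ℕ) (k₀ : K) (hk : k₀ ^ n = 1) :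
    ∃ f : Multiplicative (ZMod n) →* K, ∀ j : ℤ, f (Multiplicative.ofAdd (j : ZMod n)) = k₀ ^ j := by
  let f : ℤ →+ Additive K := zmultiplesHom (Additive K) (Additive.ofMul k₀)
  have hf : f n = 0 := by
    show (n : ℤ) • Additive.ofMul k₀ = 0
    rw [← ofMul_zpow, zpow_natCast, hk]; rfl
  let g : ZMod n →+ Additive K := ZMod.lift n ⟨f, hf⟩
  refine ⟨AddMonoidHom.toMultiplicativeLeft g, ?_⟩
  intro j
  show Additive.toMul (g (j : ZMod n)) = k₀ ^ j
  have : g (j : ZMod n) = f j := ZMod.lift_coe n ⟨f, hf⟩ j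
  rw [this]
  show Additive.toMul (j • Additive.ofMul k₀) = k₀ ^ j
  rw [← ofMul_zpow]; rfl

/-- Criterion for a cyclic Schur multiplier of order `g`: every stem extension has kernel generated by an
element killed by `g`, and some central extension has an element of order (a multiple of) `g` in
`ker ∩ commutator`. -/
theorem hasCyclicSchurMultiplier_of_bounds {Q : Type u} [Group Q] [Finite Q] (g : ℕ) (hg : 0 < g)
    (hUB : ∀ (Γ : Type u) [Group Γ] [Finite Γ] (σ : Γ →* Q), Cfsg.IsStemExtension σ →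
      ∃ κ : Γ, κ ∈ σ.ker ∧ κ ^ g = 1 ∧ ∀ x ∈ σ.ker, ∃ j : ℤ, x = κ ^ j)
    {Δ : Type w} [Group Δ] (τ : Δ →* Q) (hτ : Function.Surjective τ)
    (hker : τ.ker ≤ Subgroup.center Δ)
    (ω : Δ) (hω : ω ∈ τ.ker ⊓ commutator Δ) (hord : ∀ j : ℕ, ω ^ j = 1 → g ∣ j) :
    Cfsg.HasCyclicSchurMultiplier Q g := by
  haveI : NeZero g := ⟨hg.ne'⟩
  have hsurj : ∀ (Γ : Type u) [Group Γ] [Finite Γ] (σ : Γ →* Q), Cfsg.IsStemExtension σ →
      ∃ π : Multiplicative (ZMod g) →* σ.ker, Function.Surjective π := by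
    intro Γ _ _ σ hσ
    obtain ⟨κ, hκ, hκg, hgen⟩ := hUB Γ σ hσ
    apply exists_surjective_of_generator g (⟨κ, hκ⟩ : σ.ker)
    · apply Subtype.ext
      rw [Subgroup.coe_pow]
      exact hκg
    · intro k
      obtain ⟨j, hj⟩ := hgen k.1 k.2
      refine ⟨j, ?_⟩
      apply Subtype.ext
      rw [Subgroup.coe_zpow]
      exact hj
  refine ⟨?_, hsurj⟩
  obtain ⟨Γ, i1, i2, σ, hσ, ⟨e⟩⟩ := exists_cover Q
  refine ⟨Γ, i1, i2, σ, hσ, ?_⟩
  obtain ⟨κ, hκ, hκg, hgen⟩ := hUB Γ σ hσ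
  obtain ⟨f, hf⟩ := hsurj Γ σ hσ
  obtain ⟨π, hπ⟩ := exists_surjective_mult_of_central Q τ hτ hker
  obtain ⟨μ, hμ⟩ := hπ ⟨ω, hω⟩
  -- the generator of the kernel has order exactly g
  have hκord : ∀ i : ℕ, κ ^ i = 1 → g ∣ i := by
    intro i hi
    apply hord
    obtain ⟨j, hj⟩ := hgen (e.symm μ).1 (e.symm μ).2
    have h1 : e.symm μ = (⟨κ, hκ⟩ : σ.ker) ^ j := by
      apply Subtype.ext
      rw [Subgroup.coe_zpow]
      exact hj
    have h2 : μ = e ((⟨κ, hκ⟩ : σ.ker)) ^ j := by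
      rw [← map_zpow, ← h1, MulEquiv.apply_symm_apply]
    have h3 : (⟨κ, hκ⟩ : σ.ker) ^ i = 1 := by
      apply Subtype.ext
      rw [Subgroup.coe_pow]
      exact hi
    have h4 : (⟨ω, hω⟩ : ↥(τ.ker ⊓ commutator Δ)) ^ i = 1 := by
      rw [← hμ, h2, map_zpow, ← zpow_natCast, ← zpow_mul, mul_comm, zpow_mul, zpow_natCast,
        ← map_pow, ← map_pow, h3, map_one, map_one, one_zpow]
    have h5 := congrArg (fun x : ↥(τ.ker ⊓ commutator Δ) => (x : Δ)) h4
    simpa using h5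
  have hcard : Nat.card σ.ker = g := by
    have h1 : orderOf (⟨κ, hκ⟩ : σ.ker) = g := by
      apply Nat.dvd_antisymm
      · apply orderOf_dvd_of_pow_eq_one
        apply Subtype.ext
        rw [Subgroup.coe_pow]
        exact hκg
      · apply hκord
        have := pow_orderOf_eq_one (⟨κ, hκ⟩ : σ.ker)
        have h5 := congrArg (fun x : σ.ker => (x : Γ)) this
        simpa using h5
    rw [← h1]
    symm
    apply orderOf_eq_card_of_forall_mem_zpowers
    intro k
    obtain ⟨j, hj⟩ := hgen k.1 k.2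
    rw [Subgroup.mem_zpowers_iff]
    refine ⟨j, ?_⟩
    apply Subtype.ext
    rw [Subgroup.coe_zpow]
    exact hj.symm
  have hc : Nat.card σ.ker ≤ Nat.card (Multiplicative (ZMod g)) := by
    rw [hcard]
    show g ≤ Nat.card (ZMod g)
    rw [Nat.card_zmod]
  haveI : Finite (Multiplicative (ZMod g)) := inferInstanceAs (Finite (ZMod g))
  have hc' : Nat.card (Multiplicative (ZMod g)) ≤ Nat.card σ.ker := by
    rw [hcard]
    show Nat.card (ZMod g) ≤ g
    rw [Nat.card_zmod]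
  have hbij : Function.Bijective f := by
    rw [Nat.bijective_iff_surjective_and_card]
    exact ⟨hf, le_antisymm hc' hc⟩
  exact ⟨(MulEquiv.ofBijective f hbij).symm⟩

/-! ### Arithmetic -/

theorem geom_sum_pred_mul (r : ℕ) (hr : 0 < r) (k : ℕ) :
    (r - 1) * (∑ i ∈ Finset.range k, r ^ i) + 1 = r ^ k := by
  induction k with
  | zero => simp
  | succ k ih =>
    rw [Finset.sum_range_succ, mul_add, pow_succ]
    have h1 : (r - 1) * r ^ k + r ^ k = r ^ k * r := by
      have : r - 1 + 1 = r := Nat.sub_add_cancel hr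
      calc (r - 1) * r ^ k + r ^ k = (r - 1 + 1) * r ^ k := by ring
        _ = r ^ k * r := by rw [this]; ring
    omega

theorem metacyclic_arith (m n r l : ℕ) (hm : 0 < m) (hr : 0 < r) (hrn : r ^ n ≡ 1 [MOD m]) :
    ∃ d m' ρ lam : ℕ, d = Nat.gcd m (r - 1) ∧ d * m' = m ∧ d * ρ = r - 1 ∧ 0 < d ∧ 0 < m' ∧
      Nat.Coprime m' ρ ∧
      (∑ i ∈ Finset.range n, r ^ i) = m' * lam ∧
      m * l / d = m' * l ∧
      d * Nat.gcd m (∑ i ∈ Finset.range n, r ^ i) / m = Nat.gcd d lam ∧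
      r ^ n = m * (ρ * lam) + 1 := by
  have hd0 : 0 < Nat.gcd m (r - 1) := Nat.gcd_pos_of_pos_left _ hm
  have hdm : Nat.gcd m (r - 1) * (m / Nat.gcd m (r - 1)) = m :=
    Nat.mul_div_cancel' (Nat.gcd_dvd_left _ _)
  have hdρ : Nat.gcd m (r - 1) * ((r - 1) / Nat.gcd m (r - 1)) = r - 1 :=
    Nat.mul_div_cancel' (Nat.gcd_dvd_right _ _)
  have hcop : Nat.Coprime (m / Nat.gcd m (r - 1)) ((r - 1) / Nat.gcd m (r - 1)) :=
    Nat.coprime_div_gcd_div_gcd hd0
  set d := Nat.gcd m (r - 1) with hd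
  set m' := m / d with hm'
  set ρ := (r - 1) / d with hρ
  set S := ∑ i ∈ Finset.range n, r ^ i with hS
  have hm'0 : 0 < m' := by
    rcases Nat.eq_zero_or_pos m' with h | h
    · rw [h, mul_zero] at hdm; omega
    · exact h
  have hgs : (r - 1) * S + 1 = r ^ n := geom_sum_pred_mul r hr n
  have h1 : m ∣ (r - 1) * S := by
    have h2 : m ∣ r ^ n - 1 := (Nat.modEq_iff_dvd' (Nat.one_le_pow _ _ hr)).1 hrn.symm
    have h3 : r ^ n - 1 = (r - 1) * S := by omega
    rwa [h3] at h2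
  have h2 : m' ∣ S := by
    have h3 : d * m' ∣ d * (ρ * S) := by
      rw [hdm, ← mul_assoc, hdρ]; exact h1
    have h4 : m' ∣ ρ * S := Nat.dvd_of_mul_dvd_mul_left hd0 h3
    exact hcop.dvd_of_dvd_mul_left h4
  obtain ⟨lam, hlam⟩ := h2
  refine ⟨d, m', ρ, lam, rfl, hdm, hdρ, hd0, hm'0, hcop, hlam, ?_, ?_, ?_⟩
  · have : m * l = d * (m' * l) := by rw [← mul_assoc, hdm]
    rw [this, Nat.mul_div_cancel_left _ hd0]
  · have h3 : Nat.gcd m S = m' * Nat.gcd d lam := by
      rw [hlam, ← hdm, mul_comm d m', Nat.gcd_mul_left]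
    rw [h3]
    have : d * (m' * Nat.gcd d lam) = m * Nat.gcd d lam := by rw [← mul_assoc, hdm]
    rw [this, Nat.mul_div_cancel_left _ hm]
  · rw [← hgs, hlam, ← hdρ, ← hdm]; ring

/-! ### Upper bound: kernels of stem extensions of a metacyclic group -/

theorem metacyclic_stem_ker {G : Type*} [Group G] (a b : G) (m n r l : ℕ) (hm : 0 < m) (hr : 0 < r)
    (hrn : r ^ n ≡ 1 [MOD m])
    (hba : b * a * b⁻¹ = a ^ r) (hbn : b ^ n = a ^ (m * l / Nat.gcd m (r - 1)))
    (hgen : ∀ x : G, ∃ i j : ℕ, x = a ^ i * b ^ j)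
    (hord : ∀ u : ℤ, a ^ u = 1 → (m : ℤ) ∣ u) (ham : a ^ m = 1)
    {Γ : Type*} [Group Γ] (σ : Γ →* G) (hσ : Cfsg.IsStemExtension σ) :
    ∃ κ : Γ, κ ∈ σ.ker ∧
      κ ^ (Nat.gcd l (Nat.gcd m (r - 1) * Nat.gcd m (∑ i ∈ Finset.range n, r ^ i) / m)) = 1 ∧
      ∀ x ∈ σ.ker, ∃ j : ℤ, x = κ ^ j := by
  obtain ⟨hsurj, hcent, hstem⟩ := hσ
  obtain ⟨d, m', ρ, lam, hd, hdm, hdρ, hd0, hm'0, hcop, hS, ht, hh, hrn'⟩ :=
    metacyclic_arith m n r l hm hr hrn
  rw [← hd] at hbn ⊢
  rw [ht] at hbn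
  rw [hh]
  have hr1 : r - 1 + 1 = r := Nat.sub_add_cancel hr
  obtain ⟨α, hα⟩ := hsurj a
  obtain ⟨β, hβ⟩ := hsurj b
  -- central elements
  have hz₃c : β * α * β⁻¹ * (α ^ r)⁻¹ ∈ Subgroup.center Γ := by
    apply hcent
    rw [MonoidHom.mem_ker]
    simp [hα, hβ, hba]
  have hz₁c : α ^ m ∈ Subgroup.center Γ := by
    apply hcent
    rw [MonoidHom.mem_ker, map_pow, hα, ham]
  have hz₂c : β ^ n * (α ^ (m' * l))⁻¹ ∈ Subgroup.center Γ := by
    apply hcent
    rw [MonoidHom.mem_ker]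
    simp [hα, hβ, hbn]
  set z₃ : Γ := β * α * β⁻¹ * (α ^ r)⁻¹ with hz₃
  have hconj : β * α * β⁻¹ = z₃ * α ^ r := by rw [hz₃]; group
  have cz₃ : ∀ x : Γ, Commute z₃ x := fun x => (Subgroup.mem_center_iff.mp hz₃c x).symm
  have cz₁ : ∀ x : Γ, Commute (α ^ m) x := fun x => (Subgroup.mem_center_iff.mp hz₁c x).symm
  have cz₂ : ∀ x : Γ, Commute (β ^ n * (α ^ (m' * l))⁻¹) x :=
    fun x => (Subgroup.mem_center_iff.mp hz₂c x).symm
  have hconjpow : ∀ k : ℕ, β * α ^ k * β⁻¹ = z₃ ^ k * α ^ (r * k) := by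
    intro k
    rw [← conj_pow, hconj, (cz₃ _).mul_pow, ← pow_mul]
  -- (1) z₃^m (α^m)^(r-1) = 1
  have h1 : z₃ ^ m * (α ^ m) ^ (r - 1) = 1 := by
    have e1 : β * α ^ m * β⁻¹ = α ^ m := by
      rw [← (cz₁ β).eq]; group
    rw [hconjpow] at e1
    have e2 : α ^ (r * m) = (α ^ m) ^ (r - 1) * α ^ m := by
      rw [← pow_succ, hr1, ← pow_mul, mul_comm]
    rw [e2, ← mul_assoc] at e1
    exact mul_eq_right.mp e1
  -- (2) z₃^(m' l) α^(m' l (r-1)) = 1
  have h2 : z₃ ^ (m' * l) * α ^ (m' * l * (r - 1)) = 1 := by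
    have c1 : Commute β (α ^ (m' * l)) := by
      have c2 : Commute β (β ^ n) := Commute.pow_right (Commute.refl β) n
      have c3 : Commute β (β ^ n * (α ^ (m' * l))⁻¹) := (cz₂ β).symm
      have e : α ^ (m' * l) = (β ^ n * (α ^ (m' * l))⁻¹)⁻¹ * β ^ n := by group
      rw [e]
      exact c3.inv_right.mul_right c2
    have e1 : β * α ^ (m' * l) * β⁻¹ = α ^ (m' * l) := by
      rw [c1.eq]; group
    rw [hconjpow] at e1
    have e2 : α ^ (r * (m' * l)) = α ^ (m' * l * (r - 1)) * α ^ (m' * l) := by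
      rw [← pow_add]; congr 1
      nth_rewrite 1 [← hr1]; ring
    rw [e2, ← mul_assoc] at e1
    exact mul_eq_right.mp e1
  -- (3) z₃^S (α^m)^(ρ lam) = 1
  have h3 : z₃ ^ (m' * lam) * (α ^ m) ^ (ρ * lam) = 1 := by
    have key : ∀ k : ℕ, β ^ k * α * (β ^ k)⁻¹ =
        z₃ ^ (∑ i ∈ Finset.range k, r ^ i) * α ^ (r ^ k) := by
      intro k
      induction k with
      | zero => simp
      | succ k ih =>
        have e : β ^ (k + 1) * α * (β ^ (k + 1))⁻¹ = β * (β ^ k * α * (β ^ k)⁻¹) * β⁻¹ := by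
          rw [pow_succ']; group
        rw [e, ih]
        have e' : β * (z₃ ^ (∑ i ∈ Finset.range k, r ^ i) * α ^ r ^ k) * β⁻¹ =
            z₃ ^ (∑ i ∈ Finset.range k, r ^ i) * (β * α ^ r ^ k * β⁻¹) := by
          have := ((cz₃ β).pow_left (∑ i ∈ Finset.range k, r ^ i)).eq
          calc β * (z₃ ^ (∑ i ∈ Finset.range k, r ^ i) * α ^ r ^ k) * β⁻¹
              = (β * z₃ ^ (∑ i ∈ Finset.range k, r ^ i)) * α ^ r ^ k * β⁻¹ := by group
            _ = (z₃ ^ (∑ i ∈ Finset.range k, r ^ i) * β) * α ^ r ^ k * β⁻¹ := by rw [this]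
            _ = _ := by group
        rw [e', hconjpow, ← mul_assoc, ← pow_add, Finset.sum_range_succ, pow_succ, mul_comm r]
    have c1 : Commute (β ^ n) α := by
      have e : β ^ n = (β ^ n * (α ^ (m' * l))⁻¹) * α ^ (m' * l) := by group
      rw [e]
      exact (cz₂ α).mul_left (Commute.pow_left (Commute.refl α) _)
    have e1 : β ^ n * α * (β ^ n)⁻¹ = α := by
      rw [c1.eq]; group
    rw [key, hS, hrn'] at e1
    have e2 : α ^ (m * (ρ * lam) + 1) = (α ^ m) ^ (ρ * lam) * α := by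
      rw [pow_succ, pow_mul]
    rw [e2, ← mul_assoc] at e1
    exact mul_eq_right.mp e1
  -- the commutator c and κ
  have hc : β * α * β⁻¹ * α⁻¹ = z₃ * α ^ (r - 1) := by
    rw [hconj]
    nth_rewrite 1 [← hr1]
    rw [pow_succ]; group
  have cα : Commute α (z₃ * α ^ (r - 1)) :=
    (cz₃ α).symm.mul_right (Commute.pow_right (Commute.refl α) _)
  have hκ : (z₃ * α ^ (r - 1)) ^ m' = z₃ ^ m' * (α ^ m) ^ ρ := by
    rw [(cz₃ _).mul_pow, ← pow_mul, ← pow_mul]
    congr 2
    rw [← hdρ, ← hdm]; ring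
  have cκ : Commute (z₃ ^ m') ((α ^ m) ^ ρ) := (cz₃ _).pow_left _
  refine ⟨(z₃ * α ^ (r - 1)) ^ m', ?_, ?_, ?_⟩
  · rw [MonoidHom.mem_ker, ← hc]
    simp only [map_pow, map_mul, map_inv, hα, hβ, hba]
    have e : a ^ r * a⁻¹ = a ^ (r - 1) := by
      nth_rewrite 1 [← hr1]
      rw [pow_succ]; group
    rw [e, ← pow_mul]
    have e2 : (r - 1) * m' = m * ρ := by rw [← hdρ, ← hdm]; ring
    rw [e2, pow_mul, ham, one_pow]
  · rw [hκ]
    apply orderOf_dvd_iff_pow_eq_one.mp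
    apply Nat.dvd_gcd
    · -- κ^l = 1
      apply orderOf_dvd_of_pow_eq_one
      rw [cκ.mul_pow, ← pow_mul, ← pow_mul, ← pow_mul]
      have e : m * (ρ * l) = m' * l * (r - 1) := by rw [← hdρ, ← hdm]; ring
      rw [e]
      exact h2
    · apply Nat.dvd_gcd
      · apply orderOf_dvd_of_pow_eq_one
        rw [cκ.mul_pow, ← pow_mul, ← pow_mul]
        have e1 : m' * d = m := by rw [mul_comm]; exact hdm
        have e2 : ρ * d = r - 1 := by rw [mul_comm]; exact hdρ
        rw [e1, e2]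
        exact h1
      · apply orderOf_dvd_of_pow_eq_one
        rw [cκ.mul_pow, ← pow_mul, ← pow_mul]
        exact h3
  · -- generation
    set c : Γ := z₃ * α ^ (r - 1) with hcdef
    have hβc : β * c * β⁻¹ = c ^ r := by
      have e : β * c * β⁻¹ = z₃ * (β * α ^ (r - 1) * β⁻¹) := by
        rw [hcdef]
        calc β * (z₃ * α ^ (r - 1)) * β⁻¹ = (β * z₃) * α ^ (r - 1) * β⁻¹ := by group
          _ = (z₃ * β) * α ^ (r - 1) * β⁻¹ := by rw [(cz₃ β).eq]
          _ = _ := by group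
      rw [e, hconjpow, hcdef, (cz₃ _).mul_pow, ← pow_mul, ← mul_assoc, ← pow_succ', mul_comm r,
        mul_comm (r - 1) r]
      congr 2
    have hβkc : ∀ j : ℕ, β ^ j * c * (β ^ j)⁻¹ = c ^ (r ^ j) := by
      intro j
      induction j with
      | zero => simp
      | succ j ih =>
        have e : β ^ (j + 1) * c * (β ^ (j + 1))⁻¹ = β * (β ^ j * c * (β ^ j)⁻¹) * β⁻¹ := by
          rw [pow_succ']; group
        rw [e, ih, ← conj_pow, hβc, ← pow_mul, pow_succ, mul_comm]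
    have hdecomp : ∀ x : Γ, ∃ k ∈ Subgroup.center Γ, ∃ i j : ℕ, x = k * α ^ i * β ^ j := by
      intro x
      obtain ⟨i, j, hij⟩ := hgen (σ x)
      refine ⟨x * (α ^ i * β ^ j)⁻¹, ?_, i, j, by group⟩
      apply hcent
      rw [MonoidHom.mem_ker]
      simp [hα, hβ, hij]
    have hnorm : ∀ x : Γ, x * c * x⁻¹ ∈ Subgroup.zpowers c := by
      intro x
      obtain ⟨k, hk, i, j, rfl⟩ := hdecomp x
      have ck : ∀ y : Γ, Commute k y := fun y => (Subgroup.mem_center_iff.mp hk y).symm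
      have e : k * α ^ i * β ^ j * c * (k * α ^ i * β ^ j)⁻¹ =
          k * (α ^ i * (β ^ j * c * (β ^ j)⁻¹) * (α ^ i)⁻¹) * k⁻¹ := by group
      rw [e, hβkc]
      have c1 : Commute (α ^ i) (c ^ r ^ j) := (cα.pow_left i).pow_right _
      have e2 : α ^ i * c ^ r ^ j * (α ^ i)⁻¹ = c ^ r ^ j := by rw [c1.eq]; group
      rw [e2]
      have e3 : k * c ^ r ^ j * k⁻¹ = c ^ r ^ j := by rw [(ck _).eq]; group
      rw [e3]
      exact Subgroup.pow_mem _ (Subgroup.mem_zpowers c) _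
    haveI hCn : (Subgroup.zpowers c).Normal := by
      constructor
      intro y hy x
      obtain ⟨e, rfl⟩ := Subgroup.mem_zpowers_iff.mp hy
      rw [← conj_zpow]
      exact Subgroup.zpow_mem _ (hnorm x) e
    let q := QuotientGroup.mk' (Subgroup.zpowers c)
    have qβα : Commute (q β) (q α) := by
      have e : q (β * α * β⁻¹ * α⁻¹) = 1 := by
        rw [hc]
        exact (QuotientGroup.eq_one_iff _).2 (Subgroup.mem_zpowers c)
      simp only [map_mul, map_inv] at e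
      show q β * q α = q α * q β
      calc q β * q α = (q β * q α * (q β)⁻¹ * (q α)⁻¹) * q α * q β := by group
        _ = q α * q β := by rw [e, one_mul]
    have qcomm : ∀ x y : Γ, Commute (q x) (q y) := by
      have hxα : ∀ x : Γ, Commute (q x) (q α) := by
        intro x
        obtain ⟨k, hk, i, j, rfl⟩ := hdecomp x
        have ck : Commute (q k) (q α) := by
          show q k * q α = q α * q k
          rw [← map_mul, ← map_mul, (Subgroup.mem_center_iff.mp hk α)]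
        simp only [map_mul, map_pow]
        exact (ck.mul_left (Commute.pow_left (Commute.refl _) i)).mul_left (qβα.pow_left j)
      have hxβ : ∀ x : Γ, Commute (q x) (q β) := by
        intro x
        obtain ⟨k, hk, i, j, rfl⟩ := hdecomp x
        have ck : Commute (q k) (q β) := by
          show q k * q β = q β * q k
          rw [← map_mul, ← map_mul, (Subgroup.mem_center_iff.mp hk β)]
        simp only [map_mul, map_pow]
        exact (ck.mul_left (qβα.symm.pow_left i)).mul_left (Commute.pow_left (Commute.refl _) j)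
      intro x y
      obtain ⟨k, hk, i, j, rfl⟩ := hdecomp y
      have ck : Commute (q x) (q k) := by
        show q x * q k = q k * q x
        rw [← map_mul, ← map_mul, (Subgroup.mem_center_iff.mp hk x)]
      simp only [map_mul, map_pow]
      exact (ck.mul_right ((hxα x).pow_right i)).mul_right ((hxβ x).pow_right j)
    have hcomm_le : commutator Γ ≤ Subgroup.zpowers c := by
      rw [commutator_def, Subgroup.commutator_le]
      intro x _ y _
      rw [← QuotientGroup.eq_one_iff]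
      show q ⁅x, y⁆ = 1
      rw [map_commutatorElement]
      exact commutatorElement_eq_one_iff_commute.mpr (qcomm x y)
    intro x hx
    obtain ⟨e, he⟩ := Subgroup.mem_zpowers_iff.mp (hcomm_le (hstem hx))
    -- σ x = a^((r-1) e) = 1
    have hσc : σ c = a ^ (r - 1) := by
      rw [← hc]
      simp only [map_mul, map_inv, hα, hβ, hba]
      nth_rewrite 1 [← hr1]
      rw [pow_succ]; group
    have h4 : a ^ (((r - 1 : ℕ) : ℤ) * e) = 1 := by
      have : σ x = 1 := hx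
      rw [← he, map_zpow, hσc, ← zpow_natCast, ← zpow_mul] at this
      exact this
    have h5 := hord _ h4
    have h6 : m ∣ (r - 1) * e.natAbs := by
      have := Int.natAbs_dvd_natAbs.mpr h5
      rwa [Int.natAbs_mul, Int.natAbs_natCast, Int.natAbs_natCast] at this
    have h7 : m' ∣ e.natAbs := by
      have h8 : d * m' ∣ d * (ρ * e.natAbs) := by
        rw [hdm, ← mul_assoc, hdρ]; exact h6
      exact hcop.dvd_of_dvd_mul_left (Nat.dvd_of_mul_dvd_mul_left hd0 h8)
    have h9 : (m' : ℤ) ∣ e := Int.natCast_dvd.mpr h7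
    obtain ⟨e', he'⟩ := h9
    refine ⟨e', ?_⟩
    rw [← he, he', zpow_mul, zpow_natCast]

/-! ### The model `(ZMod m × ZMod c) ⋊ ℤ` -/

theorem mulAut_zpow_fix {N : Type*} [Group N] (f : MulAut N) (v : N) (hv : f v = v) (e : ℤ) :
    (f ^ e) v = v := by
  have h : f ∈ MulAction.stabilizer (MulAut N) v := by
    rw [MulAction.mem_stabilizer_iff]; exact hv
  have := Subgroup.zpow_mem _ h e
  rw [MulAction.mem_stabilizer_iff] at this
  exact this

theorem compat_of_gen {N H : Type*} [Group N] [Group H] (f : MulAut N) (fn : N →* H) (h₀ : H)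
    (h1 : ∀ x, fn (f x) = h₀ * fn x * h₀⁻¹) (k : Multiplicative ℤ) :
    fn.comp ((zpowersHom (MulAut N) f) k).toMonoidHom =
      (MulAut.conj ((zpowersHom H h₀) k)).toMonoidHom.comp fn := by
  have key : ∀ e : ℤ, ∀ x, fn ((f ^ e) x) = h₀ ^ e * fn x * (h₀ ^ e)⁻¹ := by
    intro e
    induction e using Int.induction_on with
    | zero => intro x; simp
    | succ e ih =>
      intro x
      rw [zpow_add_one, MulAut.mul_apply, ih, h1, zpow_add_one]
      group
    | pred e ih =>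
      intro x
      have h2 : fn (f⁻¹ x) = h₀⁻¹ * fn x * h₀ := by
        have := h1 (f⁻¹ x)
        rw [MulAut.apply_inv_self] at this
        rw [this]; group
      rw [zpow_sub_one, MulAut.mul_apply, ih, h2, zpow_sub_one]
      group
  ext x
  simp only [MonoidHom.comp_apply, MulEquiv.coe_toMonoidHom, zpowersHom_apply, MulAut.conj_apply]
  exact key _ x

section Model

variable (m c r r' : ℕ) (hc : c ∣ m) (hrr' : ((r : ZMod m) * (r' : ZMod m)) = 1)

/-- The additive automorphism `(i, j) ↦ (r i, i + j)` of `ZMod m × ZMod c`. -/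
def metaPhi : (ZMod m × ZMod c) ≃+ (ZMod m × ZMod c) where
  toFun x := ((r : ZMod m) * x.1, ZMod.castHom hc (ZMod c) x.1 + x.2)
  invFun x := ((r' : ZMod m) * x.1, x.2 - ZMod.castHom hc (ZMod c) ((r' : ZMod m) * x.1))
  left_inv := by
    intro x
    have h1 : (r' : ZMod m) * ((r : ZMod m) * x.1) = x.1 := by
      rw [← mul_assoc, mul_comm (r' : ZMod m), hrr', one_mul]
    ext
    · exact h1
    · show ZMod.castHom hc (ZMod c) x.1 + x.2 -
        ZMod.castHom hc (ZMod c) ((r' : ZMod m) * ((r : ZMod m) * x.1)) = x.2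
      rw [h1]; abel
  right_inv := by
    intro x
    have h1 : (r : ZMod m) * ((r' : ZMod m) * x.1) = x.1 := by
      rw [← mul_assoc, hrr', one_mul]
    ext
    · exact h1
    · show ZMod.castHom hc (ZMod c) ((r' : ZMod m) * x.1) +
        (x.2 - ZMod.castHom hc (ZMod c) ((r' : ZMod m) * x.1)) = x.2
      abel
  map_add' := by
    intro x y
    ext
    · show (r : ZMod m) * (x.1 + y.1) = (r : ZMod m) * x.1 + (r : ZMod m) * y.1
      ring
    · show ZMod.castHom hc (ZMod c) (x.1 + y.1) + (x.2 + y.2) =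
        (ZMod.castHom hc (ZMod c) x.1 + x.2) + (ZMod.castHom hc (ZMod c) y.1 + y.2)
      rw [map_add]; abel

/-- The corresponding automorphism of the multiplicative group. -/
def metaAut : MulAut (Multiplicative (ZMod m × ZMod c)) :=
  AddEquiv.toMultiplicative (metaPhi m c r r' hc hrr')

theorem metaAut_apply (i : ZMod m) (j : ZMod c) :
    metaAut m c r r' hc hrr' (Multiplicative.ofAdd (i, j)) =
      Multiplicative.ofAdd ((r : ZMod m) * i, ZMod.castHom hc (ZMod c) i + j) := rfl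

theorem metaAut_pow_apply (k : ℕ) (i : ZMod m) (j : ZMod c) :
    (metaAut m c r r' hc hrr' ^ k) (Multiplicative.ofAdd (i, j)) =
      Multiplicative.ofAdd ((r : ZMod m) ^ k * i,
        ((∑ u ∈ Finset.range k, r ^ u : ℕ) : ZMod c) * ZMod.castHom hc (ZMod c) i + j) := by
  induction k with
  | zero => simp
  | succ k ih =>
    rw [pow_succ', MulAut.mul_apply, ih, metaAut_apply, Finset.sum_range_succ]
    congr 1
    ext
    · show (r : ZMod m) * ((r : ZMod m) ^ k * i) = (r : ZMod m) ^ (k + 1) * i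
      ring
    · show ZMod.castHom hc (ZMod c) ((r : ZMod m) ^ k * i) +
          (((∑ u ∈ Finset.range k, r ^ u : ℕ) : ZMod c) * ZMod.castHom hc (ZMod c) i + j) =
        (((∑ u ∈ Finset.range k, r ^ u + r ^ k : ℕ)) : ZMod c) * ZMod.castHom hc (ZMod c) i + j
      rw [map_mul, map_pow, map_natCast]
      push_cast
      ring

/-- The action of `ℤ`. -/
def metaAct : Multiplicative ℤ →* MulAut (Multiplicative (ZMod m × ZMod c)) :=
  zpowersHom _ (metaAut m c r r' hc hrr')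

theorem metaAct_ofAdd_one : metaAct m c r r' hc hrr' (Multiplicative.ofAdd 1) =
    metaAut m c r r' hc hrr' := by
  unfold metaAct
  rw [zpowersHom_apply]
  simp

theorem metaAct_fix (v : Multiplicative (ZMod m × ZMod c)) (hv : metaAut m c r r' hc hrr' v = v)
    (k : Multiplicative ℤ) : metaAct m c r r' hc hrr' k v = v := by
  unfold metaAct
  rw [zpowersHom_apply]
  exact mulAut_zpow_fix _ v hv _

variable (n : ℕ) (hrn : (r : ZMod m) ^ n = 1)
  (hcS : ((∑ u ∈ Finset.range n, r ^ u : ℕ) : ZMod c) = 0)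

include hrn hcS in
theorem metaAut_pow_n : metaAut m c r r' hc hrr' ^ n = 1 := by
  apply MulEquiv.ext
  intro x
  obtain ⟨⟨i, j⟩, rfl⟩ := Multiplicative.ofAdd.surjective x
  rw [metaAut_pow_apply, hrn, hcS]
  simp

include hrn hcS in
theorem metaAct_mul_n (s : ℤ) :
    metaAct m c r r' hc hrr' (Multiplicative.ofAdd ((n : ℤ) * s)) = 1 := by
  unfold metaAct
  rw [zpowersHom_apply]
  show metaAut m c r r' hc hrr' ^ ((n : ℤ) * s) = 1
  rw [zpow_mul, zpow_natCast, metaAut_pow_n m c r r' hc hrr' n hrn hcS, one_zpow]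

/-- The model group. -/
abbrev MetaGroup : Type :=
  Multiplicative (ZMod m × ZMod c) ⋊[metaAct m c r r' hc hrr'] Multiplicative ℤ

include hrn hcS in
theorem meta_mem_center (y : MetaGroup m c r r' hc hrr')
    (hr : ∃ s : ℤ, y.right = Multiplicative.ofAdd ((n : ℤ) * s))
    (hl : metaAut m c r r' hc hrr' y.left = y.left) :
    y ∈ Subgroup.center (MetaGroup m c r r' hc hrr') := by
  obtain ⟨s, hs⟩ := hr
  rw [Subgroup.mem_center_iff]
  intro x
  apply SemidirectProduct.ext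
  · rw [SemidirectProduct.mul_left, SemidirectProduct.mul_left, metaAct_fix m c r r' hc hrr' _ hl, hs,
      metaAct_mul_n m c r r' hc hrr' n hrn hcS]
    rw [MulAut.one_apply, mul_comm]
  · rw [SemidirectProduct.mul_right, SemidirectProduct.mul_right, mul_comm]

/-- Homomorphisms out of the model. -/
theorem exists_meta_hom {Q : Type*} [Group Q] (a b : Q) (ham : a ^ m = 1)
    (hba : b * a * b⁻¹ = a ^ r) :
    ∃ τ : MetaGroup m c r r' hc hrr' →* Q, ∀ (u : ℤ) (j : ZMod c) (k : ℤ),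
      τ ⟨Multiplicative.ofAdd ((u : ZMod m), j), Multiplicative.ofAdd k⟩ = a ^ u * b ^ k := by
  obtain ⟨fa, hfa⟩ := exists_zmod_hom m a ham
  let f₁ : Multiplicative (ZMod m × ZMod c) →* Q :=
    fa.comp (AddMonoidHom.toMultiplicative (AddMonoidHom.fst (ZMod m) (ZMod c)))
  have hf₁ : ∀ (u : ℤ) (j : ZMod c), f₁ (Multiplicative.ofAdd ((u : ZMod m), j)) = a ^ u := by
    intro u j
    exact hfa u
  have h1 : ∀ x, f₁ (metaAut m c r r' hc hrr' x) = b * f₁ x * b⁻¹ := by
    intro x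
    obtain ⟨⟨i, j⟩, rfl⟩ := Multiplicative.ofAdd.surjective x
    obtain ⟨u, rfl⟩ := ZMod.intCast_surjective i
    rw [metaAut_apply, hf₁]
    have e : (r : ZMod m) * (u : ZMod m) = (((r : ℤ) * u : ℤ) : ZMod m) := by push_cast; ring
    rw [e, hf₁, ← conj_zpow, hba, zpow_mul, zpow_natCast]
  have hcompat : ∀ g : Multiplicative ℤ, f₁.comp (metaAct m c r r' hc hrr' g).toMonoidHom =
      (MulAut.conj ((zpowersHom Q b) g)).toMonoidHom.comp f₁ :=
    compat_of_gen (metaAut m c r r' hc hrr') f₁ b h1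
  refine ⟨SemidirectProduct.lift f₁ (zpowersHom Q b) hcompat, ?_⟩
  intro u j k
  rw [SemidirectProduct.mk_eq_inl_mul_inr, map_mul, SemidirectProduct.lift_inl,
    SemidirectProduct.lift_inr, hf₁, zpowersHom_apply]
  rfl

end Model

/-! ### Normal form in the universal metacyclic group -/

theorem meta_nf {Q : Type*} [Group Q] (m n r r' t : ℕ) (hn : 0 < n)
    (hrr' : ((r : ZMod m) * (r' : ZMod m)) = 1) (hrn : (r : ZMod m) ^ n = 1)
    (hrt : (r : ZMod m) * (t : ZMod m) = t)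
    (a b : Q) (hbn : b ^ n = a ^ t)
    (huniv : ∀ (T : Type) [Group T] (x y : T), x ^ m = 1 → y ^ n * (x ^ t)⁻¹ = 1 →
      y * x * y⁻¹ * (x ^ r)⁻¹ = 1 → ∃ ν : Q →* T, ν a = x ∧ ν b = y)
    (u k : ℤ) (h : a ^ u * b ^ k = 1) :
    ∃ s : ℤ, k = n * s ∧ ((u : ZMod m) = -((t : ZMod m) * s)) := by
  have hc : 1 ∣ m := one_dvd m
  have hcS : ((∑ u ∈ Finset.range n, r ^ u : ℕ) : ZMod 1) = 0 := Subsingleton.elim _ _
  have hact_n : metaAct m 1 r r' hc hrr' (Multiplicative.ofAdd (n : ℤ)) = 1 := by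
    have := metaAct_mul_n m 1 r r' hc hrr' n hrn hcS 1
    rwa [mul_one] at this
  obtain ⟨γ₁, hγ₁⟩ : ∃ x : MetaGroup m 1 r r' hc hrr',
      x = ⟨Multiplicative.ofAdd (-(t : ZMod m), 0), Multiplicative.ofAdd (n : ℤ)⟩ := ⟨_, rfl⟩
  have hγc : γ₁ ∈ Subgroup.center (MetaGroup m 1 r r' hc hrr') := by
    apply meta_mem_center m 1 r r' hc hrr' n hrn hcS
    · exact ⟨1, by rw [hγ₁, mul_one]⟩
    · rw [hγ₁]
      show metaAut m 1 r r' hc hrr' (Multiplicative.ofAdd (-(t : ZMod m), 0)) =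
        Multiplicative.ofAdd (-(t : ZMod m), 0)
      rw [metaAut_apply]
      congr 2
      · rw [mul_neg, hrt]
      · exact Subsingleton.elim _ _
  haveI hnorm : (Subgroup.zpowers γ₁).Normal :=
    normal_of_le_center' _ (Subgroup.zpowers_le.mpr hγc)
  obtain ⟨α₁, hα₁⟩ : ∃ x : MetaGroup m 1 r r' hc hrr',
      x = SemidirectProduct.inl (Multiplicative.ofAdd (1, 0)) := ⟨_, rfl⟩
  obtain ⟨β₁, hβ₁⟩ : ∃ x : MetaGroup m 1 r r' hc hrr',
      x = SemidirectProduct.inr (Multiplicative.ofAdd 1) := ⟨_, rfl⟩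
  have hαpow : ∀ u : ℤ, α₁ ^ u = SemidirectProduct.inl (Multiplicative.ofAdd ((u : ZMod m), 0)) := by
    intro u
    rw [hα₁, ← map_zpow, ← ofAdd_zsmul]
    congr 2
    ext
    · simp
    · exact Subsingleton.elim _ _
  have hβpow : ∀ k : ℤ, β₁ ^ k = SemidirectProduct.inr (Multiplicative.ofAdd k) := by
    intro k
    rw [hβ₁, ← map_zpow, ← ofAdd_zsmul]
    simp
  obtain ⟨q, hq⟩ : ∃ f : MetaGroup m 1 r r' hc hrr' →* MetaGroup m 1 r r' hc hrr' ⧸ Subgroup.zpowers γ₁,
      f = QuotientGroup.mk' (Subgroup.zpowers γ₁) := ⟨_, rfl⟩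
  have hqker : ∀ x, q x = 1 ↔ x ∈ Subgroup.zpowers γ₁ := by
    intro x
    rw [hq]
    exact QuotientGroup.eq_one_iff x
  have rel1 : (q α₁) ^ m = 1 := by
    rw [← map_pow, ← zpow_natCast, hαpow]
    have : (Multiplicative.ofAdd ((((m : ℕ) : ℤ) : ZMod m), (0 : ZMod 1))) = 1 := by
      simp
    rw [this, map_one, map_one]
  have rel2 : (q β₁) ^ n * ((q α₁) ^ t)⁻¹ = 1 := by
    have e0 : (q β₁) ^ n * ((q α₁) ^ t)⁻¹ = q (β₁ ^ n * (α₁ ^ t)⁻¹) := by
      simp only [map_mul, map_pow, map_inv]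
    rw [e0, hqker]
    have e : β₁ ^ n * (α₁ ^ t)⁻¹ = γ₁ := by
      rw [← zpow_natCast, ← zpow_natCast α₁, hαpow, hβpow, hγ₁]
      apply SemidirectProduct.ext
      · rw [SemidirectProduct.mul_left, SemidirectProduct.left_inr, SemidirectProduct.right_inr,
          hact_n, one_mul, MulAut.one_apply, ← map_inv, SemidirectProduct.left_inl]
        show Multiplicative.ofAdd (-((((t : ℕ) : ℤ) : ZMod m), (0 : ZMod 1))) =
          Multiplicative.ofAdd (-(t : ZMod m), 0)
        congr 1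
        ext
        · simp
        · exact Subsingleton.elim _ _
      · rw [SemidirectProduct.mul_right, SemidirectProduct.right_inr, ← map_inv,
          SemidirectProduct.right_inl, mul_one]
    rw [e]
    exact Subgroup.mem_zpowers γ₁
  have rel3 : q β₁ * q α₁ * (q β₁)⁻¹ * ((q α₁) ^ r)⁻¹ = 1 := by
    have e0 : q β₁ * q α₁ * (q β₁)⁻¹ * ((q α₁) ^ r)⁻¹ = q (β₁ * α₁ * β₁⁻¹ * (α₁ ^ r)⁻¹) := by
      simp only [map_mul, map_pow, map_inv]
    have e : β₁ * α₁ * β₁⁻¹ = α₁ ^ r := by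
      rw [← zpow_natCast, hαpow, hα₁, hβ₁]
      rw [← map_inv, ← SemidirectProduct.inl_aut, metaAct_ofAdd_one, metaAut_apply]
      congr 2
      ext
      · simp
      · exact Subsingleton.elim _ _
    rw [e0, e, mul_inv_cancel, map_one]
  obtain ⟨ν, hνa, hνb⟩ := huniv _ (q α₁) (q β₁) rel1 rel2 rel3
  have nf1 : ∀ u k : ℤ, a ^ u * b ^ k = 1 → ∃ s : ℤ, γ₁ ^ s = α₁ ^ u * β₁ ^ k := by
    intro u k h
    have h1 : ν (a ^ u * b ^ k) = 1 := by rw [h, map_one]
    have e0 : ν (a ^ u * b ^ k) = q (α₁ ^ u * β₁ ^ k) := by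
      simp only [map_mul, map_zpow, hνa, hνb]
    rw [e0, hqker] at h1
    exact Subgroup.mem_zpowers_iff.mp h1
  have hright : ∀ (s u k : ℤ), γ₁ ^ s = α₁ ^ u * β₁ ^ k → k = n * s := by
    intro s u k h
    have h1 := congrArg SemidirectProduct.rightHom h
    rw [map_zpow, map_mul, hαpow, hβpow, SemidirectProduct.rightHom_inl,
      SemidirectProduct.rightHom_inr, one_mul] at h1
    have h2 : (SemidirectProduct.rightHom γ₁ : Multiplicative ℤ) = Multiplicative.ofAdd (n : ℤ) := by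
      rw [hγ₁]; rfl
    rw [h2, ← ofAdd_zsmul] at h1
    have h3 := Multiplicative.ofAdd.injective h1
    rw [smul_eq_mul] at h3
    rw [← h3, mul_comm]
  obtain ⟨s, hs⟩ := nf1 u k h
  have hk := hright s u k hs
  refine ⟨s, hk, ?_⟩
  have h2 : a ^ (u + (t : ℤ) * s) * b ^ (0 : ℤ) = 1 := by
    rw [zpow_zero, mul_one, zpow_add, zpow_mul, zpow_natCast, ← hbn, ← zpow_natCast, ← zpow_mul, ← hk]
    exact h
  obtain ⟨s', hs'⟩ := nf1 _ _ h2
  have hk' := hright s' _ _ hs'
  have hs'0 : s' = 0 := by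
    have hn' : (n : ℤ) ≠ 0 := by exact_mod_cast hn.ne'
    rcases mul_eq_zero.mp hk'.symm with h | h
    · exact absurd h hn'
    · exact h
  rw [hs'0, zpow_zero, zpow_zero, mul_one, hαpow] at hs'
  have h3 : (Multiplicative.ofAdd (((u + (t : ℤ) * s : ℤ) : ZMod m), (0 : ZMod 1))) = 1 := by
    apply SemidirectProduct.inl_injective (φ := metaAct m 1 r r' hc hrr')
    rw [← hs', map_one]
  have h4 : (((u + (t : ℤ) * s : ℤ) : ZMod m), (0 : ZMod 1)) = 0 := Multiplicative.ofAdd.injective h3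
  have h5 : ((u + (t : ℤ) * s : ℤ) : ZMod m) = 0 := congrArg Prod.fst h4
  push_cast at h5
  exact eq_neg_of_add_eq_zero_left h5

/-! ### The multiplier of the universal metacyclic group -/

theorem metacyclic_multiplier_aux {Q : Type} [Group Q] (m n r l : ℕ) (hm : 0 < m) (hn : 0 < n)
    (hr : 0 < r) (hrn : r ^ n ≡ 1 [MOD m]) (a b : Q)
    (ham : a ^ m = 1) (hbn : b ^ n = a ^ (m * l / Nat.gcd m (r - 1)))
    (hba : b * a * b⁻¹ = a ^ r)
    (hcl : Subgroup.closure ({a, b} : Set Q) = ⊤)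
    (huniv : ∀ (T : Type) [Group T] (x y : T), x ^ m = 1 →
      y ^ n * (x ^ (m * l / Nat.gcd m (r - 1)))⁻¹ = 1 →
      y * x * y⁻¹ * (x ^ r)⁻¹ = 1 → ∃ ν : Q →* T, ν a = x ∧ ν b = y) :
    Cfsg.HasCyclicSchurMultiplier Q
      (Nat.gcd l (Nat.gcd m (r - 1) * Nat.gcd m (∑ i ∈ Finset.range n, r ^ i) / m)) := by
  haveI : NeZero m := ⟨hm.ne'⟩
  obtain ⟨d, m', ρ, lam, hd, hdm, hdρ, hd0, hm'0, hcop, hS, ht, hh, hrn'⟩ :=
    metacyclic_arith m n r l hm hr hrn
  have hr1 : r - 1 + 1 = r := Nat.sub_add_cancel hr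
  -- ZMod facts
  have hrnZ : (r : ZMod m) ^ n = 1 := by
    have := (ZMod.natCast_eq_natCast_iff (r ^ n) 1 m).2 hrn
    rw [Nat.cast_pow, Nat.cast_one] at this
    exact this
  have hrr' : ((r : ZMod m) * ((r ^ (n - 1) : ℕ) : ZMod m)) = 1 := by
    rw [Nat.cast_pow, ← pow_succ']
    have : n - 1 + 1 = n := Nat.sub_add_cancel hn
    rw [this, hrnZ]
  have hrt : (r : ZMod m) * ((m * l / Nat.gcd m (r - 1) : ℕ) : ZMod m) =
      ((m * l / Nat.gcd m (r - 1) : ℕ) : ZMod m) := by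
    rw [← hd, ht]
    have e1 : (r : ZMod m) = ((r - 1 : ℕ) : ZMod m) + 1 := by
      have := congrArg (Nat.cast : ℕ → ZMod m) hr1
      rw [Nat.cast_add, Nat.cast_one] at this
      exact this.symm
    have e2 : (((r - 1) * (m' * l) : ℕ) : ZMod m) = 0 := by
      rw [ZMod.natCast_eq_zero_iff]
      refine ⟨ρ * l, ?_⟩
      rw [← hdρ, ← hdm]; ring
    rw [e1, add_mul, one_mul, ← Nat.cast_mul, e2, zero_add]
  -- normal form
  have NF := meta_nf m n r (r ^ (n - 1)) (m * l / Nat.gcd m (r - 1)) hn hrr' hrnZ hrt a b hbn huniv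
  have hord : ∀ u : ℤ, a ^ u = 1 → (m : ℤ) ∣ u := by
    intro u hu
    obtain ⟨s, hs, hus⟩ := NF u 0 (by rw [zpow_zero, mul_one]; exact hu)
    have hs0 : s = 0 := by
      have hn' : (n : ℤ) ≠ 0 := by exact_mod_cast hn.ne'
      rcases mul_eq_zero.mp hs.symm with h | h
      · exact absurd h hn'
      · exact h
    rw [hs0, Int.cast_zero, mul_zero, neg_zero] at hus
    exact (ZMod.intCast_zmod_eq_zero_iff_dvd u m).1 hus
  -- the central extension
  set g := Nat.gcd l (Nat.gcd d lam) with hg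
  have hg0 : 0 < g := Nat.gcd_pos_of_pos_right _ (Nat.gcd_pos_of_pos_left _ hd0)
  have hgl : g ∣ l := Nat.gcd_dvd_left _ _
  have hgd : g ∣ d := (Nat.gcd_dvd_right _ _).trans (Nat.gcd_dvd_left _ _)
  have hglam : g ∣ lam := (Nat.gcd_dvd_right _ _).trans (Nat.gcd_dvd_right _ _)
  have hc : m' * g ∣ m := by
    rw [← hdm, mul_comm d m']
    exact Nat.mul_dvd_mul_left _ hgd
  have hcS : ((∑ u ∈ Finset.range n, r ^ u : ℕ) : ZMod (m' * g)) = 0 := by
    rw [ZMod.natCast_eq_zero_iff, hS]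
    exact Nat.mul_dvd_mul_left _ hglam
  have hct : ((m * l / Nat.gcd m (r - 1) : ℕ) : ZMod (m' * g)) = 0 := by
    rw [ZMod.natCast_eq_zero_iff, ← hd, ht]
    exact Nat.mul_dvd_mul_left _ hgl
  obtain ⟨τ, hτ⟩ := exists_meta_hom m (m' * g) r (r ^ (n - 1)) hc hrr' a b ham hba
  have hτsurj : Function.Surjective τ := by
    rw [← MonoidHom.range_eq_top, eq_top_iff, ← hcl, Subgroup.closure_le]
    intro x hx
    rcases hx with rfl | rfl
    · refine ⟨⟨Multiplicative.ofAdd (((1 : ℤ) : ZMod m), 0), Multiplicative.ofAdd 0⟩, ?_⟩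
      rw [hτ]; simp
    · refine ⟨⟨Multiplicative.ofAdd (((0 : ℤ) : ZMod m), 0), Multiplicative.ofAdd 1⟩, ?_⟩
      rw [hτ]; simp
  have hτform : ∀ y : MetaGroup m (m' * g) r (r ^ (n - 1)) hc hrr', ∃ (u : ℤ) (j : ZMod (m' * g)) (k : ℤ),
      y = ⟨Multiplicative.ofAdd ((u : ZMod m), j), Multiplicative.ofAdd k⟩ := by
    rintro ⟨yl, yr⟩
    obtain ⟨⟨i, j⟩, rfl⟩ := Multiplicative.ofAdd.surjective yl
    obtain ⟨k, rfl⟩ := Multiplicative.ofAdd.surjective yr
    obtain ⟨u, rfl⟩ := ZMod.intCast_surjective i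
    exact ⟨u, j, k, rfl⟩
  have hker : τ.ker ≤ Subgroup.center (MetaGroup m (m' * g) r (r ^ (n - 1)) hc hrr') := by
    intro y hy
    obtain ⟨u, j, k, rfl⟩ := hτform y
    rw [MonoidHom.mem_ker, hτ] at hy
    obtain ⟨s, hs, hus⟩ := NF u k hy
    apply meta_mem_center m (m' * g) r (r ^ (n - 1)) hc hrr' n hrnZ hcS
    · exact ⟨s, by rw [hs]⟩
    · show metaAut m (m' * g) r (r ^ (n - 1)) hc hrr' (Multiplicative.ofAdd ((u : ZMod m), j)) =
        Multiplicative.ofAdd ((u : ZMod m), j)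
      rw [metaAut_apply, hus]
      congr 2
      · rw [mul_neg, ← mul_assoc, hrt]
      · rw [map_neg, map_mul, map_natCast, hct, zero_mul, neg_zero, zero_add]
  -- generation by natural powers
  have hbnm : b ^ (n * m) = 1 := by
    rw [pow_mul, hbn, ← pow_mul, mul_comm, pow_mul, ham, one_pow]
  have hgenN : ∀ x : Q, ∃ i j : ℕ, i < m ∧ j < n * m ∧ x = a ^ i * b ^ j := by
    intro x
    obtain ⟨y, rfl⟩ := hτsurj x
    obtain ⟨u, j, k, rfl⟩ := hτform y
    rw [hτ]
    have hnm : 0 < n * m := Nat.mul_pos hn hm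
    refine ⟨(u % (m : ℤ)).toNat, (k % ((n * m : ℕ) : ℤ)).toNat, ?_, ?_, ?_⟩
    · have h1 : u % (m : ℤ) < m := Int.emod_lt_of_pos _ (by exact_mod_cast hm)
      have h2 : 0 ≤ u % (m : ℤ) := Int.emod_nonneg _ (by exact_mod_cast hm.ne')
      omega
    · have h1 : k % ((n * m : ℕ) : ℤ) < (n * m : ℕ) := Int.emod_lt_of_pos _ (by exact_mod_cast hnm)
      have h2 : 0 ≤ k % ((n * m : ℕ) : ℤ) := Int.emod_nonneg _ (by exact_mod_cast hnm.ne')
      omega
    · have h2 : 0 ≤ u % (m : ℤ) := Int.emod_nonneg _ (by exact_mod_cast hm.ne')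
      have h3 : 0 ≤ k % ((n * m : ℕ) : ℤ) := Int.emod_nonneg _ (by exact_mod_cast hnm.ne')
      rw [zpow_eq_zpow_emod' u ham, zpow_eq_zpow_emod' k hbnm, ← zpow_natCast, ← zpow_natCast,
        Int.toNat_of_nonneg h2, Int.toNat_of_nonneg h3]
  haveI : Finite Q := by
    apply Finite.of_surjective (fun p : Fin m × Fin (n * m) => a ^ p.1.val * b ^ p.2.val)
    intro x
    obtain ⟨i, j, hi, hj, rfl⟩ := hgenN x
    exact ⟨(⟨i, hi⟩, ⟨j, hj⟩), rfl⟩
  have hgen : ∀ x : Q, ∃ i j : ℕ, x = a ^ i * b ^ j := by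
    intro x
    obtain ⟨i, j, -, -, h⟩ := hgenN x
    exact ⟨i, j, h⟩
  -- upper bound
  have hUB : ∀ (Γ : Type) [Group Γ] [Finite Γ] (σ : Γ →* Q), Cfsg.IsStemExtension σ →
      ∃ κ : Γ, κ ∈ σ.ker ∧ κ ^ g = 1 ∧ ∀ x ∈ σ.ker, ∃ j : ℤ, x = κ ^ j := by
    intro Γ _ _ σ hσ
    have := metacyclic_stem_ker a b m n r l hm hr hrn hba hbn hgen hord ham σ hσ
    rw [← hd, hh] at this
    exact this
  rw [← hd, hh]
  -- the element ω
  obtain ⟨ω, hω⟩ : ∃ x : MetaGroup m (m' * g) r (r ^ (n - 1)) hc hrr',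
      x = ⟨Multiplicative.ofAdd ((((0 : ℤ) : ZMod m)), ((m' : ℕ) : ZMod (m' * g))),
        Multiplicative.ofAdd 0⟩ := ⟨_, rfl⟩
  have hωker : ω ∈ τ.ker := by
    rw [MonoidHom.mem_ker, hω, hτ]; simp
  have hωcomm : ω ∈ commutator (MetaGroup m (m' * g) r (r ^ (n - 1)) hc hrr') := by
    have e : ⁅(SemidirectProduct.inr (Multiplicative.ofAdd (1 : ℤ)) :
          MetaGroup m (m' * g) r (r ^ (n - 1)) hc hrr'),
        SemidirectProduct.inl (Multiplicative.ofAdd ((1 : ZMod m), (0 : ZMod (m' * g))))⁆ ^ m' = ω := by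
      rw [commutatorElement_def, ← map_inv, ← SemidirectProduct.inl_aut, metaAct_ofAdd_one,
        metaAut_apply, ← map_inv, ← map_mul, ← map_pow, hω]
      apply SemidirectProduct.ext
      · rw [SemidirectProduct.left_inl]
        show Multiplicative.ofAdd (m' • (((r : ZMod m) * 1, ZMod.castHom hc (ZMod (m' * g)) 1 + 0) +
          -((1 : ZMod m), (0 : ZMod (m' * g))))) = _
        congr 1
        ext
        · have e1 : (r : ZMod m) = ((r - 1 : ℕ) : ZMod m) + 1 := by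
            have := congrArg (Nat.cast : ℕ → ZMod m) hr1
            rw [Nat.cast_add, Nat.cast_one] at this
            exact this.symm
          have e2 : ((m' * (r - 1) : ℕ) : ZMod m) = 0 := by
            rw [ZMod.natCast_eq_zero_iff]
            refine ⟨ρ, ?_⟩
            rw [← hdρ, ← hdm]; ring
          simp only [Prod.smul_mk, Prod.mk_add_mk, Prod.neg_mk, Prod.fst, nsmul_eq_mul]
          rw [e1, Int.cast_zero]
          have : ((m' : ℕ) : ZMod m) * ((((r - 1 : ℕ) : ZMod m) + 1) * 1 + -1) =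
              ((m' * (r - 1) : ℕ) : ZMod m) := by push_cast; ring
          rw [this, e2]
        · show (m' : ℕ) • (ZMod.castHom hc (ZMod (m' * g)) 1 + 0 + -0) = ((m' : ℕ) : ZMod (m' * g))
          rw [map_one]; simp
      · rw [SemidirectProduct.right_inl]; rfl
    rw [← e, commutator_def]
    exact Subgroup.pow_mem _ (Subgroup.commutator_mem_commutator (Subgroup.mem_top _)
      (Subgroup.mem_top _)) _
  have hωord : ∀ j : ℕ, ω ^ j = 1 → g ∣ j := by
    intro j hj
    have e : ω = SemidirectProduct.inl (Multiplicative.ofAdd ((((0 : ℤ) : ZMod m)),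
        ((m' : ℕ) : ZMod (m' * g)))) := by rw [hω]; rfl
    rw [e, ← map_pow, ← ofAdd_nsmul] at hj
    have h3 : Multiplicative.ofAdd (j • ((((0 : ℤ) : ZMod m)), ((m' : ℕ) : ZMod (m' * g)))) = 1 := by
      apply SemidirectProduct.inl_injective (φ := metaAct m (m' * g) r (r ^ (n - 1)) hc hrr')
      rw [hj, map_one]
    have h4 : j • ((((0 : ℤ) : ZMod m)), ((m' : ℕ) : ZMod (m' * g))) = 0 :=
      Multiplicative.ofAdd.injective h3
    have h5 : j • ((m' : ℕ) : ZMod (m' * g)) = 0 := congrArg Prod.snd h4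
    rw [nsmul_eq_mul, ← Nat.cast_mul, ZMod.natCast_eq_zero_iff, mul_comm j m'] at h5
    exact Nat.dvd_of_mul_dvd_mul_left hm'0 h5
  exact hasCyclicSchurMultiplier_of_bounds g hg0 hUB τ hτsurj hker ω
    (Subgroup.mem_inf.mpr ⟨hωker, hωcomm⟩) hωord

/-- **Schur multiplier of a metacyclic group** given by the standard presentation. -/
theorem metacyclic_multiplier (m n r l : ℕ) (hm : 0 < m) (hn : 0 < n) (hr : 0 < r)
    (hrn : r ^ n ≡ 1 [MOD m]) :
    Cfsg.HasCyclicSchurMultiplier (PresentedGroup ({FreeGroup.of true ^ m,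
      (FreeGroup.of false) ^ n * (FreeGroup.of true ^ (m * l / Nat.gcd m (r - 1)))⁻¹,
      FreeGroup.of false * FreeGroup.of true * (FreeGroup.of false)⁻¹ * (FreeGroup.of true ^ r)⁻¹} :
        Set (FreeGroup Bool)))
      (Nat.gcd l (Nat.gcd m (r - 1) * Nat.gcd m (∑ i ∈ Finset.range n, r ^ i) / m)) := by
  set rels : Set (FreeGroup Bool) := {FreeGroup.of true ^ m,
      (FreeGroup.of false) ^ n * (FreeGroup.of true ^ (m * l / Nat.gcd m (r - 1)))⁻¹,
      FreeGroup.of false * FreeGroup.of true * (FreeGroup.of false)⁻¹ * (FreeGroup.of true ^ r)⁻¹}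
    with hrels
  have r1 : (PresentedGroup.of true : PresentedGroup rels) ^ m = 1 := by
    have : FreeGroup.of true ^ m ∈ rels := by rw [hrels]; simp
    have h := PresentedGroup.one_of_mem this
    rw [map_pow] at h
    exact h
  have r2 : (PresentedGroup.of false : PresentedGroup rels) ^ n *
      ((PresentedGroup.of true : PresentedGroup rels) ^ (m * l / Nat.gcd m (r - 1)))⁻¹ = 1 := by
    have : (FreeGroup.of false) ^ n * (FreeGroup.of true ^ (m * l / Nat.gcd m (r - 1)))⁻¹ ∈ rels := by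
      rw [hrels]; simp
    have h := PresentedGroup.one_of_mem this
    rw [map_mul, map_inv, map_pow, map_pow] at h
    exact h
  have r3 : (PresentedGroup.of false : PresentedGroup rels) * PresentedGroup.of true *
      (PresentedGroup.of false)⁻¹ * ((PresentedGroup.of true : PresentedGroup rels) ^ r)⁻¹ = 1 := by
    have : FreeGroup.of false * FreeGroup.of true * (FreeGroup.of false)⁻¹ *
        (FreeGroup.of true ^ r)⁻¹ ∈ rels := by
      rw [hrels]; simp
    have h := PresentedGroup.one_of_mem this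
    rw [map_mul, map_mul, map_mul, map_inv, map_inv, map_pow] at h
    exact h
  apply metacyclic_multiplier_aux m n r l hm hn hr hrn (PresentedGroup.of true)
    (PresentedGroup.of false) r1 (mul_inv_eq_one.mp r2) (mul_inv_eq_one.mp r3)
  · rw [eq_top_iff, ← PresentedGroup.closure_range_of]
    apply Subgroup.closure_mono
    rintro _ ⟨b, rfl⟩
    cases b <;> simp
  · intro T _ x y h1 h2 h3
    have hf : ∀ w ∈ rels, FreeGroup.lift (fun b : Bool => if b then x else y) w = 1 := by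
      intro w hw
      rw [hrels] at hw
      rcases hw with rfl | rfl | rfl
      · simpa using h1
      · simpa using h2
      · simpa using h3
    refine ⟨PresentedGroup.toGroup hf, ?_, ?_⟩
    · rw [PresentedGroup.toGroup.of]; rfl
    · rw [PresentedGroup.toGroup.of]; rfl

end Cfsg.Agent.Lib.helper69
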