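import Mathlib

/-!
# Transfer restricted to a normal subgroup

For `R ⊴ F`, `R ≤ S ≤ F` with `S` of finite index and `v : R →* K` (`K` commutative) invariant
under conjugation by `S`, the map `transV v x = ∏_{q ∈ F/S} v (q.out⁻¹ x q.out)` is a homomorphism
`R →* K` invariant under conjugation by all of `F`, and it is compatible with the transfer
`F →* A` of any `φ : S →* A` extending `v`.  (owner: helper69)
-/

set_option autoImplicit false

namespace Cfsg.Agent.Lib.helper69

open scoped Pointwise

/-- A subgroup contained in the centre is a commutative group. -/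
@[reducible] def commGroupOfLeCenter {E : Type*} [Group E] (K : Subgroup E)
    (h : K ≤ Subgroup.center E) : CommGroup K :=
  { (inferInstance : Group K) with
    mul_comm := fun a b => Subtype.ext (Subgroup.mem_center_iff.mp (h b.2) (a : E)) }

section

variable {F : Type*} [Group F] (R : Subgroup F) [hR : R.Normal]

/-- Conjugation `x ↦ t⁻¹ x t` on a normal subgroup. -/
def conjHom (t : F) : ↥R →* ↥R where
  toFun x := ⟨t⁻¹ * x * t, by
    have h := hR.conj_mem x x.2 t⁻¹
    rwa [inv_inv] at h⟩
  map_one' := by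
    apply Subtype.ext
    show t⁻¹ * (1 : F) * t = 1
    group
  map_mul' x y := by
    apply Subtype.ext
    show t⁻¹ * ((x : F) * (y : F)) * t = (t⁻¹ * (x : F) * t) * (t⁻¹ * (y : F) * t)
    group

theorem conjHom_coe (t : F) (x : R) : ((conjHom R t x : R) : F) = t⁻¹ * x * t := rfl

variable (S : Subgroup F) [Fintype (F ⧸ S)] {K : Type*} [CommGroup K] (v : ↥R →* K)

/-- The transfer-type product `∏_{q ∈ F/S} v (q.out⁻¹ x q.out)`. -/
noncomputable def transV : ↥R →* K := ∏ q : F ⧸ S, v.comp (conjHom R (Quotient.out q))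

theorem transV_apply (x : R) :
    transV R S v x = ∏ q : F ⧸ S, v (conjHom R (Quotient.out q) x) := by
  unfold transV
  rw [MonoidHom.finset_prod_apply]
  rfl

/-- `transV` is invariant under conjugation by `F` when `v` is invariant under conjugation
by `S`. -/
theorem transV_conj (hv : ∀ s ∈ S, ∀ x : R, v (conjHom R s x) = v x) (f : F) (x : R) :
    transV R S v (conjHom R f x) = transV R S v x := by
  rw [transV_apply, transV_apply]
  rw [← Equiv.prod_comp (MulAction.toPerm f : Equiv.Perm (F ⧸ S))
    (fun q => v (conjHom R (Quotient.out q) x))]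
  apply Finset.prod_congr rfl
  intro q _
  -- `(f • q).out = f * q.out * s` with `s ∈ S`
  set s : F := (f * Quotient.out q)⁻¹ * Quotient.out (f • q) with hs
  have hsS : s ∈ S := by
    rw [hs, ← QuotientGroup.eq]
    show ((f * Quotient.out q : F) : F ⧸ S) = ((Quotient.out (f • q) : F) : F ⧸ S)
    rw [QuotientGroup.out_eq']
    show f • ((Quotient.out q : F) : F ⧸ S) = f • q
    rw [QuotientGroup.out_eq']
  have h1 : conjHom R (Quotient.out q) (conjHom R f x)
      = conjHom R s⁻¹ (conjHom R (Quotient.out (f • q)) x) := by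
    apply Subtype.ext
    rw [conjHom_coe, conjHom_coe, conjHom_coe, conjHom_coe, hs]
    group
  show v (conjHom R (Quotient.out q) (conjHom R f x)) = v (conjHom R (Quotient.out (f • q)) x)
  rw [h1, hv s⁻¹ (S.inv_mem hsS)]

end

/-- Compatibility with the transfer homomorphism. -/
theorem transV_eq_transfer {F : Type*} [Group F] (R : Subgroup F) [hR : R.Normal]
    (S : Subgroup F) [S.FiniteIndex] (hRS : R ≤ S) {K : Type*} [CommGroup K] (v : ↥R →* K)
    {A : Type*} [CommGroup A] (φ : ↥S →* A) (j : K →* A)
    (hj : ∀ x : R, j (v x) = φ ⟨(x : F), hRS x.2⟩) (x : R) :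
    j (@transV F _ R hR S S.fintypeQuotientOfFiniteIndex K _ v x) = MonoidHom.transfer φ (x : F) := by
  letI := S.fintypeQuotientOfFiniteIndex
  let T₀ : S.LeftTransversal :=
    ⟨Set.range Quotient.out, Subgroup.isComplement_range_left Quotient.out_eq'⟩
  rw [MonoidHom.transfer_def φ T₀ (x : F), transV_apply, map_prod]
  unfold Subgroup.leftTransversals.diff
  apply Finset.prod_congr rfl
  intro q _
  rw [hj]
  congr 1
  apply Subtype.ext
  have h1 : ((T₀.2.leftQuotientEquiv q : ↥(T₀ : Set F)) : F) = Quotient.out q :=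
    Subgroup.IsComplement.leftQuotientEquiv_apply Quotient.out_eq' q
  have hfix : ((x : F)⁻¹ • q : F ⧸ S) = q := by
    obtain ⟨t, rfl⟩ := QuotientGroup.mk_surjective q
    show (((x : F)⁻¹ * t : F) : F ⧸ S) = (t : F ⧸ S)
    rw [QuotientGroup.eq]
    have h2 := hR.conj_mem x x.2 t⁻¹
    rw [inv_inv] at h2
    have h3 : ((x : F)⁻¹ * t)⁻¹ * t = t⁻¹ * x * t := by group
    rw [h3]
    exact hRS h2
  have h2 : ((((x : F) • T₀).2.leftQuotientEquiv q : ↥(((x : F) • T₀ : S.LeftTransversal) : Set F)) : F)
      = (x : F) * Quotient.out q := by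
    rw [Subgroup.smul_apply_eq_smul_apply_inv_smul, hfix, h1]
    rfl
  show (conjHom R (Quotient.out q) x : F) = _
  rw [conjHom_coe]
  simp only [h1, h2]
  group

end Cfsg.Agent.Lib.helper69
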