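import Mathlib
import Cfsg.Agent.Lib.helper69.HopfGen
import Cfsg.Agent.Lib.helper69.TransferV

/-!
# Transfer and corestriction between the multiplier parts of `F/[F,R]` and `F_H/[F_H,R]`

For a surjection `π : F →* G` and a subgroup `H ≤ G` of finite index, with `S = π⁻¹(H)` and
`πH : S →* H`, there are homomorphisms `tr`, `cor` between the multiplier parts of `PresCov π` and
`PresCov πH` with `cor ∘ tr = (·)^|G:H|`.   (owner: helper69)
-/

set_option autoImplicit false

namespace Cfsg.Agent.Lib.helper69

universe u v w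

open scoped commutatorElement

theorem exists_tr_cor_pres {F : Type w} [Group F] {G : Type u} [Group G] (π : F →* G)
    (hπ : Function.Surjective π) (H : Subgroup G) [H.FiniteIndex] :
    ∃ (tr : ↥((presHom π).ker ⊓ commutator (PresCov π)) →*
          ↥((presHom (π.subgroupComap H)).ker ⊓ commutator (PresCov (π.subgroupComap H))))
      (cor : ↥((presHom (π.subgroupComap H)).ker ⊓ commutator (PresCov (π.subgroupComap H))) →*
          ↥((presHom π).ker ⊓ commutator (PresCov π))),
      ∀ m, cor (tr m) = m ^ H.index := by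
  classical
  have hidx : (H.comap π).index = H.index := Subgroup.index_comap_of_surjective H hπ
  haveI : (H.comap π).FiniteIndex := ⟨by rw [hidx]; exact Subgroup.FiniteIndex.index_ne_zero⟩
  have hRS : π.ker ≤ H.comap π := fun x hx => by
    show π x ∈ H
    rw [MonoidHom.mem_ker.mp hx]; exact H.one_mem
  have hcenH := presHom_ker_le_center (π.subgroupComap H)
  have hcen := presHom_ker_le_center π
  letI : CommGroup (presHom (π.subgroupComap H)).ker := commGroupOfLeCenter _ hcenH
  letI : CommGroup (presHom π).ker := commGroupOfLeCenter _ hcen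
  -- `v : R →* ker ρ_H`
  let v : ↥π.ker →* (presHom (π.subgroupComap H)).ker :=
    { toFun := fun x => ⟨QuotientGroup.mk (⟨(x : F), hRS x.2⟩ : H.comap π), by
          rw [MonoidHom.mem_ker, presHom_mk]
          apply Subtype.ext
          exact MonoidHom.mem_ker.mp x.2⟩
      map_one' := rfl
      map_mul' := fun x y => rfl }
  have hv : ∀ s ∈ H.comap π, ∀ x : π.ker, v (conjHom π.ker s x) = v x := by
    intro s hs x
    apply Subtype.ext
    have h1 : ((v (conjHom π.ker s x) : (presHom (π.subgroupComap H)).ker) :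
        PresCov (π.subgroupComap H))
        = (QuotientGroup.mk (⟨s, hs⟩ : H.comap π))⁻¹ * (v x : PresCov (π.subgroupComap H))
          * QuotientGroup.mk (⟨s, hs⟩ : H.comap π) := rfl
    rw [h1]
    have hc := Subgroup.mem_center_iff.mp (hcenH (v x).2)
      (QuotientGroup.mk (⟨s, hs⟩ : H.comap π))
    rw [mul_assoc, ← hc, inv_mul_cancel_left]
  letI := (H.comap π).fintypeQuotientOfFiniteIndex
  have hVconj : ∀ (f : F) (x : π.ker),
      transV π.ker (H.comap π) v (conjHom π.ker f x) = transV π.ker (H.comap π) v x :=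
    transV_conj π.ker (H.comap π) v hv
  have hVker : ∀ x : π.ker, (x : F) ∈ presComm π → transV π.ker (H.comap π) v x = 1 := by
    have hle : presComm π ≤ (transV π.ker (H.comap π) v).ker.map π.ker.subtype := by
      show ⁅(⊤ : Subgroup F), π.ker⁆ ≤ _
      rw [Subgroup.commutator_le]
      intro f _ r hr
      refine ⟨conjHom π.ker f⁻¹ ⟨r, hr⟩ * (⟨r, hr⟩ : π.ker)⁻¹, ?_, ?_⟩
      · show _ ∈ (transV π.ker (H.comap π) v).ker
        rw [MonoidHom.mem_ker, map_mul, map_inv, hVconj, mul_inv_cancel]
      · show (f⁻¹)⁻¹ * r * f⁻¹ * r⁻¹ = ⁅f, r⁆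
        rw [commutatorElement_def, inv_inv]
    intro x hx
    obtain ⟨y, hy, hyx⟩ := hle hx
    have hyx' : y = x := Subtype.ext hyx
    rw [← hyx']; exact MonoidHom.mem_ker.mp hy
  -- descend to `ker ρ`
  let mkR : ↥π.ker →* (presHom π).ker :=
    { toFun := fun x => ⟨QuotientGroup.mk (x : F), by
          rw [MonoidHom.mem_ker, presHom_mk]; exact MonoidHom.mem_ker.mp x.2⟩
      map_one' := rfl
      map_mul' := fun x y => rfl }
  have hmkR : Function.Surjective mkR := by
    rintro ⟨e, he⟩
    obtain ⟨f, rfl⟩ := QuotientGroup.mk_surjective e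
    exact ⟨⟨f, MonoidHom.mem_ker.mpr (MonoidHom.mem_ker.mp he)⟩, rfl⟩
  have hker : mkR.ker ≤ (transV π.ker (H.comap π) v).ker := by
    intro x hx
    rw [MonoidHom.mem_ker] at hx ⊢
    apply hVker
    have h1 : (QuotientGroup.mk (x : F) : PresCov π) = 1 := congrArg Subtype.val hx
    exact (QuotientGroup.eq_one_iff _).mp h1
  let Vbar : (presHom π).ker →* (presHom (π.subgroupComap H)).ker :=
    mkR.liftOfSurjective hmkR ⟨transV π.ker (H.comap π) v, hker⟩
  have hVbar : ∀ x : π.ker, Vbar (mkR x) = transV π.ker (H.comap π) v x := fun x =>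
    MonoidHom.liftOfRightInverse_comp_apply mkR _ (Function.rightInverse_surjInv hmkR)
      ⟨transV π.ker (H.comap π) v, hker⟩ x
  -- `cor : E_H → E`
  let cor : PresCov (π.subgroupComap H) →* PresCov π :=
    QuotientGroup.map (presComm (π.subgroupComap H)) (presComm π) (H.comap π).subtype (by
      show ⁅(⊤ : Subgroup (H.comap π)), (π.subgroupComap H).ker⁆ ≤
        Subgroup.comap (H.comap π).subtype ⁅(⊤ : Subgroup F), π.ker⁆
      rw [Subgroup.commutator_le]
      intro a _ b hb
      rw [Subgroup.mem_comap, map_commutatorElement]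
      refine Subgroup.commutator_mem_commutator (Subgroup.mem_top _) ?_
      rw [MonoidHom.mem_ker]
      have h1 := MonoidHom.mem_ker.mp hb
      exact congrArg Subtype.val h1)
  have hcor_mk : ∀ s : H.comap π, cor (QuotientGroup.mk s) = QuotientGroup.mk (s : F) :=
    fun s => rfl
  have hcor_ker : ∀ y : (presHom (π.subgroupComap H)).ker,
      (cor.comp (presHom (π.subgroupComap H)).ker.subtype) y ∈ (presHom π).ker := by
    rintro ⟨y, hy⟩
    obtain ⟨s, rfl⟩ := QuotientGroup.mk_surjective y
    show cor (QuotientGroup.mk s) ∈ (presHom π).ker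
    rw [hcor_mk, MonoidHom.mem_ker, presHom_mk]
    have h1 : (π.subgroupComap H) s = 1 := MonoidHom.mem_ker.mp hy
    exact congrArg Subtype.val h1
  let corK : (presHom (π.subgroupComap H)).ker →* (presHom π).ker :=
    (cor.comp (presHom (π.subgroupComap H)).ker.subtype).codRestrict _ hcor_ker
  have hd : ∀ x : π.ker, corK (transV π.ker (H.comap π) v x) = mkR x ^ H.index := by
    intro x
    rw [transV_apply, map_prod]
    have h1 : ∀ q : F ⧸ H.comap π, corK (v (conjHom π.ker (Quotient.out q) x)) = mkR x := by
      intro q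
      apply Subtype.ext
      show (QuotientGroup.mk ((conjHom π.ker (Quotient.out q) x : π.ker) : F) : PresCov π) =
        QuotientGroup.mk (x : F)
      rw [conjHom_coe, QuotientGroup.mk_mul, QuotientGroup.mk_mul, QuotientGroup.mk_inv]
      have hc := Subgroup.mem_center_iff.mp (hcen (mkR x).2)
        (QuotientGroup.mk (Quotient.out q) : PresCov π)
      have hc' : (QuotientGroup.mk (Quotient.out q) : PresCov π) * QuotientGroup.mk (x : F)
          = QuotientGroup.mk (x : F) * QuotientGroup.mk (Quotient.out q) := hc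
      rw [mul_assoc, ← hc', inv_mul_cancel_left]
    rw [Finset.prod_congr rfl (fun q _ => h1 q), Finset.prod_const, Finset.card_univ]
    congr 1
    rw [← hidx, Subgroup.index, Nat.card_eq_fintype_card]
  -- transfer property
  have he : ∀ m : (presHom π).ker, (m : PresCov π) ∈ commutator (PresCov π) →
      ((Vbar m : (presHom (π.subgroupComap H)).ker) : PresCov (π.subgroupComap H)) ∈
        commutator (PresCov (π.subgroupComap H)) := by
    rintro ⟨m, hm⟩ hmc
    have h1 : commutator (PresCov π) = (commutator F).map (QuotientGroup.mk' (presComm π)) := by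
      rw [commutator_def, commutator_def, Subgroup.map_commutator,
        Subgroup.map_top_of_surjective _ (QuotientGroup.mk'_surjective _)]
    have hmc' : m ∈ commutator (PresCov π) := hmc
    rw [h1] at hmc'
    obtain ⟨x, hx, rfl⟩ := hmc'
    have hxR : x ∈ π.ker := MonoidHom.mem_ker.mpr (MonoidHom.mem_ker.mp hm)
    have h2 : (⟨QuotientGroup.mk' (presComm π) x, hm⟩ : (presHom π).ker) = mkR ⟨x, hxR⟩ := rfl
    rw [h2, hVbar]
    let φ : ↥(H.comap π) →* Abelianization (PresCov (π.subgroupComap H)) :=
      Abelianization.of.comp (QuotientGroup.mk' (presComm (π.subgroupComap H)))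
    let j : (presHom (π.subgroupComap H)).ker →* Abelianization (PresCov (π.subgroupComap H)) :=
      Abelianization.of.comp (presHom (π.subgroupComap H)).ker.subtype
    have h3 := transV_eq_transfer π.ker (H.comap π) hRS v φ j (fun y => rfl) ⟨x, hxR⟩
    have h4 : MonoidHom.transfer φ x = 1 :=
      MonoidHom.mem_ker.mp (Abelianization.commutator_subset_ker _ hx)
    rw [h4] at h3
    have h5 : ((transV π.ker (H.comap π) v ⟨x, hxR⟩ : (presHom (π.subgroupComap H)).ker) :
        PresCov (π.subgroupComap H)) ∈ (Abelianization.of :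
          PresCov (π.subgroupComap H) →* Abelianization (PresCov (π.subgroupComap H))).ker := h3
    rwa [Abelianization.ker_of] at h5
  -- assemble
  let incl : ↥((presHom π).ker ⊓ commutator (PresCov π)) →* (presHom π).ker :=
    Subgroup.inclusion inf_le_left
  let tr₀ : ↥((presHom π).ker ⊓ commutator (PresCov π)) →*
      ↥((presHom (π.subgroupComap H)).ker ⊓ commutator (PresCov (π.subgroupComap H))) :=
    ((presHom (π.subgroupComap H)).ker.subtype.comp (Vbar.comp incl)).codRestrict _ (fun m =>
      Subgroup.mem_inf.mpr ⟨(Vbar (incl m)).2, he (incl m) m.2.2⟩)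
  let cor₀ : ↥((presHom (π.subgroupComap H)).ker ⊓ commutator (PresCov (π.subgroupComap H))) →*
      ↥((presHom π).ker ⊓ commutator (PresCov π)) :=
    (cor.comp (Subgroup.subtype _)).codRestrict _ (fun y => by
      refine Subgroup.mem_inf.mpr ⟨hcor_ker ⟨y.1, y.2.1⟩, ?_⟩
      have h1 : cor (y : PresCov (π.subgroupComap H)) ∈
          (commutator (PresCov (π.subgroupComap H))).map cor := ⟨y.1, y.2.2, rfl⟩
      have h2 : (commutator (PresCov (π.subgroupComap H))).map cor ≤ commutator (PresCov π) := by
        rw [commutator_def, commutator_def, Subgroup.map_commutator]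
        exact Subgroup.commutator_mono le_top le_top
      exact h2 h1)
  refine ⟨tr₀, cor₀, fun m => ?_⟩
  obtain ⟨x, hx⟩ := hmkR (incl m)
  apply Subtype.ext
  show cor ((Vbar (incl m) : (presHom (π.subgroupComap H)).ker) : PresCov (π.subgroupComap H))
    = ((m ^ H.index : ↥((presHom π).ker ⊓ commutator (PresCov π))) : PresCov π)
  rw [← hx, hVbar]
  have h1 := congrArg (fun z : (presHom π).ker => (z : PresCov π)) (hd x)
  have h2 : cor ((transV π.ker (H.comap π) v x : (presHom (π.subgroupComap H)).ker) :
      PresCov (π.subgroupComap H)) = ((mkR x ^ H.index : (presHom π).ker) : PresCov π) := h1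
  rw [h2, hx]
  rfl


/-- Hopf's formula for a presentation by a free group in the sense of `IsFreeGroup`. -/
theorem nonempty_mulEquiv_mult_of_isFreeGroup {F : Type w} [Group F] [IsFreeGroup F] {Q : Type u}
    [Group Q] [Finite Q] (π : F →* Q) (hπ : Function.Surjective π) :
    Nonempty (Mult Q ≃* ↥((presHom π).ker ⊓ commutator (PresCov π))) := by
  let s : Q → CovGroup Q := Function.surjInv (covHom_surjective Q)
  have hs : ∀ q, covHom Q (s q) = q := Function.surjInv_eq (covHom_surjective Q)
  let θ₀ : F →* CovGroup Q := IsFreeGroup.lift (fun x => s (π (IsFreeGroup.of x)))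
  have h0 : (covHom Q).comp θ₀ = π := by
    apply IsFreeGroup.ext_hom
    intro x
    show covHom Q (IsFreeGroup.lift (fun x => s (π (IsFreeGroup.of x))) (IsFreeGroup.of x)) = _
    rw [IsFreeGroup.lift_of, hs]
  obtain ⟨θ, hθ, -⟩ := exists_lift_presHom π (covHom Q) (covHom_ker_le_center Q) θ₀ h0
  exact nonempty_mulEquiv_mult_of_lift (presHom π) (presHom_surjective π hπ)
    (presHom_ker_le_center π) θ hθ

/-- Transfer and corestriction on Schur multipliers: for a subgroup `H` of the finite group `G`
there are homomorphisms `tr : M(G) → M(H)` and `cor : M(H) → M(G)` with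
`cor ∘ tr = (·)^|G:H|`. -/
theorem exists_tr_cor (G : Type u) [Group G] [Finite G] (H : Subgroup G) :
    ∃ (tr : Mult G →* Mult H) (cor : Mult H →* Mult G),
      ∀ m : Mult G, cor (tr m) = m ^ H.index := by
  obtain ⟨tr, cor, h⟩ := exists_tr_cor_pres (freePres G) (freePres_surjective G) H
  obtain ⟨e₁⟩ := nonempty_mulEquiv_mult_of_isFreeGroup (freePres G) (freePres_surjective G)
  haveI : IsFreeGroup ↥(H.comap (freePres G)) := subgroupIsFreeOfIsFree _
  obtain ⟨e₂⟩ := nonempty_mulEquiv_mult_of_isFreeGroup ((freePres G).subgroupComap H)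
    ((freePres G).subgroupComap_surjective_of_surjective H (freePres_surjective G))
  refine ⟨e₂.symm.toMonoidHom.comp (tr.comp e₁.toMonoidHom),
    e₁.symm.toMonoidHom.comp (cor.comp e₂.toMonoidHom), fun m => ?_⟩
  show e₁.symm (cor (e₂ (e₂.symm (tr (e₁ m))))) = m ^ H.index
  rw [MulEquiv.apply_symm_apply, h, map_pow, MulEquiv.symm_apply_apply]

end Cfsg.Agent.Lib.helper69
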