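import Mathlib
import Cfsg.Agent.Lib.helper69.SchurCover

/-!
# Transfer and the Schur multiplier

* `pow_index_mem_commutator_of_mem_center`: for `z ∈ Z(Γ) ∩ Γ'` and `H ≤ Γ` of finite index,
  `z ^ |Γ : H| ∈ H'` (transfer).
* `exists_subgroup_mulEquiv_quotient`, `exists_subgroup_of_subquotient`: subquotients of a
  finite abelian group embed.
* `exists_subgroup_mulEquiv_pow_range`: if `A`, `B` are the Schur multipliers of `G` and of a
  subgroup `U`, then the `|G : U|`-th powers of `A` form a group isomorphic to a subgroup of `B`.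
-/

set_option autoImplicit false

universe u v w

namespace Cfsg.Agent.Lib.helper69

/-- Transfer: a central element of the commutator subgroup, raised to the index of a subgroup
`H`, lies in the commutator subgroup of `H`. -/
theorem pow_index_mem_commutator_of_mem_center {Γ : Type*} [Group Γ] (H : Subgroup Γ)
    [H.FiniteIndex] (z : Γ) (hz : z ∈ Subgroup.center Γ) (hz' : z ∈ commutator Γ) :
    ∃ h : z ^ H.index ∈ H, (⟨z ^ H.index, h⟩ : H) ∈ commutator H := by
  have key : ∀ (k : ℕ) (g₀ : Γ), g₀⁻¹ * z ^ k * g₀ ∈ H → g₀⁻¹ * z ^ k * g₀ = z ^ k := by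
    intro k g₀ _
    have h1 : g₀ * z ^ k = z ^ k * g₀ := Subgroup.mem_center_iff.mp (pow_mem hz k) g₀
    rw [mul_assoc, ← h1, inv_mul_cancel_left]
  refine ⟨MonoidHom.transfer_eq_pow_aux z key, ?_⟩
  have h1 := MonoidHom.transfer_eq_pow (Abelianization.of : H →* Abelianization H) z key
  have h2 : MonoidHom.transfer (Abelianization.of : H →* Abelianization H) z = 1 :=
    Abelianization.commutator_subset_ker
      (MonoidHom.transfer (Abelianization.of : H →* Abelianization H)) hz'
  rw [h2] at h1
  rw [← Abelianization.ker_of]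
  exact h1.symm

/-- A quotient of a finite abelian group is isomorphic to a subgroup. -/
theorem exists_subgroup_mulEquiv_quotient (T : Type*) [CommGroup T] [Finite T] (K : Subgroup T) :
    ∃ C : Subgroup T, Nonempty ((T ⧸ K) ≃* C) := by
  haveI : NeZero (Monoid.exponent T) := ⟨Monoid.exponent_ne_zero_of_finite⟩
  haveI : NeZero (Monoid.exponent (T ⧸ K)) := ⟨Monoid.exponent_ne_zero_of_finite⟩
  obtain ⟨e1⟩ := CommGroup.monoidHom_mulEquiv_of_hasEnoughRootsOfUnity (T ⧸ K) ℂ
  obtain ⟨e2⟩ := CommGroup.monoidHom_mulEquiv_of_hasEnoughRootsOfUnity T ℂ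
  let pre : ((T ⧸ K) →* ℂˣ) →* (T →* ℂˣ) := MonoidHom.compHom' (QuotientGroup.mk' K)
  have hpre : Function.Injective pre := by
    intro f g hfg
    apply MonoidHom.ext
    intro x
    obtain ⟨t, rfl⟩ := QuotientGroup.mk_surjective x
    exact DFunLike.congr_fun hfg t
  let f : (T ⧸ K) →* T := e2.toMonoidHom.comp (pre.comp e1.symm.toMonoidHom)
  have hf : Function.Injective f := e2.injective.comp (hpre.comp e1.symm.injective)
  exact ⟨f.range, ⟨MonoidHom.ofInjective hf⟩⟩

/-- A subgroup of a quotient of a finite abelian group `B` is isomorphic to a subgroup of `B`. -/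
theorem exists_subgroup_of_subquotient {B : Type*} [CommGroup B] [Finite B] {S : Type*} [Group S]
    (π : B →* S) (hπ : Function.Surjective π) {X : Type*} [Group X] (ι : X →* S)
    (hι : Function.Injective ι) : ∃ C : Subgroup B, Nonempty (X ≃* C) := by
  let T : Subgroup B := ι.range.comap π
  let ι' : X ≃* ι.range := MonoidHom.ofInjective hι
  let g : T →* X := ι'.symm.toMonoidHom.comp (π.subgroupComap ι.range)
  have hg : Function.Surjective g :=
    ι'.symm.surjective.comp (MonoidHom.subgroupComap_surjective_of_surjective π ι.range hπ)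
  obtain ⟨C', ⟨e⟩⟩ := exists_subgroup_mulEquiv_quotient T g.ker
  refine ⟨C'.map T.subtype, ⟨?_⟩⟩
  exact ((QuotientGroup.quotientKerEquivOfSurjective g hg).symm.trans e).trans
    (Subgroup.equivMapOfInjective C' T.subtype T.subtype_injective)

/-- The underlying element of `F/[F,R]` of an element of the canonical multiplier. -/
def multVal (Q : Type u) [Group Q] : Mult Q →* CovGroup Q :=
  (Subgroup.center (CovGroup Q)).subtype.comp (multOf (covHom Q)).subtype

theorem multVal_injective (Q : Type u) [Group Q] : Function.Injective (multVal Q) :=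
  (Subgroup.subtype_injective _).comp (Subgroup.subtype_injective _)

theorem multVal_mem (Q : Type u) [Group Q] (m : Mult Q) :
    multVal Q m ∈ (covHom Q).ker ⊓ commutator (CovGroup Q) :=
  coe_mem_multOf (covHom Q) m

theorem multVal_mem_center (Q : Type u) [Group Q] (m : Mult Q) :
    multVal Q m ∈ Subgroup.center (CovGroup Q) :=
  covHom_ker_le_center Q (Subgroup.mem_inf.mp (multVal_mem Q m)).1

/-- If `A` is the Schur multiplier of the finite group `G` and `B` that of the subgroup `U`,
then the group of `|G : U|`-th powers of `A` is isomorphic to a subgroup of `B`. -/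
theorem exists_subgroup_mulEquiv_pow_range {G : Type u} [Group G] [Finite G] (U : Subgroup G)
    {A : Type v} {B : Type w} [CommGroup A] [CommGroup B] (hA : Cfsg.HasSchurMultiplier G A)
    (hB : Cfsg.HasSchurMultiplier U B) :
    ∃ C : Subgroup B, Nonempty ((powMonoidHom U.index : A →* A).range ≃* C) := by
  classical
  obtain ⟨e⟩ := mulEquiv_mult_of_hasSchurMultiplier hA
  obtain ⟨eB⟩ := mulEquiv_mult_of_hasSchurMultiplier hB
  haveI : Finite B := Finite.of_equiv _ eB.symm.toEquiv
  let H : Subgroup (CovGroup G) := U.comap (covHom G)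
  have hidx : H.index = U.index := Subgroup.index_comap_of_surjective U (covHom_surjective G)
  haveI : H.FiniteIndex := ⟨by rw [hidx]; exact Subgroup.index_ne_zero_of_finite⟩
  let τ : H →* U := (covHom G).subgroupComap U
  have hτs : Function.Surjective τ :=
    MonoidHom.subgroupComap_surjective_of_surjective (covHom G) U (covHom_surjective G)
  have hτval : ∀ x : H, ((τ x : U) : G) = covHom G (x : CovGroup G) := fun x => rfl
  have hτk : τ.ker ≤ Subgroup.center H := by
    intro x hx
    rw [Subgroup.mem_center_iff]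
    intro y
    have hx' : (x : CovGroup G) ∈ (covHom G).ker := by
      rw [MonoidHom.mem_ker] at hx ⊢
      rw [← hτval, hx]; rfl
    have := Subgroup.mem_center_iff.mp (covHom_ker_le_center G hx') (y : CovGroup G)
    exact Subtype.ext this
  obtain ⟨π, hπ⟩ := exists_surjective_of_central hB τ hτs hτk
  -- the hom from the group of powers into `F/[F,R]`
  let f₀ : (powMonoidHom U.index : A →* A).range →* CovGroup G :=
    (multVal G).comp (e.toMonoidHom.comp (powMonoidHom U.index : A →* A).range.subtype)
  have hf₀ : Function.Injective f₀ :=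
    (multVal_injective G).comp (e.injective.comp (Subgroup.subtype_injective _))
  have key : ∀ x : (powMonoidHom U.index : A →* A).range,
      ∃ h : f₀ x ∈ H, (⟨f₀ x, h⟩ : H) ∈ τ.ker ⊓ commutator H := by
    rintro ⟨x, a, rfl⟩
    have hz := multVal_mem G (e a)
    have hzc := multVal_mem_center G (e a)
    obtain ⟨h1, h2⟩ := pow_index_mem_commutator_of_mem_center H (multVal G (e a)) hzc
      (Subgroup.mem_inf.mp hz).2
    have hval : f₀ ⟨powMonoidHom U.index a, a, rfl⟩ = multVal G (e a) ^ H.index := by
      show multVal G (e (a ^ U.index)) = _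
      rw [map_pow, map_pow, hidx]
    refine ⟨hval ▸ h1, ?_⟩
    have hEq : (⟨f₀ ⟨powMonoidHom U.index a, a, rfl⟩, hval ▸ h1⟩ : H)
        = ⟨multVal G (e a) ^ H.index, h1⟩ := Subtype.ext hval
    rw [hEq]
    refine Subgroup.mem_inf.mpr ⟨?_, h2⟩
    rw [MonoidHom.mem_ker]
    apply Subtype.ext
    rw [hτval]
    show covHom G (multVal G (e a) ^ H.index) = 1
    rw [map_pow, MonoidHom.mem_ker.mp (Subgroup.mem_inf.mp hz).1, one_pow]
  let f₁ : (powMonoidHom U.index : A →* A).range →* H :=
    f₀.codRestrict H (fun x => (key x).choose)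
  let ψ : (powMonoidHom U.index : A →* A).range →* ↥(τ.ker ⊓ commutator H) :=
    f₁.codRestrict _ (fun x => (key x).choose_spec)
  have hψ : Function.Injective ψ := by
    intro x y hxy
    apply hf₀
    have h1 : ((ψ x : ↥(τ.ker ⊓ commutator H)) : H) = ((ψ y : ↥(τ.ker ⊓ commutator H)) : H) := by
      rw [hxy]
    exact congrArg (fun t : H => (t : CovGroup G)) h1
  exact exists_subgroup_of_subquotient π hπ ψ hψ

end Cfsg.Agent.Lib.helper69
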