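/-
Bender-Glauberman (NA) (helper69): basic consequences of the structures `Cfg` and `M1Cfg`.
-/
import Mathlib
import Cfsg.Agent.S1417
import Cfsg.Agent.S1418
import Cfsg.Agent.S1419
import Cfsg.Agent.Lib.helper69.NADefs
import Cfsg.Agent.Lib.helper87.BG1425Main
import Cfsg.Agent.Lib.helper71.BGTwelveAux

set_option autoImplicit false
open Cfsg

namespace Cfsg.Agent.Lib.helper69.NA

variable {G : Type*} [Group G]

theorem ne_top_of_le_coatom {K M : Subgroup G} (hM : IsCoatom M) (h : K ≤ M) : K ≠ ⊤ := by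
  rintro rfl
  exact hM.1 (top_le_iff.mp h)

section M1

variable {M A : Subgroup G} {r : ℕ} {M1 : Subgroup G} {S1 : Sylow r G} {Z : Subgroup G}

/-- A proper subgroup containing `S1` lies in `M1`. -/
theorem M1Cfg.le_of_ge [Finite G] (h1 : M1Cfg M A r M1 S1 Z) {K : Subgroup G} (hK : K ≠ ⊤)
    (hS : (S1 : Subgroup G) ≤ K) : K ≤ M1 := by
  obtain ⟨L, hL, hKL⟩ := (eq_top_or_exists_le_coatom K).resolve_left hK
  rw [← h1.huniq L hL (hS.trans hKL)]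
  exact hKL

theorem M1Cfg.Z_ne_bot [Fact r.Prime] (h1 : M1Cfg M A r M1 S1 Z) : Z ≠ ⊥ := by
  intro hb
  have : Nat.card Z = 1 := by rw [hb]; exact Subgroup.card_bot
  rw [h1.hZc] at this
  exact (Fact.out : r.Prime).one_lt.ne' this

theorem M1Cfg.S1_ne_bot [Fact r.Prime] (h1 : M1Cfg M A r M1 S1 Z) : (S1 : Subgroup G) ≠ ⊥ := by
  intro hb
  apply h1.Z_ne_bot
  have hZ : Z ≤ (S1 : Subgroup G) := h1.hZA.trans h1.hAS
  rw [hb] at hZ
  exact le_bot_iff.mp hZ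

/-- `N_G(S1) ≤ M1`. -/
theorem M1Cfg.normalizer_le [Finite G] [Fact r.Prime] (hG : IsMinSimpleOddOrder G)
    (h1 : M1Cfg M A r M1 S1 Z) : Subgroup.normalizer ((S1 : Subgroup G) : Set G) ≤ M1 :=
  h1.le_of_ge (Cfsg.Agent.Lib.helper71.BG12.normalizer_ne_top' hG h1.S1_ne_bot
    (ne_top_of_le_coatom h1.hM1 h1.hS1)) Subgroup.le_normalizer

/-- `r ∈ σ(M1)`. -/
theorem M1Cfg.r_mem_sigma [Finite G] [Fact r.Prime] (hG : IsMinSimpleOddOrder G)
    (h1 : M1Cfg M A r M1 S1 Z) : r ∈ sigma M1 :=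
  Cfsg.Agent.Lib.helper71.BG12.mem_sigma_of_sylow S1.isPGroup' S1.not_dvd_index h1.hS1
    h1.S1_ne_bot (h1.normalizer_le hG)

/-- `S1 ≤ (M1)_σ`. -/
theorem M1Cfg.S1_le_sigmaCore [Finite G] [Fact r.Prime] (hG : IsMinSimpleOddOrder G)
    (h1 : M1Cfg M A r M1 S1 Z) : (S1 : Subgroup G) ≤ sigmaCore M1 := by
  refine Cfsg.Agent.Lib.helper87.BG133.le_sigmaCore_of_pi hG M1 h1.hM1 S1 h1.hS1 ?_
  intro q hq hqd
  obtain ⟨n, hn⟩ := IsPGroup.iff_card.mp S1.isPGroup'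
  rw [hn] at hqd
  rw [(Nat.prime_dvd_prime_iff_eq hq (Fact.out : r.Prime)).mp (hq.dvd_of_dvd_pow hqd)]
  exact h1.r_mem_sigma hG

/-- `A ≤ (M1)_σ`. -/
theorem M1Cfg.A_le_sigmaCore [Finite G] [Fact r.Prime] (hG : IsMinSimpleOddOrder G)
    (h1 : M1Cfg M A r M1 S1 Z) : A ≤ sigmaCore M1 :=
  h1.hAS.trans (h1.S1_le_sigmaCore hG)

end M1

section Cfg

variable {M E A P : Subgroup G} {r p : ℕ}

theorem Cfg.A_le_M (h : Cfg M E A P r p) : A ≤ M := h.hAE.trans h.hE.1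

/-- `E ≤ N_G(A)` (S1418). -/
theorem Cfg.E_le_normalizer [Finite G] [Fact r.Prime] (hG : IsMinSimpleOddOrder G)
    (h : Cfg M E A P r p) : E ≤ Subgroup.normalizer (A : Set G) :=
  (Cfsg.Agent.S1418.result hG M h.hM E h.hE r h.hr A ⟨h.hAE, h.hAe, h.hAc⟩).1.1

variable {M1 : Subgroup G} {S1 : Sylow r G} {Z : Subgroup G}

theorem Cfg.E_le_M1 [Finite G] [Fact r.Prime] (hG : IsMinSimpleOddOrder G)
    (h : Cfg M E A P r p) (h1 : M1Cfg M A r M1 S1 Z) : E ≤ M1 :=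
  (h.E_le_normalizer hG).trans h1.hNA

theorem Cfg.P_le_M1 [Finite G] [Fact r.Prime] (hG : IsMinSimpleOddOrder G)
    (h : Cfg M E A P r p) (h1 : M1Cfg M A r M1 S1 Z) : P ≤ M1 :=
  h.hPE.trans (h.E_le_M1 hG h1)

/-- `M_σ ∩ M1 = 1` (S1417(e)). -/
theorem Cfg.sigmaCore_inf_M1 [Finite G] [Fact r.Prime] (hG : IsMinSimpleOddOrder G)
    (h : Cfg M E A P r p) (h1 : M1Cfg M A r M1 S1 Z) : sigmaCore M ⊓ M1 = ⊥ :=
  (Cfsg.Agent.S1417.result hG M h.hM r h.hr A ⟨h.A_le_M, h.hAe, h.hAc⟩).2.2.2.2.1 M1 h1.hM1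
    h1.hne (h1.hAS.trans h1.hS1)

/-- `|A ∩ C(M_σ)| = r` (S1419). -/
theorem Cfg.card_A0 [Finite G] [Fact r.Prime] (hG : IsMinSimpleOddOrder G)
    (h : Cfg M E A P r p) :
    Nat.card ↥(A ⊓ Subgroup.centralizer (sigmaCore M : Set G)) = r :=
  (Cfsg.Agent.S1419.result hG M h.hM E h.hE r h.hr h.hS A ⟨h.hAE, h.hAe, h.hAc⟩).2.1.1

/-- `M` normalizes `A ∩ C(M_σ)`. -/
theorem Cfg.M_le_normalizer_A0 [Finite G] [Fact r.Prime] (hG : IsMinSimpleOddOrder G)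
    (h : Cfg M E A P r p) :
    M ≤ Subgroup.normalizer ((A ⊓ Subgroup.centralizer (sigmaCore M : Set G) : Subgroup G) : Set G) := by
  apply Cfsg.Agent.Lib.helper71.BG12.le_normalizer_of_forall_conj_mem
  intro m hm x hx
  obtain ⟨hxA, hxC⟩ := Subgroup.mem_inf.mp hx
  obtain ⟨e, he, b, hb, rfl⟩ := h.hE.2.2.2 m hm
  have hbx : b * x * b⁻¹ = x := by
    have := Subgroup.mem_centralizer_iff.mp hxC b hb
    rw [this, mul_inv_cancel_right]
  have heq : e * b * x * (e * b)⁻¹ = e * x * e⁻¹ := by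
    rw [mul_inv_rev, ← mul_assoc, mul_assoc e b x, mul_assoc e (b * x) b⁻¹, hbx]
  rw [heq]
  refine Subgroup.mem_inf.mpr ⟨?_, ?_⟩
  · exact (Subgroup.mem_normalizer_iff.mp (h.E_le_normalizer hG he) x).mp hxA
  · rw [Subgroup.mem_centralizer_iff]
    intro y hy
    have heM : e ∈ M := h.hE.1 he
    have hn := Cfsg.Agent.Lib.helper71.BGA.le_normalizer_sigmaCore M (M.inv_mem heM)
    have hy' : e⁻¹ * y * e⁻¹⁻¹ ∈ sigmaCore M := (Subgroup.mem_normalizer_iff.mp hn y).mp hy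
    have hc := Subgroup.mem_centralizer_iff.mp hxC _ hy'
    have h3 : y * (e * x * e⁻¹) = e * ((e⁻¹ * y * e⁻¹⁻¹) * x) * e⁻¹ := by group
    have h4 : e * x * e⁻¹ * y = e * (x * (e⁻¹ * y * e⁻¹⁻¹)) * e⁻¹ := by group
    rw [h3, h4, hc]

/-- `C_G(a0) ≤ M` for `1 ≠ a0 ∈ A ∩ C(M_σ)`. -/
theorem cent_a0_le [Finite G] (hG : IsMinSimpleOddOrder G) {M E A P : Subgroup G} {r p : ℕ}
    [Fact r.Prime] (h : Cfg M E A P r p) (a0 : G)
    (ha0 : a0 ∈ A ⊓ Subgroup.centralizer (sigmaCore M : Set G)) (ha01 : a0 ≠ 1) :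
    Subgroup.centralizer ({a0} : Set G) ≤ M := by
  have hrp : r.Prime := Fact.out
  set A0 : Subgroup G := A ⊓ Subgroup.centralizer (sigmaCore M : Set G) with hA0
  have hcard : Nat.card ↥A0 = r := h.card_A0 hG
  have hMN := h.M_le_normalizer_A0 hG
  have hA0M : A0 ≤ M := inf_le_left.trans h.A_le_M
  have hA0bot : A0 ≠ ⊥ := by
    intro hb
    rw [hb, Subgroup.card_bot] at hcard
    exact hrp.one_lt.ne' hcard.symm
  have hNtop : Subgroup.normalizer (A0 : Set G) ≠ ⊤ :=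
    Cfsg.Agent.Lib.helper71.BG12.normalizer_ne_top' hG hA0bot (ne_top_of_le_coatom h.hM hA0M)
  have hNM : Subgroup.normalizer (A0 : Set G) = M := by
    by_contra hne
    exact hNtop (h.hM.2 _ (lt_of_le_of_ne hMN (Ne.symm hne)))
  rw [← hNM]
  intro c hc
  have hcomm : c * a0 = a0 * c := (Subgroup.mem_centralizer_iff.mp hc a0 rfl).symm
  have hgen : ∀ x ∈ A0, ∃ k : ℤ, a0 ^ k = x := by
    intro x hx
    haveI : Fact r.Prime := ⟨hrp⟩
    have htop := zpowers_eq_top_of_prime_card (G := ↥A0) hcard (g := ⟨a0, ha0⟩)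
      (fun hh => ha01 (congrArg Subtype.val hh))
    have hmem : (⟨x, hx⟩ : ↥A0) ∈ Subgroup.zpowers (⟨a0, ha0⟩ : ↥A0) := by
      rw [htop]; exact Subgroup.mem_top _
    obtain ⟨k, hk⟩ := Subgroup.mem_zpowers_iff.mp hmem
    exact ⟨k, by simpa using congrArg Subtype.val hk⟩
  have hconj : ∀ x ∈ A0, c * x * c⁻¹ = x := by
    intro x hx
    obtain ⟨k, rfl⟩ := hgen x hx
    have : Commute c (a0 ^ k) := (Commute.zpow_right hcomm k)
    rw [this.eq, mul_inv_cancel_right]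
  rw [Subgroup.mem_normalizer_iff]
  intro x
  constructor
  · intro hx
    rw [hconj x hx]; exact hx
  · intro hx
    have h5 := hconj _ hx
    have h6 : c * x * c⁻¹ = x := by
      have : c * (c * x * c⁻¹) * c⁻¹ = c * x * c⁻¹ := h5
      have h7 : c * x * c⁻¹ = c⁻¹ * (c * (c * x * c⁻¹) * c⁻¹) * c := by group
      rw [this] at h7
      have h8 : c⁻¹ * (c * x * c⁻¹) * c = x := by group
      rw [h8] at h7
      exact h7
    rw [← h6]; exact hx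

end Cfg

end Cfsg.Agent.Lib.helper69.NA
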