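import Mathlib
import Cfsg.Agent.Lib.helper69.NilpSym

set_option autoImplicit false

namespace Cfsg.Agent.Lib.helper69

/-- The maximal order of a nilpotent subgroup of the alternating group of degree `n`. -/
def altBound (n : ℕ) : ℕ :=
  if n = 5 then 5 else if n = 6 then 9 else if n = 9 then 81
  else if n % 4 = 3 then 3 * 2 ^ (v2f (n - 3) - 1) else 2 ^ (v2f n - 1)

theorem v2f_small (n : ℕ) (hn : n < 16) : v2f n = (n / 4) / 2 + 3 * (n / 4) + (n % 4) / 2 := by
  have e : n = 4 * (n / 4) + n % 4 := by omega
  have h := v2f_four (n / 4) (n % 4) (Nat.mod_lt _ (by norm_num))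
  rw [← e] at h
  have hk : n / 4 < 4 := by omega
  have h0 := v2f_four 0 (n / 4) hk
  rw [v2f_zero] at h0
  simp only [Nat.mul_zero, Nat.zero_add] at h0
  omega

theorem altBound_pos (n : ℕ) : 0 < altBound n := by
  unfold altBound
  split_ifs <;> positivity

theorem altBound_block (k : ℕ) (hk : 3 ≤ k) :
    altBound (4 * k) = 2 ^ (v2f k + 3 * k - 1) ∧
    altBound (4 * k + 1) = 2 ^ (v2f k + 3 * k - 1) ∧
    altBound (4 * k + 2) = 2 * 2 ^ (v2f k + 3 * k - 1) ∧
    altBound (4 * k + 3) = 3 * 2 ^ (v2f k + 3 * k - 1) := by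
  have h0 : v2f (4 * k) = v2f k + 3 * k := by
    have := v2f_four k 0 (by norm_num)
    simpa using this
  have h1 := v2f_four k 1 (by norm_num)
  have h2 := v2f_four k 2 (by norm_num)
  refine ⟨?_, ?_, ?_, ?_⟩
  · unfold altBound
    rw [if_neg (by omega), if_neg (by omega), if_neg (by omega), if_neg (by omega)]
    congr 1
    omega
  · unfold altBound
    rw [if_neg (by omega), if_neg (by omega), if_neg (by omega), if_neg (by omega)]
    congr 1
    omega
  · unfold altBound
    rw [if_neg (by omega), if_neg (by omega), if_neg (by omega), if_neg (by omega), ← pow_succ']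
    congr 1
    omega
  · unfold altBound
    rw [if_neg (by omega), if_neg (by omega), if_neg (by omega), if_pos (by omega)]
    have e : 4 * k + 3 - 3 = 4 * k := by omega
    rw [e]
    congr 2
    omega

theorem two_pow_block_succ (k : ℕ) (hk : 1 ≤ k) :
    8 * 2 ^ (v2f k + 3 * k - 1) ≤ 2 ^ (v2f (k + 1) + 3 * (k + 1) - 1) := by
  have h := v2f_mono (Nat.le_add_right k 1)
  calc 8 * 2 ^ (v2f k + 3 * k - 1) = 2 ^ (v2f k + 3 * k - 1 + 3) := by rw [pow_add]; ring
    _ ≤ 2 ^ (v2f (k + 1) + 3 * (k + 1) - 1) := Nat.pow_le_pow_right (by norm_num) (by omega)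

theorem altBound_le_succ (n : ℕ) : altBound n ≤ altBound (n + 1) := by
  rcases Nat.lt_or_ge n 12 with hn | hn
  · interval_cases n <;> norm_num [altBound, v2f_small]
  · obtain ⟨k, r, hr, rfl⟩ : ∃ k r, r < 4 ∧ n = 4 * k + r := ⟨n / 4, n % 4, Nat.mod_lt _ (by norm_num), by omega⟩
    have hk : 3 ≤ k := by omega
    obtain ⟨b0, b1, b2, b3⟩ := altBound_block k hk
    obtain ⟨c0, c1, c2, c3⟩ := altBound_block (k + 1) (by omega)
    have hs := two_pow_block_succ k (by omega)
    interval_cases r
    · rw [Nat.add_zero, b0, b1]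
    · rw [b1, show 4 * k + 1 + 1 = 4 * k + 2 from rfl, b2]
      omega
    · rw [b2, show 4 * k + 2 + 1 = 4 * k + 3 from rfl, b3]
      omega
    · rw [b3, show 4 * k + 3 + 1 = 4 * (k + 1) from by ring, c0]
      omega

theorem altBound_mono {m n : ℕ} (h : m ≤ n) : altBound m ≤ altBound n := by
  induction n, h using Nat.le_induction with
  | base => exact le_refl _
  | succ n _ ih => exact le_trans ih (altBound_le_succ n)

theorem three_mul_altBound_le (b : ℕ) (hb : 1 ≤ b) : 3 * altBound b ≤ altBound (b + 3) := by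
  rcases Nat.lt_or_ge b 12 with hn | hn
  · interval_cases b <;> norm_num [altBound, v2f_small]
  · obtain ⟨k, r, hr, rfl⟩ : ∃ k r, r < 4 ∧ b = 4 * k + r := ⟨b / 4, b % 4, Nat.mod_lt _ (by norm_num), by omega⟩
    have hk : 3 ≤ k := by omega
    obtain ⟨b0, b1, b2, b3⟩ := altBound_block k hk
    obtain ⟨c0, c1, c2, c3⟩ := altBound_block (k + 1) (by omega)
    have hs := two_pow_block_succ k (by omega)
    interval_cases r
    · rw [Nat.add_zero, b0, b3]
    · rw [b1, show 4 * k + 1 + 3 = 4 * (k + 1) from by ring, c0]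
      omega
    · rw [b2, show 4 * k + 2 + 3 = 4 * (k + 1) + 1 from by ring, c1]
      omega
    · rw [b3, show 4 * k + 3 + 3 = 4 * (k + 1) + 2 from by ring, c2]
      omega

theorem one_le_v2f {n : ℕ} (hn : 2 ≤ n) : 1 ≤ v2f n := by
  have h := v2f_mono hn
  rw [v2f_small 2 (by norm_num)] at h
  exact h

theorem nilpBound_eq_two_mul_altBound (n : ℕ) (h0 : 2 ≤ n) (h3 : n ≠ 3) (h5 : n ≠ 5) (h6 : n ≠ 6)
    (h9 : n ≠ 9) : nilpBound n = 2 * altBound n := by
  unfold nilpBound altBound
  rw [if_neg h5, if_neg h6, if_neg h9]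
  by_cases h : n % 4 = 3
  · rw [if_pos h, if_pos h]
    have h1 : 1 ≤ v2f (n - 3) := one_le_v2f (by omega)
    obtain ⟨w, hw⟩ : ∃ w, v2f (n - 3) = w + 1 := ⟨v2f (n - 3) - 1, by omega⟩
    rw [hw, Nat.add_sub_cancel, pow_succ]
    ring
  · rw [if_neg h, if_neg h]
    have h1 : 1 ≤ v2f n := one_le_v2f h0
    obtain ⟨w, hw⟩ : ∃ w, v2f n = w + 1 := ⟨v2f n - 1, by omega⟩
    rw [hw, Nat.add_sub_cancel, pow_succ]
    ring

theorem nilpBound_le_two_mul_altBound (n : ℕ) (h0 : 2 ≤ n) : nilpBound n ≤ 2 * altBound n := by
  by_cases h : n = 3 ∨ n = 5 ∨ n = 6 ∨ n = 9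
  · rcases h with rfl | rfl | rfl | rfl <;> norm_num [nilpBound, altBound, v2f_small]
  · push Not at h
    exact le_of_eq (nilpBound_eq_two_mul_altBound n h0 h.1 h.2.1 h.2.2.1 h.2.2.2)

theorem altBound_le_nilpBound_aux (n : ℕ) (h0 : 2 ≤ n) (h3 : n ≠ 3) :
    128 * altBound n ≤ 81 * nilpBound n := by
  by_cases h : n = 5 ∨ n = 6 ∨ n = 9
  · rcases h with rfl | rfl | rfl <;> norm_num [nilpBound, altBound, v2f_small]
  · push Not at h
    rw [nilpBound_eq_two_mul_altBound n h0 h3 h.1 h.2.1 h.2.2]
    omega

theorem altBound_mul_le (a b : ℕ) : altBound a * altBound b ≤ altBound (a + b) := by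
  have f0 : altBound 0 = 1 := by norm_num [altBound, v2f_small]
  have f1 : altBound 1 = 1 := by norm_num [altBound, v2f_small]
  have f3 : altBound 3 = 3 := by norm_num [altBound, v2f_small]
  by_cases ha0 : a = 0
  · subst ha0
    rw [f0, one_mul, Nat.zero_add]
  by_cases hb0 : b = 0
  · subst hb0
    rw [f0, mul_one, Nat.add_zero]
  by_cases ha1 : a = 1
  · subst ha1
    rw [f1, one_mul]
    exact altBound_mono (by omega)
  by_cases hb1 : b = 1
  · subst hb1
    rw [f1, mul_one]
    exact altBound_mono (by omega)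
  by_cases ha3 : a = 3
  · subst ha3
    rw [f3, Nat.add_comm]
    exact three_mul_altBound_le b (by omega)
  by_cases hb3 : b = 3
  · subst hb3
    rw [f3, Nat.mul_comm]
    exact three_mul_altBound_le a (by omega)
  have h1 := altBound_le_nilpBound_aux a (by omega) ha3
  have h2 := altBound_le_nilpBound_aux b (by omega) hb3
  have h3 := nilpBound_mul_le a b
  have h4 := nilpBound_le_two_mul_altBound (a + b) (by omega)
  have h5 := Nat.mul_le_mul h1 h2
  have e1 : 128 * altBound a * (128 * altBound b) = 16384 * (altBound a * altBound b) := by ring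
  have e2 : 81 * nilpBound a * (81 * nilpBound b) = 6561 * (nilpBound a * nilpBound b) := by ring
  rw [e1, e2] at h5
  generalize altBound a * altBound b = P at h5 ⊢
  generalize nilpBound a * nilpBound b = Q at h5 h3
  omega

theorem nilpBound_mul_le_altBound (d m : ℕ) (hd : 2 ≤ d) (hm : 2 ≤ m) :
    nilpBound d * nilpBound m ≤ altBound (d * m) := by
  by_cases h : 7 ≤ d + m
  · have h1 : d + m + 3 ≤ d * m := by
      obtain ⟨d', rfl⟩ := Nat.exists_eq_add_of_le hd
      obtain ⟨m', rfl⟩ := Nat.exists_eq_add_of_le hm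
      have e : (2 + d') * (2 + m') = d' * m' + 2 * d' + 2 * m' + 4 := by ring
      rw [e]
      have : 0 ≤ d' * m' := Nat.zero_le _
      omega
    calc nilpBound d * nilpBound m ≤ nilpBound (d + m) := nilpBound_mul_le d m
      _ ≤ 2 * altBound (d + m) := nilpBound_le_two_mul_altBound _ (by omega)
      _ ≤ 3 * altBound (d + m) := Nat.mul_le_mul_right _ (by norm_num)
      _ ≤ altBound (d + m + 3) := three_mul_altBound_le _ (by omega)
      _ ≤ altBound (d * m) := altBound_mono h1
  · have hd4 : d ≤ 4 := by omega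
    have hm4 : m ≤ 4 := by omega
    interval_cases d <;> interval_cases m <;>
      first
      | (exfalso; omega)
      | norm_num [nilpBound, altBound, v2f_small]

theorem two_pow_le_altBound (n : ℕ) : 2 ^ (v2f n - 1) ≤ altBound n := by
  rcases Nat.lt_or_ge n 12 with hn | hn
  · interval_cases n <;> norm_num [altBound, v2f_small]
  · obtain ⟨k, r, hr, rfl⟩ : ∃ k r, r < 4 ∧ n = 4 * k + r := ⟨n / 4, n % 4, Nat.mod_lt _ (by norm_num), by omega⟩
    have hk : 3 ≤ k := by omega
    obtain ⟨b0, b1, b2, b3⟩ := altBound_block k hk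
    have hv := v2f_four k r hr
    have h1 : 1 ≤ v2f k := one_le_v2f (by omega)
    interval_cases r
    · rw [Nat.add_zero] at hv ⊢
      rw [b0]
      exact Nat.pow_le_pow_right (by norm_num) (by omega)
    · rw [b1]
      exact Nat.pow_le_pow_right (by norm_num) (by omega)
    · rw [b2, ← pow_succ']
      exact Nat.pow_le_pow_right (by norm_num) (by omega)
    · rw [b3]
      calc 2 ^ (v2f (4 * k + 3) - 1) ≤ 2 ^ (v2f k + 3 * k - 1 + 1) :=
            Nat.pow_le_pow_right (by norm_num) (by omega)
        _ = 2 * 2 ^ (v2f k + 3 * k - 1) := by rw [pow_succ']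
        _ ≤ 3 * 2 ^ (v2f k + 3 * k - 1) := Nat.mul_le_mul_right _ (by norm_num)

theorem five_pow_le' (m : ℕ) : 5 ^ (m + 9) ≤ 2 ^ (3 * m + 21) := by
  induction m with
  | zero => norm_num
  | succ m ih =>
    have e1 : 5 ^ (m + 1 + 9) = 5 * 5 ^ (m + 9) := by ring
    have e2 : 2 ^ (3 * (m + 1) + 21) = 8 * 2 ^ (3 * m + 21) := by ring
    rw [e1, e2]
    omega

theorem eightyone_pow_le' (m : ℕ) : 81 ^ (m + 28) ≤ 2 ^ (7 * m + 178) := by
  induction m with
  | zero => norm_num
  | succ m ih =>
    have e1 : 81 ^ (m + 1 + 28) = 81 * 81 ^ (m + 28) := by ring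
    have e2 : 2 ^ (7 * (m + 1) + 178) = 128 * 2 ^ (7 * m + 178) := by ring
    rw [e1, e2]
    omega

theorem pow_padicValNat_factorial_le_of_five_le' (p : ℕ) [Fact p.Prime] (hp : 5 ≤ p) (n : ℕ)
    (hn : 10 ≤ n) : p ^ padicValNat p n.factorial ≤ 2 ^ (v2f n - 1) := by
  have hw := sub_one_mul_padicValNat_factorial_lt_of_ne_zero p (n := n) (by omega)
  set w := padicValNat p n.factorial with hw_def
  have h1 : (p ^ w) ^ 4 ≤ 5 ^ (n - 1) := by
    calc (p ^ w) ^ 4 = (p ^ 4) ^ w := by rw [← pow_mul, ← pow_mul, mul_comm]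
      _ ≤ (5 ^ (p - 1)) ^ w := Nat.pow_le_pow_left (pow_four_le_five_pow p hp) w
      _ = 5 ^ ((p - 1) * w) := by rw [← pow_mul]
      _ ≤ 5 ^ (n - 1) := Nat.pow_le_pow_right (by norm_num) (by omega)
  have h2 : 5 ^ (n - 1) ≤ 2 ^ (3 * n - 9) := by
    have := five_pow_le' (n - 10)
    have e1 : n - 10 + 9 = n - 1 := by omega
    have e2 : 3 * (n - 10) + 21 = 3 * n - 9 := by omega
    rw [e1, e2] at this
    exact this
  have h3 : 2 ^ (3 * n - 9) ≤ (2 ^ (v2f n - 1)) ^ 4 := by
    rw [← pow_mul]
    apply Nat.pow_le_pow_right (by norm_num)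
    have := four_v2f_ge n
    omega
  exact (Nat.pow_le_pow_iff_left (by norm_num : (4 : ℕ) ≠ 0)).mp (le_trans h1 (le_trans h2 h3))

theorem three_pow_padicValNat_factorial_le' (n : ℕ) (hn : 29 ≤ n) :
    3 ^ padicValNat 3 n.factorial ≤ 2 ^ (v2f n - 1) := by
  haveI : Fact (Nat.Prime 3) := ⟨Nat.prime_three⟩
  have hw := sub_one_mul_padicValNat_factorial_lt_of_ne_zero 3 (n := n) (by omega)
  set w := padicValNat 3 n.factorial with hw_def
  have h1 : (3 ^ w) ^ 8 ≤ 81 ^ (n - 1) := by
    calc (3 ^ w) ^ 8 = 81 ^ (2 * w) := by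
          have : (81 : ℕ) = 3 ^ 4 := by norm_num
          rw [this, ← pow_mul, ← pow_mul]
          congr 1
          ring
      _ ≤ 81 ^ (n - 1) := Nat.pow_le_pow_right (by norm_num) (by omega)
  have h2 : 81 ^ (n - 1) ≤ 2 ^ (7 * n - 25) := by
    have := eightyone_pow_le' (n - 29)
    have e1 : n - 29 + 28 = n - 1 := by omega
    have e2 : 7 * (n - 29) + 178 = 7 * n - 25 := by omega
    rw [e1, e2] at this
    exact this
  have h3 : 2 ^ (7 * n - 25) ≤ (2 ^ (v2f n - 1)) ^ 8 := by
    rw [← pow_mul]
    apply Nat.pow_le_pow_right (by norm_num)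
    have := eight_v2f_ge n
    omega
  exact (Nat.pow_le_pow_iff_left (by norm_num : (8 : ℕ) ≠ 0)).mp (le_trans h1 (le_trans h2 h3))

/-- The order of a transitive `p`-group (`p` odd) of degree `n = p ^ j` is at most `altBound n`. -/
theorem pow_padicValNat_factorial_le_altBound (p : ℕ) [Fact p.Prime] (hp2 : p ≠ 2) (j : ℕ) :
    p ^ padicValNat p (p ^ j).factorial ≤ altBound (p ^ j) := by
  have hp : p.Prime := Fact.out
  have hp3 : 3 ≤ p := by have := hp.two_le; omega
  rcases Nat.eq_zero_or_pos j with rfl | hj
  · have : padicValNat p (p ^ 0).factorial = 0 := by simp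
    rw [this, pow_zero]
    exact altBound_pos _
  have hw := sub_one_mul_padicValNat_factorial_lt_of_ne_zero p (n := p ^ j) (by positivity)
  by_cases h3 : p = 3
  · subst h3
    rcases Nat.lt_or_ge j 4 with hj4 | hj4
    · interval_cases j
      · have hw1 : padicValNat 3 (3 ^ 1).factorial ≤ 1 := by
          have hw2 : 2 * padicValNat 3 (3 ^ 1).factorial < 3 := hw
          omega
        calc 3 ^ padicValNat 3 (3 ^ 1).factorial ≤ 3 ^ 1 := Nat.pow_le_pow_right (by norm_num) hw1
          _ ≤ altBound (3 ^ 1) := by norm_num [altBound, v2f_small]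
      · have hw1 : padicValNat 3 (3 ^ 2).factorial ≤ 4 := by
          have hw2 : 2 * padicValNat 3 (3 ^ 2).factorial < 9 := hw
          omega
        calc 3 ^ padicValNat 3 (3 ^ 2).factorial ≤ 3 ^ 4 := Nat.pow_le_pow_right (by norm_num) hw1
          _ ≤ altBound (3 ^ 2) := by norm_num [altBound, v2f_small]
      · have hw1 : padicValNat 3 (3 ^ 3).factorial ≤ 13 := by
          have hw2 : 2 * padicValNat 3 (3 ^ 3).factorial < 27 := hw
          omega
        have h24 : v2f 24 = 22 := by
          have := v2f_four 6 0 (by norm_num)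
          rw [v2f_small 6 (by norm_num)] at this
          simpa using this
        calc 3 ^ padicValNat 3 (3 ^ 3).factorial ≤ 3 ^ 13 := Nat.pow_le_pow_right (by norm_num) hw1
          _ ≤ altBound (3 ^ 3) := by norm_num [altBound, h24]
    · have hn : 29 ≤ 3 ^ j := by
        calc 29 ≤ 3 ^ 4 := by norm_num
          _ ≤ 3 ^ j := Nat.pow_le_pow_right (by norm_num) hj4
      exact le_trans (three_pow_padicValNat_factorial_le' _ hn) (two_pow_le_altBound _)
  · have hp5 : 5 ≤ p := by
      by_contra hlt
      have h4 : p = 4 := by omega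
      rw [h4] at hp
      exact absurd hp (by norm_num)
    rcases Nat.lt_or_ge (p ^ j) 10 with hn | hn
    · have hj1 : j = 1 := by
        by_contra hne
        have hj2 : 2 ≤ j := by omega
        have h1 : p ^ 2 ≤ p ^ j := Nat.pow_le_pow_right hp.pos hj2
        have h2 : 5 ^ 2 ≤ p ^ 2 := Nat.pow_le_pow_left hp5 2
        omega
      subst hj1
      rw [pow_one] at hn hw ⊢
      have hw1 : padicValNat p p.factorial ≤ 1 := by
        by_contra hgt
        have h2 : 2 ≤ padicValNat p p.factorial := by omega
        have h3 : (p - 1) * 2 ≤ (p - 1) * padicValNat p p.factorial := Nat.mul_le_mul_left _ h2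
        omega
      have h8 : altBound 8 = 64 := by norm_num [altBound, v2f_small]
      calc p ^ padicValNat p p.factorial ≤ p ^ 1 := Nat.pow_le_pow_right hp.pos hw1
        _ = p := pow_one p
        _ ≤ altBound p := by
          by_cases h5 : p = 5
          · rw [h5]; norm_num [altBound, v2f_small]
          · by_cases h6 : p = 6
            · rw [h6]; norm_num [altBound, v2f_small]
            · by_cases h7 : p = 7
              · rw [h7]; norm_num [altBound, v2f_small]
              · by_cases h8' : p = 8
                · rw [h8']; norm_num [altBound, v2f_small]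
                · have h9 : p = 9 := by omega
                  rw [h9]; norm_num [altBound, v2f_small]
    · exact le_trans (pow_padicValNat_factorial_le_of_five_le' p hp5 _ hn) (two_pow_le_altBound _)

theorem sign_eq_mul_of_invariant {X : Type*} [Fintype X] [DecidableEq X] (p : X → Prop)
    [DecidablePred p] (σ : Equiv.Perm X) (h : ∀ x, p (σ x) ↔ p x) :
    Equiv.Perm.sign σ = Equiv.Perm.sign (σ.subtypePerm h) *
      Equiv.Perm.sign (σ.subtypePerm (p := fun x => ¬ p x) (fun x => not_congr (h x))) := by
  have e : σ = Equiv.Perm.subtypeCongr (σ.subtypePerm h)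
      (σ.subtypePerm (p := fun x => ¬ p x) (fun x => not_congr (h x))) := by
    ext x
    by_cases hx : p x
    · rw [Equiv.Perm.subtypeCongr.left_apply _ _ hx]
      rfl
    · rw [Equiv.Perm.subtypeCongr.right_apply _ _ hx]
      rfl
  conv_lhs => rw [e]
  exact Equiv.Perm.sign_subtypeCongr _ _

theorem sign_eq_sign_of_equiv' {α β : Type*} (dα : DecidableEq α) (fα : Fintype α)
    (dβ : DecidableEq β) (fβ : Fintype β) (f : Equiv.Perm α) (g : Equiv.Perm β) (e : α ≃ β)
    (h : ∀ x, e (f x) = g (e x)) :
    @Equiv.Perm.sign α dα fα f = @Equiv.Perm.sign β dβ fβ g :=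
  @Equiv.Perm.sign_eq_sign_of_equiv α dα β fα dβ fβ f g e h

theorem sign_toPerm_split {G X : Type*} [Group G] [MulAction G X] [Fintype X] [DecidableEq X]
    (S₁ S₂ : SubMulAction G X) (hcompl : ∀ z, z ∈ S₂ ↔ z ∉ S₁)
    [Fintype S₁] [DecidableEq S₁] [Fintype S₂] [DecidableEq S₂] (g : G) :
    Equiv.Perm.sign (MulAction.toPerm g : Equiv.Perm X) =
      Equiv.Perm.sign (MulAction.toPerm g : Equiv.Perm S₁) *
      Equiv.Perm.sign (MulAction.toPerm g : Equiv.Perm S₂) := by
  classical
  have h : ∀ z, (MulAction.toPerm g : Equiv.Perm X) z ∈ S₁ ↔ z ∈ S₁ := by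
    intro z
    constructor
    · intro hz
      have := S₁.smul_mem g⁻¹ hz
      rwa [MulAction.toPerm_apply, inv_smul_smul] at this
    · intro hz
      exact S₁.smul_mem g hz
  rw [sign_eq_mul_of_invariant (fun z => z ∈ S₁) _ h]
  congr 1
  · exact sign_eq_sign_of_equiv' _ _ _ _ _ _ (Equiv.refl _) (fun x => rfl)
  · exact sign_eq_sign_of_equiv' _ _ _ _ _ _
      (Equiv.subtypeEquivRight (fun z => (hcompl z).symm)) (fun x => rfl)

/-- A finite nilpotent group acting faithfully by even permutations on `n` points has order at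
most `altBound n`. -/
theorem card_le_altBound (n : ℕ) : ∀ (X : Type) [Finite X] (G : Type) [Group G] [Finite G]
    [Group.IsNilpotent G] [MulAction G X] [FaithfulSMul G X], Nat.card X = n →
    (∀ [Fintype X] [DecidableEq X] (g : G),
      Equiv.Perm.sign (MulAction.toPerm g : Equiv.Perm X) = 1) →
    Nat.card G ≤ altBound n := by
  induction n using Nat.strong_induction_on with
  | _ n ih =>
  intro X _ G _ _ _ _ _ hX heven
  classical
  haveI : Fintype X := Fintype.ofFinite X
  by_cases htriv : Subsingleton G
  · have h1 : Nat.card G ≤ 1 := Finite.card_le_one_iff_subsingleton.mpr htriv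
    exact le_trans h1 (altBound_pos n)
  rw [not_subsingleton_iff_nontrivial] at htriv
  by_cases hT : MulAction.IsPretransitive G X
  · -- transitive
    have hne : Nonempty X := by
      by_contra hne
      rw [not_nonempty_iff] at hne
      obtain ⟨g, hg⟩ := exists_ne (1 : G)
      apply hg
      apply FaithfulSMul.eq_of_smul_eq_smul (α := X)
      intro x
      exact (hne.false x).elim
    obtain ⟨ω⟩ := hne
    have hX2 : Nontrivial X := by
      by_contra hnt
      rw [not_nontrivial_iff_subsingleton] at hnt
      obtain ⟨g, hg⟩ := exists_ne (1 : G)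
      apply hg
      apply FaithfulSMul.eq_of_smul_eq_smul (α := X)
      intro x
      exact Subsingleton.elim _ _
    have hdvd2 : 2 * Nat.card G ∣ n.factorial := by
      have hinj : Function.Injective (MulAction.toPermHom G X) := MulAction.toPerm_injective
      have hle : (MulAction.toPermHom G X).range ≤ alternatingGroup X := by
        rintro _ ⟨g, rfl⟩
        rw [Equiv.Perm.mem_alternatingGroup]
        exact heven g
      have h1 : Nat.card G = Nat.card (MulAction.toPermHom G X).range :=
        Nat.card_congr (MonoidHom.ofInjective hinj).toEquiv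
      have h2 : Nat.card (MulAction.toPermHom G X).range ∣ Nat.card (alternatingGroup X) :=
        Subgroup.card_dvd_of_le hle
      have h3 : 2 * Nat.card (alternatingGroup X) = n.factorial := by
        rw [← hX, ← Nat.card_perm]
        exact two_mul_nat_card_alternatingGroup
      rw [h1, ← h3]
      exact Nat.mul_dvd_mul_left 2 h2
    by_cases hpg : ∃ p : ℕ, p.Prime ∧ IsPGroup p G
    · obtain ⟨p, hp, hG⟩ := hpg
      haveI : Fact p.Prime := ⟨hp⟩
      obtain ⟨j, hj⟩ := hG.index (MulAction.stabilizer G ω)
      rw [MulAction.index_stabilizer_of_transitive, hX] at hj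
      obtain ⟨k, hk⟩ := IsPGroup.iff_card.mp hG
      rw [hk] at hdvd2 ⊢
      by_cases hp2 : p = 2
      · subst hp2
        have h1 : 2 ^ (k + 1) ∣ n.factorial := by
          rw [pow_succ']
          exact hdvd2
        have hkle : k + 1 ≤ padicValNat 2 n.factorial :=
          (padicValNat_dvd_iff_le (Nat.factorial_ne_zero n)).mp h1
        have hkle' : k ≤ v2f n - 1 := by
          unfold v2f
          omega
        calc 2 ^ k ≤ 2 ^ (v2f n - 1) := Nat.pow_le_pow_right (by norm_num) hkle'
          _ ≤ altBound n := two_pow_le_altBound n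
      · have h1 : p ^ k ∣ n.factorial := Dvd.dvd.trans (Dvd.intro_left 2 rfl) hdvd2
        have hkle : k ≤ padicValNat p n.factorial :=
          (padicValNat_dvd_iff_le (Nat.factorial_ne_zero n)).mp h1
        calc p ^ k ≤ p ^ padicValNat p n.factorial := Nat.pow_le_pow_right hp.pos hkle
          _ ≤ altBound n := by
            rw [hj]
            exact pow_padicValNat_factorial_le_altBound p hp2 j
    · -- not a p-group
      push Not at hpg
      have hcard : Nat.card G ≠ 1 := by
        intro h1
        have : Subsingleton G := Finite.card_le_one_iff_subsingleton.mp (le_of_eq h1)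
        exact not_subsingleton G this
      obtain ⟨p, hp, hpd⟩ := Nat.exists_prime_and_dvd hcard
      haveI : Fact p.Prime := ⟨hp⟩
      obtain ⟨P⟩ : Nonempty (Sylow p G) := inferInstance
      obtain ⟨K, hK⟩ := Subgroup.exists_right_complement'_of_coprime (N := (P : Subgroup G))
        P.card_coprime_index
      have hPK : Nat.card (P : Subgroup G) * Nat.card K = Nat.card G := hK.card_mul_card
      have hKidx : Nat.card K = (P : Subgroup G).index := by
        have h2 := (P : Subgroup G).card_mul_index
        have hpos : 0 < Nat.card (P : Subgroup G) := Nat.card_pos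
        apply Nat.eq_of_mul_eq_mul_left hpos
        rw [hPK, h2]
      have hcop : (Nat.card (P : Subgroup G)).Coprime (Nat.card K) := by
        rw [hKidx]
        exact P.card_coprime_index
      have hcomm : ∀ a ∈ (P : Subgroup G), ∀ b ∈ K, a * b = b * a := by
        intro a ha b hb
        apply commute_of_coprime_orderOf G a b
        have h1 : orderOf a ∣ Nat.card (P : Subgroup G) := by
          have := orderOf_dvd_natCard (⟨a, ha⟩ : (P : Subgroup G))
          rwa [← Subgroup.orderOf_coe] at this
        have h2 : orderOf b ∣ Nat.card K := by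
          have := orderOf_dvd_natCard (⟨b, hb⟩ : K)
          rwa [← Subgroup.orderOf_coe] at this
        exact Nat.Coprime.of_dvd h1 h2 hcop
      have hprod : ∀ g : G, ∃ a ∈ (P : Subgroup G), ∃ b ∈ K, g = a * b := by
        intro g
        obtain ⟨⟨a, b⟩, hab⟩ := hK.2 g
        exact ⟨a.1, a.2, b.1, b.2, hab.symm⟩
      have htr : ∀ x : X, ∃ a ∈ (P : Subgroup G), ∃ b ∈ K, (a * b) • ω = x := by
        intro x
        obtain ⟨g, hg⟩ := MulAction.exists_smul_eq G ω x
        obtain ⟨a, ha, b, hb, rfl⟩ := hprod g
        exact ⟨a, ha, b, hb, hg⟩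
      haveI fP : FaithfulSMul (P : Subgroup G) (MulAction.orbit (P : Subgroup G) ω) := by
        refine ⟨fun {a a'} h => ?_⟩
        apply Subtype.ext
        apply FaithfulSMul.eq_of_smul_eq_smul (α := X)
        apply smul_eq_smul_of_orbit_left (P : Subgroup G) K hcomm ω htr a.1 a'.1 a.2 a'.2
        intro c hc
        have := congrArg Subtype.val (h ⟨c • ω, ⟨⟨c, hc⟩, rfl⟩⟩)
        exact this
      haveI fK : FaithfulSMul K (MulAction.orbit K ω) := by
        refine ⟨fun {a a'} h => ?_⟩
        apply Subtype.ext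
        apply FaithfulSMul.eq_of_smul_eq_smul (α := X)
        apply smul_eq_smul_of_orbit_right (P : Subgroup G) K hcomm ω htr a.1 a'.1 a.2 a'.2
        intro c hc
        have := congrArg Subtype.val (h ⟨c • ω, ⟨⟨c, hc⟩, rfl⟩⟩)
        exact this
      have hdm : n = Nat.card (MulAction.orbit (P : Subgroup G) ω) *
          Nat.card (MulAction.orbit K ω) := by
        rw [← hX]
        exact card_eq_card_orbit_mul_card_orbit (P : Subgroup G) K hcomm hcop ω htr
      have hPcard : Nat.card (P : Subgroup G) ≠ 1 := by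
        rw [P.card_eq_multiplicity]
        have hpos : 0 < (Nat.card G).factorization p :=
          Nat.Prime.factorization_pos_of_dvd hp Nat.card_pos.ne' hpd
        intro h1
        have : 1 < p ^ (Nat.card G).factorization p := Nat.one_lt_pow hpos.ne' hp.one_lt
        omega
      have hKcard : Nat.card K ≠ 1 := by
        intro h1
        rw [h1, mul_one, P.card_eq_multiplicity] at hPK
        exact hpg p hp (IsPGroup.of_card hPK.symm)
      have hd1 : Nat.card (MulAction.orbit (P : Subgroup G) ω) ≠ 1 := by
        intro h1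
        have hsub : Subsingleton (MulAction.orbit (P : Subgroup G) ω) :=
          Finite.card_le_one_iff_subsingleton.mp (le_of_eq h1)
        apply hPcard
        have : Subsingleton (P : Subgroup G) := by
          refine ⟨fun a a' => ?_⟩
          apply FaithfulSMul.eq_of_smul_eq_smul (α := MulAction.orbit (P : Subgroup G) ω)
          intro y
          exact Subsingleton.elim _ _
        exact le_antisymm (Finite.card_le_one_iff_subsingleton.mpr this) Nat.card_pos
      have hm1 : Nat.card (MulAction.orbit K ω) ≠ 1 := by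
        intro h1
        have hsub : Subsingleton (MulAction.orbit K ω) :=
          Finite.card_le_one_iff_subsingleton.mp (le_of_eq h1)
        apply hKcard
        have : Subsingleton K := by
          refine ⟨fun a a' => ?_⟩
          apply FaithfulSMul.eq_of_smul_eq_smul (α := MulAction.orbit K ω)
          intro y
          exact Subsingleton.elim _ _
        exact le_antisymm (Finite.card_le_one_iff_subsingleton.mpr this) Nat.card_pos
      haveI : Nonempty (MulAction.orbit (P : Subgroup G) ω) :=
        ⟨⟨ω, MulAction.mem_orbit_self ω⟩⟩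
      haveI : Nonempty (MulAction.orbit K ω) := ⟨⟨ω, MulAction.mem_orbit_self ω⟩⟩
      have hd0 : 0 < Nat.card (MulAction.orbit (P : Subgroup G) ω) := Nat.card_pos
      have hm0 : 0 < Nat.card (MulAction.orbit K ω) := Nat.card_pos
      generalize hd : Nat.card (MulAction.orbit (P : Subgroup G) ω) = d at hdm hd1 hd0
      generalize hm : Nat.card (MulAction.orbit K ω) = m at hdm hm1 hm0
      have hd2 : 2 ≤ d := by omega
      have hm2 : 2 ≤ m := by omega
      have h1 := card_le_nilpBound d (MulAction.orbit (P : Subgroup G) ω) (P : Subgroup G) hd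
      have h2 := card_le_nilpBound m (MulAction.orbit K ω) K hm
      calc Nat.card G = Nat.card (P : Subgroup G) * Nat.card K := hPK.symm
        _ ≤ nilpBound d * nilpBound m := Nat.mul_le_mul h1 h2
        _ ≤ altBound (d * m) := nilpBound_mul_le_altBound d m hd2 hm2
        _ = altBound n := by rw [hdm]
  · -- not transitive
    have hex : ∃ x y : X, y ∉ MulAction.orbit G x := by
      by_contra hcon
      push Not at hcon
      exact hT ⟨fun x y => hcon x y⟩
    obtain ⟨x, y, hy⟩ := hex
    let S₁ : SubMulAction G X :=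
      { carrier := MulAction.orbit G x
        smul_mem' := by
          rintro c z ⟨g, rfl⟩
          exact ⟨c * g, mul_smul c g x⟩ }
    let S₂ : SubMulAction G X :=
      { carrier := (MulAction.orbit G x)ᶜ
        smul_mem' := by
          rintro c z hz ⟨g, hg⟩
          apply hz
          refine ⟨c⁻¹ * g, ?_⟩
          show (c⁻¹ * g) • x = z
          have hg' : g • x = c • z := hg
          rw [mul_smul, hg', inv_smul_smul] }
    have hinj : Function.Injective (fun g : G =>
        ((MulAction.toPermHom G S₁).rangeRestrict g, (MulAction.toPermHom G S₂).rangeRestrict g)) := by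
      intro g g' h
      have h1 : MulAction.toPermHom G S₁ g = MulAction.toPermHom G S₁ g' :=
        congrArg Subtype.val (congrArg Prod.fst h)
      have h2 : MulAction.toPermHom G S₂ g = MulAction.toPermHom G S₂ g' :=
        congrArg Subtype.val (congrArg Prod.snd h)
      apply FaithfulSMul.eq_of_smul_eq_smul (α := X)
      intro z
      by_cases hz : z ∈ MulAction.orbit G x
      · have := congrArg (fun f : Equiv.Perm S₁ => ((f ⟨z, hz⟩ : S₁) : X)) h1
        exact this
      · have := congrArg (fun f : Equiv.Perm S₂ => ((f ⟨z, hz⟩ : S₂) : X)) h2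
        exact this
    have hc : Nat.card S₁ + Nat.card S₂ = n := by
      rw [← hX]
      have := Nat.card_congr (Equiv.Set.sumCompl (MulAction.orbit G x))
      rw [Nat.card_sum] at this
      exact this
    haveI : Nonempty S₁ := ⟨⟨x, MulAction.mem_orbit_self x⟩⟩
    haveI : Nonempty S₂ := ⟨⟨y, hy⟩⟩
    have hc1 : 0 < Nat.card S₁ := Nat.card_pos
    have hc2 : 0 < Nat.card S₂ := Nat.card_pos
    haveI : Group.IsNilpotent (MulAction.toPermHom G S₁).range :=
      Group.nilpotent_of_surjective (MulAction.toPermHom G S₁).rangeRestrict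
        (MulAction.toPermHom G S₁).rangeRestrict_surjective
    haveI : Group.IsNilpotent (MulAction.toPermHom G S₂).range :=
      Group.nilpotent_of_surjective (MulAction.toPermHom G S₂).rangeRestrict
        (MulAction.toPermHom G S₂).rangeRestrict_surjective
    have hsplit : ∀ g : G, Equiv.Perm.sign (MulAction.toPerm g : Equiv.Perm S₁) *
        Equiv.Perm.sign (MulAction.toPerm g : Equiv.Perm S₂) = 1 := by
      intro g
      rw [← sign_toPerm_split S₁ S₂ (fun z => Iff.rfl) g]
      exact heven g
    by_cases hodd : ∀ g : G, Equiv.Perm.sign (MulAction.toPerm g : Equiv.Perm S₁) = 1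
    · have hodd2 : ∀ g : G, Equiv.Perm.sign (MulAction.toPerm g : Equiv.Perm S₂) = 1 := by
        intro g
        have := hsplit g
        rw [hodd g, one_mul] at this
        exact this
      have key1 : ∀ [Fintype S₁] [DecidableEq S₁] (τ : (MulAction.toPermHom G S₁).range),
          Equiv.Perm.sign (MulAction.toPerm τ : Equiv.Perm S₁) = 1 := by
        intro i1 i2 τ
        obtain ⟨τ, g, rfl⟩ := τ
        rw [← hodd g]
        exact sign_eq_sign_of_equiv' _ _ _ _ _ _ (Equiv.refl _) (fun x => rfl)
      have key2 : ∀ [Fintype S₂] [DecidableEq S₂] (τ : (MulAction.toPermHom G S₂).range),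
          Equiv.Perm.sign (MulAction.toPerm τ : Equiv.Perm S₂) = 1 := by
        intro i1 i2 τ
        obtain ⟨τ, g, rfl⟩ := τ
        rw [← hodd2 g]
        exact sign_eq_sign_of_equiv' _ _ _ _ _ _ (Equiv.refl _) (fun x => rfl)
      have hle : Nat.card G ≤ Nat.card (MulAction.toPermHom G S₁).range *
          Nat.card (MulAction.toPermHom G S₂).range := by
        rw [← Nat.card_prod]
        exact Nat.card_le_card_of_injective _ hinj
      have h1 := ih (Nat.card S₁) (by omega) S₁ (MulAction.toPermHom G S₁).range rfl key1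
      have h2 := ih (Nat.card S₂) (by omega) S₂ (MulAction.toPermHom G S₂).range rfl key2
      calc Nat.card G ≤ Nat.card (MulAction.toPermHom G S₁).range *
            Nat.card (MulAction.toPermHom G S₂).range := hle
        _ ≤ altBound (Nat.card S₁) * altBound (Nat.card S₂) := Nat.mul_le_mul h1 h2
        _ ≤ altBound (Nat.card S₁ + Nat.card S₂) := altBound_mul_le _ _
        _ = altBound n := by rw [hc]
    · push Not at hodd
      obtain ⟨g₀, hg₀⟩ := hodd
      obtain ⟨ψ, hψ⟩ : ∃ ψ : (MulAction.toPermHom G S₁).range × (MulAction.toPermHom G S₂).range →* ℤˣ,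
          ∀ a b, ψ (a, b) = Equiv.Perm.sign (a : Equiv.Perm S₁) * Equiv.Perm.sign (b : Equiv.Perm S₂) :=
        ⟨(Equiv.Perm.sign.comp (Subgroup.subtype _)).coprod
          (Equiv.Perm.sign.comp (Subgroup.subtype _)), fun a b => rfl⟩
      have hle1 : Nat.card G ≤ Nat.card ψ.ker := by
        have h1 : Nat.card G ≤ Nat.card ψ.ker := by
          apply Nat.card_le_card_of_injective (fun g : G =>
            (⟨((MulAction.toPermHom G S₁).rangeRestrict g,
              (MulAction.toPermHom G S₂).rangeRestrict g), by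
                rw [MonoidHom.mem_ker, hψ]
                exact hsplit g⟩ : ψ.ker))
          intro g g' h
          exact hinj (congrArg Subtype.val h)
        exact h1
      have hrange : 2 ≤ Nat.card ψ.range := by
        have hne : ψ.range ≠ ⊥ := by
          intro hbot
          have hmem : ψ ((MulAction.toPermHom G S₁).rangeRestrict g₀, 1) ∈ ψ.range := ⟨_, rfl⟩
          rw [hbot, Subgroup.mem_bot, hψ] at hmem
          apply hg₀
          have e1 : Equiv.Perm.sign (((1 : (MulAction.toPermHom G S₂).range)) : Equiv.Perm S₂) = 1 :=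
            map_one _
          rw [e1, mul_one] at hmem
          exact hmem
        exact (Subgroup.one_lt_card_iff_ne_bot _).mpr hne
      have hidx : ψ.ker.index = Nat.card ψ.range := Subgroup.index_ker ψ
      have hmul : Nat.card ψ.ker * ψ.ker.index =
          Nat.card ((MulAction.toPermHom G S₁).range × (MulAction.toPermHom G S₂).range) :=
        Subgroup.card_mul_index _
      rw [Nat.card_prod, hidx] at hmul
      have h1 := card_le_nilpBound (Nat.card S₁) S₁ (MulAction.toPermHom G S₁).range rfl
      have h2 := card_le_nilpBound (Nat.card S₂) S₂ (MulAction.toPermHom G S₂).range rfl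
      have h3 := nilpBound_mul_le (Nat.card S₁) (Nat.card S₂)
      rw [hc] at h3
      have h4 := nilpBound_le_two_mul_altBound n (by omega)
      have h5 : Nat.card ψ.ker * 2 ≤ 2 * altBound n := by
        calc Nat.card ψ.ker * 2 ≤ Nat.card ψ.ker * Nat.card ψ.range :=
              Nat.mul_le_mul_left _ hrange
          _ = Nat.card (MulAction.toPermHom G S₁).range *
              Nat.card (MulAction.toPermHom G S₂).range := hmul
          _ ≤ nilpBound (Nat.card S₁) * nilpBound (Nat.card S₂) := Nat.mul_le_mul h1 h2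
          _ ≤ nilpBound n := h3
          _ ≤ 2 * altBound n := h4
      omega

/-- Nilpotent subgroups of `A_n` have order at most `altBound n`. -/
theorem card_nilpotent_subgroup_alt_le (n : ℕ) (N : Subgroup (alternatingGroup (Fin n)))
    (hN : Group.IsNilpotent N) : Nat.card N ≤ altBound n := by
  haveI := hN
  have key : ∀ g : N, Equiv.Perm.sign (g.1.1 : Equiv.Perm (Fin n)) = 1 := by
    intro g
    exact Equiv.Perm.mem_alternatingGroup.mp g.1.2
  refine card_le_altBound n (Fin n) N (by simp) ?_
  intro i1 i2 g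
  rw [← key g]
  exact sign_eq_sign_of_equiv' _ _ _ _ _ _ (Equiv.refl _) (fun x => rfl)

/-- The order of a Sylow `2`-subgroup of `A_n`. -/
theorem card_sylow_two_alt (n : ℕ) (P : Sylow 2 (alternatingGroup (Fin n))) :
    Nat.card P = 2 ^ (v2f n - 1) := by
  haveI : Fact (Nat.Prime 2) := ⟨Nat.prime_two⟩
  rw [P.card_eq_multiplicity]
  congr 1
  rcases Nat.lt_or_ge n 2 with hn | hn
  · have hsub : Subsingleton (Fin n) := by
      rw [← Fintype.card_le_one_iff_subsingleton, Fintype.card_fin]
      omega
    have h1 : Nat.card (alternatingGroup (Fin n)) = 1 := by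
      rw [Nat.card_eq_one_iff_unique]
      exact ⟨inferInstance, ⟨1⟩⟩
    rw [h1]
    have h2 : v2f n = 0 := by
      have := v2f_mono (show n ≤ 1 by omega)
      rw [v2f_one] at this
      omega
    rw [h2]
    simp
  · haveI : Nontrivial (Fin n) := Fin.nontrivial_iff_two_le.mpr hn
    have h3 : 2 * Nat.card (alternatingGroup (Fin n)) = n.factorial := by
      rw [two_mul_nat_card_alternatingGroup, Nat.card_perm, Nat.card_eq_fintype_card,
        Fintype.card_fin]
    have hpos : Nat.card (alternatingGroup (Fin n)) ≠ 0 := Nat.card_pos.ne'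
    have h4 : (2 * Nat.card (alternatingGroup (Fin n))).factorization 2 =
        (Nat.card (alternatingGroup (Fin n))).factorization 2 + 1 := by
      rw [Nat.factorization_mul (by norm_num) hpos]
      simp [Nat.Prime.factorization_self Nat.prime_two]
      ring
    rw [h3, Nat.factorization_def _ Nat.prime_two] at h4
    unfold v2f
    omega

end Cfsg.Agent.Lib.helper69
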