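import Mathlib
import Cfsg.Agent.Lib.helper69.NilpSym

set_option autoImplicit false

namespace Cfsg.Agent.Lib.helper69

open Equiv

theorem nilpBound_of_mod_four_eq_three (n : ℕ) (hn : n % 4 = 3) :
    nilpBound n = 3 * 2 ^ v2f (n - 3) := by
  unfold nilpBound
  rw [if_pos hn]

theorem card_sylow_two_perm (m : ℕ) (P : Sylow 2 (Perm (Fin m))) : Nat.card P = 2 ^ v2f m := by
  rw [Sylow.card_eq_multiplicity, Nat.card_perm, Nat.card_fin, Nat.factorization_def _ Nat.prime_two]
  rfl

theorem v2f_lt_of_mod_four (n : ℕ) (hn : n % 4 = 3) (h7 : 7 ≤ n) : v2f (n - 4) < v2f (n - 3) := by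
  obtain ⟨k, rfl⟩ : ∃ k, n = 4 * (k + 1) + 3 := ⟨n / 4 - 1, by omega⟩
  have e1 : 4 * (k + 1) + 3 - 3 = 4 * (k + 1) + 0 := by omega
  have e2 : 4 * (k + 1) + 3 - 4 = 4 * k + 3 := by omega
  rw [e1, e2, v2f_four (k + 1) 0 (by norm_num), v2f_four k 3 (by norm_num)]
  have := v2f_mono (Nat.le_add_right k 1)
  omega

/-- The embedding `Perm (Fin m) × Perm (Fin 3) → Perm (Fin n)` for `n = m + 3`. -/
noncomputable def permSumEmb (m n : ℕ) (h : m + 3 = n) :
    Perm (Fin m) × Perm (Fin 3) →* Perm (Fin n) :=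
  MonoidHom.comp (MulEquiv.toMonoidHom (Equiv.permCongrHom (finSumFinEquiv.trans (finCongr h))))
    (Perm.sumCongrHom (Fin m) (Fin 3))

theorem permSumEmb_injective (m n : ℕ) (h : m + 3 = n) : Function.Injective (permSumEmb m n h) := by
  unfold permSumEmb
  exact ((Equiv.permCongrHom (finSumFinEquiv.trans (finCongr h))).injective).comp
    Perm.sumCongrHom_injective

/-- The regular representation of `ZMod 3`. -/
def zmodThreeHom : Multiplicative (ZMod 3) →* Perm (ZMod 3) where
  toFun a := Equiv.addLeft (Multiplicative.toAdd a)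
  map_one' := by
    ext x
    simp
  map_mul' a b := by
    ext x
    simp [add_assoc]

theorem zmodThreeHom_injective : Function.Injective zmodThreeHom := by
  intro a b h
  have h1 := congrArg (fun f : Perm (ZMod 3) => f 0) h
  have h2 : Multiplicative.toAdd a + 0 = Multiplicative.toAdd b + 0 := h1
  rw [add_zero, add_zero] at h2
  exact Multiplicative.toAdd.injective h2

/-- Existence of a nilpotent subgroup `P × Z₃` of `S_n`. -/
theorem exists_nilpotent_sylow_prod (n : ℕ) (h3 : 3 ≤ n) (P : Sylow 2 (Perm (Fin (n - 3)))) :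
    ∃ M : Subgroup (Perm (Fin n)), Group.IsNilpotent M ∧ Nat.card M = 3 * Nat.card P ∧
      Nonempty (M ≃* (↥(P : Subgroup (Perm (Fin (n - 3)))) × Multiplicative (ZMod 3))) := by
  have hn : n - 3 + 3 = n := by omega
  let f : ↥(P : Subgroup (Perm (Fin (n - 3)))) × Multiplicative (ZMod 3) →* Perm (Fin n) :=
    (permSumEmb (n - 3) n hn).comp
      (MonoidHom.prodMap (P : Subgroup (Perm (Fin (n - 3)))).subtype
        (zmodThreeHom : Multiplicative (ZMod 3) →* Perm (Fin 3)))
  have hf : Function.Injective f := by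
    apply (permSumEmb_injective (n - 3) n hn).comp
    intro x y hxy
    have h1 := congrArg Prod.fst hxy
    have h2 := congrArg Prod.snd hxy
    exact Prod.ext (Subtype.ext h1) (zmodThreeHom_injective h2)
  have e : ↥(P : Subgroup (Perm (Fin (n - 3)))) × Multiplicative (ZMod 3) ≃* f.range :=
    MonoidHom.ofInjective hf
  haveI : Group.IsNilpotent ↥(P : Subgroup (Perm (Fin (n - 3)))) := P.isPGroup'.isNilpotent
  refine ⟨f.range, Group.nilpotent_of_mulEquiv e, ?_, ⟨e.symm⟩⟩
  rw [← Nat.card_congr e.toEquiv, Nat.card_prod, mul_comm]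
  congr 1
  rw [Nat.card_eq_fintype_card]
  rfl

/-- Two subgroups whose order is the full `p`-part of the group order are conjugate. -/
theorem exists_conj_of_card_eq {G : Type*} [Group G] [Finite G] (p : ℕ) [Fact p.Prime]
    (A B : Subgroup G) (hA : Nat.card A = p ^ (Nat.card G).factorization p)
    (hB : Nat.card B = p ^ (Nat.card G).factorization p) :
    ∃ g : G, B = A.map (MulAut.conj g).toMonoidHom := by
  obtain ⟨g, hg⟩ := MulAction.exists_smul_eq G (Sylow.ofCard A hA) (Sylow.ofCard B hB)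
  refine ⟨g, ?_⟩
  have h1 := congrArg (fun S : Sylow p G => (S : Subgroup G)) hg
  simp only [Sylow.coe_subgroup_smul, Sylow.coe_ofCard] at h1
  rw [← h1]
  ext x
  rw [Subgroup.mem_pointwise_smul_iff_inv_smul_mem, Subgroup.mem_map]
  constructor
  · intro hx
    refine ⟨_, hx, ?_⟩
    simp [MulAut.smul_def, mul_assoc]
  · rintro ⟨y, hy, rfl⟩
    simpa [MulAut.smul_def, mul_assoc] using hy

/-- Structure of the nilpotent subgroups of `S_n`, `n ≡ 3 (mod 4)`, of the largest possible order. -/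
theorem nilp_extremal_structure (n : ℕ) (hn : n % 4 = 3) (N : Subgroup (Perm (Fin n)))
    (hN : Group.IsNilpotent N) (hcard : Nat.card N = 3 * 2 ^ v2f (n - 3)) :
    ∃ (r : Perm (Fin n)) (Q : Subgroup (Perm (Fin n))), r.IsThreeCycle ∧
      Nat.card Q = 2 ^ v2f (n - 3) ∧ (∀ q ∈ Q, ∀ x, r x ≠ x → q x = x) ∧
      N = Q ⊔ Subgroup.zpowers r := by
  haveI := hN
  haveI : Fact (Nat.Prime 3) := ⟨Nat.prime_three⟩
  obtain ⟨R⟩ : Nonempty (Sylow 3 N) := inferInstance
  have hfac : (3 * 2 ^ v2f (n - 3)).factorization 3 = 1 := by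
    rw [Nat.factorization_def _ Nat.prime_three, padicValNat.mul (by norm_num) (by positivity),
      padicValNat.pow (p := 3) (a := 2) (v2f (n - 3)), padicValNat.self (by norm_num)]
    have : padicValNat 3 2 = 0 := padicValNat.eq_zero_of_not_dvd (by norm_num)
    rw [this, mul_zero, add_zero]
  have hR3 : Nat.card (R : Subgroup N) = 3 := by
    rw [R.card_eq_multiplicity, hcard, hfac, pow_one]
  obtain ⟨K, hK⟩ := Subgroup.exists_right_complement'_of_coprime (N := (R : Subgroup N))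
    R.card_coprime_index
  have hRK := hK.card_mul_card
  have hKcard : Nat.card K = 2 ^ v2f (n - 3) := by
    rw [hR3, hcard] at hRK
    exact Nat.eq_of_mul_eq_mul_left (by norm_num) hRK
  obtain ⟨r', hr'R, hr'3⟩ : ∃ r' : N, r' ∈ (R : Subgroup N) ∧ orderOf r' = 3 := by
    obtain ⟨x, hx⟩ := exists_prime_orderOf_dvd_card' (G := (R : Subgroup N)) 3 (by rw [hR3])
    exact ⟨x.1, x.2, by rw [Subgroup.orderOf_coe]; exact hx⟩
  have hRz : (R : Subgroup N) = Subgroup.zpowers r' := by
    have hle : Subgroup.zpowers r' ≤ (R : Subgroup N) := by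
      rw [Subgroup.zpowers_le]
      exact hr'R
    have hc : Nat.card (Subgroup.zpowers r') = 3 := by rw [Nat.card_zpowers, hr'3]
    exact (Subgroup.eq_of_le_of_card_ge hle (by rw [hc, hR3])).symm
  have hcommN : ∀ b ∈ K, b * r' = r' * b := by
    intro b hb
    apply commute_of_coprime_orderOf N b r'
    have h2 : orderOf b ∣ Nat.card K := by
      have := orderOf_dvd_natCard (⟨b, hb⟩ : K)
      rwa [← Subgroup.orderOf_coe] at this
    rw [hr'3]
    rw [hKcard] at h2
    exact Nat.Coprime.coprime_dvd_left h2 (Nat.Coprime.pow_left _ (by norm_num))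
  obtain ⟨r, hr_def⟩ : ∃ r : Perm (Fin n), r = (r' : Perm (Fin n)) := ⟨_, rfl⟩
  have hord : orderOf r = 3 := by rw [hr_def, Subgroup.orderOf_coe, hr'3]
  have hQcard : Nat.card (K.map N.subtype) = 2 ^ v2f (n - 3) := by
    rw [Subgroup.card_map_of_injective (Subgroup.subtype_injective N), hKcard]
  have hcomm : ∀ q ∈ K.map N.subtype, q * r = r * q := by
    rintro _ ⟨b, hb, rfl⟩
    rw [hr_def]
    exact congrArg Subtype.val (hcommN b hb)
  have hNeq : N = K.map N.subtype ⊔ Subgroup.zpowers r := by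
    apply le_antisymm
    · intro g hg
      obtain ⟨⟨a, b⟩, hab⟩ := hK.2 ⟨g, hg⟩
      have hab' : (a : N) * (b : N) = ⟨g, hg⟩ := hab
      have hg' : g = ((a : N) : Perm (Fin n)) * ((b : N) : Perm (Fin n)) := by
        have := congrArg Subtype.val hab'
        exact this.symm
      rw [hg', sup_comm]
      apply Subgroup.mul_mem_sup
      · have ha : (a : N) ∈ Subgroup.zpowers r' := by rw [← hRz]; exact a.2
        obtain ⟨i, hi⟩ := Subgroup.mem_zpowers_iff.mp ha
        rw [← hi, hr_def]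
        exact Subgroup.mem_zpowers_iff.mpr ⟨i, by simp⟩
      · exact ⟨b, b.2, rfl⟩
    · apply sup_le
      · exact Subgroup.map_subtype_le K
      · rw [Subgroup.zpowers_le, hr_def]
        exact r'.2
  -- r is a 3-cycle
  have hr3 : r ^ 3 = 1 := by rw [← hord]; exact pow_orderOf_eq_one r
  have hct := Perm.cycleType_of_pow_prime_eq_one (p := 3) hr3
  obtain ⟨t, ht_def⟩ : ∃ t, t = Multiset.card r.cycleType := ⟨_, rfl⟩
  rw [← ht_def] at hct
  have hr1 : r ≠ 1 := by
    intro h1
    rw [h1, orderOf_one] at hord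
    omega
  have ht0 : t ≠ 0 := by
    intro h0
    rw [h0, Multiset.replicate_zero, Perm.cycleType_eq_zero] at hct
    exact hr1 hct
  have hsum : 3 * t ≤ n := by
    have := Perm.sum_cycleType_le r
    rw [hct, Multiset.sum_replicate, Fintype.card_fin, smul_eq_mul] at this
    omega
  have hcent : Nat.card (Subgroup.centralizer {r}) = (n - 3 * t).factorial * 3 ^ t * t.factorial := by
    rw [Perm.nat_card_centralizer, hct, Multiset.sum_replicate, Multiset.prod_replicate,
      Fintype.card_fin, smul_eq_mul]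
    have e1 : (Multiset.replicate t 3).toFinset = {3} := by
      ext x
      simp [Multiset.mem_replicate, ht0]
    rw [e1, Finset.prod_singleton, Multiset.count_replicate_self, mul_comm t 3]
  have hQle : K.map N.subtype ≤ Subgroup.centralizer {r} := by
    intro q hq
    rw [Subgroup.mem_centralizer_iff]
    intro h hh
    rw [Set.mem_singleton_iff] at hh
    rw [hh]
    exact (hcomm q hq).symm
  have hdvd := Subgroup.card_dvd_of_le hQle
  rw [hQcard, hcent] at hdvd
  have hle : v2f (n - 3) ≤ v2f (n - 3 * t) + v2f t := by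
    have h1 := (padicValNat_dvd_iff_le (p := 2)
      (by positivity : (n - 3 * t).factorial * 3 ^ t * t.factorial ≠ 0)).mp hdvd
    rw [padicValNat.mul (by positivity) (by positivity), padicValNat.mul (by positivity) (by positivity),
      padicValNat.pow (p := 2) (a := 3) t] at h1
    have : padicValNat 2 3 = 0 := padicValNat.eq_zero_of_not_dvd (by norm_num)
    rw [this, mul_zero, add_zero] at h1
    exact h1
  have ht1 : t = 1 := by
    by_contra hne
    have ht2 : 2 ≤ t := by omega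
    have h1 := v2f_add (n - 3 * t) t
    have h2 : v2f (n - 3 * t + t) ≤ v2f (n - 4) := v2f_mono (by omega)
    have h3 := v2f_lt_of_mod_four n hn (by omega)
    omega
  have hthree : r.IsThreeCycle := by
    show r.cycleType = {3}
    rw [hct, ht1, Multiset.replicate_one]
  refine ⟨r, K.map N.subtype, hthree, hQcard, ?_, hNeq⟩
  -- Q fixes the support of r pointwise
  intro q hq x hx
  have hcyc := hthree.isCycle
  have hqx : r (q x) ≠ q x := by
    intro h
    apply hx
    have h1 : (q * r) x = (r * q) x := by rw [hcomm q hq]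
    rw [Perm.mul_apply, Perm.mul_apply, h] at h1
    exact q.injective h1
  obtain ⟨i, _, hi⟩ := (hcyc.sameCycle hx hqx).exists_pow_eq'
  have hpow : ∀ m : ℕ, (q ^ m) x = (r ^ (i * m)) x := by
    intro m
    induction m with
    | zero => simp
    | succ m ihm =>
      have hc0 : Commute q r := hcomm q hq
      have hc : Commute q (r ^ (i * m)) := hc0.pow_right _
      calc (q ^ (m + 1)) x = q ((q ^ m) x) := by rw [pow_succ', Perm.mul_apply]
        _ = q ((r ^ (i * m)) x) := by rw [ihm]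
        _ = (q * r ^ (i * m)) x := by rw [Perm.mul_apply]
        _ = (r ^ (i * m) * q) x := by rw [hc.eq]
        _ = (r ^ (i * m)) ((r ^ i) x) := by rw [Perm.mul_apply, hi]
        _ = (r ^ (i * (m + 1))) x := by rw [← Perm.mul_apply, ← pow_add]; congr 2
  have hQp : IsPGroup 2 (K.map N.subtype) := IsPGroup.of_card hQcard
  obtain ⟨j, hj⟩ := hQp ⟨q, hq⟩
  have hj' : q ^ 2 ^ j = 1 := congrArg Subtype.val hj
  have h1 := hpow (2 ^ j)
  rw [hj', Perm.one_apply] at h1
  have h2 : r ^ (i * 2 ^ j) = 1 := (hcyc.pow_eq_one_iff' hx).mpr h1.symm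
  have h3 : 3 ∣ i * 2 ^ j := by
    rw [← hord]
    exact orderOf_dvd_of_pow_eq_one h2
  have h4 : 3 ∣ i := (Nat.Coprime.dvd_mul_right (Nat.Coprime.pow_right _ (by norm_num))).mp h3
  have h5 : r ^ i = 1 := by
    obtain ⟨c, rfl⟩ := h4
    rw [pow_mul, hr3, one_pow]
  rw [h5, Perm.one_apply] at hi
  exact hi.symm

/-- Any two groups `Q ⊔ ⟨r⟩` (`r` a 3-cycle, `Q` a `2`-group of the largest possible order fixing
the support of `r`) are conjugate in `S_n`. -/
theorem nilp_extremal_conj (n : ℕ) (r₁ r₂ : Perm (Fin n)) (Q₁ Q₂ : Subgroup (Perm (Fin n)))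
    (h₁ : r₁.IsThreeCycle) (h₂ : r₂.IsThreeCycle)
    (hc₁ : Nat.card Q₁ = 2 ^ v2f (n - 3)) (hc₂ : Nat.card Q₂ = 2 ^ v2f (n - 3))
    (hf₁ : ∀ q ∈ Q₁, ∀ x, r₁ x ≠ x → q x = x) (hf₂ : ∀ q ∈ Q₂, ∀ x, r₂ x ≠ x → q x = x) :
    ∃ g : Perm (Fin n), Q₂ ⊔ Subgroup.zpowers r₂ =
      (Q₁ ⊔ Subgroup.zpowers r₁).map (MulAut.conj g).toMonoidHom := by
  classical
  obtain ⟨g₀, hg₀⟩ := isConj_iff.mp
    (Perm.isConj_of_cycleType_eq (h₁.cycleType.trans h₂.cycleType.symm))
  obtain ⟨H, hH_def⟩ : ∃ H : Subgroup (Perm (Fin n)),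
      H = (Perm.ofSubtype : Perm {x // r₂ x = x} →* Perm (Fin n)).range := ⟨_, rfl⟩
  have hmemH : ∀ σ : Perm (Fin n), (∀ x, r₂ x ≠ x → σ x = x) → σ ∈ H := by
    intro σ hσ
    have h1 : ∀ x, r₂ (σ x) = σ x ↔ r₂ x = x := by
      intro x
      by_cases hx : r₂ x = x
      · simp only [hx, iff_true]
        by_contra hcon
        have h' : σ x = x := σ.injective (hσ (σ x) hcon)
        rw [h'] at hcon
        exact hcon hx
      · rw [hσ x hx]
    have h2 : ∀ x, σ x ≠ x → r₂ x = x := by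
      intro x hx
      by_contra hcon
      exact hx (hσ x hcon)
    rw [hH_def]
    exact ⟨σ.subtypePerm h1, Perm.ofSubtype_subtypePerm h1 h2⟩
  have hHfix : ∀ σ ∈ H, ∀ x, r₂ x ≠ x → σ x = x := by
    intro σ hσ x hx
    rw [hH_def] at hσ
    obtain ⟨τ, rfl⟩ := hσ
    exact Perm.ofSubtype_apply_of_not_mem τ hx
  have hHcard : Nat.card H = (n - 3).factorial := by
    rw [hH_def, Nat.card_congr (MonoidHom.ofInjective Perm.ofSubtype_injective).toEquiv.symm,
      Nat.card_perm]
    congr 1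
    rw [Nat.card_eq_fintype_card, Fintype.card_subtype]
    have e : (Finset.univ.filter (fun x => r₂ x = x)) = r₂.supportᶜ := by
      ext x
      simp
    rw [e, Finset.card_compl, h₂.card_support, Fintype.card_fin]
  have hQ1' : Q₁.map (MulAut.conj g₀).toMonoidHom ≤ H := by
    rintro _ ⟨q, hq, rfl⟩
    apply hmemH
    intro x hx
    have hx' : r₁ (g₀⁻¹ x) ≠ g₀⁻¹ x := by
      intro h
      apply hx
      rw [← hg₀]
      show g₀ (r₁ (g₀⁻¹ x)) = x
      rw [h]
      exact Equiv.apply_symm_apply g₀ x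
    have h3 := hf₁ q hq _ hx'
    show g₀ (q (g₀⁻¹ x)) = x
    rw [h3]
    exact Equiv.apply_symm_apply g₀ x
  have hQ2 : Q₂ ≤ H := fun q hq => hmemH q (hf₂ q hq)
  haveI : Fact (Nat.Prime 2) := ⟨Nat.prime_two⟩
  have hfacH : (Nat.card H).factorization 2 = v2f (n - 3) := by
    rw [hHcard, Nat.factorization_def _ Nat.prime_two]
    rfl
  have hA : Nat.card ((Q₁.map (MulAut.conj g₀).toMonoidHom).subgroupOf H) =
      2 ^ (Nat.card H).factorization 2 := by
    rw [hfacH, Nat.card_congr (Subgroup.subgroupOfEquivOfLe hQ1').toEquiv,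
      Subgroup.card_map_of_injective (MulEquiv.injective _), hc₁]
  have hB : Nat.card (Q₂.subgroupOf H) = 2 ^ (Nat.card H).factorization 2 := by
    rw [hfacH, Nat.card_congr (Subgroup.subgroupOfEquivOfLe hQ2).toEquiv, hc₂]
  obtain ⟨h, hh⟩ := exists_conj_of_card_eq 2 _ _ hA hB
  have hcomm : (h : Perm (Fin n)) * r₂ = r₂ * h := by
    have hd : Perm.Disjoint (h : Perm (Fin n)) r₂ := by
      intro x
      by_cases hx : r₂ x = x
      · right
        exact hx
      · left
        exact hHfix h h.2 x hx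
    exact hd.commute.eq
  refine ⟨h * g₀, ?_⟩
  have e2 : (MulAut.conj ((h : Perm (Fin n)) * g₀)).toMonoidHom r₁ = r₂ := by
    show ((h : Perm (Fin n)) * g₀) * r₁ * ((h : Perm (Fin n)) * g₀)⁻¹ = r₂
    have e : ((h : Perm (Fin n)) * g₀) * r₁ * ((h : Perm (Fin n)) * g₀)⁻¹ =
        (h : Perm (Fin n)) * (g₀ * r₁ * g₀⁻¹) * (h : Perm (Fin n))⁻¹ := by group
    rw [e, hg₀, hcomm, mul_inv_cancel_right]
  have e1 : Q₁.map (MulAut.conj ((h : Perm (Fin n)) * g₀)).toMonoidHom = Q₂ := by
    ext x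
    constructor
    · rintro ⟨q, hq, rfl⟩
      have hq' : (MulAut.conj g₀).toMonoidHom q ∈ Q₁.map (MulAut.conj g₀).toMonoidHom :=
        ⟨q, hq, rfl⟩
      have hqH := hQ1' hq'
      have h4 : (MulAut.conj h).toMonoidHom ⟨_, hqH⟩ ∈ Q₂.subgroupOf H := by
        rw [hh]
        exact ⟨⟨_, hqH⟩, Subgroup.mem_subgroupOf.mpr hq', rfl⟩
      rw [Subgroup.mem_subgroupOf] at h4
      have e : ((MulAut.conj h).toMonoidHom ⟨_, hqH⟩ : Perm (Fin n)) =
          (MulAut.conj ((h : Perm (Fin n)) * g₀)).toMonoidHom q := by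
        show (h : Perm (Fin n)) * (g₀ * q * g₀⁻¹) * (h : Perm (Fin n))⁻¹ =
          ((h : Perm (Fin n)) * g₀) * q * ((h : Perm (Fin n)) * g₀)⁻¹
        group
      rw [← e]
      exact h4
    · intro hx
      have hxH : x ∈ H := hQ2 hx
      have h4 : (⟨x, hxH⟩ : H) ∈ Q₂.subgroupOf H := Subgroup.mem_subgroupOf.mpr hx
      rw [hh] at h4
      obtain ⟨a, ha, hax⟩ := h4
      have ha' : (a : Perm (Fin n)) ∈ Q₁.map (MulAut.conj g₀).toMonoidHom :=
        Subgroup.mem_subgroupOf.mp ha
      obtain ⟨q, hq, hqa⟩ := ha'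
      refine ⟨q, hq, ?_⟩
      have h5 : (h : Perm (Fin n)) * (a : Perm (Fin n)) * (h : Perm (Fin n))⁻¹ = x :=
        congrArg Subtype.val hax
      have h6 : g₀ * q * g₀⁻¹ = (a : Perm (Fin n)) := hqa
      show ((h : Perm (Fin n)) * g₀) * q * ((h : Perm (Fin n)) * g₀)⁻¹ = x
      rw [← h5, ← h6]
      group
  rw [Subgroup.map_sup, MonoidHom.map_zpowers, e1, e2]

end Cfsg.Agent.Lib.helper69
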