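import Mathlib
import Cfsg.Agent.Lib.helper69.NilpSym2
import Cfsg.Agent.Lib.helper69.NilpAlt

set_option autoImplicit false

namespace Cfsg.Agent.Lib.helper69

open Equiv

theorem v2f_add_two_le (n : ℕ) (hn : n % 4 = 3) (h7 : 7 ≤ n) : v2f (n - 4) + 2 ≤ v2f (n - 3) := by
  obtain ⟨k, rfl⟩ : ∃ k, n = 4 * (k + 1) + 3 := ⟨n / 4 - 1, by omega⟩
  have e1 : 4 * (k + 1) + 3 - 3 = 4 * (k + 1) + 0 := by omega
  have e2 : 4 * (k + 1) + 3 - 4 = 4 * k + 3 := by omega
  rw [e1, e2, v2f_four (k + 1) 0 (by norm_num), v2f_four k 3 (by norm_num)]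
  have := v2f_mono (Nat.le_add_right k 1)
  omega

/-- Structure of a nilpotent subgroup of `S_n` of order `3 * 2 ^ v` with `v` large. -/
theorem nilp_extremal_structure' (n v : ℕ) (hv : v2f (n - 4) < v) (N : Subgroup (Perm (Fin n)))
    (hN : Group.IsNilpotent N) (hcard : Nat.card N = 3 * 2 ^ v) :
    ∃ (r : Perm (Fin n)) (Q : Subgroup (Perm (Fin n))), r.IsThreeCycle ∧
      Nat.card Q = 2 ^ v ∧ (∀ q ∈ Q, ∀ x, r x ≠ x → q x = x) ∧
      N = Q ⊔ Subgroup.zpowers r := by
  haveI := hN
  haveI : Fact (Nat.Prime 3) := ⟨Nat.prime_three⟩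
  obtain ⟨R⟩ : Nonempty (Sylow 3 N) := inferInstance
  have hfac : (3 * 2 ^ v).factorization 3 = 1 := by
    rw [Nat.factorization_def _ Nat.prime_three, padicValNat.mul (by norm_num) (by positivity),
      padicValNat.pow (p := 3) (a := 2) (v), padicValNat.self (by norm_num)]
    have : padicValNat 3 2 = 0 := padicValNat.eq_zero_of_not_dvd (by norm_num)
    rw [this, mul_zero, add_zero]
  have hR3 : Nat.card (R : Subgroup N) = 3 := by
    rw [R.card_eq_multiplicity, hcard, hfac, pow_one]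
  obtain ⟨K, hK⟩ := Subgroup.exists_right_complement'_of_coprime (N := (R : Subgroup N))
    R.card_coprime_index
  have hRK := hK.card_mul_card
  have hKcard : Nat.card K = 2 ^ v := by
    rw [hR3, hcard] at hRK
    exact Nat.eq_of_mul_eq_mul_left (by norm_num) hRK
  obtain ⟨r', hr'R, hr'3⟩ : ∃ r' : N, r' ∈ (R : Subgroup N) ∧ orderOf r' = 3 := by
    obtain ⟨x, hx⟩ := exists_prime_orderOf_dvd_card' (G := (R : Subgroup N)) 3 (by rw [hR3])
    exact ⟨x.1, x.2, by rw [Subgroup.orderOf_coe]; exact hx⟩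
  have hRz : (R : Subgroup N) = Subgroup.zpowers r' := by
    have hle : Subgroup.zpowers r' ≤ (R : Subgroup N) := by
      rw [Subgroup.zpowers_le]
      exact hr'R
    have hc : Nat.card (Subgroup.zpowers r') = 3 := by rw [Nat.card_zpowers, hr'3]
    exact (Subgroup.eq_of_le_of_card_ge hle (by rw [hc, hR3])).symm
  have hcommN : ∀ b ∈ K, b * r' = r' * b := by
    intro b hb
    apply commute_of_coprime_orderOf N b r'
    have h2 : orderOf b ∣ Nat.card K := by
      have := orderOf_dvd_natCard (⟨b, hb⟩ : K)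
      rwa [← Subgroup.orderOf_coe] at this
    rw [hr'3]
    rw [hKcard] at h2
    exact Nat.Coprime.coprime_dvd_left h2 (Nat.Coprime.pow_left _ (by norm_num))
  obtain ⟨r, hr_def⟩ : ∃ r : Perm (Fin n), r = (r' : Perm (Fin n)) := ⟨_, rfl⟩
  have hord : orderOf r = 3 := by rw [hr_def, Subgroup.orderOf_coe, hr'3]
  have hQcard : Nat.card (K.map N.subtype) = 2 ^ v := by
    rw [Subgroup.card_map_of_injective (Subgroup.subtype_injective N), hKcard]
  have hcomm : ∀ q ∈ K.map N.subtype, q * r = r * q := by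
    rintro _ ⟨b, hb, rfl⟩
    rw [hr_def]
    exact congrArg Subtype.val (hcommN b hb)
  have hNeq : N = K.map N.subtype ⊔ Subgroup.zpowers r := by
    apply le_antisymm
    · intro g hg
      obtain ⟨⟨a, b⟩, hab⟩ := hK.2 ⟨g, hg⟩
      have hab' : (a : N) * (b : N) = ⟨g, hg⟩ := hab
      have hg' : g = ((a : N) : Perm (Fin n)) * ((b : N) : Perm (Fin n)) := by
        have := congrArg Subtype.val hab'
        exact this.symm
      rw [hg', sup_comm]
      apply Subgroup.mul_mem_sup
      · have ha : (a : N) ∈ Subgroup.zpowers r' := by rw [← hRz]; exact a.2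
        obtain ⟨i, hi⟩ := Subgroup.mem_zpowers_iff.mp ha
        rw [← hi, hr_def]
        exact Subgroup.mem_zpowers_iff.mpr ⟨i, by simp⟩
      · exact ⟨b, b.2, rfl⟩
    · apply sup_le
      · exact Subgroup.map_subtype_le K
      · rw [Subgroup.zpowers_le, hr_def]
        exact r'.2
  -- r is a 3-cycle
  have hr3 : r ^ 3 = 1 := by rw [← hord]; exact pow_orderOf_eq_one r
  have hct := Perm.cycleType_of_pow_prime_eq_one (p := 3) hr3
  obtain ⟨t, ht_def⟩ : ∃ t, t = Multiset.card r.cycleType := ⟨_, rfl⟩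
  rw [← ht_def] at hct
  have hr1 : r ≠ 1 := by
    intro h1
    rw [h1, orderOf_one] at hord
    omega
  have ht0 : t ≠ 0 := by
    intro h0
    rw [h0, Multiset.replicate_zero, Perm.cycleType_eq_zero] at hct
    exact hr1 hct
  have hsum : 3 * t ≤ n := by
    have := Perm.sum_cycleType_le r
    rw [hct, Multiset.sum_replicate, Fintype.card_fin, smul_eq_mul] at this
    omega
  have hcent : Nat.card (Subgroup.centralizer {r}) = (n - 3 * t).factorial * 3 ^ t * t.factorial := by
    rw [Perm.nat_card_centralizer, hct, Multiset.sum_replicate, Multiset.prod_replicate,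
      Fintype.card_fin, smul_eq_mul]
    have e1 : (Multiset.replicate t 3).toFinset = {3} := by
      ext x
      simp [Multiset.mem_replicate, ht0]
    rw [e1, Finset.prod_singleton, Multiset.count_replicate_self, mul_comm t 3]
  have hQle : K.map N.subtype ≤ Subgroup.centralizer {r} := by
    intro q hq
    rw [Subgroup.mem_centralizer_iff]
    intro h hh
    rw [Set.mem_singleton_iff] at hh
    rw [hh]
    exact (hcomm q hq).symm
  have hdvd := Subgroup.card_dvd_of_le hQle
  rw [hQcard, hcent] at hdvd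
  have hle : v ≤ v2f (n - 3 * t) + v2f t := by
    have h1 := (padicValNat_dvd_iff_le (p := 2)
      (by positivity : (n - 3 * t).factorial * 3 ^ t * t.factorial ≠ 0)).mp hdvd
    rw [padicValNat.mul (by positivity) (by positivity), padicValNat.mul (by positivity) (by positivity),
      padicValNat.pow (p := 2) (a := 3) t] at h1
    have : padicValNat 2 3 = 0 := padicValNat.eq_zero_of_not_dvd (by norm_num)
    rw [this, mul_zero, add_zero] at h1
    exact h1
  have ht1 : t = 1 := by
    by_contra hne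
    have ht2 : 2 ≤ t := by omega
    have h1 := v2f_add (n - 3 * t) t
    have h2 : v2f (n - 3 * t + t) ≤ v2f (n - 4) := v2f_mono (by omega)
    omega
  have hthree : r.IsThreeCycle := by
    show r.cycleType = {3}
    rw [hct, ht1, Multiset.replicate_one]
  refine ⟨r, K.map N.subtype, hthree, hQcard, ?_, hNeq⟩
  -- Q fixes the support of r pointwise
  intro q hq x hx
  have hcyc := hthree.isCycle
  have hqx : r (q x) ≠ q x := by
    intro h
    apply hx
    have h1 : (q * r) x = (r * q) x := by rw [hcomm q hq]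
    rw [Perm.mul_apply, Perm.mul_apply, h] at h1
    exact q.injective h1
  obtain ⟨i, _, hi⟩ := (hcyc.sameCycle hx hqx).exists_pow_eq'
  have hpow : ∀ m : ℕ, (q ^ m) x = (r ^ (i * m)) x := by
    intro m
    induction m with
    | zero => simp
    | succ m ihm =>
      have hc0 : Commute q r := hcomm q hq
      have hc : Commute q (r ^ (i * m)) := hc0.pow_right _
      calc (q ^ (m + 1)) x = q ((q ^ m) x) := by rw [pow_succ', Perm.mul_apply]
        _ = q ((r ^ (i * m)) x) := by rw [ihm]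
        _ = (q * r ^ (i * m)) x := by rw [Perm.mul_apply]
        _ = (r ^ (i * m) * q) x := by rw [hc.eq]
        _ = (r ^ (i * m)) ((r ^ i) x) := by rw [Perm.mul_apply, hi]
        _ = (r ^ (i * (m + 1))) x := by rw [← Perm.mul_apply, ← pow_add]; congr 2
  have hQp : IsPGroup 2 (K.map N.subtype) := IsPGroup.of_card hQcard
  obtain ⟨j, hj⟩ := hQp ⟨q, hq⟩
  have hj' : q ^ 2 ^ j = 1 := congrArg Subtype.val hj
  have h1 := hpow (2 ^ j)
  rw [hj', Perm.one_apply] at h1
  have h2 : r ^ (i * 2 ^ j) = 1 := (hcyc.pow_eq_one_iff' hx).mpr h1.symm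
  have h3 : 3 ∣ i * 2 ^ j := by
    rw [← hord]
    exact orderOf_dvd_of_pow_eq_one h2
  have h4 : 3 ∣ i := (Nat.Coprime.dvd_mul_right (Nat.Coprime.pow_right _ (by norm_num))).mp h3
  have h5 : r ^ i = 1 := by
    obtain ⟨c, rfl⟩ := h4
    rw [pow_mul, hr3, one_pow]
  rw [h5, Perm.one_apply] at hi
  exact hi.symm


theorem sign_zmodThreeHom (a : Multiplicative (ZMod 3)) :
    Perm.sign (zmodThreeHom a : Perm (Fin 3)) = 1 := by
  have h3 : a ^ 3 = 1 := by
    revert a
    decide
  have h4 : (Perm.sign (zmodThreeHom a : Perm (Fin 3))) ^ 3 = 1 := by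
    rw [← map_pow]
    have : (zmodThreeHom a : Perm (Fin 3)) ^ 3 = 1 := by
      have h5 : (zmodThreeHom a) ^ 3 = 1 := by rw [← map_pow, h3, map_one]
      exact h5
    rw [this, map_one]
  rcases Int.units_eq_one_or (Perm.sign (zmodThreeHom a : Perm (Fin 3))) with h | h
  · exact h
  · rw [h] at h4
    exact absurd h4 (by decide)

theorem sign_permSumEmb (m n : ℕ) (h : m + 3 = n) (σ : Perm (Fin m)) (τ : Perm (Fin 3)) :
    Perm.sign (permSumEmb m n h (σ, τ)) = Perm.sign σ * Perm.sign τ := by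
  unfold permSumEmb
  show Perm.sign ((finSumFinEquiv.trans (finCongr h)).permCongr (Perm.sumCongr σ τ)) = _
  rw [Perm.sign_permCongr, Perm.sign_sumCongr]

/-- Existence of a nilpotent subgroup `P × Z₃` of `A_n`. -/
theorem exists_nilpotent_sylow_prod_alt (n : ℕ) (h3 : 3 ≤ n)
    (P : Sylow 2 (alternatingGroup (Fin (n - 3)))) :
    ∃ M : Subgroup (alternatingGroup (Fin n)), Group.IsNilpotent M ∧ Nat.card M = 3 * Nat.card P ∧
      Nonempty (M ≃* (↥(P : Subgroup (alternatingGroup (Fin (n - 3)))) ×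
        Multiplicative (ZMod 3))) := by
  have hn : n - 3 + 3 = n := by omega
  let f₀ : ↥(P : Subgroup (alternatingGroup (Fin (n - 3)))) × Multiplicative (ZMod 3) →*
      Perm (Fin n) :=
    (permSumEmb (n - 3) n hn).comp
      (MonoidHom.prodMap ((alternatingGroup (Fin (n - 3))).subtype.comp
        (P : Subgroup (alternatingGroup (Fin (n - 3)))).subtype)
        (zmodThreeHom : Multiplicative (ZMod 3) →* Perm (Fin 3)))
  have hf₀ : Function.Injective f₀ := by
    apply (permSumEmb_injective (n - 3) n hn).comp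
    intro x y hxy
    have h1 := congrArg Prod.fst hxy
    have h2 := congrArg Prod.snd hxy
    exact Prod.ext (Subtype.ext (Subtype.ext h1)) (zmodThreeHom_injective h2)
  have hmem : ∀ x, f₀ x ∈ alternatingGroup (Fin n) := by
    intro x
    rw [Perm.mem_alternatingGroup]
    have e := sign_permSumEmb (n - 3) n hn (x.1.1.1 : Perm (Fin (n - 3)))
      (zmodThreeHom x.2 : Perm (Fin 3))
    have h1 : Perm.sign (x.1.1.1 : Perm (Fin (n - 3))) = 1 :=
      Perm.mem_alternatingGroup.mp x.1.1.2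
    rw [h1, one_mul] at e
    exact e.trans (sign_zmodThreeHom x.2)
  let f : ↥(P : Subgroup (alternatingGroup (Fin (n - 3)))) × Multiplicative (ZMod 3) →*
      alternatingGroup (Fin n) :=
    f₀.codRestrict (alternatingGroup (Fin n)) hmem
  have hf : Function.Injective f := by
    intro x y hxy
    exact hf₀ (congrArg Subtype.val hxy)
  have e : ↥(P : Subgroup (alternatingGroup (Fin (n - 3)))) × Multiplicative (ZMod 3) ≃* f.range :=
    MonoidHom.ofInjective hf
  haveI : Group.IsNilpotent ↥(P : Subgroup (alternatingGroup (Fin (n - 3)))) :=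
    P.isPGroup'.isNilpotent
  refine ⟨f.range, Group.nilpotent_of_mulEquiv e, ?_, ⟨e.symm⟩⟩
  rw [← Nat.card_congr e.toEquiv, Nat.card_prod, mul_comm]
  congr 1
  rw [Nat.card_eq_fintype_card]
  rfl

/-- Any two groups `Q ⊔ ⟨r⟩` (`r` a 3-cycle, `Q` an even `2`-group of the largest possible order
fixing the support of `r`) are conjugate under `A_n`. -/
theorem nilp_extremal_conj_alt (n : ℕ) (h7 : 7 ≤ n) (r₁ r₂ : Perm (Fin n))
    (Q₁ Q₂ : Subgroup (Perm (Fin n)))
    (h₁ : r₁.IsThreeCycle) (h₂ : r₂.IsThreeCycle)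
    (hc₁ : Nat.card Q₁ = 2 ^ (v2f (n - 3) - 1)) (hc₂ : Nat.card Q₂ = 2 ^ (v2f (n - 3) - 1))
    (hA₁ : Q₁ ≤ alternatingGroup (Fin n)) (hA₂ : Q₂ ≤ alternatingGroup (Fin n))
    (hf₁ : ∀ q ∈ Q₁, ∀ x, r₁ x ≠ x → q x = x) (hf₂ : ∀ q ∈ Q₂, ∀ x, r₂ x ≠ x → q x = x) :
    ∃ g : Perm (Fin n), g ∈ alternatingGroup (Fin n) ∧ Q₂ ⊔ Subgroup.zpowers r₂ =
      (Q₁ ⊔ Subgroup.zpowers r₁).map (MulAut.conj g).toMonoidHom := by
  classical
  obtain ⟨g₀, hg₀⟩ := isConj_iff.mp
    (Perm.isConj_of_cycleType_eq (h₁.cycleType.trans h₂.cycleType.symm))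
  obtain ⟨H, hH_def⟩ : ∃ H : Subgroup (Perm (Fin n)),
      H = (Perm.ofSubtype : Perm {x // r₂ x = x} →* Perm (Fin n)).range := ⟨_, rfl⟩
  have hmemH : ∀ σ : Perm (Fin n), (∀ x, r₂ x ≠ x → σ x = x) → σ ∈ H := by
    intro σ hσ
    have h1 : ∀ x, r₂ (σ x) = σ x ↔ r₂ x = x := by
      intro x
      by_cases hx : r₂ x = x
      · simp only [hx, iff_true]
        by_contra hcon
        have h' : σ x = x := σ.injective (hσ (σ x) hcon)
        rw [h'] at hcon
        exact hcon hx
      · rw [hσ x hx]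
    have h2 : ∀ x, σ x ≠ x → r₂ x = x := by
      intro x hx
      by_contra hcon
      exact hx (hσ x hcon)
    rw [hH_def]
    exact ⟨σ.subtypePerm h1, Perm.ofSubtype_subtypePerm h1 h2⟩
  have hHfix : ∀ σ ∈ H, ∀ x, r₂ x ≠ x → σ x = x := by
    intro σ hσ x hx
    rw [hH_def] at hσ
    obtain ⟨τ, rfl⟩ := hσ
    exact Perm.ofSubtype_apply_of_not_mem τ hx
  have hfixcard : (Finset.univ.filter (fun x => r₂ x = x)).card = n - 3 := by
    have e : (Finset.univ.filter (fun x => r₂ x = x)) = r₂.supportᶜ := by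
      ext x
      simp
    rw [e, Finset.card_compl, h₂.card_support, Fintype.card_fin]
  have hHcard : Nat.card H = (n - 3).factorial := by
    rw [hH_def, Nat.card_congr (MonoidHom.ofInjective Perm.ofSubtype_injective).toEquiv.symm,
      Nat.card_perm]
    congr 1
    rw [Nat.card_eq_fintype_card, Fintype.card_subtype]
    exact hfixcard
  obtain ⟨K, hK_def⟩ : ∃ K : Subgroup (Perm (Fin n)), K = H ⊓ alternatingGroup (Fin n) :=
    ⟨_, rfl⟩
  have hKH : K ≤ H := by
    rw [hK_def]
    exact inf_le_left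
  have hKcard : Nat.card K * 2 = (n - 3).factorial := by
    obtain ⟨ψ, hψ⟩ : ∃ ψ : H →* ℤˣ, ∀ x : H, ψ x = Perm.sign (x : Perm (Fin n)) :=
      ⟨Perm.sign.comp H.subtype, fun x => rfl⟩
    have hker : ψ.ker = K.subgroupOf H := by
      ext x
      rw [MonoidHom.mem_ker, hψ, Subgroup.mem_subgroupOf, hK_def, Subgroup.mem_inf,
        Perm.mem_alternatingGroup]
      constructor
      · intro hx
        exact ⟨x.2, hx⟩
      · intro hx
        exact hx.2
    have hrange : Nat.card ψ.range = 2 := by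
      have hne : ψ.range ≠ ⊥ := by
        intro hbot
        have h2 : 1 < (Finset.univ.filter (fun x => r₂ x = x)).card := by
          rw [hfixcard]
          omega
        obtain ⟨u, hu, w, hw, huw⟩ := Finset.one_lt_card.mp h2
        rw [Finset.mem_filter] at hu hw
        have hsw : swap u w ∈ H := by
          apply hmemH
          intro x hx
          apply swap_apply_of_ne_of_ne
          · rintro rfl
            exact hx hu.2
          · rintro rfl
            exact hx hw.2
        have hmem : ψ ⟨swap u w, hsw⟩ ∈ ψ.range := ⟨_, rfl⟩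
        rw [hbot, Subgroup.mem_bot, hψ] at hmem
        have h3 : Perm.sign (swap u w) = -1 := Perm.sign_swap huw
        rw [h3] at hmem
        exact absurd hmem (by decide)
      have h1 : 1 < Nat.card ψ.range := (Subgroup.one_lt_card_iff_ne_bot _).mpr hne
      have h2 : Nat.card ψ.range ≤ Nat.card ℤˣ := Subgroup.card_le_card_group _
      have h3 : Nat.card ℤˣ = 2 := by
        rw [Nat.card_eq_fintype_card]
        exact Fintype.card_units_int
      omega
    have hidx : ψ.ker.index = Nat.card ψ.range := Subgroup.index_ker ψ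
    have hmul : Nat.card ψ.ker * ψ.ker.index = Nat.card H := Subgroup.card_mul_index _
    rw [hidx, hrange, hker, Nat.card_congr (Subgroup.subgroupOfEquivOfLe hKH).toEquiv, hHcard]
      at hmul
    exact hmul
  have hQ1' : Q₁.map (MulAut.conj g₀).toMonoidHom ≤ K := by
    rintro _ ⟨q, hq, rfl⟩
    rw [hK_def]
    refine ⟨?_, ?_⟩
    · apply hmemH
      intro x hx
      have hx' : r₁ (g₀⁻¹ x) ≠ g₀⁻¹ x := by
        intro h
        apply hx
        rw [← hg₀]
        show g₀ (r₁ (g₀⁻¹ x)) = x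
        rw [h]
        exact Equiv.apply_symm_apply g₀ x
      have h3 := hf₁ q hq _ hx'
      show g₀ (q (g₀⁻¹ x)) = x
      rw [h3]
      exact Equiv.apply_symm_apply g₀ x
    · exact (alternatingGroup.normal).conj_mem q (hA₁ hq) g₀
  have hQ2 : Q₂ ≤ K := by
    intro q hq
    rw [hK_def]
    exact ⟨hmemH q (hf₂ q hq), hA₂ hq⟩
  haveI : Fact (Nat.Prime 2) := ⟨Nat.prime_two⟩
  have hfacK : (Nat.card K).factorization 2 = v2f (n - 3) - 1 := by
    have hpos : Nat.card K ≠ 0 := Nat.card_pos.ne'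
    have h4 : (Nat.card K * 2).factorization 2 = (Nat.card K).factorization 2 + 1 := by
      rw [Nat.factorization_mul hpos (by norm_num)]
      simp [Nat.Prime.factorization_self Nat.prime_two]
    rw [hKcard, Nat.factorization_def _ Nat.prime_two] at h4
    unfold v2f
    omega
  have hA : Nat.card ((Q₁.map (MulAut.conj g₀).toMonoidHom).subgroupOf K) =
      2 ^ (Nat.card K).factorization 2 := by
    rw [hfacK, Nat.card_congr (Subgroup.subgroupOfEquivOfLe hQ1').toEquiv,
      Subgroup.card_map_of_injective (MulEquiv.injective _), hc₁]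
  have hB : Nat.card (Q₂.subgroupOf K) = 2 ^ (Nat.card K).factorization 2 := by
    rw [hfacK, Nat.card_congr (Subgroup.subgroupOfEquivOfLe hQ2).toEquiv, hc₂]
  obtain ⟨h, hh⟩ := exists_conj_of_card_eq 2 _ _ hA hB
  have hhH : (h : Perm (Fin n)) ∈ H := hKH h.2
  have hKA : K ≤ alternatingGroup (Fin n) := by
    rw [hK_def]
    exact inf_le_right
  have hhA : (h : Perm (Fin n)) ∈ alternatingGroup (Fin n) := hKA h.2
  have hcomm : (h : Perm (Fin n)) * r₂ = r₂ * h := by
    have hd : Perm.Disjoint (h : Perm (Fin n)) r₂ := by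
      intro x
      by_cases hx : r₂ x = x
      · right
        exact hx
      · left
        exact hHfix h hhH x hx
    exact hd.commute.eq
  have e2 : (MulAut.conj ((h : Perm (Fin n)) * g₀)).toMonoidHom r₁ = r₂ := by
    show ((h : Perm (Fin n)) * g₀) * r₁ * ((h : Perm (Fin n)) * g₀)⁻¹ = r₂
    have e : ((h : Perm (Fin n)) * g₀) * r₁ * ((h : Perm (Fin n)) * g₀)⁻¹ =
        (h : Perm (Fin n)) * (g₀ * r₁ * g₀⁻¹) * (h : Perm (Fin n))⁻¹ := by group
    rw [e, hg₀, hcomm, mul_inv_cancel_right]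
  have e1 : Q₁.map (MulAut.conj ((h : Perm (Fin n)) * g₀)).toMonoidHom = Q₂ := by
    ext x
    constructor
    · rintro ⟨q, hq, rfl⟩
      have hq' : (MulAut.conj g₀).toMonoidHom q ∈ Q₁.map (MulAut.conj g₀).toMonoidHom :=
        ⟨q, hq, rfl⟩
      have hqH := hQ1' hq'
      have h4 : (MulAut.conj h).toMonoidHom ⟨_, hqH⟩ ∈ Q₂.subgroupOf K := by
        rw [hh]
        exact ⟨⟨_, hqH⟩, Subgroup.mem_subgroupOf.mpr hq', rfl⟩
      rw [Subgroup.mem_subgroupOf] at h4
      have e : ((MulAut.conj h).toMonoidHom ⟨_, hqH⟩ : Perm (Fin n)) =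
          (MulAut.conj ((h : Perm (Fin n)) * g₀)).toMonoidHom q := by
        show (h : Perm (Fin n)) * (g₀ * q * g₀⁻¹) * (h : Perm (Fin n))⁻¹ =
          ((h : Perm (Fin n)) * g₀) * q * ((h : Perm (Fin n)) * g₀)⁻¹
        group
      rw [← e]
      exact h4
    · intro hx
      have hxH : x ∈ K := hQ2 hx
      have h4 : (⟨x, hxH⟩ : K) ∈ Q₂.subgroupOf K := Subgroup.mem_subgroupOf.mpr hx
      rw [hh] at h4
      obtain ⟨a, ha, hax⟩ := h4
      have ha' : (a : Perm (Fin n)) ∈ Q₁.map (MulAut.conj g₀).toMonoidHom :=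
        Subgroup.mem_subgroupOf.mp ha
      obtain ⟨q, hq, hqa⟩ := ha'
      refine ⟨q, hq, ?_⟩
      have h5 : (h : Perm (Fin n)) * (a : Perm (Fin n)) * (h : Perm (Fin n))⁻¹ = x :=
        congrArg Subtype.val hax
      have h6 : g₀ * q * g₀⁻¹ = (a : Perm (Fin n)) := hqa
      show ((h : Perm (Fin n)) * g₀) * q * ((h : Perm (Fin n)) * g₀)⁻¹ = x
      rw [← h5, ← h6]
      group
  have key : Q₂ ⊔ Subgroup.zpowers r₂ = (Q₁ ⊔ Subgroup.zpowers r₁).map
      (MulAut.conj ((h : Perm (Fin n)) * g₀)).toMonoidHom := by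
    rw [Subgroup.map_sup, MonoidHom.map_zpowers, e1, e2]
  by_cases hev : (h : Perm (Fin n)) * g₀ ∈ alternatingGroup (Fin n)
  · exact ⟨_, hev, key⟩
  · -- correct the parity by a transposition inside the support of `r₂`
    have hr1 : r₂ ≠ 1 := by
      intro h1
      have := h₂.card_support
      rw [h1, Perm.support_one, Finset.card_empty] at this
      omega
    obtain ⟨a, ha⟩ : ∃ a, r₂ a ≠ a := by
      by_contra hcon
      push Not at hcon
      exact hr1 (Perm.ext hcon)
    have hra : r₂ (r₂ a) ≠ r₂ a := fun hc => ha (r₂.injective hc)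
    obtain ⟨s, hs_def⟩ : ∃ s : Perm (Fin n), s = swap a (r₂ a) := ⟨_, rfl⟩
    have hs_sign : Perm.sign s = -1 := by
      rw [hs_def]
      exact Perm.sign_swap (Ne.symm ha)
    have hss : s * s = 1 := by
      rw [hs_def]
      exact swap_mul_self _ _
    have hsinv : s⁻¹ = s := inv_eq_of_mul_eq_one_left hss
    have hrr : r₂ (r₂ a) ≠ a := by
      intro hc
      have h3 : r₂ ^ 3 = 1 := by
        rw [← h₂.orderOf]
        exact pow_orderOf_eq_one r₂
      have h4 : (r₂ ^ 3) a = a := by rw [h3, Perm.one_apply]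
      have h5 : (r₂ ^ 3) a = r₂ (r₂ (r₂ a)) := by
        rw [pow_succ, pow_succ, pow_one, Perm.mul_apply, Perm.mul_apply]
      rw [h5, hc] at h4
      exact ha h4
    have hsr : s * r₂ * s⁻¹ = r₂⁻¹ := by
      have hsup : (s * r₂).support = r₂.support \ {a} := by
        rw [hs_def]
        exact Perm.support_swap_mul_eq r₂ a hrr
      have hcard : (s * r₂).support.card = 2 := by
        rw [hsup, Finset.card_sdiff_of_subset (by
          rw [Finset.singleton_subset_iff, Perm.mem_support]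
          exact ha), h₂.card_support, Finset.card_singleton]
      obtain ⟨u, w, huw, hsw⟩ := Perm.card_support_eq_two.mp hcard
      have hsq : (s * r₂) * (s * r₂) = 1 := by
        rw [hsw]
        exact swap_mul_self _ _
      rw [hsinv]
      have e : s * r₂ * s = (s * r₂) * (s * r₂) * r₂⁻¹ := by group
      rw [e, hsq, one_mul]
    have hsq : ∀ q ∈ Q₂, s * q * s⁻¹ = q := by
      intro q hq
      have hqa : q a = a := hf₂ q hq a ha
      have hqb : q (r₂ a) = r₂ a := hf₂ q hq (r₂ a) hra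
      have hc : q * s = s * q := by
        rw [hs_def, Equiv.mul_swap_eq_swap_mul, hqa, hqb]
      rw [← hc, mul_inv_cancel_right]
    refine ⟨s * ((h : Perm (Fin n)) * g₀), ?_, ?_⟩
    · rw [Perm.mem_alternatingGroup] at hev ⊢
      rw [map_mul, hs_sign]
      rcases Int.units_eq_one_or (Perm.sign ((h : Perm (Fin n)) * g₀)) with h1 | h1
      · exact absurd h1 hev
      · rw [h1]
        decide
    · have ecomp : (MulAut.conj (s * ((h : Perm (Fin n)) * g₀))).toMonoidHom =
          (MulAut.conj s).toMonoidHom.comp (MulAut.conj ((h : Perm (Fin n)) * g₀)).toMonoidHom := by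
        ext x
        simp [mul_assoc]
      rw [ecomp, ← Subgroup.map_map, ← key, Subgroup.map_sup, MonoidHom.map_zpowers]
      have e3 : Q₂.map (MulAut.conj s).toMonoidHom = Q₂ := by
        ext x
        constructor
        · rintro ⟨q, hq, rfl⟩
          show s * q * s⁻¹ ∈ Q₂
          rw [hsq q hq]
          exact hq
        · intro hx
          exact ⟨x, hx, hsq x hx⟩
      have e4 : (MulAut.conj s).toMonoidHom r₂ = r₂⁻¹ := hsr
      rw [e3, e4, Subgroup.zpowers_inv]

/-- Nilpotent subgroups of `A_n`, `n ≡ 3 (mod 4)`, `n ≥ 7`, of the largest possible order are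
conjugate in `A_n`. -/
theorem alt_extremal_conj (n : ℕ) (hn : n % 4 = 3) (h7 : 7 ≤ n)
    (N₁ N₂ : Subgroup (alternatingGroup (Fin n))) (h1 : Group.IsNilpotent N₁)
    (h2 : Group.IsNilpotent N₂) (c1 : Nat.card N₁ = 3 * 2 ^ (v2f (n - 3) - 1))
    (c2 : Nat.card N₂ = 3 * 2 ^ (v2f (n - 3) - 1)) :
    ∃ g : alternatingGroup (Fin n), N₂ = N₁.map (MulAut.conj g).toMonoidHom := by
  have hv : v2f (n - 4) < v2f (n - 3) - 1 := by
    have := v2f_add_two_le n hn h7
    omega
  have hinj := Subgroup.subtype_injective (alternatingGroup (Fin n))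
  have n1 : Group.IsNilpotent (N₁.map (alternatingGroup (Fin n)).subtype) :=
    haveI := h1
    Group.nilpotent_of_mulEquiv (N₁.equivMapOfInjective _ hinj)
  have n2 : Group.IsNilpotent (N₂.map (alternatingGroup (Fin n)).subtype) :=
    haveI := h2
    Group.nilpotent_of_mulEquiv (N₂.equivMapOfInjective _ hinj)
  have d1 : Nat.card (N₁.map (alternatingGroup (Fin n)).subtype) = 3 * 2 ^ (v2f (n - 3) - 1) := by
    rw [Subgroup.card_map_of_injective hinj, c1]
  have d2 : Nat.card (N₂.map (alternatingGroup (Fin n)).subtype) = 3 * 2 ^ (v2f (n - 3) - 1) := by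
    rw [Subgroup.card_map_of_injective hinj, c2]
  obtain ⟨r₁, Q₁, t₁, k₁, f₁, e₁⟩ := nilp_extremal_structure' n _ hv _ n1 d1
  obtain ⟨r₂, Q₂, t₂, k₂, f₂, e₂⟩ := nilp_extremal_structure' n _ hv _ n2 d2
  have a1 : Q₁ ≤ alternatingGroup (Fin n) := by
    have h3 : Q₁ ≤ N₁.map (alternatingGroup (Fin n)).subtype := by
      rw [e₁]
      exact le_sup_left
    exact le_trans h3 (Subgroup.map_subtype_le N₁)
  have a2 : Q₂ ≤ alternatingGroup (Fin n) := by
    have h3 : Q₂ ≤ N₂.map (alternatingGroup (Fin n)).subtype := by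
      rw [e₂]
      exact le_sup_left
    exact le_trans h3 (Subgroup.map_subtype_le N₂)
  obtain ⟨g, hgA, hg⟩ := nilp_extremal_conj_alt n h7 r₁ r₂ Q₁ Q₂ t₁ t₂ k₁ k₂ a1 a2 f₁ f₂
  refine ⟨⟨g, hgA⟩, ?_⟩
  apply Subgroup.map_injective hinj
  rw [Subgroup.map_map]
  have ecomp : (alternatingGroup (Fin n)).subtype.comp
      (MulAut.conj (⟨g, hgA⟩ : alternatingGroup (Fin n))).toMonoidHom =
      (MulAut.conj g).toMonoidHom.comp (alternatingGroup (Fin n)).subtype := by
    ext x
    rfl
  rw [ecomp, ← Subgroup.map_map, e₁, e₂]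
  exact hg

end Cfsg.Agent.Lib.helper69
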