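import Mathlib

/-!
Helper lemmas on finite `p`-groups and class-two power formulas (owner: helper69).
-/

set_option autoImplicit false

universe u

namespace Cfsg.Agent.Lib.helper69

open scoped commutatorElement

/-- If the commutator `z = ⁅y, x⁆` is central, then `y ^ n * x = x * y ^ n * z ^ n`. -/
theorem pow_mul_comm_of_central {G : Type*} [Group G] (x y : G) (hz : ⁅y, x⁆ ∈ Subgroup.center G) (n : ℕ) :
    y ^ n * x = x * y ^ n * ⁅y, x⁆ ^ n := by
  have hc := Subgroup.mem_center_iff.mp hz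
  have hyx : y * x = x * y * ⁅y, x⁆ := by
    have : y * x = ⁅y, x⁆ * (x * y) := by rw [commutatorElement_def]; group
    rw [this, ← hc (x * y)]
  have hcn : ∀ k : ℕ, ∀ g : G, g * ⁅y, x⁆ ^ k = ⁅y, x⁆ ^ k * g :=
    fun k => Subgroup.mem_center_iff.mp (Subgroup.pow_mem _ hz k)
  generalize ⁅y, x⁆ = z at hyx hcn
  induction n with
  | zero => simp
  | succ n ih =>
    calc y ^ (n + 1) * x = y ^ n * (y * x) := by rw [pow_succ, mul_assoc]
      _ = y ^ n * (x * y * z) := by rw [hyx]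
      _ = (y ^ n * x) * y * z := by group
      _ = (x * y ^ n * z ^ n) * y * z := by rw [ih]
      _ = x * y ^ n * (z ^ n * y) * z := by group
      _ = x * y ^ n * (y * z ^ n) * z := by rw [hcn n y]
      _ = x * y ^ (n + 1) * z ^ (n + 1) := by rw [pow_succ, pow_succ]; group

/-- If the commutator `z = ⁅y, x⁆` is central, then `(x y)^n = x^n y^n z^(0 + 1 + ⋯ + (n-1))`. -/
theorem mul_pow_of_central {G : Type*} [Group G] (x y : G) (hz : ⁅y, x⁆ ∈ Subgroup.center G) (n : ℕ) :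
    (x * y) ^ n = x ^ n * y ^ n * ⁅y, x⁆ ^ (∑ i ∈ Finset.range n, i) := by
  have hcn : ∀ k : ℕ, ∀ g : G, g * ⁅y, x⁆ ^ k = ⁅y, x⁆ ^ k * g :=
    fun k => Subgroup.mem_center_iff.mp (Subgroup.pow_mem _ hz k)
  have hpm := pow_mul_comm_of_central x y hz
  generalize ⁅y, x⁆ = z at hcn hpm
  induction n with
  | zero => simp
  | succ n ih =>
    rw [pow_succ, ih, Finset.sum_range_succ]
    generalize (∑ i ∈ Finset.range n, i) = S
    calc x ^ n * y ^ n * z ^ S * (x * y) = x ^ n * y ^ n * (z ^ S * (x * y)) := by group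
      _ = x ^ n * y ^ n * ((x * y) * z ^ S) := by rw [hcn S (x * y)]
      _ = x ^ n * (y ^ n * x) * y * z ^ S := by group
      _ = x ^ n * (x * y ^ n * z ^ n) * y * z ^ S := by rw [hpm n]
      _ = x ^ n * x * y ^ n * (z ^ n * y) * z ^ S := by group
      _ = x ^ n * x * y ^ n * (y * z ^ n) * z ^ S := by rw [hcn n y]
      _ = x ^ (n + 1) * y ^ (n + 1) * z ^ (S + n) := by rw [pow_succ, pow_succ, pow_add]; group

/-- Elements of a cyclic group commute. -/
theorem comm_of_isCyclic {C : Type*} [Group C] [IsCyclic C] (a b : C) : a * b = b * a := by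
  obtain ⟨g, hg⟩ := IsCyclic.exists_generator (α := C)
  obtain ⟨i, rfl⟩ := Subgroup.mem_zpowers_iff.mp (hg a)
  obtain ⟨j, rfl⟩ := Subgroup.mem_zpowers_iff.mp (hg b)
  rw [← zpow_add, ← zpow_add, add_comm]

/-- A subgroup of order `p^(m-1)` in a group of order `p^m` is normal of index `p`; it contains all `p`-th powers
and all commutators. -/
theorem index_p_facts {G : Type*} [Group G] [Finite G] (p m : ℕ) (hp : p.Prime) (hm : 1 ≤ m)
    (hG : Nat.card G = p ^ m) (M : Subgroup G) (hM : Nat.card M = p ^ (m - 1)) :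
    M.Normal ∧ (∀ x : G, x ^ p ∈ M) ∧ (∀ x y : G, ⁅x, y⁆ ∈ M) := by
  haveI : Fact p.Prime := ⟨hp⟩
  have hidx : M.index = p := by
    have h1 := Subgroup.card_mul_index M
    rw [hM, hG] at h1
    have h2 : p ^ m = p ^ (m - 1) * p := by
      rw [← pow_succ]; congr 1; omega
    rw [h2] at h1
    exact Nat.eq_of_mul_eq_mul_left (pow_pos hp.pos _) h1
  have hnorm : M.Normal := by
    apply Subgroup.normal_of_index_eq_minFac_card
    rw [hidx, hG, Nat.pow_minFac (by omega), Nat.Prime.minFac_eq hp]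
  refine ⟨hnorm, ?_, ?_⟩
  · intro x
    have hcard : Nat.card (G ⧸ M) = p := by rw [← Subgroup.index_eq_card, hidx]
    have h1 : ((x : G ⧸ M)) ^ p = 1 := by
      rw [← hcard]; exact pow_card_eq_one'
    rw [← QuotientGroup.mk_pow, QuotientGroup.eq_one_iff] at h1
    exact h1
  · intro x y
    have hcard : Nat.card (G ⧸ M) = p := by rw [← Subgroup.index_eq_card, hidx]
    haveI : IsCyclic (G ⧸ M) := isCyclic_of_prime_card hcard
    have h1 : ((⁅x, y⁆ : G) : G ⧸ M) = 1 := by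
      have : ((⁅x, y⁆ : G) : G ⧸ M) = ⁅(x : G ⧸ M), (y : G ⧸ M)⁆ :=
        map_commutatorElement (QuotientGroup.mk' M) x y
      rw [this, commutatorElement_eq_one_iff_mul_comm]
      exact comm_of_isCyclic _ _
    rw [QuotientGroup.eq_one_iff] at h1
    exact h1

/-- Two distinct subgroups of order `p^(m-1)`, each with commuting elements, in a group of order `p^m`:
their intersection is central, contains all `p`-th powers and commutators, and has order at most `p^(m-2)`. -/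
theorem two_max_facts {G : Type*} [Group G] [Finite G] (p m : ℕ) (hp : p.Prime) (hm : 2 ≤ m)
    (hG : Nat.card G = p ^ m) (M₁ M₂ : Subgroup G) (h₁ : Nat.card M₁ = p ^ (m - 1))
    (h₂ : Nat.card M₂ = p ^ (m - 1)) (hne : M₁ ≠ M₂)
    (hc₁ : ∀ a ∈ M₁, ∀ b ∈ M₁, a * b = b * a) (hc₂ : ∀ a ∈ M₂, ∀ b ∈ M₂, a * b = b * a) :
    (M₁ ⊓ M₂ ≤ Subgroup.center G) ∧ (∀ x : G, x ^ p ∈ M₁ ⊓ M₂) ∧ (∀ x y : G, ⁅x, y⁆ ∈ M₁ ⊓ M₂) ∧
      Nat.card ↥(M₁ ⊓ M₂) ≤ p ^ (m - 2) := by
  obtain ⟨hn₁, hpow₁, hcomm₁⟩ := index_p_facts p m hp (by omega) hG M₁ h₁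
  obtain ⟨hn₂, hpow₂, hcomm₂⟩ := index_p_facts p m hp (by omega) hG M₂ h₂
  have hnle : ¬ M₂ ≤ M₁ := fun h => hne (Subgroup.eq_of_le_of_card_ge h (by rw [h₁, h₂])).symm
  have hnle' : ¬ M₁ ≤ M₂ := fun h => hne (Subgroup.eq_of_le_of_card_ge h (by rw [h₁, h₂]))
  refine ⟨?_, fun x => ⟨hpow₁ x, hpow₂ x⟩, fun x y => ⟨hcomm₁ x y, hcomm₂ x y⟩, ?_⟩
  · intro d hd
    have hsup : M₁ ⊔ M₂ = ⊤ := by
      have hdvd : Nat.card ↥(M₁ ⊔ M₂) ∣ p ^ m := hG ▸ Subgroup.card_subgroup_dvd_card _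
      obtain ⟨k, hk, hkc⟩ := (Nat.dvd_prime_pow hp).mp hdvd
      have hkm : k = m := by
        by_contra hcon
        have hk' : k ≤ m - 1 := by omega
        have hle : Nat.card ↥(M₁ ⊔ M₂) ≤ Nat.card M₁ := by
          rw [hkc, h₁]; exact Nat.pow_le_pow_right hp.pos hk'
        have := Subgroup.eq_of_le_of_card_ge (le_sup_left : M₁ ≤ M₁ ⊔ M₂) hle
        exact hnle (this ▸ le_sup_right)
      rw [← Subgroup.card_eq_iff_eq_top, hkc, hkm, hG]
    have hcen : M₁ ⊔ M₂ ≤ Subgroup.centralizer {d} := by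
      apply sup_le
      · intro a ha
        rw [Subgroup.mem_centralizer_iff]
        intro h hh
        rw [Set.mem_singleton_iff] at hh
        subst hh
        exact hc₁ h hd.1 a ha
      · intro a ha
        rw [Subgroup.mem_centralizer_iff]
        intro h hh
        rw [Set.mem_singleton_iff] at hh
        subst hh
        exact hc₂ h hd.2 a ha
    rw [Subgroup.mem_center_iff]
    intro g
    have hg : g ∈ Subgroup.centralizer {d} := hcen (hsup ▸ Subgroup.mem_top g)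
    exact (Subgroup.mem_centralizer_iff.mp hg d rfl).symm
  · have hle : M₁ ⊓ M₂ ≤ M₁ := inf_le_left
    have hdvd : Nat.card ↥(M₁ ⊓ M₂) ∣ p ^ (m - 1) := h₁ ▸ Subgroup.card_dvd_of_le hle
    obtain ⟨k, hk, hkc⟩ := (Nat.dvd_prime_pow hp).mp hdvd
    have hk' : k ≤ m - 2 := by
      by_contra hcon
      have hkm : k = m - 1 := by omega
      have hge : Nat.card M₁ ≤ Nat.card ↥(M₁ ⊓ M₂) := by rw [hkc, hkm, h₁]
      have := Subgroup.eq_of_le_of_card_ge hle hge
      exact hnle' (this ▸ inf_le_right)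
    rw [hkc]
    exact Nat.pow_le_pow_right hp.pos hk'

/-- Counting lemma: if the `q`-th power map is a homomorphism of a group of order `p^m` whose kernel lies in a
cyclic subgroup and whose image lies in a subgroup `R` with `q * |R| < p^m`, we have a contradiction. -/
theorem false_of_pow_hom {G : Type*} [Group G] [Finite G] (N q : ℕ) (hq : 0 < q) (hG : Nat.card G = N)
    (hhom : ∀ x y : G, (x * y) ^ q = x ^ q * y ^ q)
    (H₀ : Subgroup G) (hH₀ : IsCyclic H₀) (hker : ∀ x : G, x ^ q = 1 → x ∈ H₀)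
    (R : Subgroup G) (hR : ∀ x : G, x ^ q ∈ R) (hlt : q * Nat.card R < N) : False := by
  let ψ : G →* G := MonoidHom.mk' (fun x => x ^ q) hhom
  have h1 : Nat.card ψ.ker * Nat.card ψ.range = Nat.card G := by
    rw [← Subgroup.index_ker]; exact Subgroup.card_mul_index ψ.ker
  have hrange : Nat.card ψ.range ≤ Nat.card R := by
    apply Subgroup.card_le_of_le
    rintro _ ⟨x, rfl⟩
    exact hR x
  have hkerle : ψ.ker ≤ H₀ := fun x hx => hker x hx
  have hkercard : Nat.card ψ.ker ≤ q := by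
    haveI : IsCyclic ψ.ker := Subgroup.isCyclic_of_le hkerle
    obtain ⟨g, hg⟩ := IsCyclic.exists_ofOrder_eq_natCard (α := ψ.ker)
    rw [← hg]
    apply Nat.le_of_dvd hq
    apply orderOf_dvd_of_pow_eq_one
    apply Subtype.ext
    have : (g : G) ^ q = 1 := g.2
    simpa using this
  have : N ≤ q * Nat.card R := by
    rw [← hG, ← h1]
    exact Nat.mul_le_mul hkercard hrange
  omega

end Cfsg.Agent.Lib.helper69
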