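import Mathlib

namespace Cfsg.Agent.Lib.helper45.PearlC

/-- C11 racer copy (helper69): the final count `|C_G(x)| = p ^ 2`. -/
theorem h69_final_count {G : Type*} [Group G] [Finite G] (p : ℕ) [Fact p.Prime] (n : ℕ)
    (hG : Nat.card G = p ^ n) (E : Subgroup G) (hE : Nat.card ↥E = p ^ 3)
    (hC : Subgroup.centralizer (E : Set G) ≤ E)
    (hCp : Nat.card ↥(Subgroup.centralizer (E : Set G)) = p)
    (hZ : Subgroup.center G = Subgroup.centralizer (E : Set G))
    (w x : G) (hwE : w ∈ E) (hxE : x ∈ E) (hxw : x * w ≠ w * x)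
    (hidx : Nat.card G ≤ p * Nat.card ↥(Subgroup.centralizer ({w} : Set G)))
    (hstrict : ∀ A B : Subgroup G, A < B → p * Nat.card ↥A ≤ Nat.card ↥B)
    (hstep : ∀ A B C : Subgroup G, C ≤ B →
      Nat.card ↥(A ⊓ B) * Nat.card ↥C ≤ Nat.card ↥(A ⊓ C) * Nat.card ↥B)
    (hcg : ∀ (D : Subgroup G), D ≤ E → Nat.card ↥E ≤ p * Nat.card ↥D → ∀ e ∈ E, e ∉ D →
      ∀ g : G, (∀ d ∈ D, d * g = g * d) → e * g = g * e →
        g ∈ Subgroup.centralizer (E : Set G)) :
    Nat.card ↥(Subgroup.centralizer ({x} : Set G)) = p ^ 2 := by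
  have hp : p.Prime := Fact.out
  have hZp : Nat.card ↥(Subgroup.center G) = p := by
    rw [hZ]
    exact hCp
  have hwZ : w ∉ Subgroup.center G := fun h => hxw (Subgroup.mem_center_iff.mp h x)
  have hxZ : x ∉ Subgroup.center G := fun h => hxw (Subgroup.mem_center_iff.mp h w).symm
  have hself : ∀ y : G, y ∈ Subgroup.centralizer ({y} : Set G) := by
    intro y
    rw [Subgroup.mem_centralizer_iff]
    intro z hz
    rw [Set.mem_singleton_iff] at hz
    subst hz
    rfl
  have hDE : Subgroup.center G ⊔ Subgroup.zpowers w ≤ E :=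
    sup_le (hZ ▸ hC) (by rw [Subgroup.zpowers_le]; exact hwE)
  have hZD : Subgroup.center G < Subgroup.center G ⊔ Subgroup.zpowers w := by
    refine lt_of_le_of_ne le_sup_left ?_
    intro h
    apply hwZ
    rw [h]
    exact (le_sup_right : Subgroup.zpowers w ≤ _) (Subgroup.mem_zpowers w)
  have h1 := hstrict _ _ hZD
  rw [hZp] at h1
  have hidxE : Nat.card ↥E ≤ p * Nat.card ↥(Subgroup.center G ⊔ Subgroup.zpowers w) := by
    rw [hE]
    calc p ^ 3 = p * (p * p) := by ring
      _ ≤ p * Nat.card ↥(Subgroup.center G ⊔ Subgroup.zpowers w) := Nat.mul_le_mul_left p h1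
  have hDw : Subgroup.center G ⊔ Subgroup.zpowers w ≤ Subgroup.centralizer ({w} : Set G) :=
    sup_le (Subgroup.center_le_centralizer _) (by rw [Subgroup.zpowers_le]; exact hself w)
  have hxD : x ∉ Subgroup.center G ⊔ Subgroup.zpowers w := by
    intro h
    have h2 := Subgroup.mem_centralizer_iff.mp (hDw h) w rfl
    exact hxw h2.symm
  have hinf : Subgroup.centralizer ({x} : Set G) ⊓ Subgroup.centralizer ({w} : Set G) ≤
      Subgroup.centralizer (E : Set G) := by
    intro g hg
    obtain ⟨hgx, hgw⟩ := Subgroup.mem_inf.mp hg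
    have hgx' : x * g = g * x := Subgroup.mem_centralizer_iff.mp hgx x rfl
    have hgw' : w * g = g * w := Subgroup.mem_centralizer_iff.mp hgw w rfl
    have hDg : Subgroup.center G ⊔ Subgroup.zpowers w ≤ Subgroup.centralizer ({g} : Set G) := by
      refine sup_le (Subgroup.center_le_centralizer _) ?_
      rw [Subgroup.zpowers_le, Subgroup.mem_centralizer_iff]
      intro y hy
      rw [Set.mem_singleton_iff] at hy
      subst hy
      exact hgw'.symm
    refine hcg _ hDE hidxE x hxE hxD g ?_ hgx'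
    intro d hd
    have h3 := Subgroup.mem_centralizer_iff.mp (hDg hd) g rfl
    exact h3.symm
  have hcinf : Nat.card ↥(Subgroup.centralizer ({x} : Set G) ⊓
      Subgroup.centralizer ({w} : Set G)) ≤ p := by
    rw [← hCp]
    exact Subgroup.card_le_of_le hinf
  have h2 := hstep (Subgroup.centralizer ({x} : Set G)) ⊤
    (Subgroup.centralizer ({w} : Set G)) le_top
  rw [inf_top_eq, Subgroup.card_top] at h2
  have hCwpos : 0 < Nat.card ↥(Subgroup.centralizer ({w} : Set G)) := Nat.card_pos
  have hle : Nat.card ↥(Subgroup.centralizer ({x} : Set G)) ≤ p ^ 2 := by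
    have h3 : Nat.card ↥(Subgroup.centralizer ({x} : Set G)) *
        Nat.card ↥(Subgroup.centralizer ({w} : Set G)) ≤
        p ^ 2 * Nat.card ↥(Subgroup.centralizer ({w} : Set G)) := by
      calc Nat.card ↥(Subgroup.centralizer ({x} : Set G)) *
            Nat.card ↥(Subgroup.centralizer ({w} : Set G))
          ≤ Nat.card ↥(Subgroup.centralizer ({x} : Set G) ⊓
              Subgroup.centralizer ({w} : Set G)) * Nat.card G := h2
        _ ≤ p * (p * Nat.card ↥(Subgroup.centralizer ({w} : Set G))) :=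
            Nat.mul_le_mul hcinf hidx
        _ = p ^ 2 * Nat.card ↥(Subgroup.centralizer ({w} : Set G)) := by ring
    exact Nat.le_of_mul_le_mul_right h3 hCwpos
  have hZx : Subgroup.center G < Subgroup.centralizer ({x} : Set G) := by
    refine lt_of_le_of_ne (Subgroup.center_le_centralizer _) ?_
    intro h
    apply hxZ
    rw [h]
    exact hself x
  have h4 := hstrict _ _ hZx
  rw [hZp] at h4
  refine le_antisymm hle ?_
  rw [sq]
  exact h4

end Cfsg.Agent.Lib.helper45.PearlC
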