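import Mathlib

namespace Cfsg.Agent.Lib.helper45.PearlC

/-- C3 racer copy (helper69): `D ≤ E` of index `≤ p`, `e ∈ E ∖ D`, `g` commuting with `D` and `e`
centralizes `E`. -/
theorem h69_cg_centralizer {G : Type*} [Group G] [Finite G] (p : ℕ)
    (hstrict : ∀ A B : Subgroup G, A < B → p * Nat.card ↥A ≤ Nat.card ↥B)
    (E D : Subgroup G) (hDE : D ≤ E) (hidx : Nat.card ↥E ≤ p * Nat.card ↥D)
    (e : G) (he : e ∈ E) (heD : e ∉ D) (g : G)
    (hgD : ∀ d ∈ D, d * g = g * d) (hge : e * g = g * e) :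
    g ∈ Subgroup.centralizer (E : Set G) := by
  have hK : D ⊔ Subgroup.zpowers e ≤ Subgroup.centralizer ({g} : Set G) := by
    refine sup_le ?_ ?_
    · intro d hd
      rw [Subgroup.mem_centralizer_iff]
      intro y hy
      rw [Set.mem_singleton_iff] at hy
      subst hy
      exact (hgD d hd).symm
    · rw [Subgroup.zpowers_le, Subgroup.mem_centralizer_iff]
      intro y hy
      rw [Set.mem_singleton_iff] at hy
      subst hy
      exact hge.symm
  have hKE : D ⊔ Subgroup.zpowers e ≤ E :=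
    sup_le hDE (by rw [Subgroup.zpowers_le]; exact he)
  have hlt : D < D ⊔ Subgroup.zpowers e := by
    refine lt_of_le_of_ne le_sup_left ?_
    intro h
    apply heD
    rw [h]
    exact (le_sup_right : Subgroup.zpowers e ≤ _) (Subgroup.mem_zpowers e)
  have h1 := hstrict _ _ hlt
  have hEq : D ⊔ Subgroup.zpowers e = E :=
    Subgroup.eq_of_le_of_card_ge hKE (le_trans hidx h1)
  rw [Subgroup.mem_centralizer_iff]
  intro h hh
  have h2 : h ∈ D ⊔ Subgroup.zpowers e := by
    rw [hEq]
    exact hh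
  have h3 := Subgroup.mem_centralizer_iff.mp (hK h2) g rfl
  exact h3.symm

end Cfsg.Agent.Lib.helper45.PearlC
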