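import Mathlib

namespace Cfsg.Agent.Lib.helper45.PearlC

/-- C7 racer copy (helper69): commutators of `E` lie in `C_G(E)`. -/
theorem h69_comm_central {G : Type*} [Group G] [Finite G] (p : ℕ) [Fact p.Prime]
    (E : Subgroup G) (hE : Nat.card ↥E = p ^ 3)
    (hC : Subgroup.centralizer (E : Set G) ≤ E)
    (hCp : Nat.card ↥(Subgroup.centralizer (E : Set G)) = p) (a b : G) (ha : a ∈ E)
    (hb : b ∈ E) : a * b * a⁻¹ * b⁻¹ ∈ Subgroup.centralizer (E : Set G) := by
  classical
  set N : Subgroup ↥E := (Subgroup.centralizer (E : Set G)).subgroupOf E with hN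
  have hNn : N.Normal := by
    constructor
    intro n hn g
    have hn' : (n : G) ∈ Subgroup.centralizer (E : Set G) := Subgroup.mem_subgroupOf.mp hn
    have hcomm : (g : G) * (n : G) = (n : G) * (g : G) :=
      Subgroup.mem_centralizer_iff.mp hn' g g.2
    have h1 : g * n * g⁻¹ = n := by
      apply Subtype.ext
      simp only [Subgroup.coe_mul, Subgroup.coe_inv]
      rw [hcomm, mul_inv_cancel_right]
    rw [h1]
    exact hn
  have hNc : Nat.card N = p := by
    rw [hN, Nat.card_congr (Subgroup.subgroupOfEquivOfLe hC).toEquiv, hCp]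
  have hq : Nat.card (↥E ⧸ N) = p ^ 2 := by
    have h1 := Subgroup.card_eq_card_quotient_mul_card_subgroup N
    rw [hE, hNc] at h1
    have hp : 0 < p := (Fact.out : p.Prime).pos
    have h2 : p ^ 2 * p = Nat.card (↥E ⧸ N) * p := by
      rw [← h1]
      ring
    exact (Nat.eq_of_mul_eq_mul_right hp h2).symm
  have hcomm := IsPGroup.commutative_of_card_eq_prime_sq hq
  have h2 : (((⟨a, ha⟩ * ⟨b, hb⟩ * ⟨a, ha⟩⁻¹ * ⟨b, hb⟩⁻¹ : ↥E)) : ↥E ⧸ N) = 1 := by
    simp only [QuotientGroup.mk_mul, QuotientGroup.mk_inv]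
    rw [hcomm (QuotientGroup.mk ⟨a, ha⟩) (QuotientGroup.mk ⟨b, hb⟩)]
    group
  have h3 := (QuotientGroup.eq_one_iff _).mp h2
  have h4 := Subgroup.mem_subgroupOf.mp h3
  simpa using h4

end Cfsg.Agent.Lib.helper45.PearlC
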