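import Mathlib
import Cfsg.Agent.Lib.helper65.PearlBasic

/-! S5238L pieces D1 (`rel_dl`) and D2 (`rel_ph`): racer copies by helper69 (prefixed names). -/

set_option autoImplicit false

namespace Cfsg.Agent.Lib.helper65.PearlPow

open Cfsg.Agent.Lib.helper68

variable {H : Type*} [Group H]

/-- D1 (racer copy). -/
theorem h69_rel_dl {u v : ℕ} {s s' : ℕ → H} (hs : PolySeq v s) (h : Rel u s s') :
    Rel (u + 1) (dl s) (dl s') := by
  unfold Rel at h ⊢
  have e : (fun n => (dl s n)⁻¹ * dl s' n) =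
      fun n => com ((s n)⁻¹ * s (n + 1)) ((s n)⁻¹ * s' n) *
        (((s n)⁻¹ * s' n)⁻¹ * ((s (n + 1))⁻¹ * s' (n + 1))) := by
    funext n
    unfold dl com
    group
  rw [e]
  exact PolySeq.mul (PolySeq.mono (by omega) (PolySeq.comm (PolySeq.diff hs) h)) (PolySeq.diff h)

/-- D2 (racer copy). -/
theorem h69_rel_ph {u v : ℕ} (x : H) {s s' : ℕ → H} (hs : PolySeq v s) (h : Rel u s s') :
    Rel (u + 1) (ph x s) (ph x s') := by
  unfold Rel at h ⊢
  have e : (fun n => (ph x s n)⁻¹ * ph x s' n) =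
      fun n => com (com (s n) x) ((s n)⁻¹ * s' n) * com ((s n)⁻¹ * s' n) x := by
    funext n
    unfold ph com
    group
  rw [e]
  have h1 : PolySeq (v + 1) (fun n => com (s n) x) := polyseq_ph x hs
  have h2 : PolySeq (u + 1) (fun n => com ((s n)⁻¹ * s' n) x) := polyseq_ph x h
  exact PolySeq.mul (PolySeq.mono (by omega) (PolySeq.comm h1 h)) h2

end Cfsg.Agent.Lib.helper65.PearlPow
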