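import Mathlib
import Cfsg.Agent.Lib.helper68.HallPet
import Cfsg.Agent.Lib.helper65.PearlPow
import Cfsg.Agent.Lib.helper69.PearlGK7core
import Cfsg.Agent.Lib.helper40.PearlGK4
import Cfsg.Agent.Lib.helper39.PearlGK5
import Cfsg.Agent.Lib.helper5.PearlK9A
import Cfsg.Agent.Lib.helper36.PearlGHP

set_option autoImplicit false

namespace Cfsg.Agent.Lib.helper65.PearlG

open Cfsg.Agent.Lib.helper68 Cfsg.Agent.Lib.helper65.PearlPow

variable {G : Type*} [Group G] [Finite G]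

/-- K7 (canonical): the F4 step, from the core and the landed K4 / K5 / K9A / HP. -/
theorem pg_F4_step (p : ℕ) [Fact p.Prime] (hp2 : p ≠ 2) (n : ℕ) (hG : Nat.card G = p ^ n) (x : G)
    (hx : x ^ p = 1) (hC : Nat.card (Subgroup.centralizer ({x} : Set G)) = p ^ 2) (i : ℕ)
    (hi : 2 ≤ i) (hin : i + p + 1 ≤ n)
    (ih : ∀ m' ∈ gam G (i + 1), m' ∉ gam G (i + 2) → m' ^ p ∉ gam G (i + p + 1))
    (m : G) (hm : m ∈ gam G i) (hm' : m ∉ gam G (i + 1)) : m ^ p ∉ gam G (i + p) := by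
  have hp : p.Prime := Fact.out
  have hp1 := hp.two_le
  exact h69_pg_F4_step_core p hp2 n x i hi hin
    (fun m hm hm' => pg_uniserial p n hG x hC i hi (by omega) m hm hm')
    (fun j hj m hm => pg_F3 p hp2 n hG x hx hC j hj m hm)
    (fun T j h k hk a ha => pg_lcs_sub_mul T j h k hk a ha)
    (fun T N hM a b ha hb => pg_hp p (IsPGroup.of_card hG) T N hM a b ha hb)
    ih m hm hm'

end Cfsg.Agent.Lib.helper65.PearlG
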