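import Mathlib
import Cfsg.Agent.Lib.helper65.PearlBasic

/-! S5238L piece TOP (`top`), core with the statement of Q (`q_claim`) as a hypothesis, and piece
A2 (`dl_iter_vanish`): racer copies by helper69 (prefixed names). -/

set_option autoImplicit false

namespace Cfsg.Agent.Lib.helper65.PearlPow

open Cfsg.Agent.Lib.helper68

variable {H : Type*} [Group H]

/-- TOP, core: `hQ` is the statement of `q_claim`. -/
theorem h69_top_core
    (hQ : ∀ (x g : H) {w : ℕ}, 1 ≤ w → g ∈ gam H w → ∀ k : ℕ,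
      Rel (w + k + 2) (fun n => (ph x)^[k + 1] (tt x g) n * yk x (com x g) k)
        (dl^[k + 1] (tt x g)))
    (x g : H) {w : ℕ} (hw : 1 ≤ w) (hg : g ∈ gam H w) (p : ℕ) (hp : 1 ≤ p)
    (hnil : gam H (w + 1 + p) = ⊥) : dl^[p] (tt x g) 0 = yk x (com x g) (p - 1) := by
  obtain ⟨k, rfl⟩ : ∃ k, p = k + 1 := ⟨p - 1, by omega⟩
  have h := hQ x g hw hg k
  unfold Rel at h
  have hm := h.mem 0
  have e : w + k + 2 = w + 1 + (k + 1) := by ring
  rw [e, hnil, Subgroup.mem_bot] at hm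
  have h0 : ((ph x)^[k + 1] (tt x g)) 0 = 1 := ph_iter_zero x (tt_zero x g) (k + 1)
  simp only [h0, one_mul] at hm
  rw [Nat.add_sub_cancel]
  exact (inv_mul_eq_one.1 hm).symm

/-- A2, general form: for `j ≤ p`, `dl^[j] s i = 1` for `i + j < p` and `dl^[j] s (p - j) = s p`. -/
theorem h69_dl_iter_vanish_aux (s : ℕ → H) (p : ℕ) (hs : ∀ i < p, s i = 1) :
    ∀ j, j ≤ p → (∀ i, i + j < p → dl^[j] s i = 1) ∧ dl^[j] s (p - j) = s p := by
  intro j
  induction j with
  | zero =>
    intro _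
    refine ⟨fun i hi => ?_, ?_⟩
    · simpa using hs i (by omega)
    · simp
  | succ j ih =>
    intro hj
    obtain ⟨h1, h2⟩ := ih (by omega)
    refine ⟨fun i hi => ?_, ?_⟩
    · rw [Function.iterate_succ_apply']
      show (dl^[j] s i)⁻¹ * dl^[j] s (i + 1) = 1
      rw [h1 i (by omega), h1 (i + 1) (by omega)]
      simp
    · rw [Function.iterate_succ_apply']
      show (dl^[j] s (p - (j + 1)))⁻¹ * dl^[j] s (p - (j + 1) + 1) = s p
      have e : p - (j + 1) + 1 = p - j := by omega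
      rw [e, h2, h1 (p - (j + 1)) (by omega)]
      simp

/-- A2 (racer copy). -/
theorem h69_dl_iter_vanish (s : ℕ → H) (p : ℕ) (hs : ∀ i < p, s i = 1) : dl^[p] s 0 = s p := by
  have h := (h69_dl_iter_vanish_aux s p hs p le_rfl).2
  rwa [Nat.sub_self] at h

end Cfsg.Agent.Lib.helper65.PearlPow
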