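import Mathlib
import Cfsg.Agent.Lib.helper44.PresDefs
import Cfsg.Agent.Lib.helper45.SLGen
import Cfsg.Agent.Lib.helper69.PresMAT2

/-!
S2286 piece MATc (helper69, insurance copy): `mat_closure_h69`.
-/

set_option autoImplicit false

namespace Cfsg.Agent.Lib.helper69.Pres

open Cfsg.Agent.Lib.helper44.Pres

theorem h69_mU_add {F : Type*} [Field F] (a b : F) : mU F (a + b) = mU F a * mU F b := by
  apply Subtype.ext
  rw [Matrix.SpecialLinearGroup.coe_mul]
  simp [mU, add_comm]

theorem h69_mU_zero {F : Type*} [Field F] : mU F 0 = 1 := by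
  apply Subtype.ext
  simp [mU, Matrix.one_fin_two]

theorem h69_mU_neg {F : Type*} [Field F] (a : F) : mU F (-a) = (mU F a)⁻¹ := by
  rw [eq_inv_iff_mul_eq_one, ← h69_mU_add]
  simp [h69_mU_zero]

theorem h69_mH_mU {F : Type*} [Field F] (z : Fˣ) (a : F) :
    mH z * mU F a * (mH z)⁻¹ = mU F ((z : F) ^ 2 * a) := by
  rw [mul_inv_eq_iff_eq_mul]
  apply Subtype.ext
  simp only [Matrix.SpecialLinearGroup.coe_mul]
  have hz : (z : F) ≠ 0 := Units.ne_zero z
  simp only [mH, mU]
  rw [Matrix.mul_fin_two, Matrix.mul_fin_two]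
  congr 1
  simp only [Units.val_inv_eq_inv_val]
  ext i j
  fin_cases i <;> fin_cases j <;> simp <;> field_simp

theorem h69_mT_mU {F : Type*} [Field F] (a : F) :
    mT F * mU F (-a) * (mT F)⁻¹ =
      Matrix.SpecialLinearGroup.transvection (show (1 : Fin 2) ≠ 0 by decide) a := by
  rw [mul_inv_eq_iff_eq_mul]
  apply Subtype.ext
  simp only [Matrix.SpecialLinearGroup.coe_mul, Matrix.SpecialLinearGroup.transvection_coe]
  simp only [mT, mU]
  ext i j
  fin_cases i <;> fin_cases j <;> simp [Matrix.mul_apply, Fin.sum_univ_two, Matrix.single_apply]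

theorem h69_mU_eq_transvection {F : Type*} [Field F] (a : F) :
    mU F a = Matrix.SpecialLinearGroup.transvection (show (0 : Fin 2) ≠ 1 by decide) a := by
  apply Subtype.ext
  simp only [Matrix.SpecialLinearGroup.transvection_coe]
  simp only [mU]
  ext i j
  fin_cases i <;> fin_cases j <;> simp [Matrix.single_apply]

end Cfsg.Agent.Lib.helper69.Pres

namespace Cfsg.Agent.Lib.helper44.Pres

open Cfsg.Agent.Lib.helper69.Pres Polynomial

/-- MATc (insurance copy of helper69) -/
theorem mat_closure_h69 {F : Type*} [Field F] [Fintype F] {p : ℕ} [Fact p.Prime]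
    [Algebra (ZMod p) F] (ζ : Fˣ) (i : ℕ)
    (hμ : Algebra.adjoin (ZMod p) {((ζ : F) ^ 2) ^ i} = ⊤) :
    Subgroup.closure (Set.range ![mU F 1, mT F, mH ζ]) = ⊤ := by
  classical
  have hu : mU F 1 ∈ Subgroup.closure (Set.range ![mU F 1, mT F, mH ζ]) :=
    Subgroup.subset_closure ⟨0, rfl⟩
  have ht : mT F ∈ Subgroup.closure (Set.range ![mU F 1, mT F, mH ζ]) :=
    Subgroup.subset_closure ⟨1, rfl⟩
  have hh : mH ζ ∈ Subgroup.closure (Set.range ![mU F 1, mT F, mH ζ]) :=
    Subgroup.subset_closure ⟨2, rfl⟩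
  generalize Subgroup.closure (Set.range ![mU F 1, mT F, mH ζ]) = H at hu ht hh ⊢
  let A : AddSubgroup F :=
    { carrier := {a | mU F a ∈ H}
      zero_mem' := by
        show mU F 0 ∈ H
        rw [h69_mU_zero]; exact H.one_mem
      add_mem' := by
        intro a b ha hb
        show mU F (a + b) ∈ H
        rw [h69_mU_add]; exact H.mul_mem ha hb
      neg_mem' := by
        intro a ha
        show mU F (-a) ∈ H
        rw [h69_mU_neg]; exact H.inv_mem ha }
  have hA1 : (1 : F) ∈ A := hu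
  have hAμ : ∀ a ∈ A, ((ζ : F) ^ 2) ^ i * a ∈ A := by
    intro a ha
    show mU F (((ζ : F) ^ 2) ^ i * a) ∈ H
    have h1 := h69_mH_mU (ζ ^ i) a
    rw [← h69_mH_pow] at h1
    have h2 : ((ζ ^ i : Fˣ) : F) ^ 2 = ((ζ : F) ^ 2) ^ i := by
      rw [Units.val_pow_eq_pow_val, ← pow_mul, ← pow_mul, mul_comm]
    rw [h2] at h1
    rw [← h1]
    exact H.mul_mem (H.mul_mem (H.pow_mem hh i) ha) (H.inv_mem (H.pow_mem hh i))
  have hpow : ∀ k : ℕ, (((ζ : F) ^ 2) ^ i) ^ k ∈ A := by
    intro k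
    induction k with
    | zero => simpa using hA1
    | succ k ih => rw [pow_succ']; exact hAμ _ ih
  have hall : ∀ a : F, a ∈ A := by
    intro a
    have ha : a ∈ Algebra.adjoin (ZMod p) {((ζ : F) ^ 2) ^ i} := by rw [hμ]; trivial
    rw [Algebra.adjoin_singleton_eq_range_aeval] at ha
    obtain ⟨f, rfl⟩ := ha
    show (aeval (((ζ : F) ^ 2) ^ i)) f ∈ A
    rw [Polynomial.aeval_eq_sum_range]
    refine AddSubgroup.sum_mem A (fun k _ => ?_)
    have hc : f.coeff k • (((ζ : F) ^ 2) ^ i) ^ k = (f.coeff k).val • (((ζ : F) ^ 2) ^ i) ^ k := by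
      rw [Algebra.smul_def, nsmul_eq_mul]
      congr 1
      conv_lhs => rw [← ZMod.natCast_zmod_val (f.coeff k)]
      rw [map_natCast]
    rw [hc]
    exact A.nsmul_mem (hpow k) _
  apply Cfsg.Agent.Lib.helper45.eq_top_of_transvection_mem
  intro i j hij a
  fin_cases i <;> fin_cases j
  · exact absurd rfl hij
  · have := hall a
    have h1 : mU F a ∈ H := this
    rw [h69_mU_eq_transvection] at h1
    exact h1
  · have h1 : mU F (-a) ∈ H := hall (-a)
    have h2 := h69_mT_mU a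
    have h3 : mT F * mU F (-a) * (mT F)⁻¹ ∈ H := H.mul_mem (H.mul_mem ht h1) (H.inv_mem ht)
    rw [h2] at h3
    exact h3
  · exact absurd rfl hij

end Cfsg.Agent.Lib.helper44.Pres
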