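import Mathlib
import Cfsg.Agent.Lib.helper44.PresDefs

/-!
S2286 piece PARA (helper69, insurance copy): `adjoin_sq_gen_h69`, together with a private copy
of piece ADJ (`adjoin_eq_top_of_frob_h69`).
-/

set_option autoImplicit false

namespace Cfsg.Agent.Lib.helper69.Pres

theorem h69_card_eq_pow {F : Type*} [Field F] [Fintype F] {p : ℕ} [Fact p.Prime]
    [Algebra (ZMod p) F] : Fintype.card F = p ^ Module.finrank (ZMod p) F := by
  rw [Module.card_eq_pow_finrank (K := ZMod p) (V := F), ZMod.card]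

end Cfsg.Agent.Lib.helper69.Pres

namespace Cfsg.Agent.Lib.helper44.Pres

open Polynomial

/-- ADJ (private copy of helper69) -/
theorem adjoin_eq_top_of_frob_h69 {F : Type*} [Field F] [Fintype F] {p : ℕ} [Fact p.Prime]
    [Algebra (ZMod p) F] (μ : F) (e : ℕ) (he : Fintype.card F = p ^ e)
    (h : ∀ d : ℕ, 0 < d → d < e → μ ^ (p ^ d) ≠ μ) : Algebra.adjoin (ZMod p) {μ} = ⊤ := by
  classical
  by_contra hne
  have hp : p.Prime := Fact.out
  have hfield : IsField (Algebra.adjoin (ZMod p) {μ}) :=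
    Subalgebra.isField_of_algebraic (Algebra.adjoin (ZMod p) {μ})
  let _ : Field (Algebra.adjoin (ZMod p) {μ}) := hfield.toField
  have : Fintype (Algebra.adjoin (ZMod p) {μ}) := Fintype.ofFinite _
  have hcard : Fintype.card (Algebra.adjoin (ZMod p) {μ}) =
      p ^ Module.finrank (ZMod p) (Algebra.adjoin (ZMod p) {μ}) := by
    rw [Module.card_eq_pow_finrank (K := ZMod p) (V := Algebra.adjoin (ZMod p) {μ}), ZMod.card]
  have hcardF : Fintype.card F = p ^ Module.finrank (ZMod p) F :=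
    Cfsg.Agent.Lib.helper69.Pres.h69_card_eq_pow
  have he' : Module.finrank (ZMod p) F = e :=
    Nat.pow_right_injective hp.two_le (hcardF.symm.trans he)
  have hlt : Module.finrank (ZMod p) (Algebra.adjoin (ZMod p) {μ}) < e := by
    rw [← he']
    have hlt' : Subalgebra.toSubmodule (Algebra.adjoin (ZMod p) {μ}) ≠ ⊤ := by
      refine fun h' => hne ?_
      apply Subalgebra.toSubmodule_injective
      rw [h', Algebra.top_toSubmodule]
    exact Submodule.finrank_lt hlt'
  have hpos : 0 < Module.finrank (ZMod p) (Algebra.adjoin (ZMod p) {μ}) := Module.finrank_pos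
  have hμ := FiniteField.pow_card
    (⟨μ, Algebra.subset_adjoin (Set.mem_singleton μ)⟩ : Algebra.adjoin (ZMod p) {μ})
  rw [hcard] at hμ
  exact h _ hpos hlt (congrArg Subtype.val hμ)

/-- PARA (insurance copy of helper69) -/
theorem adjoin_sq_gen_h69 {F : Type*} [Field F] [Fintype F] {p : ℕ} [Fact p.Prime]
    [Algebra (ZMod p) F] (ζ : Fˣ) (hζ : ∀ y : Fˣ, y ∈ Subgroup.zpowers ζ) :
    Algebra.adjoin (ZMod p) {(ζ : F) ^ 2} = ⊤ := by
  classical
  have hp : p.Prime := Fact.out
  have hcardF : Fintype.card F = p ^ Module.finrank (ZMod p) F :=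
    Cfsg.Agent.Lib.helper69.Pres.h69_card_eq_pow
  refine adjoin_eq_top_of_frob_h69 _ _ hcardF ?_
  intro d hd hde hEq
  -- order of ζ is q - 1
  have hord : orderOf ζ = Fintype.card F - 1 := by
    have h1 : orderOf ζ = Fintype.card Fˣ := by
      rw [← Nat.card_eq_fintype_card, ← Nat.card_zpowers]
      have : Subgroup.zpowers ζ = ⊤ := by
        rw [Subgroup.eq_top_iff']; exact hζ
      rw [this, Subgroup.card_top]
    rw [h1, Fintype.card_units]
  -- ζ ^ (2 * (p^d - 1)) = 1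
  have hpd : 1 ≤ p ^ d := Nat.one_le_pow _ _ hp.pos
  have h1 : (ζ : F) ^ (2 * (p ^ d - 1)) = 1 := by
    have hne : (ζ : F) ^ 2 ≠ 0 := pow_ne_zero _ (Units.ne_zero ζ)
    have h2 : ((ζ : F) ^ 2) ^ (p ^ d - 1) * (ζ : F) ^ 2 = 1 * (ζ : F) ^ 2 := by
      rw [← pow_succ, Nat.sub_add_cancel hpd, one_mul]; exact hEq
    rw [pow_mul]
    exact mul_right_cancel₀ hne h2
  have h2 : ζ ^ (2 * (p ^ d - 1)) = 1 := by
    apply Units.ext
    rw [Units.val_pow_eq_pow_val]; exact h1
  have hdvd : Fintype.card F - 1 ∣ 2 * (p ^ d - 1) := by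
    rw [← hord]; exact orderOf_dvd_of_pow_eq_one h2
  have hlt : p ^ d < p ^ Module.finrank (ZMod p) F := Nat.pow_lt_pow_right hp.one_lt hde
  have h2le : 2 ≤ p ^ d := by
    calc 2 ≤ p := hp.two_le
      _ = p ^ 1 := (pow_one p).symm
      _ ≤ p ^ d := Nat.pow_le_pow_right hp.pos hd
  have hpos : 0 < 2 * (p ^ d - 1) := by omega
  have hle := Nat.le_of_dvd hpos hdvd
  -- p^e ≥ p * p^d ≥ 2 p^d
  have hge : p * p ^ d ≤ p ^ Module.finrank (ZMod p) F := by
    rw [← pow_succ']
    exact Nat.pow_le_pow_right hp.pos hde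
  have hge2 : 2 * p ^ d ≤ p * p ^ d := Nat.mul_le_mul_right _ hp.two_le
  rw [hcardF] at hle
  omega

end Cfsg.Agent.Lib.helper44.Pres
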