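import Mathlib
import Cfsg.Prelude.Def_KGroupFacts
import Cfsg.Agent.Lib.helper69.ProjLift

/-!
Monomial representations induced from characters of the centre, and the converse to the lifting theorem for
projective representations (owner: helper69).
-/

set_option autoImplicit false

universe u v w

namespace Cfsg.Agent.Lib.helper69

open scoped commutatorElement
open scoped IsMulCommutative

/-- The representation induced from a character `χ` of the centre of a finite group: a homomorphism into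
`GL N ℂ` mapping the centre to scalar matrices, a central element `z` going to the scalar `χ z`. -/
theorem exists_monomial_rep (G : Type*) [Group G] [Finite G] (χ : Subgroup.center G →* ℂˣ) :
    ∃ (N : ℕ) (R : G →* GL (Fin N) ℂ),
      (∀ z ∈ Subgroup.center G, R z ∈ Subgroup.center (GL (Fin N) ℂ)) ∧
      ∀ z : Subgroup.center G, R (z : G) = 1 → χ z = 1 := by
  classical
  haveI : Fintype (G ⧸ Subgroup.center G) := Fintype.ofFinite _
  let s : G ⧸ Subgroup.center G → G := fun t => Quotient.out t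
  have hs : ∀ t : G ⧸ Subgroup.center G, (QuotientGroup.mk (s t) : G ⧸ Subgroup.center G) = t :=
    fun t => QuotientGroup.out_eq' t
  have hm : ∀ (g : G) (t : G ⧸ Subgroup.center G), (s (g • t))⁻¹ * g * s t ∈ Subgroup.center G := by
    intro g t
    have h1 : (QuotientGroup.mk (g * s t) : G ⧸ Subgroup.center G) = QuotientGroup.mk (s (g • t)) := by
      rw [hs (g • t)]
      exact MulAction.Quotient.mk_smul_out (Subgroup.center G) g t
    have h2 := QuotientGroup.eq.mp h1.symm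
    rw [mul_assoc]
    exact h2
  have hfix : ∀ z ∈ Subgroup.center G, ∀ t : G ⧸ Subgroup.center G, z • t = t := by
    intro z hz t
    obtain ⟨x, rfl⟩ := QuotientGroup.mk_surjective t
    rw [MulAction.Quotient.smul_mk (Subgroup.center G), smul_eq_mul, QuotientGroup.eq]
    have hzx := Subgroup.mem_center_iff.mp hz x
    have h1 : (z * x)⁻¹ * x = z⁻¹ := by
      rw [← hzx]; group
    rw [h1]
    exact Subgroup.inv_mem _ hz
  let c : G → G ⧸ Subgroup.center G → ℂ := fun g t =>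
    ((χ ⟨(s (g • t))⁻¹ * g * s t, hm g t⟩ : ℂˣ) : ℂ)
  have hc_mul : ∀ (g h : G) (t : G ⧸ Subgroup.center G), c (g * h) t = c g (h • t) * c h t := by
    intro g h t
    show ((χ ⟨(s ((g * h) • t))⁻¹ * (g * h) * s t, hm (g * h) t⟩ : ℂˣ) : ℂ) =
      ((χ ⟨(s (g • h • t))⁻¹ * g * s (h • t), hm g (h • t)⟩ : ℂˣ) : ℂ) *
        ((χ ⟨(s (h • t))⁻¹ * h * s t, hm h t⟩ : ℂˣ) : ℂ)
    rw [← Units.val_mul, ← map_mul]
    congr 2
    apply Subtype.ext
    show (s ((g * h) • t))⁻¹ * (g * h) * s t =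
      ((s (g • h • t))⁻¹ * g * s (h • t)) * ((s (h • t))⁻¹ * h * s t)
    rw [mul_smul]; group
  have hc_central : ∀ (z : Subgroup.center G) (t : G ⧸ Subgroup.center G),
      c (z : G) t = ((χ z : ℂˣ) : ℂ) := by
    intro z t
    show ((χ ⟨(s ((z : G) • t))⁻¹ * (z : G) * s t, hm (z : G) t⟩ : ℂˣ) : ℂ) = _
    congr 2
    apply Subtype.ext
    show (s ((z : G) • t))⁻¹ * (z : G) * s t = (z : G)
    rw [hfix z z.2 t]
    have hz := Subgroup.mem_center_iff.mp z.2 (s t)
    rw [mul_assoc, ← hz, inv_mul_cancel_left]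
  have hc_one : ∀ t : G ⧸ Subgroup.center G, c 1 t = 1 := by
    intro t
    have h1 := hc_central 1 t
    rw [map_one] at h1
    exact h1
  let ρ : G →* Module.End ℂ (G ⧸ Subgroup.center G → ℂ) :=
    { toFun := fun g =>
        { toFun := fun f t => c g (g⁻¹ • t) * f (g⁻¹ • t)
          map_add' := by
            intro f₁ f₂
            funext t
            show c g (g⁻¹ • t) * (f₁ (g⁻¹ • t) + f₂ (g⁻¹ • t)) =
              c g (g⁻¹ • t) * f₁ (g⁻¹ • t) + c g (g⁻¹ • t) * f₂ (g⁻¹ • t)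
            ring
          map_smul' := by
            intro a f
            funext t
            show c g (g⁻¹ • t) * (a * f (g⁻¹ • t)) = a * (c g (g⁻¹ • t) * f (g⁻¹ • t))
            ring }
      map_one' := by
        apply LinearMap.ext
        intro f
        funext t
        show c 1 ((1 : G)⁻¹ • t) * f ((1 : G)⁻¹ • t) = f t
        rw [inv_one, one_smul, hc_one, one_mul]
      map_mul' := by
        intro g h
        apply LinearMap.ext
        intro f
        funext t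
        show c (g * h) ((g * h)⁻¹ • t) * f ((g * h)⁻¹ • t) =
          c g (g⁻¹ • t) * (c h (h⁻¹ • g⁻¹ • t) * f (h⁻¹ • g⁻¹ • t))
        have h1 : (g * h)⁻¹ • t = h⁻¹ • g⁻¹ • t := by rw [mul_inv_rev, mul_smul]
        rw [h1, hc_mul g h, smul_inv_smul]
        ring }
  have hρz : ∀ z : Subgroup.center G, ρ (z : G) = ((χ z : ℂˣ) : ℂ) • (1 : Module.End ℂ _) := by
    intro z
    apply LinearMap.ext
    intro f
    funext t
    show c (z : G) ((z : G)⁻¹ • t) * f ((z : G)⁻¹ • t) = ((χ z : ℂˣ) : ℂ) * f t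
    rw [hfix _ (Subgroup.inv_mem _ z.2) t, hc_central]
  let b : Module.Basis (Fin (Fintype.card (G ⧸ Subgroup.center G))) ℂ (G ⧸ Subgroup.center G → ℂ) :=
    (Pi.basisFun ℂ (G ⧸ Subgroup.center G)).reindex (Fintype.equivFin _)
  let A := LinearMap.toMatrixAlgEquiv b
  let R : G →* GL (Fin (Fintype.card (G ⧸ Subgroup.center G))) ℂ :=
    (Units.mapEquiv A.toMulEquiv).toMonoidHom.comp ρ.toHomUnits
  have hR : ∀ g : G, ((R g : GL (Fin (Fintype.card (G ⧸ Subgroup.center G))) ℂ) :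
      Matrix (Fin (Fintype.card (G ⧸ Subgroup.center G))) (Fin (Fintype.card (G ⧸ Subgroup.center G))) ℂ) =
      A (ρ g) := fun g => rfl
  have hRz : ∀ z : Subgroup.center G, ((R (z : G) : GL (Fin (Fintype.card (G ⧸ Subgroup.center G))) ℂ) :
      Matrix (Fin (Fintype.card (G ⧸ Subgroup.center G))) (Fin (Fintype.card (G ⧸ Subgroup.center G))) ℂ) =
      ((χ z : ℂˣ) : ℂ) • 1 := by
    intro z
    rw [hR, hρz, map_smul, map_one]
  refine ⟨Fintype.card (G ⧸ Subgroup.center G), R, ?_, ?_⟩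
  · intro z hz
    rw [Subgroup.mem_center_iff]
    intro g
    apply Units.ext
    rw [Units.val_mul, Units.val_mul, hRz ⟨z, hz⟩, Matrix.mul_smul, Matrix.smul_mul, mul_one, one_mul]
  · intro z hz1
    have h1 : A (ρ (z : G)) = A 1 := by
      rw [← hR, hz1, map_one]; rfl
    have h2 : ρ (z : G) = 1 := A.injective h1
    rw [hρz] at h2
    have h3 := congrFun (LinearMap.congr_fun h2 (fun _ => (1 : ℂ))) (QuotientGroup.mk 1)
    have h4 : ((χ z : ℂˣ) : ℂ) * 1 = 1 := h3
    rw [mul_one] at h4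
    exact Units.ext h4

/-- If the kernel of a lift `θ : F/[F,R] → Γ` of the canonical projection along a stem extension `σ : Γ → Q`
meets the commutator subgroup trivially, then `σ` is a Schur cover: the kernel of every stem extension of `Q` is
a homomorphic image of `ker σ`. -/
theorem exists_surjective_ker_of_ker_inf_eq_bot {Q : Type u} [Group Q] {Γ : Type v} [Group Γ]
    (σ : Γ →* Q) (hσ : Cfsg.IsStemExtension σ) (θ : CovGroup Q →* Γ) (hθ : σ.comp θ = covHom Q)
    (hinj : θ.ker ⊓ commutator (CovGroup Q) = ⊥) {Δ : Type w} [Group Δ] (τ : Δ →* Q)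
    (hτ : Cfsg.IsStemExtension τ) : ∃ π : σ.ker →* τ.ker, Function.Surjective π := by
  obtain ⟨πΓ, hπΓ, hπΓv⟩ := exists_surjective_mult_of_lift (covHom Q) σ θ (covHom_surjective Q)
    (covHom_ker_le_center Q) hσ.2.1 hθ
  have hπΓinj : Function.Injective πΓ := by
    rw [injective_iff_map_eq_one]
    intro m hm
    have h1 : θ ((m : Subgroup.center (CovGroup Q)) : CovGroup Q) = 1 := by
      rw [← hπΓv m, hm]; rfl
    have h2 : ((m : Subgroup.center (CovGroup Q)) : CovGroup Q) ∈ θ.ker ⊓ commutator (CovGroup Q) :=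
      Subgroup.mem_inf.mpr ⟨h1, (Subgroup.mem_inf.mp (coe_mem_multOf _ m)).2⟩
    rw [hinj, Subgroup.mem_bot] at h2
    exact Subtype.ext (Subtype.ext h2)
  let e := MulEquiv.ofBijective πΓ ⟨hπΓinj, hπΓ⟩
  obtain ⟨θΔ, hθΔ⟩ := exists_lift_covHom Q τ hτ.1 hτ.2.1
  obtain ⟨πΔ, hπΔ, _⟩ := exists_surjective_mult_of_lift (covHom Q) τ θΔ (covHom_surjective Q)
    (covHom_ker_le_center Q) hτ.2.1 hθΔ
  let g₁ : σ.ker →* ↥(σ.ker ⊓ commutator Γ) := Subgroup.inclusion (le_inf le_rfl hσ.2.2)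
  have hg₁ : Function.Surjective g₁ := by
    rintro ⟨x, hx⟩
    exact ⟨⟨x, (Subgroup.mem_inf.mp hx).1⟩, rfl⟩
  let g₂ : ↥(τ.ker ⊓ commutator Δ) →* τ.ker := Subgroup.inclusion inf_le_left
  have hg₂ : Function.Surjective g₂ := by
    rintro ⟨x, hx⟩
    exact ⟨⟨x, Subgroup.mem_inf.mpr ⟨hx, hτ.2.2 hx⟩⟩, rfl⟩
  exact ⟨g₂.comp (πΔ.comp (e.symm.toMonoidHom.comp g₁)),
    hg₂.comp (hπΔ.comp (e.symm.surjective.comp hg₁))⟩

/-- If every projective representation of `Q` lifts along the stem extension `σ : Γ → Q`, then the kernel of a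
lift `θ : F/[F,R] → Γ` meets the commutator subgroup trivially. -/
theorem ker_inf_commutator_eq_bot_of_lifting {Q : Type u} [Group Q] [Finite Q] {Γ : Type v} [Group Γ]
    (σ : Γ →* Q)
    (hlift : ∀ (n : ℕ) (γ : Q →* (GL (Fin n) ℂ ⧸ Subgroup.center (GL (Fin n) ℂ))),
      ∃ ρ : Γ →* GL (Fin n) ℂ, (QuotientGroup.mk' (Subgroup.center (GL (Fin n) ℂ))).comp ρ = γ.comp σ)
    (θ : CovGroup Q →* Γ) (hθ : σ.comp θ = covHom Q) : θ.ker ⊓ commutator (CovGroup Q) = ⊥ := by
  classical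
  rw [eq_bot_iff]
  intro x hx
  obtain ⟨hx1, hx2⟩ := Subgroup.mem_inf.mp hx
  rw [Subgroup.mem_bot]
  by_contra hx0
  obtain ⟨S, hSn, hS, _, hstem, he, hfin⟩ := exists_cover_quotient Q (covHom Q).ker le_rfl
    (fun k hk => ⟨k, hk, by rw [inv_mul_cancel]; exact Subgroup.one_mem _⟩)
  have hθs : (QuotientGroup.lift S (covHom Q) hS).comp (QuotientGroup.mk' S) = covHom Q :=
    MonoidHom.ext fun e => rfl
  have hSc : (QuotientGroup.mk' S).ker ⊓ commutator (CovGroup Q) = ⊥ :=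
    cover_ker_inf_commutator_eq_bot (hasSchurMultiplier_mult Q) _ hstem he (QuotientGroup.mk' S) hθs
  have hxK : x ∈ (covHom Q).ker := by
    rw [MonoidHom.mem_ker, ← hθ]
    show σ (θ x) = 1
    rw [MonoidHom.mem_ker.mp hx1, map_one]
  have hz : QuotientGroup.mk' S x ∈ Subgroup.center (CovGroup Q ⧸ S) :=
    hstem.2.1 (by rw [MonoidHom.mem_ker]; exact MonoidHom.mem_ker.mp hxK)
  have hz1 : (⟨QuotientGroup.mk' S x, hz⟩ : Subgroup.center (CovGroup Q ⧸ S)) ≠ 1 := by
    intro h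
    have h1 : QuotientGroup.mk' S x = 1 := congrArg Subtype.val h
    have h2 : x ∈ (QuotientGroup.mk' S).ker ⊓ commutator (CovGroup Q) := Subgroup.mem_inf.mpr ⟨h1, hx2⟩
    rw [hSc, Subgroup.mem_bot] at h2
    exact hx0 h2
  haveI : Finite (CovGroup Q ⧸ S) := hfin
  haveI : NeZero (Monoid.exponent (Subgroup.center (CovGroup Q ⧸ S))) :=
    ⟨Monoid.exponent_ne_zero_of_finite⟩
  obtain ⟨χ, hχ⟩ := CommGroup.exists_apply_ne_one_of_hasEnoughRootsOfUnity
    (Subgroup.center (CovGroup Q ⧸ S)) ℂ hz1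
  obtain ⟨N, R, hRc, hR1⟩ := exists_monomial_rep (CovGroup Q ⧸ S) χ
  have hker : (QuotientGroup.lift S (covHom Q) hS).ker ≤
      ((QuotientGroup.mk' (Subgroup.center (GL (Fin N) ℂ))).comp R).ker := by
    intro g hg
    rw [MonoidHom.mem_ker]
    exact (QuotientGroup.eq_one_iff _).mpr (hRc g (hstem.2.1 hg))
  let γ : Q →* GL (Fin N) ℂ ⧸ Subgroup.center (GL (Fin N) ℂ) :=
    (QuotientGroup.lift S (covHom Q) hS).liftOfSurjective hstem.1
      ⟨(QuotientGroup.mk' (Subgroup.center (GL (Fin N) ℂ))).comp R, hker⟩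
  have hγ : ∀ g : CovGroup Q ⧸ S, γ (QuotientGroup.lift S (covHom Q) hS g) =
      QuotientGroup.mk' (Subgroup.center (GL (Fin N) ℂ)) (R g) := fun g =>
    MonoidHom.liftOfRightInverse_comp_apply _ _ (Function.rightInverse_surjInv hstem.1)
      ⟨(QuotientGroup.mk' (Subgroup.center (GL (Fin N) ℂ))).comp R, hker⟩ g
  obtain ⟨ρ', hρ'⟩ := hlift N γ
  have hpr : ∀ e : CovGroup Q, QuotientGroup.mk' (Subgroup.center (GL (Fin N) ℂ)) (R (QuotientGroup.mk' S e)) =
      QuotientGroup.mk' (Subgroup.center (GL (Fin N) ℂ)) (ρ' (θ e)) := by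
    intro e
    rw [← hγ]
    have h1 : QuotientGroup.mk' (Subgroup.center (GL (Fin N) ℂ)) (ρ' (θ e)) = γ (σ (θ e)) :=
      DFunLike.congr_fun hρ' (θ e)
    have h2 : σ (θ e) = covHom Q e := DFunLike.congr_fun hθ e
    rw [h1, h2]
    rfl
  have hμmem : ∀ e : CovGroup Q, R (QuotientGroup.mk' S e) * (ρ' (θ e))⁻¹ ∈
      Subgroup.center (GL (Fin N) ℂ) := by
    intro e
    apply (QuotientGroup.eq_one_iff _).mp
    show QuotientGroup.mk' (Subgroup.center (GL (Fin N) ℂ)) (R (QuotientGroup.mk' S e) * (ρ' (θ e))⁻¹) = 1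
    rw [map_mul, map_inv, hpr, mul_inv_cancel]
  let μ : CovGroup Q →* Subgroup.center (GL (Fin N) ℂ) :=
    MonoidHom.mk' (fun e => ⟨R (QuotientGroup.mk' S e) * (ρ' (θ e))⁻¹, hμmem e⟩) (by
      intro a b
      apply Subtype.ext
      show R (QuotientGroup.mk' S (a * b)) * (ρ' (θ (a * b)))⁻¹ =
        (R (QuotientGroup.mk' S a) * (ρ' (θ a))⁻¹) * (R (QuotientGroup.mk' S b) * (ρ' (θ b))⁻¹)
      have hc := Subgroup.mem_center_iff.mp (hμmem b) (ρ' (θ a))⁻¹
      rw [map_mul, map_mul, map_mul, map_mul]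
      calc R (QuotientGroup.mk' S a) * R (QuotientGroup.mk' S b) * (ρ' (θ a) * ρ' (θ b))⁻¹
          = R (QuotientGroup.mk' S a) *
              ((R (QuotientGroup.mk' S b) * (ρ' (θ b))⁻¹) * (ρ' (θ a))⁻¹) := by group
        _ = R (QuotientGroup.mk' S a) *
              ((ρ' (θ a))⁻¹ * (R (QuotientGroup.mk' S b) * (ρ' (θ b))⁻¹)) := by rw [← hc]
        _ = (R (QuotientGroup.mk' S a) * (ρ' (θ a))⁻¹) *
              (R (QuotientGroup.mk' S b) * (ρ' (θ b))⁻¹) := by group)
  have hμx : μ x = 1 := (Abelianization.commutator_subset_ker μ) hx2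
  have h3 : R (QuotientGroup.mk' S x) * (ρ' (θ x))⁻¹ = 1 := congrArg Subtype.val hμx
  rw [MonoidHom.mem_ker.mp hx1, map_one, inv_one, mul_one] at h3
  exact hχ (hR1 ⟨QuotientGroup.mk' S x, hz⟩ h3)

/-- If every projective representation of `Q` lifts along the stem extension `σ : Γ → Q`, then `σ` is a Schur
cover of `Q`: the kernel of every stem extension of `Q` is a homomorphic image of `ker σ`. -/
theorem exists_surjective_ker_of_lifting {Q : Type u} [Group Q] [Finite Q] {Γ : Type v} [Group Γ]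
    (σ : Γ →* Q) (hσ : Cfsg.IsStemExtension σ)
    (hlift : ∀ (n : ℕ) (γ : Q →* (GL (Fin n) ℂ ⧸ Subgroup.center (GL (Fin n) ℂ))),
      ∃ ρ : Γ →* GL (Fin n) ℂ, (QuotientGroup.mk' (Subgroup.center (GL (Fin n) ℂ))).comp ρ = γ.comp σ)
    {Δ : Type w} [Group Δ] (τ : Δ →* Q) (hτ : Cfsg.IsStemExtension τ) :
    ∃ π : σ.ker →* τ.ker, Function.Surjective π := by
  obtain ⟨θ, hθ⟩ := exists_lift_covHom Q σ hσ.1 hσ.2.1
  exact exists_surjective_ker_of_ker_inf_eq_bot σ hσ θ hθ
    (ker_inf_commutator_eq_bot_of_lifting σ hlift θ hθ) τ hτ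

end Cfsg.Agent.Lib.helper69
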