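import Mathlib
import Cfsg.Agent.Lib.helper45.SVDefs

set_option autoImplicit false

namespace Cfsg.Agent.Lib.helper45.SV

open Polynomial

/-- Intertwining maps commute with polynomials. -/
theorem h69_intertwine_aeval {F : Type*} [Field F] {M N : Type*} [AddCommGroup M]
    [Module F M] [AddCommGroup N] [Module F N] (S : Module.End F M) (R : Module.End F N)
    (φ : M →ₗ[F] N) (hφ : ∀ m, φ (S m) = R (φ m)) (p : F[X]) :
    ∀ m, φ (aeval S p m) = aeval R p (φ m) := by
  induction p using Polynomial.induction_on with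
  | C a =>
    intro m
    simp [Module.algebraMap_end_apply]
  | add p q hp hq =>
    intro m
    simp [hp m, hq m]
  | monomial n a ih =>
    intro m
    have e1 : aeval S (C a * X ^ (n + 1)) = aeval S (C a * X ^ n) * S := by
      rw [pow_succ, ← mul_assoc, map_mul (aeval S) _ X, aeval_X]
    have e2 : aeval R (C a * X ^ (n + 1)) = aeval R (C a * X ^ n) * R := by
      rw [pow_succ, ← mul_assoc, map_mul (aeval R) _ X, aeval_X]
    rw [e1, e2, Module.End.mul_apply, Module.End.mul_apply, ih (S m), hφ m]

/-- A nonzero intertwining map between simple modules forces equal characteristic polynomials. -/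
theorem h69_intertwine_zero_of_charpoly_ne {F : Type*} [Field F] {M N : Type*} [AddCommGroup M]
    [Module F M] [Finite M] [AddCommGroup N] [Module F N] [Finite N]
    (S : Module.End F M)
    (hS : ∀ U : Submodule F M, (∀ v ∈ U, S v ∈ U) → U = ⊥ ∨ U = ⊤)
    (R : Module.End F N)
    (hR : ∀ U : Submodule F N, (∀ v ∈ U, R v ∈ U) → U = ⊥ ∨ U = ⊤)
    (hne : S.charpoly ≠ R.charpoly)
    (φ : M →ₗ[F] N) (hφ : ∀ m, φ (S m) = R (φ m)) : φ = 0 := by
  by_contra h0
  have hker : LinearMap.ker φ = ⊥ := by
    rcases hS (LinearMap.ker φ) (fun v hv => by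
      rw [LinearMap.mem_ker] at hv ⊢
      rw [hφ v, hv, map_zero]) with h | h
    · exact h
    · exact absurd (LinearMap.ker_eq_top.mp h) h0
  have hrange : LinearMap.range φ = ⊤ := by
    rcases hR (LinearMap.range φ) (fun v hv => by
      obtain ⟨m, rfl⟩ := LinearMap.mem_range.mp hv
      exact LinearMap.mem_range.mpr ⟨S m, hφ m⟩) with h | h
    · exact absurd (LinearMap.range_eq_bot.mp h) h0
    · exact h
  let e : M ≃ₗ[F] N := LinearEquiv.ofBijective φ
    ⟨LinearMap.ker_eq_bot.mp hker, LinearMap.range_eq_top.mp hrange⟩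
  have hconj : e.conj S = R := by
    apply LinearMap.ext
    intro n
    rw [LinearEquiv.conj_apply]
    change φ (S (e.symm n)) = R n
    rw [hφ]
    congr 1
    exact e.apply_symm_apply n
  apply hne
  rw [← hconj, LinearEquiv.charpoly_conj]

/-- With equal (irreducible) characteristic polynomials, evaluation at a nonzero vector is a
bijection from the intertwining maps onto the target. -/
theorem h69_intertwine_card_of_charpoly_eq {F : Type*} [Field F] {M N : Type*} [AddCommGroup M]
    [Module F M] [Finite M] [AddCommGroup N] [Module F N] [Finite N]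
    (S : Module.End F M) (hM : Nontrivial M)
    (hS : ∀ U : Submodule F M, (∀ v ∈ U, S v ∈ U) → U = ⊥ ∨ U = ⊤)
    (R : Module.End F N)
    (hirr : Irreducible S.charpoly) (heq : S.charpoly = R.charpoly) :
    Nat.card {φ : M →ₗ[F] N // ∀ m, φ (S m) = R (φ m)} = Nat.card N := by
  obtain ⟨m₀, hm₀⟩ := exists_ne (0 : M)
  -- the orbit map of `m₀`
  let ΨM : F[X] →ₗ[F] M :=
    { toFun := fun p => aeval S p m₀
      map_add' := fun p q => by simp
      map_smul' := fun c p => by simp }
  have hΨM : ∀ p, ΨM p = aeval S p m₀ := fun p => rfl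
  have hΨMX : ∀ p, S (ΨM p) = ΨM (X * p) := by
    intro p
    rw [hΨM, hΨM, map_mul, aeval_X, Module.End.mul_apply]
  have hsurj : LinearMap.range ΨM = ⊤ := by
    rcases hS (LinearMap.range ΨM) (fun v hv => by
      obtain ⟨p, rfl⟩ := LinearMap.mem_range.mp hv
      exact LinearMap.mem_range.mpr ⟨X * p, (hΨMX p).symm⟩) with h | h
    · exfalso
      apply hm₀
      have : m₀ ∈ LinearMap.range ΨM := LinearMap.mem_range.mpr ⟨1, by rw [hΨM]; simp⟩
      rw [h] at this
      exact (Submodule.mem_bot F).mp this
    · exact h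
  have hsurj' : Function.Surjective ΨM := LinearMap.range_eq_top.mp hsurj
  -- the annihilator of `m₀`
  let I : Ideal F[X] :=
    { carrier := {p | aeval S p m₀ = 0}
      add_mem' := fun {p q} hp hq => by
        change aeval S (p + q) m₀ = 0
        rw [map_add, LinearMap.add_apply, hp, hq, add_zero]
      zero_mem' := by
        change aeval S (0 : F[X]) m₀ = 0
        simp
      smul_mem' := fun c {p} hp => by
        change aeval S (c * p) m₀ = 0
        rw [map_mul, Module.End.mul_apply, hp, map_zero] }
  have hImem : ∀ p, p ∈ I ↔ aeval S p m₀ = 0 := fun p => Iff.rfl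
  have hmax : (Ideal.span {S.charpoly}).IsMaximal :=
    PrincipalIdealRing.isMaximal_of_irreducible hirr
  have hle : Ideal.span {S.charpoly} ≤ I := by
    rw [Ideal.span_le, Set.singleton_subset_iff]
    change aeval S S.charpoly m₀ = 0
    rw [LinearMap.aeval_self_charpoly, LinearMap.zero_apply]
  have hItop : I ≠ ⊤ := by
    intro h
    have h1 : (1 : F[X]) ∈ I := by rw [h]; exact Submodule.mem_top
    rw [hImem] at h1
    apply hm₀
    simpa using h1
  have hI : Ideal.span {S.charpoly} = I := hmax.eq_of_le hItop hle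
  have hann : ∀ p, ΨM p = 0 → S.charpoly ∣ p := by
    intro p hp
    have : p ∈ I := hp
    rw [← hI] at this
    exact Ideal.mem_span_singleton.mp this
  -- a section of the orbit map
  obtain ⟨g, hg⟩ := ΨM.exists_rightInverse_of_surjective hsurj
  have hg' : ∀ m, ΨM (g m) = m := fun m => by
    have := congrArg (fun f => f m) hg
    simpa using this
  -- the intertwining map with prescribed value at `m₀`
  have hkey : ∀ (n : N) (p : F[X]), aeval R (g (ΨM p)) n = aeval R p n := by
    intro n p
    have h1 : ΨM (g (ΨM p) - p) = 0 := by rw [map_sub, hg', sub_self]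
    obtain ⟨c, hc⟩ := hann _ h1
    have h2 : g (ΨM p) = p + S.charpoly * c := by rw [← hc]; ring
    rw [h2, map_add, map_mul, heq, LinearMap.aeval_self_charpoly, zero_mul, add_zero]
  let mk : N → {φ : M →ₗ[F] N // ∀ m, φ (S m) = R (φ m)} := fun n =>
    ⟨{ toFun := fun m => aeval R (g m) n
       map_add' := fun a b => by simp
       map_smul' := fun c a => by simp }, by
      intro m
      obtain ⟨p, rfl⟩ := hsurj' m
      change aeval R (g (S (ΨM p))) n = R (aeval R (g (ΨM p)) n)
      rw [hΨMX, hkey, hkey, map_mul, aeval_X, Module.End.mul_apply]⟩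
  have hmk : ∀ n, (mk n).1 m₀ = n := by
    intro n
    have h1 : m₀ = ΨM 1 := by rw [hΨM]; simp
    change aeval R (g m₀) n = n
    rw [h1, hkey]
    simp
  let ev : {φ : M →ₗ[F] N // ∀ m, φ (S m) = R (φ m)} → N := fun φ => φ.1 m₀
  have hbij : Function.Bijective ev := by
    constructor
    · intro φ ψ h
      apply Subtype.ext
      apply LinearMap.ext
      intro m
      obtain ⟨p, rfl⟩ := hsurj' m
      rw [hΨM, h69_intertwine_aeval S R φ.1 φ.2 p m₀, h69_intertwine_aeval S R ψ.1 ψ.2 p m₀]
      exact congrArg _ h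
    · intro n
      exact ⟨mk n, hmk n⟩
  exact Nat.card_congr (Equiv.ofBijective ev hbij)

open Classical in
/-- HOM1 core: the Skel statement of HOM1 with the irreducibility of `S.charpoly` (IRR) as a
hypothesis. -/
theorem h69_card_hom_simple_simple_core {F : Type*} [Field F] [Fintype F] {M N : Type*}
    [AddCommGroup M] [Module F M] [Finite M] [AddCommGroup N] [Module F N] [Finite N]
    (S : Module.End F M) (hM : Nontrivial M)
    (hS : ∀ U : Submodule F M, (∀ v ∈ U, S v ∈ U) → U = ⊥ ∨ U = ⊤)
    (R : Module.End F N)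
    (hR : ∀ U : Submodule F N, (∀ v ∈ U, R v ∈ U) → U = ⊥ ∨ U = ⊤)
    (hirr : Irreducible S.charpoly) :
    Nat.card {φ : M →ₗ[F] N // ∀ m, φ (S m) = R (φ m)} =
      if S.charpoly = R.charpoly then Fintype.card F ^ Module.finrank F N else 1 := by
  split_ifs with h
  · rw [h69_intertwine_card_of_charpoly_eq S hM hS R hirr h, Module.natCard_eq_pow_finrank (K := F),
      Nat.card_eq_fintype_card]
  · rw [Nat.card_eq_one_iff_unique]
    refine ⟨⟨fun a b => Subtype.ext ?_⟩, ⟨⟨0, fun m => by simp⟩⟩⟩
    rw [h69_intertwine_zero_of_charpoly_ne S hS R hR h a.1 a.2,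
      h69_intertwine_zero_of_charpoly_ne S hS R hR h b.1 b.2]

end Cfsg.Agent.Lib.helper45.SV
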