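import Mathlib

set_option autoImplicit false

namespace Cfsg.Agent.Lib.helper69

open Matrix

/-- In a finite field of odd characteristic, if a product `x * y` is a nonsquare then one of the
factors is a nonzero square. -/
theorem h69_sq_of_mul_nonsq {F : Type*} [Field F] [Finite F] (h2 : (2 : F) ≠ 0) (x y : F)
    (hxy : ¬ IsSquare (x * y)) : IsSquare x ∨ IsSquare y := by
  classical
  have := Fintype.ofFinite F
  by_contra hcon
  push Not at hcon
  obtain ⟨hx, hy⟩ := hcon
  have hF : ringChar F ≠ 2 := by
    intro h
    apply h2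
    have : ((2 : ℕ) : F) = 0 := by
      rw [← h]; exact ringChar.Nat.cast_ringChar
    simpa using this
  have hx0 : x ≠ 0 := fun h => hx (h ▸ IsSquare.zero)
  have hy0 : y ≠ 0 := fun h => hy (h ▸ IsSquare.zero)
  have h1 := (quadraticChar_neg_one_iff_not_isSquare (F := F)).2 hx
  have h3 := (quadraticChar_neg_one_iff_not_isSquare (F := F)).2 hy
  have h4 : quadraticChar F (x * y) = 1 := by
    rw [map_mul, h1, h3]; norm_num
  exact hxy ((quadraticChar_one_iff_isSquare (mul_ne_zero hx0 hy0)).1 h4)

/-- (E) an element of `F[√δ]` whose norm is a square in `F` is a square. -/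
theorem h69_isSquare_of_norm_sq {F : Type*} [Field F] [Finite F] (h2 : (2 : F) ≠ 0) (δ : F)
    [Fact (∀ r : F, r ^ 2 ≠ δ + 0 * r)] (z : QuadraticAlgebra F δ 0) (s : F)
    (h : z.re ^ 2 - δ * z.im ^ 2 = s ^ 2) : IsSquare z := by
  have hδ : ¬ IsSquare δ := by
    rintro ⟨r, hr⟩
    exact (Fact.out : ∀ r : F, r ^ 2 ≠ δ + 0 * r) r (by rw [hr]; ring)
  have h4 : (4 : F) ≠ 0 := by
    have : (4 : F) = 2 * 2 := by norm_num
    rw [this]; exact mul_ne_zero h2 h2
  by_cases hb : z.im = 0
  · -- z = a in F
    by_cases ha : IsSquare z.re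
    · obtain ⟨x, hx⟩ := ha
      refine ⟨⟨x, 0⟩, ?_⟩
      ext
      · simp [hx]
      · simp [hb]
    · -- a = δ c²
      have hq : IsSquare (δ * z.re) := by
        by_contra hc
        rcases h69_sq_of_mul_nonsq h2 δ z.re hc with h' | h'
        · exact hδ h'
        · exact ha h'
      obtain ⟨t, ht⟩ := hq
      have hδ0 : δ ≠ 0 := fun h0 => hδ (h0 ▸ IsSquare.zero)
      refine ⟨⟨0, t / δ⟩, ?_⟩
      ext
      · simp only [QuadraticAlgebra.re_mul]
        field_simp
        linear_combination ht
      · simp [hb]
  · -- b ≠ 0
    have hprod : ((z.re + s) / 2) * ((z.re - s) / 2) = δ * (z.im / 2) ^ 2 := by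
      have : (z.re + s) * (z.re - s) = δ * z.im ^ 2 := by
        have := h; linear_combination this
      field_simp
      linear_combination this
    have hns : ¬ IsSquare (((z.re + s) / 2) * ((z.re - s) / 2)) := by
      rw [hprod]
      rintro ⟨r, hr⟩
      apply hδ
      have hb2 : z.im / 2 ≠ 0 := div_ne_zero hb h2
      refine ⟨r / (z.im / 2), ?_⟩
      have hr' : δ * z.im ^ 2 = 4 * (r * r) := by
        rw [← hr]; field_simp; ring
      field_simp
      linear_combination hr'
    have key : ∀ s' : F, z.re ^ 2 - δ * z.im ^ 2 = s' ^ 2 → IsSquare ((z.re + s') / 2) →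
        IsSquare z := by
      intro s' hs' hsq
      obtain ⟨x, hx⟩ := hsq
      have hx0 : x ≠ 0 := by
        rintro rfl
        have h0 : z.re + s' = 0 := by
          have := hx
          field_simp at this
          simpa using this
        have : δ * z.im ^ 2 = 0 := by
          have e1 : s' = - z.re := by linear_combination h0
          rw [e1] at hs'
          linear_combination -hs'
        rcases mul_eq_zero.1 this with h' | h'
        · exact hδ (h' ▸ IsSquare.zero)
        · exact hb (pow_eq_zero_iff (by norm_num) |>.1 h')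
      refine ⟨⟨x, z.im / (2 * x)⟩, ?_⟩
      ext
      · simp only [QuadraticAlgebra.re_mul]
        have hx' : z.re + s' = 2 * (x * x) := by
          field_simp at hx; linear_combination hx
        have e1 : s' = 2 * (x * x) - z.re := by linear_combination hx'
        rw [e1] at hs'
        field_simp
        linear_combination hs'
      · simp only [QuadraticAlgebra.im_mul]
        field_simp
        ring
    rcases h69_sq_of_mul_nonsq h2 _ _ hns with h' | h'
    · exact key s h h'
    · refine key (-s) (by rw [h]; ring) ?_
      have : (z.re + -s) / 2 = (z.re - s) / 2 := by ring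
      rw [this]; exact h'

/-- (D) Gram determinants of two families, the second expressed in the first, differ by the square
of the determinant of the coefficient matrix. -/
theorem h69_gram_det {F : Type*} [Field F] {V : Type*} [AddCommGroup V] [Module F V]
    {Y : Type*} [Fintype Y] [DecidableEq Y] (B : V →ₗ[F] V →ₗ[F] F) (f g : Y → V)
    (P : Matrix Y Y F) (hg : ∀ x, g x = ∑ y, P y x • f y) :
    (Matrix.of fun x x' => B (g x) (g x')).det =
      P.det ^ 2 * (Matrix.of fun x x' => B (f x) (f x')).det := by
  have hmat : (Matrix.of fun x x' => B (g x) (g x')) =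
      Pᵀ * (Matrix.of fun x x' => B (f x) (f x')) * P := by
    ext x x'
    simp only [Matrix.of_apply, Matrix.mul_apply, Matrix.transpose_apply]
    rw [hg x, hg x']
    simp only [map_sum, LinearMap.sum_apply, map_smul, LinearMap.smul_apply, smul_eq_mul,
      Finset.sum_mul, Finset.mul_sum]
    refine Finset.sum_congr rfl fun y _ => Finset.sum_congr rfl fun y' _ => ?_
    ring
  rw [hmat, Matrix.det_mul, Matrix.det_mul, Matrix.det_transpose]
  ring

end Cfsg.Agent.Lib.helper69
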