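import Mathlib
import Cfsg.Prelude.Def_Classical
import Cfsg.Prelude.Def_GeometricClasses
import Cfsg.Agent.Lib.helper24.SfoDefs
import Cfsg.Agent.Lib.helper61.QfuEVEN
import Cfsg.Agent.Lib.helper84.QfuNFA
import Cfsg.Agent.Lib.helper27.QfuNFB
import Cfsg.Agent.Lib.helper61.QfuISOSQ
import Cfsg.Agent.Lib.helper19.QfuSUMD
import Cfsg.Agent.Lib.helper7.QfuTRANSL
import Cfsg.Agent.Lib.helper25.QfuCONJ
import Cfsg.Agent.Lib.helper97.QfuCNTEQ
import Cfsg.Agent.Lib.helper71.QfcPHI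
import Cfsg.Agent.Lib.helper25.QfcQK

/-!
KUNIQ glue (racer copy by helper69) for S5977 / S5978 block [A]: `h69_qfu_iso` (two nondegenerate
quadratic forms over a finite field with the same number of solutions of `Q = 1` are isometric)
and `h69_sfk_uniq` (verbatim statement of `sfk_uniq` of `tools/S5977A_Skel.lean.txt`), from the
landed leaves of helper2's sub-split `s5977u`.
-/

set_option autoImplicit false

namespace Cfsg.Agent.Lib.helper59.Sfk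

open Matrix Cfsg.Geo Cfsg.Agent.Lib.helper24 Cfsg.Agent.Lib.helper2

/-- ISO: equal counts of `Q = 1` give an isometry. -/
theorem h69_qfu_iso {E : Type*} [Field E] [Fintype E] {m : ℕ} (h2 : (2 : E) ≠ 0)
    (Q Q' : (Fin (m + 1) → E) → E) (hQ : IsNondegenerateQuadraticForm Q)
    (hQ' : IsNondegenerateQuadraticForm Q') (hcnt : sfoCount Q 1 = sfoCount Q' 1) :
    ∃ T : GL (Fin (m + 1)) E, ∀ x : Fin (m + 1) → E,
      Q' ((T : Matrix (Fin (m + 1)) (Fin (m + 1)) E) *ᵥ x) = Q x := by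
  obtain ⟨e, horth, h1, hne⟩ := qfu_normal_family h2 Q hQ
  obtain ⟨e', horth', h1', hne'⟩ := qfu_normal_family h2 Q' hQ'
  have hnz : ∀ j, Q (e j) ≠ 0 := by
    intro j
    by_cases hj : j = Fin.last m
    · rw [hj]; exact hne
    · rw [h1 j hj]; exact one_ne_zero
  have hnz' : ∀ j, Q' (e' j) ≠ 0 := by
    intro j
    by_cases hj : j = Fin.last m
    · rw [hj]; exact hne'
    · rw [h1' j hj]; exact one_ne_zero
  obtain ⟨P, hP⟩ := qfu_diag_of_family h2 Q hQ e horth hnz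
  obtain ⟨P', hP'⟩ := qfu_diag_of_family h2 Q' hQ' e' horth' hnz'
  have hPd : ∀ x : Fin (m + 1) → E, Q ((P : Matrix (Fin (m + 1)) (Fin (m + 1)) E) *ᵥ x) =
      ∑ j, (if j = Fin.last m then Q (e (Fin.last m)) else 1) * x j ^ 2 := by
    intro x
    rw [hP x]
    refine Finset.sum_congr rfl fun j _ => ?_
    by_cases hj : j = Fin.last m
    · rw [if_pos hj, hj]
    · rw [if_neg hj, h1 j hj]
  have hPd' : ∀ x : Fin (m + 1) → E, Q' ((P' : Matrix (Fin (m + 1)) (Fin (m + 1)) E) *ᵥ x) =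
      ∑ j, (if j = Fin.last m then Q' (e' (Fin.last m)) else 1) * x j ^ 2 := by
    intro x
    rw [hP' x]
    refine Finset.sum_congr rfl fun j _ => ?_
    by_cases hj : j = Fin.last m
    · rw [if_pos hj, hj]
    · rw [if_neg hj, h1' j hj]
  by_cases hs : ∃ s : E, Q (e (Fin.last m)) = s ^ 2 * Q' (e' (Fin.last m))
  · obtain ⟨s, hs⟩ := hs
    exact qfu_iso_of_sq Q Q' P P' _ _ s hne hs hPd hPd'
  · exfalso
    push Not at hs
    have hsum := qfu_diag_count_sum (m := m) h2 _ _ hne hne' hs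
    have ht := qfu_count_transl Q _ P hPd 1
    have ht' := qfu_count_transl Q' _ P' hPd' 1
    rw [← ht, ← ht', ← hcnt] at hsum
    have hEq : sfoCount Q 1 = Fintype.card E ^ m := by omega
    exact qfu_count_ne h2 Q hQ hEq

/-- KUNIQ (racer copy, verbatim statement of `sfk_uniq`). -/
theorem h69_sfk_uniq {F : Type*} [Field F] [Fintype F] {ι : Type} [Fintype ι] [DecidableEq ι]
    (h2 : (2 : F) ≠ 0) (Q : QuadraticForm F (ι → F))
    (hQ : (QuadraticMap.polarBilin Q).Nondegenerate)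
    (hQ' : IsNondegenerateQuadraticForm (⇑Q : (ι → F) → F))
    (δ : F) (hδ : ∀ r : F, r ^ 2 ≠ δ + 0 * r) (κ₁ κ₂ : Matrix ι ι F)
    (h1 : κ₁ * κ₁ = δ • (1 : Matrix ι ι F)) (h2' : κ₂ * κ₂ = δ • (1 : Matrix ι ι F))
    (hs1 : ∀ u v : ι → F, QuadraticMap.polar (⇑Q) (κ₁ *ᵥ u) v = QuadraticMap.polar (⇑Q) u (κ₁ *ᵥ v))
    (hs2 : ∀ u v : ι → F, QuadraticMap.polar (⇑Q) (κ₂ *ᵥ u) v = QuadraticMap.polar (⇑Q) u (κ₂ *ᵥ v)) :
    ∃ h : GL ι F, h ∈ Cfsg.isometryGroup F (⇑Q) ∧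
      (h : Matrix ι ι F) * κ₁ = κ₂ * (h : Matrix ι ι F) := by
  classical
  have : Fact (∀ r : F, r ^ 2 ≠ δ + 0 * r) := ⟨hδ⟩
  let _ : Fintype (QuadraticAlgebra F δ 0) :=
    Fintype.ofEquiv _ (QuadraticAlgebra.equivProd δ 0).symm
  obtain ⟨d, hd⟩ := qfu_even_card δ hδ κ₁ h1
  have hd' : Fintype.card ι = 2 * d := by omega
  obtain ⟨Φ₁, hΦ₁⟩ := qfc_phi δ κ₁ h1 d hd'
  obtain ⟨Φ₂, hΦ₂⟩ := qfc_phi δ κ₂ h2' d hd'
  have hN₁ := qfc_qk_nondeg h2 (⇑Q) hQ' δ κ₁ h1 hs1 d Φ₁ hΦ₁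
  have hN₂ := qfc_qk_nondeg h2 (⇑Q) hQ' δ κ₂ h2' hs2 d Φ₂ hΦ₂
  have hodd : Odd (Fintype.card F) := by
    have hchar : ringChar F ≠ 2 := by
      intro h
      apply h2
      have := CharP.cast_eq_zero F (ringChar F)
      rw [h] at this
      exact_mod_cast this
    exact Nat.odd_iff.2 (FiniteField.odd_card_of_char_ne_two hchar)
  have hcnt := h97_qfu_count_eq hodd (⇑Q) δ d Φ₁ Φ₂
    (fun v => (⟨Q v, QuadraticMap.polar (⇑Q) (κ₁ *ᵥ v) v / (2 * δ)⟩ : QuadraticAlgebra F δ 0))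
    (fun v => (⟨Q v, QuadraticMap.polar (⇑Q) (κ₂ *ᵥ v) v / (2 * δ)⟩ : QuadraticAlgebra F δ 0))
    (fun v => rfl) (fun v => rfl) hN₁ hN₂
  rcases Nat.eq_zero_or_pos d with hd0 | hdpos
  · subst hd0
    have hem : IsEmpty ι := Fintype.card_eq_zero_iff.1 (by omega)
    refine ⟨1, Subgroup.one_mem _, ?_⟩
    ext i
    exact isEmptyElim i
  · obtain ⟨m, rfl⟩ : ∃ m, d = m + 1 := ⟨d - 1, by omega⟩
    have h2K : (2 : QuadraticAlgebra F δ 0) ≠ 0 := by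
      intro h
      have h' := congrArg QuadraticAlgebra.re h
      rw [QuadraticAlgebra.re_ofNat] at h'
      exact h2 h'
    obtain ⟨T, hT⟩ := h69_qfu_iso h2K _ _ hN₁ hN₂ hcnt
    exact h25_qfu_conj (⇑Q) δ κ₁ κ₂ (m + 1) Φ₁ Φ₂ hΦ₁ hΦ₂
      (fun v => (⟨Q v, QuadraticMap.polar (⇑Q) (κ₁ *ᵥ v) v / (2 * δ)⟩ : QuadraticAlgebra F δ 0))
      (fun v => (⟨Q v, QuadraticMap.polar (⇑Q) (κ₂ *ᵥ v) v / (2 * δ)⟩ : QuadraticAlgebra F δ 0))
      (fun v => rfl) (fun v => rfl) T hT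

end Cfsg.Agent.Lib.helper59.Sfk
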