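import Mathlib

/-!
Counting subgroups of prime power order (Frobenius' generalisation of Sylow's theorem), by Wielandt's
counting argument on subsets (owner: helper69).
-/

set_option autoImplicit false

universe u

namespace Cfsg.Agent.Lib.helper69

open scoped Pointwise

/-- Class formula consequence: if `d` divides the index of every stabilizer, it divides the size of the set. -/
theorem dvd_card_of_dvd_index_stabilizer {G X : Type*} [Group G] [Finite G] [MulAction G X] [Finite X] (d : ℕ)
    (h : ∀ x : X, d ∣ (MulAction.stabilizer G x).index) : d ∣ Nat.card X := by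
  classical
  have e := MulAction.selfEquivSigmaOrbitsQuotientStabilizer G X
  rw [Nat.card_congr e]
  haveI : Fintype (Quotient (MulAction.orbitRel G X)) := Fintype.ofFinite _
  rw [Nat.card_sigma]
  apply Finset.dvd_sum
  intro ω _
  exact h (Quotient.out ω)

/-- The stabilizer of a finite subset `U` of a group under left multiplication has order dividing `|U|`. -/
theorem card_stabilizer_dvd_card {G : Type*} [Group G] [DecidableEq G] (U : Finset G) :
    Nat.card (MulAction.stabilizer G U) ∣ U.card := by
  classical
  let S := MulAction.stabilizer G U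
  letI act : MulAction S {u // u ∈ U} :=
    { smul := fun s u => ⟨(s : G) * u, by
        have hs : (s : G) • U = U := s.2
        have h1 : (s : G) • (u : G) ∈ (s : G) • U := Finset.smul_mem_smul_finset u.2
        rw [hs] at h1
        exact h1⟩
      one_smul := fun u => Subtype.ext (one_mul _)
      mul_smul := fun s t u => Subtype.ext (mul_assoc _ _ _) }
  have hfree : ∀ u : {u // u ∈ U}, MulAction.stabilizer S u = ⊥ := by
    intro u
    rw [Subgroup.eq_bot_iff_forall]
    intro s hs
    have h1 : (s : G) * u = u := congrArg Subtype.val (MulAction.mem_stabilizer_iff.mp hs)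
    have h2 : (s : G) = 1 := mul_right_cancel (h1.trans (one_mul _).symm)
    exact Subtype.ext h2
  have e := MulAction.selfEquivOrbitsQuotientProd hfree
  have h3 : Nat.card {u // u ∈ U} = U.card := by
    rw [Nat.card_eq_fintype_card, Fintype.card_coe]
  rw [← h3, Nat.card_congr e, Nat.card_prod]
  exact dvd_mul_left _ _

/-- The right coset `T g` as a finset. -/
noncomputable def cosetFinset {G : Type*} [Group G] [Fintype G] (T : Subgroup G) (g : G) : Finset G := by
  classical exact Finset.univ.filter (fun x => x * g⁻¹ ∈ T)

theorem mem_cosetFinset {G : Type*} [Group G] [Fintype G] (T : Subgroup G) (g x : G) :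
    x ∈ cosetFinset T g ↔ x * g⁻¹ ∈ T := by
  classical
  simp [cosetFinset]

theorem card_cosetFinset {G : Type*} [Group G] [Fintype G] (T : Subgroup G) (g : G) :
    (cosetFinset T g).card = Nat.card T := by
  classical
  have e : {x // x ∈ cosetFinset T g} ≃ T :=
    (Equiv.mulRight g⁻¹).subtypeEquiv (fun x => mem_cosetFinset T g x)
  rw [← Nat.card_congr e, Nat.card_eq_fintype_card, Fintype.card_coe]

theorem smul_cosetFinset {G : Type*} [Group G] [Fintype G] [DecidableEq G] (T : Subgroup G) (g t : G)
    (ht : t ∈ T) : t • cosetFinset T g = cosetFinset T g := by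
  ext x
  rw [← Finset.inv_smul_mem_iff, mem_cosetFinset, mem_cosetFinset, smul_eq_mul, mul_assoc]
  exact T.mul_mem_cancel_left (T.inv_mem ht)

theorem eq_cosetFinset_of_le_stabilizer {G : Type*} [Group G] [Fintype G] [DecidableEq G] (T : Subgroup G)
    (U : Finset G) (hU : U.card = Nat.card T) (hle : T ≤ MulAction.stabilizer G U) (g : G) (hg : g ∈ U) :
    cosetFinset T g = U := by
  apply Finset.eq_of_subset_of_card_le
  · intro x hx
    rw [mem_cosetFinset] at hx
    have h1 : (x * g⁻¹) • U = U := hle hx
    have h2 : (x * g⁻¹) • g ∈ (x * g⁻¹) • U := Finset.smul_mem_smul_finset hg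
    rw [h1, smul_eq_mul] at h2
    simpa using h2
  · rw [card_cosetFinset, hU]

/-- Wielandt's count: the number of `p^β`-subsets of `G` is congruent modulo `p n'` to `n'` times the number of
subgroups of order `p^β`, where `|G| = p^β n'`. -/
theorem wielandt_count {G : Type*} [Group G] [Finite G] (p β n' : ℕ) (hp : p.Prime)
    (hn : Nat.card G = p ^ β * n') :
    (Nat.card G).choose (p ^ β) ≡ Nat.card {H : Subgroup G // Nat.card H = p ^ β} * n' [MOD p * n'] := by
  classical
  haveI : Fintype G := Fintype.ofFinite G
  have hkpos : 0 < p ^ β := pow_pos hp.pos β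
  generalize hk : p ^ β = k at hkpos hn ⊢
  let S : Finset G → Subgroup G := fun U => MulAction.stabilizer G U
  let X : Finset (Finset G) := Finset.powersetCard k Finset.univ
  have hXcard : X.card = (Nat.card G).choose k := by
    rw [Finset.card_powersetCard, Finset.card_univ, Nat.card_eq_fintype_card]
  have hXmem : ∀ U, U ∈ X ↔ U.card = k := by
    intro U; simp [X]
  let X₁ := X.filter (fun U => Nat.card (S U) = k)
  let X₂ := X.filter (fun U => ¬ Nat.card (S U) = k)
  have hsplit : X₁.card + X₂.card = X.card := Finset.card_filter_add_card_filter_not _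
  have hX₂ : p * n' ∣ X₂.card := by
    let Ω₂ : SubMulAction G (Finset G) :=
      { carrier := {U | U ∈ X₂}
        smul_mem' := by
          intro g U hU
          have hU' := Finset.mem_filter.mp hU
          apply Finset.mem_filter.mpr
          refine ⟨(hXmem _).mpr (by rw [Finset.card_smul_finset]; exact (hXmem U).mp hU'.1), ?_⟩
          have h1 : S (g • U) = (S U).map (MulAut.conj g).toMonoidHom :=
            MulAction.stabilizer_smul_eq_stabilizer_map_conj g U
          rw [h1, Subgroup.card_map_of_injective (MulAut.conj g).injective]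
          exact hU'.2 }
    have hcard : Nat.card Ω₂ = X₂.card := by
      have : Nat.card {U // U ∈ X₂} = X₂.card := by
        rw [Nat.card_eq_fintype_card, Fintype.card_coe]
      exact this
    rw [← hcard]
    apply dvd_card_of_dvd_index_stabilizer (G := G)
    intro x
    rw [SubMulAction.stabilizer_of_subMul]
    have hx : (x : Finset G) ∈ X₂ := x.2
    obtain ⟨hx1, hx2⟩ := Finset.mem_filter.mp hx
    have hxk : (x : Finset G).card = k := (hXmem _).mp hx1
    have hdvd : Nat.card (S x) ∣ p ^ β := by
      rw [hk, ← hxk]; exact card_stabilizer_dvd_card (x : Finset G)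
    obtain ⟨j, hj, hjc⟩ := (Nat.dvd_prime_pow hp).mp hdvd
    have hjlt : j < β := by
      rcases Nat.lt_or_ge j β with h | h
      · exact h
      · exfalso
        apply hx2
        have : j = β := le_antisymm hj h
        rw [hjc, this, hk]
    have hmul := Subgroup.card_mul_index (S x)
    rw [hjc, hn, ← hk] at hmul
    have hidx : (S x).index = p ^ (β - j) * n' := by
      have h2 : p ^ β = p ^ j * p ^ (β - j) := by
        rw [← pow_add]; congr 1; omega
      rw [h2, mul_assoc] at hmul
      exact Nat.eq_of_mul_eq_mul_left (pow_pos hp.pos j) hmul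
    show p * n' ∣ (S x).index
    rw [hidx]
    exact Nat.mul_dvd_mul_right (dvd_pow_self p (by omega)) n'
  have hX₁ : X₁.card = Nat.card {H : Subgroup G // Nat.card H = k} * n' := by
    haveI : Fintype (Subgroup G) := Fintype.ofFinite _
    let 𝒯 : Finset (Subgroup G) := Finset.univ.filter (fun T => Nat.card T = k)
    have h𝒯 : Nat.card {H : Subgroup G // Nat.card H = k} = 𝒯.card := by
      rw [Nat.card_eq_fintype_card, Fintype.card_subtype]
    have hfib : X₁.card = ∑ T ∈ 𝒯, (X₁.filter (fun U => S U = T)).card :=
      Finset.card_eq_sum_card_fiberwise (by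
        intro U hU
        have hU' := Finset.mem_filter.mp hU
        exact Finset.mem_filter.mpr ⟨Finset.mem_univ _, hU'.2⟩)
    rw [hfib, h𝒯]
    apply Finset.sum_const_nat
    intro T hT
    have hTk : Nat.card T = k := (Finset.mem_filter.mp hT).2
    have hfilt : X₁.filter (fun U => S U = T) = X.filter (fun U => T ≤ S U) := by
      ext U
      constructor
      · intro hU
        obtain ⟨hU1, hST⟩ := Finset.mem_filter.mp hU
        obtain ⟨hUX, _⟩ := Finset.mem_filter.mp hU1
        exact Finset.mem_filter.mpr ⟨hUX, hST ▸ le_rfl⟩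
      · intro hU
        obtain ⟨hUX, hle⟩ := Finset.mem_filter.mp hU
        have hUk := (hXmem U).mp hUX
        have hdvd : Nat.card (S U) ∣ k := hUk ▸ card_stabilizer_dvd_card U
        have hle2 : Nat.card (S U) ≤ Nat.card T := by
          rw [hTk]; exact Nat.le_of_dvd hkpos hdvd
        have heq : T = S U := Subgroup.eq_of_le_of_card_ge hle hle2
        exact Finset.mem_filter.mpr ⟨Finset.mem_filter.mpr ⟨hUX, by rw [← heq, hTk]⟩, heq.symm⟩
    rw [hfilt]
    have hF : ∀ g ∈ (Finset.univ : Finset G), cosetFinset T g ∈ X.filter (fun U => T ≤ S U) := by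
      intro g _
      apply Finset.mem_filter.mpr
      refine ⟨(hXmem _).mpr (by rw [card_cosetFinset, hTk]), ?_⟩
      intro t ht
      exact MulAction.mem_stabilizer_iff.mpr (smul_cosetFinset T g t ht)
    have hcount := Finset.card_eq_sum_card_fiberwise hF
    have hfiber : ∀ U ∈ X.filter (fun U => T ≤ S U),
        (Finset.univ.filter (fun g => cosetFinset T g = U)).card = k := by
      intro U hU
      obtain ⟨hUX, hle⟩ := Finset.mem_filter.mp hU
      have hUk := (hXmem U).mp hUX
      have : Finset.univ.filter (fun g => cosetFinset T g = U) = U := by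
        ext g
        simp only [Finset.mem_filter, Finset.mem_univ, true_and]
        constructor
        · intro h
          rw [← h, mem_cosetFinset, mul_inv_cancel]
          exact T.one_mem
        · intro hg
          exact eq_cosetFinset_of_le_stabilizer T U (by rw [hUk, hTk]) hle g hg
      rw [this, hUk]
    rw [Finset.sum_congr rfl hfiber, Finset.sum_const, smul_eq_mul, Finset.card_univ,
      ← Nat.card_eq_fintype_card, hn] at hcount
    exact (Nat.eq_of_mul_eq_mul_right hkpos (by rw [← hcount, mul_comm])).symm
  rw [← hXcard, ← hsplit, hX₁]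
  have h0 : X₂.card ≡ 0 [MOD p * n'] := (Nat.modEq_zero_iff_dvd).mpr hX₂
  have := Nat.ModEq.add_left (Nat.card {H : Subgroup G // Nat.card H = k} * n') h0
  simpa using this

/-- In a finite cyclic group, subgroups of the same order are equal. -/
theorem subgroup_eq_of_card_eq_of_isCyclic {C : Type*} [Group C] [Finite C] [IsCyclic C]
    (H K : Subgroup C) (h : Nat.card H = Nat.card K) : H = K := by
  classical
  haveI : Fintype C := Fintype.ofFinite C
  have hkpos : 0 < Nat.card H := Nat.card_pos
  have key : ∀ L : Subgroup C, Nat.card L = Nat.card H → ∀ x, x ∈ L ↔ x ^ Nat.card H = 1 := by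
    intro L hL x
    have hsub : ∀ y, y ∈ L → y ^ Nat.card H = 1 := by
      intro y hy
      have h1 : (⟨y, hy⟩ : L) ^ Nat.card L = 1 := pow_card_eq_one'
      rw [hL] at h1
      exact congrArg Subtype.val h1
    refine ⟨hsub x, fun hx => ?_⟩
    haveI : Fintype L := Fintype.ofFinite L
    let F : Finset C := Finset.univ.filter (fun a => a ^ Nat.card H = 1)
    let E : Finset C := Finset.univ.filter (fun a => a ∈ L)
    have hEF : E ⊆ F := by
      intro y hy
      have hy' : y ∈ L := (Finset.mem_filter.mp hy).2
      exact Finset.mem_filter.mpr ⟨Finset.mem_univ _, hsub y hy'⟩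
    have hEcard : E.card = Nat.card H := by
      rw [← hL, Nat.card_eq_fintype_card, Fintype.card_subtype]
    have hFcard : F.card ≤ E.card := by
      rw [hEcard]
      exact IsCyclic.card_pow_eq_one_le hkpos
    have hEqF : E = F := Finset.eq_of_subset_of_card_le hEF hFcard
    have hxF : x ∈ F := Finset.mem_filter.mpr ⟨Finset.mem_univ _, hx⟩
    rw [← hEqF] at hxF
    exact (Finset.mem_filter.mp hxF).2
  ext x
  rw [key H rfl, key K h.symm]

/-- Frobenius: the number of subgroups of order `p^β` of a finite group whose order is divisible by `p^β`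
is congruent to `1` modulo `p`. -/
theorem card_subgroups_prime_pow_modEq_one {G : Type*} [Group G] [Finite G] (p β : ℕ) (hp : p.Prime)
    (hdiv : p ^ β ∣ Nat.card G) :
    Nat.card {H : Subgroup G // Nat.card H = p ^ β} ≡ 1 [MOD p] := by
  obtain ⟨n', hn⟩ := hdiv
  have hn'pos : 0 < n' := by
    rcases Nat.eq_zero_or_pos n' with h | h
    · rw [h, mul_zero] at hn
      exact absurd hn (Nat.card_pos).ne'
    · exact h
  have hNpos : 0 < p ^ β * n' := Nat.mul_pos (pow_pos hp.pos β) hn'pos
  haveI : NeZero (p ^ β * n') := ⟨hNpos.ne'⟩
  let C := Multiplicative (ZMod (p ^ β * n'))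
  have hC : Nat.card C = p ^ β * n' := by
    show Nat.card (Multiplicative (ZMod (p ^ β * n'))) = _
    rw [Nat.card_eq_fintype_card, Fintype.card_multiplicative, ZMod.card]
  have h1 := wielandt_count (G := G) p β n' hp hn
  have h2 := wielandt_count (G := C) p β n' hp hC
  rw [hn] at h1
  rw [hC] at h2
  have hCone : Nat.card {H : Subgroup C // Nat.card H = p ^ β} = 1 := by
    rw [Nat.card_eq_one_iff_unique]
    constructor
    · constructor
      intro a b
      exact Subtype.ext (subgroup_eq_of_card_eq_of_isCyclic a.1 b.1 (a.2.trans b.2.symm))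
    · haveI : Fact p.Prime := ⟨hp⟩
      obtain ⟨H, hH⟩ := Sylow.exists_subgroup_card_pow_prime (G := C) p (n := β)
        (by rw [hC]; exact Dvd.intro _ rfl)
      exact ⟨⟨H, hH⟩⟩
  rw [hCone, one_mul] at h2
  have h3 : Nat.card {H : Subgroup G // Nat.card H = p ^ β} * n' ≡ 1 * n' [MOD p * n'] := by
    rw [one_mul]
    exact h1.symm.trans h2
  exact Nat.ModEq.mul_right_cancel' hn'pos.ne' h3

/-- Frobenius for `p`-groups: in a group of order `p^m` the number of normal subgroups of order `p^s`
(`s ≤ m`) is congruent to `1` modulo `p`. -/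
theorem card_normal_subgroups_prime_pow_modEq_one {G : Type*} [Group G] [Finite G] (p m s : ℕ)
    (hp : p.Prime) (hG : Nat.card G = p ^ m) (hs : s ≤ m) :
    Nat.card {H : Subgroup G // H.Normal ∧ Nat.card H = p ^ s} ≡ 1 [MOD p] := by
  haveI : Fact p.Prime := ⟨hp⟩
  have hall := card_subgroups_prime_pow_modEq_one (G := G) p s hp
    (by rw [hG]; exact pow_dvd_pow p hs)
  let Ω : SubMulAction (ConjAct G) (Subgroup G) :=
    { carrier := {H | Nat.card H = p ^ s}
      smul_mem' := by
        intro c H hH
        show Nat.card (c • H : Subgroup G) = p ^ s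
        rw [Subgroup.pointwise_smul_def]
        have h1 : Nat.card ((H : Subgroup G).map (MulDistribMulAction.toMonoidEnd (ConjAct G) G c)) =
            Nat.card H := by
          apply Subgroup.card_map_of_injective
          intro x y h
          exact MulAction.injective c h
        rw [h1]
        exact hH }
  have hP : IsPGroup p (ConjAct G) := IsPGroup.of_card (n := m) hG
  have hfix := IsPGroup.card_modEq_card_fixedPoints hP (α := Ω)
  have e1 : {H : Subgroup G // Nat.card H = p ^ s} ≃ Ω := Equiv.refl _
  have e2 : {H : Subgroup G // H.Normal ∧ Nat.card H = p ^ s} ≃ MulAction.fixedPoints (ConjAct G) Ω :=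
    { toFun := fun H => ⟨⟨H.1, H.2.2⟩, by
        intro c
        apply Subtype.ext
        show c • H.1 = H.1
        haveI := H.2.1
        exact Subgroup.Normal.conjAct (H := H.1) inferInstance c⟩
      invFun := fun x => ⟨x.1.1, by
        refine ⟨?_, x.1.2⟩
        apply Subgroup.Normal.of_conjugate_fixed
        intro g
        have h1 : ConjAct.toConjAct g • x.1 = x.1 := x.2 (ConjAct.toConjAct g)
        exact congrArg Subtype.val h1⟩
      left_inv := fun H => rfl
      right_inv := fun x => rfl }
  rw [Nat.card_congr e2]
  rw [Nat.card_congr e1] at hall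
  exact hfix.symm.trans hall

end Cfsg.Agent.Lib.helper69
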