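import Mathlib

set_option autoImplicit false

namespace Cfsg.Agent.Lib.helper69

open Equiv

variable {α : Type*}

theorem perm_apply_inv_self (f : Perm α) (x : α) : f (f⁻¹ x) = x := Equiv.apply_symm_apply f x

theorem perm_inv_apply_self (f : Perm α) (x : α) : f⁻¹ (f x) = x := Equiv.symm_apply_apply f x

/-- The group of permutations fixing every `x`-orbit and preserving the orbit partition of every
`x ^ 2 ^ i`. -/
def treeGroup (x : Perm α) : Subgroup (Perm α) where
  carrier := {g | (∀ u, x.SameCycle u (g u)) ∧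
    ∀ i u w, (x ^ 2 ^ i).SameCycle (g u) (g w) ↔ (x ^ 2 ^ i).SameCycle u w}
  mul_mem' := by
    rintro g h ⟨hg1, hg2⟩ ⟨hh1, hh2⟩
    refine ⟨fun u => (hh1 u).trans (hg1 (h u)), fun i u w => ?_⟩
    rw [Perm.mul_apply, Perm.mul_apply, hg2, hh2]
  one_mem' := ⟨fun u => Perm.SameCycle.refl _ _, fun i u w => Iff.rfl⟩
  inv_mem' := by
    rintro g ⟨hg1, hg2⟩
    refine ⟨fun u => ?_, fun i u w => ?_⟩
    · have := hg1 (g⁻¹ u)
      rw [perm_apply_inv_self] at this
      exact this.symm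
    · have := hg2 i (g⁻¹ u) (g⁻¹ w)
      rw [perm_apply_inv_self, perm_apply_inv_self] at this
      exact this.symm

theorem mem_treeGroup_iff (x g : Perm α) : g ∈ treeGroup x ↔ (∀ u, x.SameCycle u (g u)) ∧
    ∀ i u w, (x ^ 2 ^ i).SameCycle (g u) (g w) ↔ (x ^ 2 ^ i).SameCycle u w := Iff.rfl

theorem sameCycle_sq_or (y : Perm α) (u w : α) (h : y.SameCycle u w) :
    (y ^ 2).SameCycle u w ∨ (y ^ 2).SameCycle (y u) w := by
  obtain ⟨k, rfl⟩ := h
  rcases Int.even_or_odd' k with ⟨j, rfl | rfl⟩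
  · left
    exact ⟨j, by rw [← zpow_natCast, ← zpow_mul]; norm_num⟩
  · right
    refine ⟨j, ?_⟩
    rw [← zpow_natCast, ← zpow_mul, ← Perm.mul_apply, ← zpow_add_one]
    norm_num

/-- If `g` fixes every `y`-orbit and preserves the `y ^ 2`-orbit partition then `g ^ 2` fixes every
`y ^ 2`-orbit. -/
theorem sameCycle_sq_of_fix (y g : Perm α) (hy : ∀ u, y.SameCycle u (g u))
    (hy2 : ∀ u w, (y ^ 2).SameCycle (g u) (g w) ↔ (y ^ 2).SameCycle u w) (u : α) :
    (y ^ 2).SameCycle u ((g ^ 2) u) := by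
  have e : (g ^ 2) u = g (g u) := by rw [pow_two, Perm.mul_apply]
  rw [e]
  have case1 : (y ^ 2).SameCycle u (g u) → (y ^ 2).SameCycle u (g (g u)) := by
    intro h
    exact h.trans ((hy2 u (g u)).mpr h)
  rcases sameCycle_sq_or y u (g u) (hy u) with h | h
  · exact case1 h
  · rcases sameCycle_sq_or y (y u) (g (y u)) (hy (y u)) with h' | h'
    · have h1 : (y ^ 2).SameCycle (g u) (g (y u)) := h.symm.trans h'
      have h2 : (y ^ 2).SameCycle u (y u) := (hy2 u (y u)).mp h1
      exact case1 (h2.trans h)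
    · have h1 : (y ^ 2).SameCycle u (y (y u)) := ⟨1, by rw [zpow_one, pow_two, Perm.mul_apply]⟩
      have h2 : (y ^ 2).SameCycle (g (y u)) (g (g u)) := (hy2 (y u) (g u)).mpr h
      exact (h1.trans h').trans h2

theorem treeGroup_pow_fix (x g : Perm α) (hg : g ∈ treeGroup x) (i : ℕ) (u : α) :
    (x ^ 2 ^ i).SameCycle u ((g ^ 2 ^ i) u) := by
  induction i generalizing u with
  | zero =>
    rw [pow_zero, pow_one, pow_one]
    exact hg.1 u
  | succ i ih =>
    have hh : g ^ 2 ^ i ∈ treeGroup x := Subgroup.pow_mem _ hg _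
    have e1 : x ^ 2 ^ (i + 1) = (x ^ 2 ^ i) ^ 2 := by rw [← pow_mul, ← pow_succ]
    have e2 : g ^ 2 ^ (i + 1) = (g ^ 2 ^ i) ^ 2 := by rw [← pow_mul, ← pow_succ]
    rw [e1, e2]
    apply sameCycle_sq_of_fix (x ^ 2 ^ i) (g ^ 2 ^ i) ih
    intro u w
    have := hh.2 (i + 1) u w
    rw [e1] at this
    exact this

theorem treeGroup_isPGroup (x : Perm α) (k : ℕ) (hx : x ^ 2 ^ k = 1) : IsPGroup 2 (treeGroup x) := by
  intro g
  refine ⟨k, ?_⟩
  apply Subtype.ext
  show (g : Perm α) ^ 2 ^ k = 1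
  ext u
  have := treeGroup_pow_fix x g g.2 k u
  rw [hx, Perm.sameCycle_one] at this
  rw [Perm.one_apply]
  exact this.symm

theorem sameCycle_of_commute (f z : Perm α) (hc : Commute z f) (a b : α) (h : f.SameCycle a b) :
    f.SameCycle (z a) (z b) := by
  obtain ⟨j, rfl⟩ := h
  refine ⟨j, ?_⟩
  have hc' : Commute z (f ^ j) := hc.zpow_right j
  rw [← Perm.mul_apply, ← Perm.mul_apply, hc'.eq]

theorem self_mem_treeGroup (x : Perm α) : x ∈ treeGroup x := by
  refine ⟨fun u => ⟨1, by rw [zpow_one]⟩, fun i u w => ?_⟩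
  have hc : Commute x (x ^ 2 ^ i) := (Commute.refl x).pow_right _
  constructor
  · intro h
    have := sameCycle_of_commute (x ^ 2 ^ i) x⁻¹ hc.inv_left _ _ h
    rw [perm_inv_apply_self, perm_inv_apply_self] at this
    exact this
  · intro h
    exact sameCycle_of_commute (x ^ 2 ^ i) x hc _ _ h

/-- In a finite `2`-group acting on a set, if the orbit of `u₀` is the orbit of the single element
`y`, then the group preserves the orbits of `y ^ 2` inside this orbit. -/
theorem exists_zpow_sq_smul {G : Type*} [Group G] [Finite G] (hG : IsPGroup 2 G) {β : Type*}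
    [MulAction G β] (y : G) (u₀ : β) (horb : ∀ g : G, ∃ k : ℤ, g • u₀ = y ^ k • u₀)
    (g : G) (k j : ℤ) :
    ∃ j' : ℤ, g • ((y ^ 2) ^ j • (y ^ k • u₀)) = (y ^ 2) ^ j' • (g • (y ^ k • u₀)) := by
  haveI : Fact (Nat.Prime 2) := ⟨Nat.prime_two⟩
  by_cases hSt : MulAction.stabilizer G u₀ = ⊤
  · have hfix : ∀ g : G, g • u₀ = u₀ := fun g => by
      have : g ∈ MulAction.stabilizer G u₀ := by
        rw [hSt]
        trivial
      exact this
    refine ⟨0, ?_⟩
    simp only [smul_smul]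
    rw [hfix, hfix]
  · obtain ⟨e, he⟩ := IsPGroup.iff_card.mp hG
    obtain ⟨d, hd⟩ := IsPGroup.iff_card.mp (hG.to_subgroup (MulAction.stabilizer G u₀))
    have hlt : d < e := by
      have h1 : Nat.card (MulAction.stabilizer G u₀) < Nat.card G := by
        rcases lt_or_eq_of_le (Subgroup.card_le_card_group (MulAction.stabilizer G u₀)) with h | h
        · exact h
        · exact absurd (Subgroup.eq_top_of_card_eq _ h) hSt
      rw [he, hd] at h1
      exact (Nat.pow_lt_pow_iff_right (by norm_num)).mp h1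
    obtain ⟨M, hMcard, hStM⟩ := Sylow.exists_subgroup_card_pow_prime_le 2 (n := d) (m := e - 1)
      (by rw [he]; exact pow_dvd_pow 2 (by omega)) (MulAction.stabilizer G u₀) hd (by omega)
    have hMidx : M.index = 2 := by
      have h1 := M.card_mul_index
      rw [hMcard, he] at h1
      have e1 : 2 ^ e = 2 ^ (e - 1) * 2 := by
        rw [← pow_succ]
        congr 1
        omega
      rw [e1] at h1
      exact Nat.eq_of_mul_eq_mul_left (by positivity) h1
    haveI hMn : M.Normal := Subgroup.normal_of_index_eq_two hMidx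
    have hy2 : y ^ 2 ∈ M := Subgroup.sq_mem_of_index_two hMidx y
    have hyM : y ∉ M := by
      intro hy
      have hMtop : M = ⊤ := by
        rw [eq_top_iff]
        intro g _
        obtain ⟨k, hk⟩ := horb g
        have h1 : (y ^ k)⁻¹ * g ∈ MulAction.stabilizer G u₀ := by
          rw [MulAction.mem_stabilizer_iff, mul_smul, hk, inv_smul_smul]
        have h2 := hStM h1
        have h3 : y ^ k ∈ M := Subgroup.zpow_mem _ hy k
        have := M.mul_mem h3 h2
        rwa [mul_inv_cancel_left] at this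
      rw [hMtop, Subgroup.index_top] at hMidx
      omega
    have hstab : ∀ (k : ℤ) (s : G), s • (y ^ k • u₀) = y ^ k • u₀ → s ∈ M := by
      intro k s hs
      have h1 : (y ^ k)⁻¹ * s * y ^ k ∈ MulAction.stabilizer G u₀ := by
        rw [MulAction.mem_stabilizer_iff, mul_smul, mul_smul, hs, inv_smul_smul]
      have h2 := hStM h1
      have h3 := hMn.conj_mem _ h2 (y ^ k)
      have e : y ^ k * ((y ^ k)⁻¹ * s * y ^ k) * (y ^ k)⁻¹ = s := by group
      rwa [e] at h3
    have hM : ∀ (k : ℤ) (μ : G), μ ∈ M →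
        ∃ j' : ℤ, μ • (y ^ k • u₀) = (y ^ 2) ^ j' • (y ^ k • u₀) := by
      intro k μ hμ
      obtain ⟨l, hl⟩ := horb (μ * y ^ k)
      rw [mul_smul] at hl
      rcases Int.even_or_odd' (l - k) with ⟨j, hj | hj⟩
      · refine ⟨j, ?_⟩
        have e : y ^ l = (y ^ 2) ^ j * y ^ k := by
          rw [← zpow_natCast y 2, ← zpow_mul, ← zpow_add]
          congr 1
          push_cast
          omega
        rw [hl, e, mul_smul]
      · exfalso
        have e : y ^ l = (y ^ 2) ^ j * y * y ^ k := by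
          rw [← zpow_natCast y 2, ← zpow_mul, mul_assoc, ← zpow_one_add, ← zpow_add]
          congr 1
          push_cast
          omega
        have h1 : ((y ^ 2) ^ j * y)⁻¹ * μ ∈ M := by
          apply hstab k
          rw [mul_smul, hl, e, mul_smul, inv_smul_smul]
        have h2 : (y ^ 2) ^ j ∈ M := Subgroup.zpow_mem _ hy2 j
        have h3 : ((y ^ 2) ^ j * y)⁻¹ ∈ M := by
          have := M.mul_mem h1 (M.inv_mem hμ)
          rwa [mul_inv_cancel_right] at this
        have h4 : (y ^ 2) ^ j * y ∈ M := by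
          have := M.inv_mem h3
          rwa [inv_inv] at this
        have h5 : y ∈ M := by
          have := M.mul_mem (M.inv_mem h2) h4
          rwa [inv_mul_cancel_left] at this
        exact hyM h5
    obtain ⟨l, hl⟩ := horb (g * y ^ k)
    rw [mul_smul] at hl
    have hμ : g * (y ^ 2) ^ j * g⁻¹ ∈ M := hMn.conj_mem _ (Subgroup.zpow_mem _ hy2 j) g
    obtain ⟨j', hj'⟩ := hM l _ hμ
    refine ⟨j', ?_⟩
    calc g • ((y ^ 2) ^ j • (y ^ k • u₀))
        = (g * (y ^ 2) ^ j * g⁻¹) • (g • (y ^ k • u₀)) := by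
          simp only [smul_smul]
          congr 1
          group
      _ = (g * (y ^ 2) ^ j * g⁻¹) • (y ^ l • u₀) := by rw [hl]
      _ = (y ^ 2) ^ j' • (y ^ l • u₀) := hj'
      _ = (y ^ 2) ^ j' • (g • (y ^ k • u₀)) := by rw [hl]

/-- Local step: a `2`-group preserving the `y`-orbits preserves the `y ^ 2`-orbits inside any
`y`-orbit it stabilizes. -/
theorem sameCycle_sq_of_mem_pgroup [Finite α] (Q : Subgroup (Perm α)) (hQ : IsPGroup 2 Q)
    (y : Perm α) (hyQ : y ∈ Q)
    (hpres : ∀ σ ∈ Q, ∀ a b, y.SameCycle a b → y.SameCycle (σ a) (σ b))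
    (u₀ : α) (σ : Perm α) (hσ : σ ∈ Q) (hσu : y.SameCycle u₀ (σ u₀)) (w : α)
    (hw : (y ^ 2).SameCycle u₀ w) : (y ^ 2).SameCycle (σ u₀) (σ w) := by
  let QB : Subgroup (Perm α) :=
    { carrier := {τ | τ ∈ Q ∧ y.SameCycle u₀ (τ u₀)}
      mul_mem' := by
        rintro a b ⟨ha, ha'⟩ ⟨hb, hb'⟩
        refine ⟨Q.mul_mem ha hb, ?_⟩
        rw [Perm.mul_apply]
        exact ha'.trans (hpres a ha _ _ hb')
      one_mem' := ⟨Q.one_mem, Perm.SameCycle.refl _ _⟩
      inv_mem' := by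
        rintro a ⟨ha, ha'⟩
        refine ⟨Q.inv_mem ha, ?_⟩
        have := hpres a⁻¹ (Q.inv_mem ha) _ _ ha'
        rw [perm_inv_apply_self] at this
        exact this.symm }
  have hQB : IsPGroup 2 QB := hQ.to_le (fun τ h => h.1)
  let yB : QB := ⟨y, hyQ, ⟨1, by rw [zpow_one]⟩⟩
  have horb : ∀ g : QB, ∃ k : ℤ, g • u₀ = yB ^ k • u₀ := by
    intro g
    obtain ⟨k, hk⟩ := g.2.2
    exact ⟨k, hk.symm⟩
  obtain ⟨j, rfl⟩ := hw
  obtain ⟨j', hj'⟩ := exists_zpow_sq_smul hQB yB u₀ horb ⟨σ, hσ, hσu⟩ 0 j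
  simp only [zpow_zero, one_smul] at hj'
  exact ⟨j', hj'.symm⟩

/-- A `2`-group containing `x` and fixing every `x`-orbit lies in the tree group of `x`. -/
theorem le_treeGroup_of_fix [Finite α] (x : Perm α) (Q : Subgroup (Perm α)) (hQ : IsPGroup 2 Q)
    (hxQ : x ∈ Q) (hfix : ∀ σ ∈ Q, ∀ u, x.SameCycle u (σ u)) : Q ≤ treeGroup x := by
  have key : ∀ i : ℕ, ∀ σ ∈ Q, ∀ u w, (x ^ 2 ^ i).SameCycle u w →
      (x ^ 2 ^ i).SameCycle (σ u) (σ w) := by
    intro i
    induction i with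
    | zero =>
      intro σ hσ u w h
      rw [pow_zero, pow_one] at h ⊢
      exact ((hfix σ hσ u).symm.trans h).trans (hfix σ hσ w)
    | succ i ih =>
      intro σ hσ u w h
      have e1 : x ^ 2 ^ (i + 1) = (x ^ 2 ^ i) ^ 2 := by rw [← pow_mul, ← pow_succ]
      rw [e1] at h ⊢
      obtain ⟨k, hk⟩ := hfix σ hσ u
      have hτQ : (x ^ k)⁻¹ * σ ∈ Q := Q.mul_mem (Q.inv_mem (Q.zpow_mem hxQ k)) hσ
      have hτu : ((x ^ k)⁻¹ * σ) u = u := by
        rw [Perm.mul_apply, ← hk, perm_inv_apply_self]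
      have h1 := sameCycle_sq_of_mem_pgroup Q hQ (x ^ 2 ^ i) (Q.pow_mem hxQ _) ih u
        ((x ^ k)⁻¹ * σ) hτQ (by rw [hτu]) w h
      have hc : Commute (x ^ k) ((x ^ 2 ^ i) ^ 2) :=
        (((Commute.refl x).zpow_left k).pow_right (2 ^ i)).pow_right 2
      have h2 := sameCycle_of_commute _ (x ^ k) hc _ _ h1
      rw [Perm.mul_apply, Perm.mul_apply, perm_apply_inv_self, perm_apply_inv_self] at h2
      exact h2
  intro σ hσ
  refine ⟨hfix σ hσ, fun i u w => ⟨fun h => ?_, key i σ hσ u w⟩⟩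
  have := key i σ⁻¹ (Q.inv_mem hσ) _ _ h
  rwa [perm_inv_apply_self, perm_inv_apply_self] at this

theorem sameCycle_sq_le [Finite α] (y y' : Perm α) (hfix : ∀ u, y'.SameCycle u (y u))
    (hpres : ∀ u w, (y' ^ 2).SameCycle (y u) (y w) ↔ (y' ^ 2).SameCycle u w)
    (u w : α) (h : (y ^ 2).SameCycle u w) : (y' ^ 2).SameCycle u w := by
  have h1 : ∀ v, (y' ^ 2).SameCycle v ((y ^ 2) v) := sameCycle_sq_of_fix y' y hfix hpres
  have h2 : ∀ n : ℕ, (y' ^ 2).SameCycle u (((y ^ 2) ^ n) u) := by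
    intro n
    induction n with
    | zero =>
      rw [pow_zero]
      exact Perm.SameCycle.refl _ _
    | succ n ih =>
      have e : ((y ^ 2) ^ (n + 1)) u = (y ^ 2) (((y ^ 2) ^ n) u) := by
        rw [pow_succ', Perm.mul_apply]
      rw [e]
      exact ih.trans (h1 _)
  obtain ⟨n, rfl⟩ := h.exists_nat_pow_eq
  exact h2 n

theorem sameCycle_pow_iff_of_mem_treeGroup [Finite α] (x x' : Perm α) (h1 : x' ∈ treeGroup x)
    (h2 : x ∈ treeGroup x') (h0 : ∀ u w, x.SameCycle u w ↔ x'.SameCycle u w) (i : ℕ) :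
    ∀ u w, (x ^ 2 ^ i).SameCycle u w ↔ (x' ^ 2 ^ i).SameCycle u w := by
  induction i with
  | zero =>
    intro u w
    rw [pow_zero, pow_one, pow_one]
    exact h0 u w
  | succ i ih =>
    intro u w
    have e1 : x ^ 2 ^ (i + 1) = (x ^ 2 ^ i) ^ 2 := by rw [← pow_mul, ← pow_succ]
    have e2 : x' ^ 2 ^ (i + 1) = (x' ^ 2 ^ i) ^ 2 := by rw [← pow_mul, ← pow_succ]
    have m1 : x' ^ 2 ^ i ∈ treeGroup x := Subgroup.pow_mem _ h1 _
    have m2 : x ^ 2 ^ i ∈ treeGroup x' := Subgroup.pow_mem _ h2 _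
    rw [e1, e2]
    constructor
    · apply sameCycle_sq_le (x ^ 2 ^ i) (x' ^ 2 ^ i)
      · intro v
        rw [← ih]
        exact ⟨1, by rw [zpow_one]⟩
      · intro v v'
        have := m2.2 (i + 1) v v'
        rw [e2] at this
        exact this
    · apply sameCycle_sq_le (x' ^ 2 ^ i) (x ^ 2 ^ i)
      · intro v
        rw [ih]
        exact ⟨1, by rw [zpow_one]⟩
      · intro v v'
        have := m1.2 (i + 1) v v'
        rw [e1] at this
        exact this

theorem mem_treeGroup_conj_iff (c g σ : Perm α) :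
    σ ∈ treeGroup (g * c * g⁻¹) ↔ g⁻¹ * σ * g ∈ treeGroup c := by
  simp only [mem_treeGroup_iff, conj_pow, Perm.sameCycle_conj, Perm.mul_apply]
  constructor
  · rintro ⟨a, b⟩
    refine ⟨fun u => ?_, fun i u w => ?_⟩
    · have := a (g u)
      rwa [perm_inv_apply_self] at this
    · have := b i (g u) (g w)
      rwa [perm_inv_apply_self, perm_inv_apply_self] at this
  · rintro ⟨a, b⟩
    refine ⟨fun u => ?_, fun i u w => ?_⟩
    · have := a (g⁻¹ u)
      rwa [perm_apply_inv_self] at this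
    · have := b i (g⁻¹ u) (g⁻¹ w)
      rwa [perm_apply_inv_self, perm_apply_inv_self] at this

/-- The tree group of a full cycle is self-normalizing. -/
theorem normalizer_treeGroup_le [Finite α] (c : Perm α) (hfull : ∀ u w, c.SameCycle u w) :
    Subgroup.normalizer (treeGroup c : Set (Perm α)) ≤ treeGroup c := by
  intro g hg
  rw [Subgroup.mem_normalizer_iff] at hg
  have hc := self_mem_treeGroup c
  have h1 : g * c * g⁻¹ ∈ treeGroup c := (hg c).mp hc
  have h2 : c ∈ treeGroup (g * c * g⁻¹) := by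
    rw [mem_treeGroup_conj_iff]
    apply (hg (g⁻¹ * c * g)).mpr
    have e : g * (g⁻¹ * c * g) * g⁻¹ = c := by group
    rw [e]
    exact hc
  have h0 : ∀ u w, c.SameCycle u w ↔ (g * c * g⁻¹).SameCycle u w := by
    intro u w
    rw [Perm.sameCycle_conj]
    exact ⟨fun _ => hfull _ _, fun _ => hfull _ _⟩
  have key := sameCycle_pow_iff_of_mem_treeGroup c (g * c * g⁻¹) h1 h2 h0
  refine ⟨fun u => hfull _ _, fun i u w => ?_⟩
  rw [key i (g u) (g w), conj_pow, Perm.sameCycle_conj, perm_inv_apply_self, perm_inv_apply_self]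

/-- Every `2`-group containing a full cycle lies in its tree group. -/
theorem le_treeGroup_of_full [Finite α] (c : Perm α) (hfull : ∀ u w, c.SameCycle u w)
    (Q : Subgroup (Perm α)) (hQ : IsPGroup 2 Q) (hcQ : c ∈ Q) : Q ≤ treeGroup c :=
  le_treeGroup_of_fix c Q hQ hcQ (fun _ _ u => hfull u _)

end Cfsg.Agent.Lib.helper69
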