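import Mathlib
import Cfsg.Agent.Lib.helper69.SylTree

set_option autoImplicit false

namespace Cfsg.Agent.Lib.helper69

open Equiv

/-- A proper subgroup of a finite `2`-group lies in a subgroup of index `2`. -/
theorem exists_index_two_of_ne_top {G : Type*} [Group G] [Finite G] (hG : IsPGroup 2 G)
    (St : Subgroup G) (hSt : St ≠ ⊤) : ∃ M : Subgroup G, St ≤ M ∧ M.index = 2 := by
  haveI : Fact (Nat.Prime 2) := ⟨Nat.prime_two⟩
  obtain ⟨e, he⟩ := IsPGroup.iff_card.mp hG
  obtain ⟨d, hd⟩ := IsPGroup.iff_card.mp (hG.to_subgroup St)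
  have hlt : d < e := by
    have h1 : Nat.card St < Nat.card G := by
      rcases lt_or_eq_of_le (Subgroup.card_le_card_group St) with h | h
      · exact h
      · exact absurd (Subgroup.eq_top_of_card_eq _ h) hSt
    rw [he, hd] at h1
    exact (Nat.pow_lt_pow_iff_right (by norm_num)).mp h1
  obtain ⟨M, hMcard, hStM⟩ := Sylow.exists_subgroup_card_pow_prime_le 2 (n := d) (m := e - 1)
    (by rw [he]; exact pow_dvd_pow 2 (by omega)) St hd (by omega)
  refine ⟨M, hStM, ?_⟩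
  have h1 := M.card_mul_index
  rw [hMcard, he] at h1
  have e1 : 2 ^ e = 2 ^ (e - 1) * 2 := by
    rw [← pow_succ]
    congr 1
    omega
  rw [e1] at h1
  exact Nat.eq_of_mul_eq_mul_left (by positivity) h1

/-- Existence of a full cycle of `2`-power order on a type with `2 ^ a` elements. -/
theorem exists_full_cycle {β : Type*} [Finite β] (a : ℕ) (hβ : Nat.card β = 2 ^ a) :
    ∃ c : Perm β, (∀ u w, c.SameCycle u w) ∧ c ^ 2 ^ a = 1 := by
  classical
  haveI : Fintype β := Fintype.ofFinite β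
  have hβ' : Fintype.card β = 2 ^ a := by
    rw [← Nat.card_eq_fintype_card]
    exact hβ
  let e : β ≃ Fin (2 ^ a) := Fintype.equivFinOfCardEq hβ'
  have hf : (∀ p q : Fin (2 ^ a), (finRotate (2 ^ a)).SameCycle p q) ∧
      (finRotate (2 ^ a)) ^ 2 ^ a = 1 := by
    rcases Nat.lt_or_ge (2 ^ a) 2 with h | h
    · have h1 : 2 ^ a = 1 := by
        have := Nat.one_le_two_pow (n := a)
        omega
      haveI : Subsingleton (Fin (2 ^ a)) := by
        rw [h1]
        infer_instance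
      refine ⟨fun p q => ?_, Perm.ext (fun x => Subsingleton.elim _ _)⟩
      rw [Subsingleton.elim p q]
    · have hc := isCycle_finRotate_of_le h
      have hs := support_finRotate_of_le h
      refine ⟨fun p q => hc.sameCycle ?_ ?_, ?_⟩
      · rw [← Perm.mem_support, hs]
        exact Finset.mem_univ _
      · rw [← Perm.mem_support, hs]
        exact Finset.mem_univ _
      · have ho : orderOf (finRotate (2 ^ a)) = 2 ^ a := by
          rw [hc.orderOf, hs, Finset.card_univ, Fintype.card_fin]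
        have := pow_orderOf_eq_one (finRotate (2 ^ a))
        rw [ho] at this
        exact this
  refine ⟨e.symm.permCongrHom (finRotate (2 ^ a)), ?_, ?_⟩
  · intro u w
    obtain ⟨i, hi⟩ := hf.1 (e u) (e w)
    refine ⟨i, ?_⟩
    rw [← map_zpow]
    show e.symm ((finRotate (2 ^ a) ^ i) (e u)) = w
    rw [hi, Equiv.symm_apply_apply]
  · rw [← map_pow, hf.2, map_one]

theorem exists_sylow_eq_treeGroup {β : Type*} [Finite β] (c : Perm β)
    (hfull : ∀ u w, c.SameCycle u w) (a : ℕ) (hc : c ^ 2 ^ a = 1) :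
    ∃ S : Sylow 2 (Perm β), (S : Subgroup (Perm β)) = treeGroup c := by
  obtain ⟨S, hS⟩ := (treeGroup_isPGroup c a hc).exists_le_sylow
  exact ⟨S, le_antisymm
    (le_treeGroup_of_full c hfull S S.isPGroup' (hS (self_mem_treeGroup c))) hS⟩

/-- Sylow `2`-subgroups of the symmetric group on `2 ^ a` points are self-normalizing. -/
theorem sylow_two_normalizer_le {β : Type*} [Finite β] (a : ℕ) (hβ : Nat.card β = 2 ^ a)
    (S : Sylow 2 (Perm β)) :
    Subgroup.normalizer ((S : Subgroup (Perm β)) : Set (Perm β)) ≤ S := by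
  haveI : Fact (Nat.Prime 2) := ⟨Nat.prime_two⟩
  obtain ⟨c, hfull, hc⟩ := exists_full_cycle a hβ
  obtain ⟨S₀, hS₀⟩ := exists_sylow_eq_treeGroup c hfull a hc
  obtain ⟨g, hg⟩ := MulAction.exists_smul_eq (Perm β) S₀ S
  have hS : ∀ σ, σ ∈ (S : Subgroup (Perm β)) ↔ g⁻¹ * σ * g ∈ (S₀ : Subgroup (Perm β)) := by
    intro σ
    rw [← hg, Sylow.coe_subgroup_smul, Subgroup.mem_pointwise_smul_iff_inv_smul_mem]
    simp [MulAut.smul_def, mul_assoc]
  intro n hn
  rw [Subgroup.mem_normalizer_iff] at hn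
  rw [hS]
  have hN : g⁻¹ * n * g ∈ Subgroup.normalizer ((S₀ : Subgroup (Perm β)) : Set (Perm β)) := by
    rw [Subgroup.mem_normalizer_iff]
    intro h
    have h1 := hS (g * h * g⁻¹)
    have h2 := hS (n * (g * h * g⁻¹) * n⁻¹)
    have e1 : g⁻¹ * (g * h * g⁻¹) * g = h := by group
    have e2 : g⁻¹ * (n * (g * h * g⁻¹) * n⁻¹) * g = g⁻¹ * n * g * h * (g⁻¹ * n * g)⁻¹ := by group
    rw [e1] at h1
    rw [e2] at h2
    rw [← h1, ← h2]
    exact hn _
  rw [hS₀] at hN ⊢
  exact normalizer_treeGroup_le c hfull hN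

section Young

variable {α : Type*} (p : α → Prop) [DecidablePred p]

theorem subtypeCongrHom_subtypePerm (σ : Perm α) (h : ∀ a, p (σ a) ↔ p a) :
    Perm.subtypeCongrHom p (σ.subtypePerm h,
      σ.subtypePerm (p := fun a => ¬ p a) (fun a => not_congr (h a))) = σ := by
  ext x
  show (Perm.subtypeCongr _ _) x = σ x
  by_cases hx : p x
  · rw [Perm.subtypeCongr.left_apply _ _ hx]
    rfl
  · rw [Perm.subtypeCongr.right_apply _ _ hx]
    rfl

theorem subtypeCongrHom_apply_iff (a : Perm {a // p a}) (b : Perm {a // ¬ p a}) (x : α) :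
    p (Perm.subtypeCongrHom p (a, b) x) ↔ p x := by
  show p ((Perm.subtypeCongr a b) x) ↔ p x
  by_cases hx : p x
  · rw [Perm.subtypeCongr.left_apply _ _ hx]
    exact ⟨fun _ => hx, fun _ => (a ⟨x, hx⟩).2⟩
  · rw [Perm.subtypeCongr.right_apply _ _ hx]
    exact ⟨fun h => absurd h (b ⟨x, hx⟩).2, fun h => absurd h hx⟩

theorem isPGroup_map_prod {G₁ G₂ G : Type*} [Group G₁] [Group G₂] [Group G] (A : Subgroup G₁)
    (B : Subgroup G₂) (hA : IsPGroup 2 A) (hB : IsPGroup 2 B) (φ : G₁ × G₂ →* G) :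
    IsPGroup 2 ((A.prod B).map φ) := by
  apply IsPGroup.map
  rintro ⟨⟨a, b⟩, ha, hb⟩
  obtain ⟨k, hk⟩ := hA ⟨a, ha⟩
  obtain ⟨l, hl⟩ := hB ⟨b, hb⟩
  refine ⟨k + l, Subtype.ext (Prod.ext ?_ ?_)⟩
  · show a ^ 2 ^ (k + l) = 1
    have : a ^ 2 ^ k = 1 := congrArg Subtype.val hk
    rw [pow_add, pow_mul, this, one_pow]
  · show b ^ 2 ^ (k + l) = 1
    have : b ^ 2 ^ l = 1 := congrArg Subtype.val hl
    rw [pow_add, mul_comm, pow_mul, this, one_pow]

/-- A `2`-group containing `x` and preserving `p` lies in the product of two dominating groups. -/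
theorem le_map_prod_of_dom (x : Perm α) (hx : ∀ a, p (x a) ↔ p a)
    (WU : Subgroup (Perm {a // p a})) (WR : Subgroup (Perm {a // ¬ p a}))
    (hWU : ∀ Q : Subgroup (Perm {a // p a}), IsPGroup 2 Q → x.subtypePerm hx ∈ Q → Q ≤ WU)
    (hWR : ∀ Q : Subgroup (Perm {a // ¬ p a}), IsPGroup 2 Q →
      x.subtypePerm (p := fun a => ¬ p a) (fun a => not_congr (hx a)) ∈ Q → Q ≤ WR)
    (Q : Subgroup (Perm α)) (hQ : IsPGroup 2 Q) (hxQ : x ∈ Q)
    (hpres : ∀ σ ∈ Q, ∀ a, p (σ a) ↔ p a) :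
    Q ≤ (WU.prod WR).map (Perm.subtypeCongrHom p) := by
  have hinj : Function.Injective (Perm.subtypeCongrHom p) := Perm.subtypeCongrHom_injective p
  have hQ' : IsPGroup 2 (Q.comap (Perm.subtypeCongrHom p)) := hQ.comap_of_injective _ hinj
  have hA : IsPGroup 2 ((Q.comap (Perm.subtypeCongrHom p)).map (MonoidHom.fst _ _)) := hQ'.map _
  have hB : IsPGroup 2 ((Q.comap (Perm.subtypeCongrHom p)).map (MonoidHom.snd _ _)) := hQ'.map _
  have hx' : (x.subtypePerm hx, x.subtypePerm (p := fun a => ¬ p a) (fun a => not_congr (hx a))) ∈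
      Q.comap (Perm.subtypeCongrHom p) := by
    rw [Subgroup.mem_comap, subtypeCongrHom_subtypePerm]
    exact hxQ
  have hA' := hWU _ hA ⟨_, hx', rfl⟩
  have hB' := hWR _ hB ⟨_, hx', rfl⟩
  intro σ hσ
  have hσ' := subtypeCongrHom_subtypePerm p σ (hpres σ hσ)
  have hmem : (σ.subtypePerm (hpres σ hσ),
      σ.subtypePerm (p := fun a => ¬ p a) (fun a => not_congr (hpres σ hσ a))) ∈
      Q.comap (Perm.subtypeCongrHom p) := by
    rw [Subgroup.mem_comap, hσ']
    exact hσ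
  exact ⟨_, ⟨hA' ⟨_, hmem, rfl⟩, hB' ⟨_, hmem, rfl⟩⟩, hσ'⟩

/-- An element preserving `p` and normalizing a product of self-normalizing groups lies in it. -/
theorem mem_map_prod_of_normalizes (WU : Subgroup (Perm {a // p a}))
    (WR : Subgroup (Perm {a // ¬ p a}))
    (hNU : Subgroup.normalizer (WU : Set (Perm {a // p a})) ≤ WU)
    (hNR : Subgroup.normalizer (WR : Set (Perm {a // ¬ p a})) ≤ WR)
    (h : Perm α) (hp : ∀ a, p (h a) ↔ p a)
    (hn : ∀ σ ∈ (WU.prod WR).map (Perm.subtypeCongrHom p),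
      h * σ * h⁻¹ ∈ (WU.prod WR).map (Perm.subtypeCongrHom p))
    (hn' : ∀ σ ∈ (WU.prod WR).map (Perm.subtypeCongrHom p),
      h⁻¹ * σ * h ∈ (WU.prod WR).map (Perm.subtypeCongrHom p)) :
    h ∈ (WU.prod WR).map (Perm.subtypeCongrHom p) := by
  have hinj : Function.Injective (Perm.subtypeCongrHom p) := Perm.subtypeCongrHom_injective p
  obtain ⟨hU, hR, he⟩ : ∃ hU hR, Perm.subtypeCongrHom p (hU, hR) = h :=
    ⟨_, _, subtypeCongrHom_subtypePerm p h hp⟩
  subst he
  have key : ∀ (z : Perm {a // p a} × Perm {a // ¬ p a}),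
      Perm.subtypeCongrHom p z ∈ (WU.prod WR).map (Perm.subtypeCongrHom p) →
      z.1 ∈ WU ∧ z.2 ∈ WR := by
    rintro z ⟨z', hz', hzz⟩
    have := hinj hzz
    rw [← this]
    exact hz'
  have hUn : hU ∈ Subgroup.normalizer (WU : Set (Perm {a // p a})) := by
    rw [Subgroup.mem_normalizer_iff]
    intro a
    constructor
    · intro ha
      have h1 := hn (Perm.subtypeCongrHom p (a, 1)) ⟨(a, 1), ⟨ha, WR.one_mem⟩, rfl⟩
      rw [← map_inv, ← map_mul, ← map_mul] at h1
      exact (key _ h1).1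
    · intro ha
      have h1 := hn' (Perm.subtypeCongrHom p (hU * a * hU⁻¹, 1))
        ⟨(hU * a * hU⁻¹, 1), ⟨ha, WR.one_mem⟩, rfl⟩
      rw [← map_inv, ← map_mul, ← map_mul] at h1
      have h2 := (key _ h1).1
      have e : ((hU, hR)⁻¹ * (hU * a * hU⁻¹, 1) * (hU, hR)).1 = a := by
        show hU⁻¹ * (hU * a * hU⁻¹) * hU = a
        group
      rw [e] at h2
      exact h2
  have hRn : hR ∈ Subgroup.normalizer (WR : Set (Perm {a // ¬ p a})) := by
    rw [Subgroup.mem_normalizer_iff]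
    intro b
    constructor
    · intro hb
      have h1 := hn (Perm.subtypeCongrHom p (1, b)) ⟨(1, b), ⟨WU.one_mem, hb⟩, rfl⟩
      rw [← map_inv, ← map_mul, ← map_mul] at h1
      exact (key _ h1).2
    · intro hb
      have h1 := hn' (Perm.subtypeCongrHom p (1, hR * b * hR⁻¹))
        ⟨(1, hR * b * hR⁻¹), ⟨WU.one_mem, hb⟩, rfl⟩
      rw [← map_inv, ← map_mul, ← map_mul] at h1
      have h2 := (key _ h1).2
      have e : ((hU, hR)⁻¹ * (1, hR * b * hR⁻¹) * (hU, hR)).2 = b := by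
        show hR⁻¹ * (hR * b * hR⁻¹) * hR = b
        group
      rw [e] at h2
      exact h2
  exact ⟨(hU, hR), ⟨hNU hUn, hNR hRn⟩, rfl⟩

end Young

end Cfsg.Agent.Lib.helper69
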