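import Mathlib
import Cfsg.Agent.Lib.helper69.SylTree2
import Cfsg.Agent.Lib.helper69.NilpSym

set_option autoImplicit false

namespace Cfsg.Agent.Lib.helper69

open Equiv

/-- A transitive finite `2`-group action has a system of two blocks. -/
theorem exists_block_of_transitive {G : Type*} [Group G] [Finite G] (hG : IsPGroup 2 G)
    {β : Type*} [Finite β] [MulAction G β] (u₀ : β) (htr : ∀ w : β, ∃ g : G, g • u₀ = w)
    (hne : ∃ w : β, w ≠ u₀) :
    ∃ B : Set β, u₀ ∈ B ∧ 2 * B.ncard = Nat.card β ∧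
      (∀ g : G, (∀ w, g • w ∈ B ↔ w ∈ B) ∨ (∀ w, g • w ∈ B ↔ w ∉ B)) ∧
      (∀ (g : G) (w : β), g • w = w → ∀ w', g • w' ∈ B ↔ w' ∈ B) := by
  have hSt : MulAction.stabilizer G u₀ ≠ ⊤ := by
    intro h
    obtain ⟨w, hw⟩ := hne
    obtain ⟨g, hg⟩ := htr w
    have h1 : g ∈ MulAction.stabilizer G u₀ := by
      rw [h]
      trivial
    have h2 : g • u₀ = u₀ := h1
    rw [h2] at hg
    exact hw hg.symm
  obtain ⟨M, hStM, hMidx⟩ := exists_index_two_of_ne_top hG _ hSt
  haveI hMn : M.Normal := Subgroup.normal_of_index_eq_two hMidx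
  have key : ∀ τ : G, (∃ τ' ∈ M, τ' • u₀ = τ • u₀) ↔ τ ∈ M := by
    intro τ
    constructor
    · rintro ⟨τ', hτ', h⟩
      have h1 : τ'⁻¹ * τ ∈ MulAction.stabilizer G u₀ := by
        rw [MulAction.mem_stabilizer_iff, mul_smul, ← h, inv_smul_smul]
      have := M.mul_mem hτ' (hStM h1)
      rwa [mul_inv_cancel_left] at this
    · intro h
      exact ⟨τ, h, rfl⟩
  let B : Set β := {w | ∃ τ ∈ M, τ • u₀ = w}
  have hpres : ∀ g ∈ M, ∀ w, g • w ∈ B ↔ w ∈ B := by
    intro g hg w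
    obtain ⟨τ, rfl⟩ := htr w
    show (∃ τ' ∈ M, τ' • u₀ = g • τ • u₀) ↔ (∃ τ' ∈ M, τ' • u₀ = τ • u₀)
    rw [← mul_smul, key, key]
    exact M.mul_mem_cancel_left hg
  have hswap : ∀ g, g ∉ M → ∀ w, g • w ∈ B ↔ w ∉ B := by
    intro g hg w
    obtain ⟨τ, rfl⟩ := htr w
    show (∃ τ' ∈ M, τ' • u₀ = g • τ • u₀) ↔ ¬ (∃ τ' ∈ M, τ' • u₀ = τ • u₀)
    rw [← mul_smul, key, key, Subgroup.mul_mem_iff_of_index_two hMidx]
    tauto
  refine ⟨B, ⟨1, M.one_mem, one_smul _ _⟩, ?_, ?_, ?_⟩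
  · obtain ⟨g₁, hg₁⟩ : ∃ g₁ : G, g₁ ∉ M := by
      by_contra hcon
      push Not at hcon
      have : M = ⊤ := by
        rw [eq_top_iff]
        intro g _
        exact hcon g
      rw [this, Subgroup.index_top] at hMidx
      omega
    have hBc : Bᶜ = (fun w => g₁ • w) '' B := by
      ext w
      constructor
      · intro hw
        refine ⟨g₁⁻¹ • w, ?_, smul_inv_smul g₁ w⟩
        by_contra hcon
        have := (hswap g₁ hg₁ (g₁⁻¹ • w)).mpr hcon
        rw [smul_inv_smul] at this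
        exact hw this
      · rintro ⟨w', hw', rfl⟩
        intro hcon
        exact (hswap g₁ hg₁ w').mp hcon hw'
    have h1 : Bᶜ.ncard = B.ncard := by
      rw [hBc]
      exact Set.ncard_image_of_injective B (MulAction.injective g₁)
    have h2 := Set.ncard_add_ncard_compl B
    rw [h1] at h2
    omega
  · intro g
    by_cases hg : g ∈ M
    · exact Or.inl (hpres g hg)
    · exact Or.inr (hswap g hg)
  · intro g w hw
    obtain ⟨τ, rfl⟩ := htr w
    have h1 : τ⁻¹ * g * τ ∈ MulAction.stabilizer G u₀ := by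
      rw [MulAction.mem_stabilizer_iff, mul_smul, mul_smul, hw, inv_smul_smul]
    have h2 := hMn.conj_mem _ (hStM h1) τ
    have e : τ * (τ⁻¹ * g * τ) * τ⁻¹ = g := by group
    rw [e] at h2
    exact hpres g h2

/-- A `2`-group containing `x` either preserves a large `x`-cycle or swaps it with its
complement. -/
theorem pgroup_preserves_or_swaps {α : Type*} [Finite α] (Q : Subgroup (Perm α))
    (hQ : IsPGroup 2 Q) (x : Perm α) (hxQ : x ∈ Q) (u₀ : α) (a : ℕ)
    (hm : Nat.card {w // x.SameCycle u₀ w} = 2 ^ a) (hcard : Nat.card α ≤ 2 * 2 ^ a)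
    (hfp : Nat.card α = 2 * 2 ^ a → ∃ p₀, x p₀ = p₀) :
    (∀ σ ∈ Q, ∀ w, x.SameCycle u₀ (σ w) ↔ x.SameCycle u₀ w) ∨
    (Nat.card α = 2 * 2 ^ a ∧ ∀ σ ∈ Q, (∀ w, x.SameCycle u₀ (σ w) ↔ x.SameCycle u₀ w) ∨
      (∀ w, x.SameCycle u₀ (σ w) ↔ ¬ x.SameCycle u₀ w)) := by
  haveI : Fact (Nat.Prime 2) := ⟨Nat.prime_two⟩
  let U : Set α := {w | x.SameCycle u₀ w}
  let O : Set α := MulAction.orbit Q u₀
  have hzpow : ∀ i : ℤ, ((⟨x, hxQ⟩ : Q) ^ i) • u₀ = (x ^ i) u₀ := by
    intro i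
    show (((⟨x, hxQ⟩ : Q) ^ i : Q) : Perm α) u₀ = (x ^ i) u₀
    rw [Subgroup.coe_zpow]
  have hUO : U ⊆ O := by
    rintro w ⟨i, rfl⟩
    exact ⟨(⟨x, hxQ⟩ : Q) ^ i, hzpow i⟩
  have hUcard : U.ncard = 2 ^ a := by
    rw [← Nat.card_coe_set_eq]
    exact hm
  obtain ⟨e, he⟩ := hQ.card_orbit u₀
  have hOcard : O.ncard = 2 ^ e := by
    rw [← Nat.card_coe_set_eq]
    exact he
  have h1 : 2 ^ a ≤ 2 ^ e := by
    rw [← hUcard, ← hOcard]
    exact Set.ncard_le_ncard hUO
  have h2 : 2 ^ e ≤ Nat.card α := by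
    rw [← hOcard, ← Set.ncard_univ]
    exact Set.ncard_le_ncard (Set.subset_univ _)
  have hae : a ≤ e := (Nat.pow_le_pow_iff_right (by norm_num)).mp h1
  have hea : e ≤ a + 1 := by
    have : 2 ^ e ≤ 2 ^ (a + 1) := by
      rw [pow_succ]
      omega
    exact (Nat.pow_le_pow_iff_right (by norm_num)).mp this
  have hmemO : ∀ σ ∈ Q, ∀ w, σ w ∈ O ↔ w ∈ O := by
    intro σ hσ w
    constructor
    · rintro ⟨τ, hτ⟩
      have hτ' : τ • u₀ = σ w := hτ
      refine ⟨(⟨σ, hσ⟩ : Q)⁻¹ * τ, ?_⟩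
      show ((⟨σ, hσ⟩ : Q)⁻¹ * τ) • u₀ = w
      rw [mul_smul, hτ']
      show σ⁻¹ (σ w) = w
      exact perm_inv_apply_self σ w
    · rintro ⟨τ, rfl⟩
      exact ⟨(⟨σ, hσ⟩ : Q) * τ, mul_smul _ _ _⟩
  rcases Nat.lt_or_ge a e with hlt | hge
  · have hea' : e = a + 1 := by omega
    subst hea'
    have hcα : Nat.card α = 2 * 2 ^ a := by
      rw [pow_succ] at h2
      omega
    right
    refine ⟨hcα, ?_⟩
    have hOuniv : O = Set.univ := by
      apply Set.eq_of_subset_of_ncard_le (Set.subset_univ _)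
      rw [Set.ncard_univ, hOcard, hcα, pow_succ]
      omega
    have htr : ∀ w : α, ∃ g : Q, g • u₀ = w := by
      intro w
      have : w ∈ O := by
        rw [hOuniv]
        trivial
      exact this
    have hne : ∃ w : α, w ≠ u₀ := by
      haveI : Nontrivial α := by
        rw [← Finite.one_lt_card_iff_nontrivial, hcα]
        have := Nat.one_le_two_pow (n := a)
        omega
      exact exists_ne u₀
    obtain ⟨B, hu₀B, hBcard, hB3, hB4⟩ := exists_block_of_transitive hQ u₀ htr hne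
    obtain ⟨p₀, hp₀⟩ := hfp hcα
    have hUB : U ⊆ B := by
      rintro w ⟨i, rfl⟩
      have h3 := hB4 ((⟨x, hxQ⟩ : Q) ^ i) p₀ (by
        show (((⟨x, hxQ⟩ : Q) ^ i : Q) : Perm α) p₀ = p₀
        rw [Subgroup.coe_zpow]
        exact Perm.zpow_apply_eq_self_of_apply_eq_self hp₀ i) u₀
      have h4 := h3.mpr hu₀B
      rw [hzpow i] at h4
      exact h4
    have hUeqB : U = B := by
      apply Set.eq_of_subset_of_ncard_le hUB
      rw [hUcard]
      omega
    intro σ hσ
    rcases hB3 ⟨σ, hσ⟩ with h | h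
    · left
      intro w
      have := h w
      rw [← hUeqB] at this
      exact this
    · right
      intro w
      have := h w
      rw [← hUeqB] at this
      exact this
  · have hea' : e = a := by omega
    subst hea'
    left
    have hUeqO : U = O := by
      apply Set.eq_of_subset_of_ncard_le hUO
      rw [hUcard, hOcard]
    intro σ hσ w
    have := hmemO σ hσ w
    rw [← hUeqO] at this
    exact this

theorem isPGroup_zpowers {G : Type*} [Group G] (x : G) (k : ℕ) (hx : x ^ 2 ^ k = 1) :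
    IsPGroup 2 (Subgroup.zpowers x) := by
  rintro ⟨g, hg⟩
  obtain ⟨i, rfl⟩ := Subgroup.mem_zpowers_iff.mp hg
  refine ⟨k, Subtype.ext ?_⟩
  show (x ^ i) ^ 2 ^ k = 1
  rw [← zpow_natCast, ← zpow_mul, mul_comm, zpow_mul, zpow_natCast, hx, one_zpow]

theorem card_sameCycle_eq_card_orbit {α : Type*} (x : Perm α) (u : α) :
    Nat.card {v // x.SameCycle u v} = Nat.card (MulAction.orbit (Subgroup.zpowers x) u) := by
  apply Nat.card_congr
  apply Equiv.subtypeEquivRight
  intro v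
  constructor
  · rintro ⟨i, rfl⟩
    exact ⟨⟨x ^ i, Subgroup.zpow_mem_zpowers x i⟩, rfl⟩
  · rintro ⟨⟨g, hg⟩, rfl⟩
    obtain ⟨i, rfl⟩ := Subgroup.mem_zpowers_iff.mp hg
    exact ⟨i, rfl⟩

theorem card_sameCycle_two_pow {α : Type*} [Finite α] (x : Perm α) (k : ℕ) (hx : x ^ 2 ^ k = 1)
    (u : α) : ∃ a, Nat.card {v // x.SameCycle u v} = 2 ^ a := by
  haveI : Fact (Nat.Prime 2) := ⟨Nat.prime_two⟩
  obtain ⟨a, ha⟩ := (isPGroup_zpowers x k hx).card_orbit u
  exact ⟨a, by rw [card_sameCycle_eq_card_orbit, ha]⟩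

theorem card_sameCycle_eq_one_iff {α : Type*} [Finite α] (x : Perm α) (u : α) :
    Nat.card {v // x.SameCycle u v} = 1 ↔ x u = u := by
  constructor
  · intro h
    have hs : Subsingleton {v // x.SameCycle u v} := (Nat.card_eq_one_iff_unique.mp h).1
    have := hs.elim ⟨x u, ⟨1, by rw [zpow_one]⟩⟩ ⟨u, Perm.SameCycle.refl _ _⟩
    exact congrArg Subtype.val this
  · intro h
    rw [Nat.card_eq_one_iff_unique]
    refine ⟨⟨?_⟩, ⟨⟨u, Perm.SameCycle.refl _ _⟩⟩⟩
    rintro ⟨v, i, rfl⟩ ⟨w, j, rfl⟩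
    apply Subtype.ext
    show (x ^ i) u = (x ^ j) u
    rw [Perm.zpow_apply_eq_self_of_apply_eq_self h, Perm.zpow_apply_eq_self_of_apply_eq_self h]

theorem pow_apply_eq_self_iff {α : Type*} [Finite α] (x : Perm α) (u : α) (k : ℕ) :
    (x ^ k) u = u ↔ Nat.card {v // x.SameCycle u v} ∣ k := by
  classical
  haveI : Fintype (MulAction.orbit (Subgroup.zpowers x) u) := Fintype.ofFinite _
  rw [card_sameCycle_eq_card_orbit, Nat.card_eq_fintype_card, ← MulAction.minimalPeriod_eq_card,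
    ← MulAction.pow_smul_eq_iff_minimalPeriod_dvd]
  rfl

/-- Counting lemma: the complement of a longest cycle of a good `2`-element is no larger than the
cycle, with equality only if there is a fixed point. -/
theorem card_compl_cycle_le {α : Type*} [Finite α] (x : Perm α) (k : ℕ) (hx : x ^ 2 ^ k = 1)
    (hD : ∀ u w, x u ≠ u → (∀ j : ℕ, (x ^ j) u = u ↔ (x ^ j) w = w) → x.SameCycle u w)
    (hF : ∀ a b c, x a = a → x b = b → x c = c → a = b ∨ a = c ∨ b = c)
    (u₀ : α) (a : ℕ) (hu₀ : Nat.card {v // x.SameCycle u₀ v} = 2 ^ (a + 1))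
    (hmax : ∀ w, Nat.card {v // x.SameCycle w v} ≤ 2 ^ (a + 1)) :
    Nat.card {w // ¬ x.SameCycle u₀ w} ≤ 2 ^ (a + 1) ∧
    (Nat.card {w // ¬ x.SameCycle u₀ w} = 2 ^ (a + 1) → ∃ p₀, x p₀ = p₀) := by
  classical
  haveI : Fintype α := Fintype.ofFinite α
  let ℓ : α → ℕ := fun w => Nat.card {v // x.SameCycle w v}
  have hℓ : ∀ w, ∃ b, ℓ w = 2 ^ b := card_sameCycle_two_pow x k hx
  let g : α → ℕ := fun w => Nat.log 2 (ℓ w)
  have hg : ∀ w, ℓ w = 2 ^ g w := by
    intro w
    obtain ⟨b, hb⟩ := hℓ w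
    show ℓ w = 2 ^ Nat.log 2 (ℓ w)
    rw [hb, Nat.log_pow (by norm_num)]
  have hper : ∀ w₁ w₂, ℓ w₁ = ℓ w₂ → ∀ j : ℕ, (x ^ j) w₁ = w₁ ↔ (x ^ j) w₂ = w₂ := by
    intro w₁ w₂ h j
    rw [pow_apply_eq_self_iff, pow_apply_eq_self_iff]
    show ℓ w₁ ∣ j ↔ ℓ w₂ ∣ j
    rw [h]
  have hfixed : ∀ w, g w = 0 → x w = w := by
    intro w hw
    apply (card_sameCycle_eq_one_iff x w).mp
    show ℓ w = 1
    rw [hg w, hw, pow_zero]
  have hnf : ∀ w, g w ≠ 0 → x w ≠ w := by
    intro w hw h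
    have h1 : ℓ w = 1 := (card_sameCycle_eq_one_iff x w).mpr h
    rw [hg w] at h1
    have := Nat.one_lt_two_pow hw
    omega
  let R : Finset α := Finset.univ.filter (fun w => ¬ x.SameCycle u₀ w)
  have hRcard : Nat.card {w // ¬ x.SameCycle u₀ w} = R.card := by
    rw [Nat.card_eq_fintype_card, Fintype.card_subtype]
  have hgu₀ : g u₀ = a + 1 := by
    have h1 : ℓ u₀ = 2 ^ (a + 1) := hu₀
    rw [hg u₀] at h1
    exact Nat.pow_right_injective (le_refl 2) h1
  have hmaps : ∀ w ∈ R, g w ∈ Finset.range (a + 1) := by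
    intro w hw
    rw [Finset.mem_range]
    have h1 : 2 ^ g w ≤ 2 ^ (a + 1) := by
      rw [← hg]
      exact hmax w
    have h2 : g w ≤ a + 1 := (Nat.pow_le_pow_iff_right (by norm_num)).mp h1
    rcases Nat.lt_or_ge (g w) (a + 1) with h | h
    · exact h
    · exfalso
      have h3 : g w = a + 1 := by omega
      have h4 : ℓ u₀ = ℓ w := by rw [hg w, hg u₀, h3, hgu₀]
      exact (Finset.mem_filter.mp hw).2
        (hD u₀ w (hnf u₀ (by rw [hgu₀]; omega)) (hper u₀ w h4))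
  have hsum := Finset.card_eq_sum_card_fiberwise hmaps
  have hfib : ∀ b ∈ Finset.range (a + 1), (R.filter (fun w => g w = b)).card ≤
      if b = 0 then (R.filter (fun w => g w = 0)).card else 2 ^ b := by
    intro b _
    by_cases hb0 : b = 0
    · rw [if_pos hb0, hb0]
    · rw [if_neg hb0]
      rcases (R.filter (fun w => g w = b)).eq_empty_or_nonempty with he | ⟨w₁, hw₁⟩
      · rw [he]
        simp
      · have hw₁g : g w₁ = b := (Finset.mem_filter.mp hw₁).2
        have hw₁nf : x w₁ ≠ w₁ := hnf w₁ (by rw [hw₁g]; exact hb0)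
        have hsub : R.filter (fun w => g w = b) ⊆
            Finset.univ.filter (fun v => x.SameCycle w₁ v) := by
          intro w hw
          have hwg : g w = b := (Finset.mem_filter.mp hw).2
          rw [Finset.mem_filter]
          refine ⟨Finset.mem_univ _, hD w₁ w hw₁nf (hper w₁ w ?_)⟩
          rw [hg w₁, hg w, hw₁g, hwg]
        have h5 : (Finset.univ.filter (fun v => x.SameCycle w₁ v)).card = 2 ^ b := by
          rw [← Fintype.card_subtype, ← Nat.card_eq_fintype_card]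
          show ℓ w₁ = 2 ^ b
          rw [hg w₁, hw₁g]
        calc (R.filter (fun w => g w = b)).card
            ≤ (Finset.univ.filter (fun v => x.SameCycle w₁ v)).card := Finset.card_le_card hsub
          _ = 2 ^ b := h5
  have hF0 : (R.filter (fun w => g w = 0)).card ≤ 2 := by
    by_contra hcon
    push Not at hcon
    obtain ⟨p, q, r, hp, hq, hr, hpq, hpr, hqr⟩ := Finset.two_lt_card_iff.mp hcon
    have hfix : ∀ w ∈ R.filter (fun w => g w = 0), x w = w := fun w hw =>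
      hfixed w (Finset.mem_filter.mp hw).2
    rcases hF p q r (hfix p hp) (hfix q hq) (hfix r hr) with h | h | h
    · exact hpq h
    · exact hpr h
    · exact hqr h
  have hgeom : ∀ n : ℕ, ∑ b ∈ Finset.range n, (2 : ℕ) ^ (b + 1) = 2 ^ (n + 1) - 2 := by
    intro n
    induction n with
    | zero => simp
    | succ n ih =>
      rw [Finset.sum_range_succ, ih]
      have e : 2 ^ (n + 1 + 1) = 2 * 2 ^ (n + 1) := by rw [pow_succ, mul_comm]
      have e' : 2 ^ (n + 1) = 2 * 2 ^ n := by rw [pow_succ, mul_comm]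
      have := Nat.one_le_two_pow (n := n)
      omega
  have hbound : R.card ≤ (R.filter (fun w => g w = 0)).card + (2 ^ (a + 1) - 2) := by
    rw [hsum]
    calc ∑ b ∈ Finset.range (a + 1), (R.filter (fun w => g w = b)).card
        ≤ ∑ b ∈ Finset.range (a + 1),
            (if b = 0 then (R.filter (fun w => g w = 0)).card else 2 ^ b) :=
          Finset.sum_le_sum hfib
      _ = (R.filter (fun w => g w = 0)).card + (2 ^ (a + 1) - 2) := by
          rw [Finset.sum_range_succ', ← hgeom a, add_comm]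
          simp
  have h2 : 2 ≤ 2 ^ (a + 1) := by
    have := Nat.one_le_two_pow (n := a)
    rw [pow_succ]
    omega
  constructor
  · rw [hRcard]
    omega
  · intro h
    rw [hRcard] at h
    have hpos : 0 < (R.filter (fun w => g w = 0)).card := by omega
    obtain ⟨p₀, hp₀⟩ := Finset.card_pos.mp hpos
    exact ⟨p₀, hfixed p₀ (Finset.mem_filter.mp hp₀).2⟩

theorem card_two_subgroup_perm_le {β : Type*} [Finite β] (Q : Subgroup (Perm β))
    (hQ : IsPGroup 2 Q) : Nat.card Q ≤ 2 ^ v2f (Nat.card β) := by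
  haveI : Fact (Nat.Prime 2) := ⟨Nat.prime_two⟩
  obtain ⟨e, he⟩ := IsPGroup.iff_card.mp hQ
  have hdvd : 2 ^ e ∣ (Nat.card β).factorial := by
    rw [← he, ← Nat.card_perm]
    exact Subgroup.card_subgroup_dvd_card Q
  have hle : e ≤ v2f (Nat.card β) :=
    (padicValNat_dvd_iff_le (Nat.factorial_ne_zero _)).mp hdvd
  rw [he]
  exact Nat.pow_le_pow_right (by norm_num) hle

theorem card_sylow_two_perm_v2f {β : Type*} [Finite β] (S : Sylow 2 (Perm β)) :
    Nat.card S = 2 ^ v2f (Nat.card β) := by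
  haveI : Fact (Nat.Prime 2) := ⟨Nat.prime_two⟩
  rw [Sylow.card_eq_multiplicity, Nat.card_perm, Nat.factorization_def _ Nat.prime_two]
  rfl

theorem v2f_two_pow (a : ℕ) : v2f (2 ^ a) + 1 = 2 ^ a := by
  induction a with
  | zero => simp [v2f_one]
  | succ a ih =>
    rw [v2f_half]
    have e : 2 ^ (a + 1) / 2 = 2 ^ a := by
      rw [pow_succ]
      simp
    rw [e, pow_succ]
    omega

end Cfsg.Agent.Lib.helper69
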