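import Mathlib
import Cfsg.Agent.Lib.helper69.SylTree3

set_option autoImplicit false

universe u

namespace Cfsg.Agent.Lib.helper69

open Equiv

/-- Pointwise form of "distinct cycle lengths and at most two fixed points". -/
def GoodPerm {α : Type*} (x : Perm α) : Prop :=
  (∀ u w, x u ≠ u → (∀ j : ℕ, (x ^ j) u = u ↔ (x ^ j) w = w) → x.SameCycle u w) ∧
  (∀ a b c, x a = a → x b = b → x c = c → a = b ∨ a = c ∨ b = c)

/-- All `2`-groups containing `x` lie in a common `2`-group. -/
def Dominated {α : Type*} (x : Perm α) : Prop :=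
  ∃ W : Subgroup (Perm α), IsPGroup 2 W ∧
    ∀ Q : Subgroup (Perm α), IsPGroup 2 Q → x ∈ Q → Q ≤ W

section Restrict

variable {α : Type*} (p : α → Prop) (x : Perm α) (hx : ∀ a, p (x a) ↔ p a)

theorem subtypePerm_pow_apply (j : ℕ) (u : {a // p a}) :
    (((x.subtypePerm hx) ^ j) u : α) = (x ^ j) u := by
  rw [Perm.subtypePerm_pow]
  rfl

theorem subtypePerm_pow_eq_one (n : ℕ) (h : x ^ n = 1) : (x.subtypePerm hx) ^ n = 1 := by
  ext u
  rw [subtypePerm_pow_apply, h]
  rfl

theorem goodPerm_subtypePerm (h : GoodPerm x) : GoodPerm (x.subtypePerm hx) := by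
  obtain ⟨hD, hF⟩ := h
  constructor
  · intro u w hu hper
    rw [Perm.sameCycle_subtypePerm]
    apply hD u.1 w.1
    · intro h
      exact hu (Subtype.ext h)
    · intro j
      have := hper j
      rw [Subtype.ext_iff, Subtype.ext_iff, subtypePerm_pow_apply, subtypePerm_pow_apply] at this
      exact this
  · intro a b c ha hb hc
    have := hF a.1 b.1 c.1 (congrArg Subtype.val ha) (congrArg Subtype.val hb)
      (congrArg Subtype.val hc)
    rcases this with h | h | h
    · exact Or.inl (Subtype.ext h)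
    · exact Or.inr (Or.inl (Subtype.ext h))
    · exact Or.inr (Or.inr (Subtype.ext h))

end Restrict

theorem subtypePerm_sameCycle_full {α : Type*} (x : Perm α) (u₀ : α)
    (hx : ∀ a, x.SameCycle u₀ (x a) ↔ x.SameCycle u₀ a) (u w : {a // x.SameCycle u₀ a}) :
    (x.subtypePerm hx).SameCycle u w := by
  rw [Perm.sameCycle_subtypePerm]
  exact u.2.symm.trans w.2

theorem card_le_two_mul_of_coset {G : Type*} [Group G] [Finite G] (S M : Subgroup G) (g : G)
    (h : ∀ σ ∈ S, σ ∈ M ∨ g⁻¹ * σ ∈ M) : Nat.card S ≤ 2 * Nat.card M := by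
  have hsub : (S : Set G) ⊆ (M : Set G) ∪ (fun σ => g * σ) '' (M : Set G) := by
    intro σ hσ
    rcases h σ hσ with h1 | h1
    · exact Or.inl h1
    · exact Or.inr ⟨g⁻¹ * σ, h1, mul_inv_cancel_left g σ⟩
  have h1 : (S : Set G).ncard ≤ ((M : Set G) ∪ (fun σ => g * σ) '' (M : Set G)).ncard :=
    Set.ncard_le_ncard hsub
  have h2 := Set.ncard_union_le (M : Set G) ((fun σ => g * σ) '' (M : Set G))
  have h3 : ((fun σ => g * σ) '' (M : Set G)).ncard ≤ (M : Set G).ncard := Set.ncard_image_le
  have e1 : Nat.card S = (S : Set G).ncard := Nat.card_coe_set_eq _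
  have e2 : Nat.card M = (M : Set G).ncard := Nat.card_coe_set_eq _
  omega

theorem card_subgroup_prod {G₁ G₂ : Type*} [Group G₁] [Group G₂] (A : Subgroup G₁)
    (B : Subgroup G₂) : Nat.card (A.prod B) = Nat.card A * Nat.card B := by
  rw [← Nat.card_prod]
  exact Nat.card_congr (Subgroup.prodEquiv A B).toEquiv

/-- Main domination theorem: a good `2`-element lies in a unique maximal `2`-subgroup. -/
theorem dominated_of_good : ∀ (N : ℕ) (α : Type u) [Finite α], Nat.card α = N →
    ∀ (x : Perm α) (k : ℕ), x ^ 2 ^ k = 1 → GoodPerm x → Dominated x := by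
  intro N
  induction N using Nat.strong_induction_on with
  | _ N ih =>
  intro α _ hN x k hxk hgood
  classical
  haveI : Fact (Nat.Prime 2) := ⟨Nat.prime_two⟩
  by_cases hx1 : x = 1
  · subst hx1
    have hc : Nat.card α ≤ 2 := by
      by_contra hcon
      push Not at hcon
      haveI : Fintype α := Fintype.ofFinite α
      rw [Nat.card_eq_fintype_card] at hcon
      obtain ⟨a, b, c, hab, hac, hbc⟩ := Fintype.two_lt_card_iff.mp hcon
      rcases hgood.2 a b c rfl rfl rfl with h | h | h
      · exact hab h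
      · exact hac h
      · exact hbc h
    refine ⟨⊤, ?_, fun Q _ _ => le_top⟩
    have hcard : Nat.card (Perm α) = 1 ∨ Nat.card (Perm α) = 2 := by
      rw [Nat.card_perm]
      have : Nat.card α = 0 ∨ Nat.card α = 1 ∨ Nat.card α = 2 := by omega
      rcases this with h | h | h <;> rw [h] <;> simp
    have hp : IsPGroup 2 (Perm α) := by
      rcases hcard with h | h
      · exact IsPGroup.of_card (n := 0) (by rw [h]; rfl)
      · exact IsPGroup.of_card (n := 1) (by rw [h]; rfl)
    exact hp.to_subgroup ⊤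
  · obtain ⟨u₁, hu₁⟩ : ∃ u₁, x u₁ ≠ u₁ := by
      by_contra hcon
      push Not at hcon
      exact hx1 (Perm.ext hcon)
    haveI : Nonempty α := ⟨u₁⟩
    obtain ⟨u₀, hmax⟩ := Finite.exists_max (fun w : α => Nat.card {v // x.SameCycle w v})
    obtain ⟨a', ha'⟩ := card_sameCycle_two_pow x k hxk u₀
    have ha'pos : a' ≠ 0 := by
      intro h0
      rw [h0, pow_zero] at ha'
      have h1 := hmax u₁
      simp only [ha'] at h1
      have h2 : Nat.card {v // x.SameCycle u₁ v} = 1 := by
        have : 0 < Nat.card {v // x.SameCycle u₁ v} := by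
          haveI : Nonempty {v // x.SameCycle u₁ v} := ⟨⟨u₁, Perm.SameCycle.refl _ _⟩⟩
          exact Nat.card_pos
        omega
      exact hu₁ ((card_sameCycle_eq_one_iff x u₁).mp h2)
    obtain ⟨a, rfl⟩ := Nat.exists_eq_add_one_of_ne_zero ha'pos
    have hmax' : ∀ w, Nat.card {v // x.SameCycle w v} ≤ 2 ^ (a + 1) := by
      intro w
      rw [← ha']
      exact hmax w
    obtain ⟨hRle, hRfp⟩ := card_compl_cycle_le x k hxk hgood.1 hgood.2 u₀ a ha' hmax'
    have hxp : ∀ v, x.SameCycle u₀ (x v) ↔ x.SameCycle u₀ v :=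
      fun v => Perm.sameCycle_apply_right
    have hxp' : ∀ v, ¬ x.SameCycle u₀ (x v) ↔ ¬ x.SameCycle u₀ v := fun v => not_congr (hxp v)
    have hcardα : Nat.card α = 2 ^ (a + 1) + Nat.card {w // ¬ x.SameCycle u₀ w} := by
      rw [← ha', ← Nat.card_sum]
      exact Nat.card_congr (Equiv.sumCompl (fun w => x.SameCycle u₀ w)).symm
    set xU := x.subtypePerm hxp with hxU
    set xR := x.subtypePerm (p := fun w => ¬ x.SameCycle u₀ w) hxp' with hxR
    have hxUfull : ∀ u w, xU.SameCycle u w := subtypePerm_sameCycle_full x u₀ hxp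
    have hxUk : xU ^ 2 ^ k = 1 := subtypePerm_pow_eq_one _ x hxp _ hxk
    have hxRk : xR ^ 2 ^ k = 1 := subtypePerm_pow_eq_one _ x hxp' _ hxk
    have hWU : ∀ Q : Subgroup (Perm {w // x.SameCycle u₀ w}), IsPGroup 2 Q → xU ∈ Q →
        Q ≤ treeGroup xU := fun Q hQ hxQ => le_treeGroup_of_full xU hxUfull Q hQ hxQ
    have hWUp : IsPGroup 2 (treeGroup xU) := treeGroup_isPGroup xU k hxUk
    have hRlt : Nat.card {w // ¬ x.SameCycle u₀ w} < N := by
      rw [← hN, hcardα]
      have := Nat.one_le_two_pow (n := a + 1)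
      omega
    obtain ⟨WR, hWRp, hWR⟩ := ih _ hRlt {w // ¬ x.SameCycle u₀ w} rfl xR k hxRk
      (goodPerm_subtypePerm _ x hxp' hgood)
    have hA : ∀ Q : Subgroup (Perm α), IsPGroup 2 Q → x ∈ Q →
        ((∀ σ ∈ Q, ∀ w, x.SameCycle u₀ (σ w) ↔ x.SameCycle u₀ w) ∨
        (Nat.card α = 2 * 2 ^ (a + 1) ∧ ∀ σ ∈ Q,
          (∀ w, x.SameCycle u₀ (σ w) ↔ x.SameCycle u₀ w) ∨
          (∀ w, x.SameCycle u₀ (σ w) ↔ ¬ x.SameCycle u₀ w))) := fun Q hQ hxQ =>
      pgroup_preserves_or_swaps Q hQ x hxQ u₀ (a + 1) ha' (by rw [hcardα]; omega)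
        (fun h => hRfp (by rw [hcardα] at h; omega))
    obtain ⟨W₀, hW₀⟩ : ∃ W₀ : Subgroup (Perm α), W₀ = ((treeGroup xU).prod WR).map
        (Perm.subtypeCongrHom (fun w => x.SameCycle u₀ w)) := ⟨_, rfl⟩
    have hW₀p : IsPGroup 2 W₀ := by
      rw [hW₀]
      exact isPGroup_map_prod _ _ hWUp hWRp _
    have hW₀dom : ∀ Q : Subgroup (Perm α), IsPGroup 2 Q → x ∈ Q →
        (∀ σ ∈ Q, ∀ w, x.SameCycle u₀ (σ w) ↔ x.SameCycle u₀ w) → Q ≤ W₀ := by
      intro Q hQ hxQ hpres
      rw [hW₀]
      exact le_map_prod_of_dom (fun w => x.SameCycle u₀ w) x hxp (treeGroup xU) WR hWU hWR Q hQ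
        hxQ hpres
    by_cases hRm : Nat.card {w // ¬ x.SameCycle u₀ w} = 2 ^ (a + 1)
    · have hcα : Nat.card α = 2 * 2 ^ (a + 1) := by
        rw [hcardα, hRm]
        ring
      let Y : Subgroup (Perm α) :=
        { carrier := {σ | ∀ w, x.SameCycle u₀ (σ w) ↔ x.SameCycle u₀ w}
          mul_mem' := by
            intro σ τ hσ hτ w
            have h1 : ∀ w, x.SameCycle u₀ (σ w) ↔ x.SameCycle u₀ w := hσ
            have h2 : ∀ w, x.SameCycle u₀ (τ w) ↔ x.SameCycle u₀ w := hτ
            rw [Perm.mul_apply, h1, h2]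
          one_mem' := fun w => Iff.rfl
          inv_mem' := by
            intro σ hσ w
            have h1 : ∀ w, x.SameCycle u₀ (σ w) ↔ x.SameCycle u₀ w := hσ
            have := h1 (σ⁻¹ w)
            rw [perm_apply_inv_self] at this
            exact this.symm }
      obtain ⟨V, hV⟩ : ∃ V, v2f (2 ^ (a + 1)) = V := ⟨_, rfl⟩
      have hvt := v2f_two_pow (a + 1)
      rw [hV] at hvt
      have hS : ∀ S : Sylow 2 (Perm α), x ∈ S →
          ((S : Subgroup (Perm α)) ⊓ Y = W₀) ∧ (∃ g ∈ S, g ∉ Y) ∧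
          (∀ σ ∈ S, σ ∉ Y → ∀ w, x.SameCycle u₀ (σ w) ↔ ¬ x.SameCycle u₀ w) ∧
          Nat.card WR = 2 ^ V := by
        intro S hxS
        have hSA := hA S S.isPGroup' hxS
        have hswap : ∀ σ ∈ S, σ ∉ Y → ∀ w, x.SameCycle u₀ (σ w) ↔ ¬ x.SameCycle u₀ w := by
          intro σ hσ hσY
          rcases hSA with h | ⟨_, h⟩
          · exact absurd (h σ hσ) hσY
          · rcases h σ hσ with h' | h'
            · exact absurd h' hσY
            · exact h'
        have hle : (S : Subgroup (Perm α)) ⊓ Y ≤ W₀ :=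
          hW₀dom _ (S.isPGroup'.to_le inf_le_left) ⟨hxS, hxp⟩ (fun σ hσ => hσ.2)
        have hidx : Nat.card S ≤
            2 * Nat.card ((S : Subgroup (Perm α)) ⊓ Y : Subgroup (Perm α)) := by
          by_cases hSY : ∃ g ∈ S, g ∉ Y
          · obtain ⟨g, hgS, hgY⟩ := hSY
            apply card_le_two_mul_of_coset (S : Subgroup (Perm α)) _ g
            intro σ hσ
            by_cases hσY : σ ∈ Y
            · exact Or.inl ⟨hσ, hσY⟩
            · right
              refine ⟨(S : Subgroup (Perm α)).mul_mem ((S : Subgroup (Perm α)).inv_mem hgS) hσ, ?_⟩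
              intro w
              have h1 := hswap σ hσ hσY w
              have h2 := hswap g hgS hgY (g⁻¹ (σ w))
              rw [perm_apply_inv_self] at h2
              rw [Perm.mul_apply]
              tauto
          · push Not at hSY
            have : (S : Subgroup (Perm α)) ⊓ Y = S := inf_eq_left.mpr (fun g hg => hSY g hg)
            rw [this]
            omega
        have hv : v2f (2 * 2 ^ (a + 1)) = V + 2 ^ (a + 1) := by
          rw [v2f_half]
          have : 2 * 2 ^ (a + 1) / 2 = 2 ^ (a + 1) := by simp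
          rw [this, hV]
        have hScard : Nat.card S = 2 * (2 ^ V * 2 ^ V) := by
          rw [card_sylow_two_perm_v2f, hcα, hv, ← hvt]
          ring
        have hUcard : Nat.card (treeGroup xU) ≤ 2 ^ V := by
          have := card_two_subgroup_perm_le (treeGroup xU) hWUp
          rwa [ha', hV] at this
        have hRcard : Nat.card WR ≤ 2 ^ V := by
          have := card_two_subgroup_perm_le WR hWRp
          rwa [hRm, hV] at this
        have hW₀card : Nat.card W₀ = Nat.card (treeGroup xU) * Nat.card WR := by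
          rw [hW₀, Subgroup.card_map_of_injective (Perm.subtypeCongrHom_injective _),
            card_subgroup_prod]
        have hlecard : Nat.card ((S : Subgroup (Perm α)) ⊓ Y : Subgroup (Perm α)) ≤
            Nat.card W₀ := Subgroup.card_le_of_le hle
        have hprod : Nat.card (treeGroup xU) * Nat.card WR ≤ 2 ^ V * 2 ^ V :=
          Nat.mul_le_mul hUcard hRcard
        have hMcard : Nat.card ((S : Subgroup (Perm α)) ⊓ Y : Subgroup (Perm α)) =
            2 ^ V * 2 ^ V := by omega
        have hpos : 0 < 2 ^ V := by positivity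
        refine ⟨Subgroup.eq_of_le_of_card_ge hle (by omega), ?_, hswap, ?_⟩
        · by_contra hcon
          push Not at hcon
          have : (S : Subgroup (Perm α)) ⊓ Y = S := inf_eq_left.mpr (fun g hg => hcon g hg)
          rw [this] at hMcard
          have : 0 < 2 ^ V * 2 ^ V := by positivity
          omega
        · by_contra hcon
          have hlt : Nat.card WR < 2 ^ V := lt_of_le_of_ne hRcard hcon
          have := Nat.mul_lt_mul_of_le_of_lt hUcard hlt hpos
          omega
      obtain ⟨P, hP⟩ := (isPGroup_zpowers x k hxk).exists_le_sylow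
      have hxP : x ∈ P := hP (Subgroup.mem_zpowers x)
      refine ⟨P, P.isPGroup', fun Q hQ hxQ => ?_⟩
      obtain ⟨P', hP'⟩ := hQ.exists_le_sylow
      have hxP' : x ∈ P' := hP' hxQ
      obtain ⟨hM, ⟨g, hgP, hgY⟩, hswapP, hWRcard⟩ := hS P hxP
      obtain ⟨hM', ⟨g', hgP', hgY'⟩, hswapP', _⟩ := hS P' hxP'
      have hNR : Subgroup.normalizer (WR : Set (Perm {w // ¬ x.SameCycle u₀ w})) ≤ WR := by
        have hc : Nat.card WR = 2 ^ (Nat.card (Perm {w // ¬ x.SameCycle u₀ w})).factorization 2 := by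
          rw [hWRcard, Nat.card_perm, hRm, Nat.factorization_def _ Nat.prime_two, ← hV]
          rfl
        exact sylow_two_normalizer_le (a + 1) hRm (Sylow.ofCard WR hc)
      have hNU : Subgroup.normalizer (treeGroup xU : Set (Perm {w // x.SameCycle u₀ w})) ≤
          treeGroup xU := normalizer_treeGroup_le xU hxUfull
      have hconj : ∀ (S : Sylow 2 (Perm α)), (S : Subgroup (Perm α)) ⊓ Y = W₀ → ∀ g ∈ S,
          (∀ w, x.SameCycle u₀ (g w) ↔ ¬ x.SameCycle u₀ w) → ∀ σ ∈ W₀,
          g * σ * g⁻¹ ∈ W₀ ∧ g⁻¹ * σ * g ∈ W₀ := by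
        intro S hSM g hgS hgsw σ hσ
        rw [← hSM] at hσ ⊢
        have hginv : ∀ w, x.SameCycle u₀ (g⁻¹ w) ↔ ¬ x.SameCycle u₀ w := by
          intro w
          have := hgsw (g⁻¹ w)
          rw [perm_apply_inv_self] at this
          tauto
        have hσY : ∀ w, x.SameCycle u₀ (σ w) ↔ x.SameCycle u₀ w := hσ.2
        constructor
        · refine ⟨(S : Subgroup (Perm α)).mul_mem ((S : Subgroup (Perm α)).mul_mem hgS hσ.1)
            ((S : Subgroup (Perm α)).inv_mem hgS), ?_⟩
          intro w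
          rw [Perm.mul_apply, Perm.mul_apply, hgsw, hσY, hginv, not_not]
        · refine ⟨(S : Subgroup (Perm α)).mul_mem ((S : Subgroup (Perm α)).mul_mem
            ((S : Subgroup (Perm α)).inv_mem hgS) hσ.1) hgS, ?_⟩
          intro w
          rw [Perm.mul_apply, Perm.mul_apply, hginv, hσY, hgsw, not_not]
      have hgsw := hswapP g hgP hgY
      have hgsw' := hswapP' g' hgP' hgY'
      have hh : g' * g⁻¹ ∈ W₀ := by
        rw [hW₀]
        apply mem_map_prod_of_normalizes (fun w => x.SameCycle u₀ w) (treeGroup xU) WR hNU hNR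
        · intro w
          rw [Perm.mul_apply, hgsw']
          have := hgsw (g⁻¹ w)
          rw [perm_apply_inv_self] at this
          tauto
        · intro σ hσ
          rw [← hW₀] at hσ ⊢
          have h1 := (hconj P hM g hgP hgsw σ hσ).2
          have h2 := (hconj P' hM' g' hgP' hgsw' _ h1).1
          have e : g' * g⁻¹ * σ * (g' * g⁻¹)⁻¹ = g' * (g⁻¹ * σ * g) * g'⁻¹ := by group
          rw [e]
          exact h2
        · intro σ hσ
          rw [← hW₀] at hσ ⊢
          have h1 := (hconj P' hM' g' hgP' hgsw' σ hσ).2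
          have h2 := (hconj P hM g hgP hgsw _ h1).1
          have e : (g' * g⁻¹)⁻¹ * σ * (g' * g⁻¹) = g * (g'⁻¹ * σ * g') * g⁻¹ := by group
          rw [e]
          exact h2
      have hg'P : g' ∈ P := by
        have h1 : g' * g⁻¹ ∈ (P : Subgroup (Perm α)) := by
          have := hh
          rw [← hM] at this
          exact this.1
        have := (P : Subgroup (Perm α)).mul_mem h1 hgP
        rwa [inv_mul_cancel_right] at this
      intro σ hσQ
      have hσ : σ ∈ P' := hP' hσQ
      by_cases hσY : σ ∈ Y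
      · have : σ ∈ W₀ := by
          rw [← hM']
          exact ⟨hσ, hσY⟩
        rw [← hM] at this
        exact this.1
      · have h1 : g'⁻¹ * σ ∈ W₀ := by
          rw [← hM']
          refine ⟨(P' : Subgroup (Perm α)).mul_mem ((P' : Subgroup (Perm α)).inv_mem hgP') hσ, ?_⟩
          intro w
          have h1 := hswapP' σ hσ hσY w
          have h2 := hgsw' (g'⁻¹ (σ w))
          rw [perm_apply_inv_self] at h2
          rw [Perm.mul_apply]
          tauto
        rw [← hM] at h1
        have := (P : Subgroup (Perm α)).mul_mem hg'P h1.1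
        rwa [mul_inv_cancel_left] at this
    · refine ⟨W₀, hW₀p, fun Q hQ hxQ => hW₀dom Q hQ hxQ ?_⟩
      rcases hA Q hQ hxQ with h | ⟨h, _⟩
      · exact h
      · exfalso
        rw [hcardα] at h
        omega

end Cfsg.Agent.Lib.helper69
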