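import Mathlib
import Cfsg.Agent.Lib.helper69.SylTree4

set_option autoImplicit false

namespace Cfsg.Agent.Lib.helper69

open Equiv

theorem exists_two_group_of_commute {G : Type*} [Group G] (x t : G) (k j : ℕ)
    (hx : x ^ 2 ^ k = 1) (ht : t ^ 2 ^ j = 1) (hc : Commute t x) :
    ∃ Q : Subgroup G, IsPGroup 2 Q ∧ x ∈ Q ∧ t ∈ Q := by
  haveI : Fact (Nat.Prime 2) := ⟨Nat.prime_two⟩
  refine ⟨Subgroup.zpowers t ⊔ Subgroup.zpowers x, ?_, ?_, ?_⟩
  · apply IsPGroup.to_sup_of_normal_right' (isPGroup_zpowers t j ht) (isPGroup_zpowers x k hx)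
    intro s hs
    obtain ⟨i, rfl⟩ := Subgroup.mem_zpowers_iff.mp hs
    rw [Subgroup.mem_normalizer_iff]
    intro h
    have hcomm : ∀ l : ℤ, Commute (t ^ i) (x ^ l) := fun l => (hc.zpow_left i).zpow_right l
    constructor
    · intro hmem
      obtain ⟨l, rfl⟩ := Subgroup.mem_zpowers_iff.mp hmem
      rw [(hcomm l).eq, mul_inv_cancel_right]
      exact Subgroup.zpow_mem_zpowers x l
    · intro hmem
      obtain ⟨l, hl⟩ := Subgroup.mem_zpowers_iff.mp hmem
      have h2 : h = (t ^ i)⁻¹ * x ^ l * t ^ i := by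
        rw [hl]
        group
      have h3 : (t ^ i)⁻¹ * x ^ l * t ^ i = x ^ l := by
        rw [mul_assoc, ← (hcomm l).eq, inv_mul_cancel_left]
      rw [h2, h3]
      exact Subgroup.zpow_mem_zpowers x l
  · exact Subgroup.mem_sup_right (Subgroup.mem_zpowers x)
  · exact Subgroup.mem_sup_left (Subgroup.mem_zpowers t)

section SwapCycles

variable {α : Type*}

theorem pow_apply_eq_pow_apply_iff (x : Perm α) (u w : α)
    (hper : ∀ j : ℕ, (x ^ j) u = u ↔ (x ^ j) w = w) (n n' : ℕ) :
    (x ^ n) u = (x ^ n') u ↔ (x ^ n) w = (x ^ n') w := by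
  have key : ∀ (v : α) (n d : ℕ), (x ^ n) v = (x ^ (n + d)) v ↔ (x ^ d) v = v := by
    intro v n d
    rw [pow_add, Perm.mul_apply]
    constructor
    · intro h
      exact ((x ^ n).injective h).symm
    · intro h
      rw [h]
  rcases Nat.le_total n n' with h | h
  · obtain ⟨d, rfl⟩ := Nat.exists_eq_add_of_le h
    rw [key, key]
    exact hper d
  · obtain ⟨d, rfl⟩ := Nat.exists_eq_add_of_le h
    rw [eq_comm, key, eq_comm (a := (x ^ (n' + d)) w), key]
    exact hper d

/-- The function swapping the cycles of `u` and `w` compatibly with `x`. -/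
noncomputable def cycleSwapFun [Finite α] (x : Perm α) (u w : α) (v : α) : α :=
  open Classical in
  if h : x.SameCycle u v then (x ^ h.exists_nat_pow_eq.choose) w
  else if h' : x.SameCycle w v then (x ^ h'.exists_nat_pow_eq.choose) u else v

theorem exists_cycle_swap [Finite α] (x : Perm α) (u w : α)
    (hper : ∀ j : ℕ, (x ^ j) u = u ↔ (x ^ j) w = w) (hnot : ¬ x.SameCycle u w) :
    ∃ τ : Perm α, τ * τ = 1 ∧ Commute τ x ∧ τ u = w := by
  have hnat : ∀ (a : α) (n : ℕ), x.SameCycle a ((x ^ n) a) :=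
    fun a n => ⟨n, by rw [zpow_natCast]⟩
  have h1 : ∀ v n, (x ^ n) u = v → cycleSwapFun x u w v = (x ^ n) w := by
    intro v n hn
    have hs : x.SameCycle u v := hn ▸ hnat u n
    unfold cycleSwapFun
    rw [dif_pos hs]
    have hc := hs.exists_nat_pow_eq.choose_spec
    exact (pow_apply_eq_pow_apply_iff x u w hper _ n).mp (hc.trans hn.symm)
  have h2 : ∀ v n, (x ^ n) w = v → cycleSwapFun x u w v = (x ^ n) u := by
    intro v n hn
    have hs : x.SameCycle w v := hn ▸ hnat w n
    have hns : ¬ x.SameCycle u v := fun h => hnot (h.trans hs.symm)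
    unfold cycleSwapFun
    rw [dif_neg hns, dif_pos hs]
    have hc := hs.exists_nat_pow_eq.choose_spec
    exact (pow_apply_eq_pow_apply_iff x u w hper _ n).mpr (hc.trans hn.symm)
  have h3 : ∀ v, ¬ x.SameCycle u v → ¬ x.SameCycle w v → cycleSwapFun x u w v = v := by
    intro v hu hw
    unfold cycleSwapFun
    rw [dif_neg hu, dif_neg hw]
  have hinv : Function.Involutive (cycleSwapFun x u w) := by
    intro v
    by_cases hu : x.SameCycle u v
    · obtain ⟨n, hn⟩ := hu.exists_nat_pow_eq
      rw [h1 v n hn, h2 _ n rfl, hn]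
    · by_cases hw : x.SameCycle w v
      · obtain ⟨n, hn⟩ := hw.exists_nat_pow_eq
        rw [h2 v n hn, h1 _ n rfl, hn]
      · rw [h3 v hu hw, h3 v hu hw]
  refine ⟨Function.Involutive.toPerm _ hinv, ?_, ?_, ?_⟩
  · ext v
    exact hinv v
  · show Function.Involutive.toPerm _ hinv * x = x * Function.Involutive.toPerm _ hinv
    ext v
    show cycleSwapFun x u w (x v) = x (cycleSwapFun x u w v)
    by_cases hu : x.SameCycle u v
    · obtain ⟨n, hn⟩ := hu.exists_nat_pow_eq
      have hn' : (x ^ (n + 1)) u = x v := by rw [pow_succ', Perm.mul_apply, hn]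
      rw [h1 v n hn, h1 _ (n + 1) hn', pow_succ', Perm.mul_apply]
    · by_cases hw : x.SameCycle w v
      · obtain ⟨n, hn⟩ := hw.exists_nat_pow_eq
        have hn' : (x ^ (n + 1)) w = x v := by rw [pow_succ', Perm.mul_apply, hn]
        rw [h2 v n hn, h2 _ (n + 1) hn', pow_succ', Perm.mul_apply]
      · have hu' : ¬ x.SameCycle u (x v) := fun h => hu (Perm.sameCycle_apply_right.mp h)
        have hw' : ¬ x.SameCycle w (x v) := fun h => hw (Perm.sameCycle_apply_right.mp h)
        rw [h3 v hu hw, h3 _ hu' hw']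
  · show cycleSwapFun x u w u = w
    have := h1 u 0 (by rw [pow_zero]; rfl)
    rw [this, pow_zero]
    rfl

/-- Permutations moving every point within its orbit under an involution `τ`. -/
def involGroup (τ : Perm α) (hτ : τ * τ = 1) : Subgroup (Perm α) where
  carrier := {g | ∀ v, g v = v ∨ g v = τ v}
  mul_mem' := by
    intro g h hg hh v
    have hττ : ∀ v, τ (τ v) = v := fun v => by
      rw [← Perm.mul_apply, hτ]
      rfl
    rw [Perm.mul_apply]
    rcases hh v with h1 | h1
    · rw [h1]
      exact hg v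
    · rw [h1]
      rcases hg (τ v) with h2 | h2
      · right
        exact h2
      · left
        rw [h2, hττ]
  one_mem' := fun v => Or.inl rfl
  inv_mem' := by
    intro g hg v
    have hττ : ∀ v, τ (τ v) = v := fun v => by
      rw [← Perm.mul_apply, hτ]
      rfl
    rcases hg (g⁻¹ v) with h1 | h1
    · rw [perm_apply_inv_self] at h1
      left
      exact h1.symm
    · rw [perm_apply_inv_self] at h1
      right
      have := congrArg τ h1
      rw [hττ] at this
      exact this.symm

theorem involGroup_sq (τ : Perm α) (hτ : τ * τ = 1) (g : Perm α) (hg : g ∈ involGroup τ hτ) :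
    g ^ 2 = 1 := by
  have hττ : ∀ v, τ (τ v) = v := fun v => by
    rw [← Perm.mul_apply, hτ]
    rfl
  ext v
  rw [pow_two, Perm.mul_apply]
  show g (g v) = v
  rcases hg v with h1 | h1
  · rw [h1, h1]
  · rcases hg (g v) with h2 | h2
    · have := g.injective h2
      rw [this, this]
    · rw [h2, h1, hττ]

theorem involGroup_conj (τ : Perm α) (hτ : τ * τ = 1) (s : Perm α) (hs : Commute s τ)
    (g : Perm α) (hg : g ∈ involGroup τ hτ) : s * g * s⁻¹ ∈ involGroup τ hτ := by
  intro v
  rw [Perm.mul_apply, Perm.mul_apply]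
  rcases hg (s⁻¹ v) with h1 | h1
  · left
    rw [h1, perm_apply_inv_self]
  · right
    have e : s (τ (s⁻¹ v)) = τ (s (s⁻¹ v)) := congrArg (fun f : Perm α => f (s⁻¹ v)) hs.eq
    rw [h1, e, perm_apply_inv_self]

theorem exists_two_group_swap [Finite α] [DecidableEq α] (x : Perm α) (k : ℕ)
    (hx : x ^ 2 ^ k = 1) (u w : α)
    (hper : ∀ j : ℕ, (x ^ j) u = u ↔ (x ^ j) w = w) (hnot : ¬ x.SameCycle u w) :
    ∃ Q : Subgroup (Perm α), IsPGroup 2 Q ∧ x ∈ Q ∧ swap u w ∈ Q := by
  haveI : Fact (Nat.Prime 2) := ⟨Nat.prime_two⟩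
  obtain ⟨τ, hτ, hτx, hτu⟩ := exists_cycle_swap x u w hper hnot
  have hτw : τ w = u := by
    rw [← hτu, ← Perm.mul_apply, hτ]
    rfl
  have hKp : IsPGroup 2 (involGroup τ hτ) := by
    intro g
    refine ⟨1, Subtype.ext ?_⟩
    show (g : Perm α) ^ 2 ^ 1 = 1
    rw [pow_one]
    exact involGroup_sq τ hτ g g.2
  refine ⟨Subgroup.zpowers x ⊔ involGroup τ hτ, ?_,
    Subgroup.mem_sup_left (Subgroup.mem_zpowers x), Subgroup.mem_sup_right ?_⟩
  · apply IsPGroup.to_sup_of_normal_right' (isPGroup_zpowers x k hx) hKp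
    intro s hs
    obtain ⟨i, rfl⟩ := Subgroup.mem_zpowers_iff.mp hs
    rw [Subgroup.mem_normalizer_iff]
    intro g
    have hc : Commute (x ^ i) τ := (hτx.symm).zpow_left i
    constructor
    · exact involGroup_conj τ hτ _ hc g
    · intro h
      have := involGroup_conj τ hτ (x ^ i)⁻¹ hc.inv_left _ h
      have e : (x ^ i)⁻¹ * (x ^ i * g * (x ^ i)⁻¹) * (x ^ i)⁻¹⁻¹ = g := by group
      rwa [e] at this
  · intro v
    by_cases hvu : v = u
    · right
      rw [hvu, swap_apply_left, hτu]
    · by_cases hvw : v = w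
      · right
        rw [hvw, swap_apply_right, hτw]
      · left
        exact swap_apply_of_ne_of_ne hvu hvw

end SwapCycles

theorem not_mem_two_group_of_swaps {α : Type*} [Fintype α] [DecidableEq α]
    (P : Subgroup (Perm α)) (hP : IsPGroup 2 P) (a b c : α) (hab : a ≠ b) (hac : a ≠ c)
    (hbc : b ≠ c) (h1 : swap a b ∈ P) (h2 : swap a c ∈ P) : False := by
  have h3 : swap a b * swap a c ∈ P := P.mul_mem h1 h2
  obtain ⟨j, hj⟩ := hP ⟨_, h3⟩
  have hj' : (swap a b * swap a c) ^ 2 ^ j = 1 := congrArg Subtype.val hj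
  have ho : orderOf (swap a b * swap a c) = 3 :=
    (Perm.isThreeCycle_swap_mul_swap_same hab hac hbc).orderOf
  have hd : 3 ∣ 2 ^ j := by
    rw [← ho]
    exact orderOf_dvd_of_pow_eq_one hj'
  have := Nat.Prime.dvd_of_dvd_pow Nat.prime_three hd
  omega

theorem goodPerm_of_unique_sylow {α : Type*} [Fintype α] [DecidableEq α] (x : Perm α) (k : ℕ)
    (hx : x ^ 2 ^ k = 1) (P : Sylow 2 (Perm α))
    (hP : ∀ P' : Sylow 2 (Perm α), x ∈ P' → P' = P) : GoodPerm x := by
  haveI : Fact (Nat.Prime 2) := ⟨Nat.prime_two⟩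
  have hdom : ∀ Q : Subgroup (Perm α), IsPGroup 2 Q → x ∈ Q → Q ≤ P := by
    intro Q hQ hxQ
    obtain ⟨P', hP'⟩ := hQ.exists_le_sylow
    rw [← hP P' (hP' hxQ)]
    exact hP'
  constructor
  · intro u w hu hper
    by_contra hnot
    have hw : x w ≠ w := by
      intro h
      apply hu
      have := (hper 1).mpr (by rw [pow_one]; exact h)
      rwa [pow_one] at this
    obtain ⟨Q₁, hQ₁, hxQ₁, hs₁⟩ := exists_two_group_swap x k hx u w hper hnot
    have hper' : ∀ j : ℕ, (x ^ j) u = u ↔ (x ^ j) (x w) = x w := by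
      intro j
      rw [hper j]
      have e : (x ^ j) (x w) = x ((x ^ j) w) := by
        rw [← Perm.mul_apply, ← Perm.mul_apply, ← pow_succ, ← pow_succ']
      rw [e]
      exact ⟨fun h => by rw [h], fun h => x.injective h⟩
    have hnot' : ¬ x.SameCycle u (x w) := fun h => hnot (Perm.sameCycle_apply_right.mp h)
    obtain ⟨Q₂, hQ₂, hxQ₂, hs₂⟩ := exists_two_group_swap x k hx u (x w) hper' hnot'
    have huw : u ≠ w := fun h => hnot (h ▸ Perm.SameCycle.refl _ _)
    have huxw : u ≠ x w := fun h => hnot' (h ▸ Perm.SameCycle.refl _ _)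
    exact not_mem_two_group_of_swaps (P : Subgroup (Perm α)) P.isPGroup' u w (x w) huw huxw
      (Ne.symm hw) (hdom Q₁ hQ₁ hxQ₁ hs₁) (hdom Q₂ hQ₂ hxQ₂ hs₂)
  · intro a b c ha hb hc
    by_contra hcon
    push Not at hcon
    obtain ⟨hab, hac, hbc⟩ := hcon
    have hcomm : ∀ p q, x p = p → x q = q → Commute (swap p q) x := by
      intro p q hp hq
      have := Equiv.swap_apply_apply x p q
      rw [hp, hq] at this
      show swap p q * x = x * swap p q
      calc swap p q * x = x * swap p q * x⁻¹ * x := by rw [← this]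
        _ = x * swap p q := by group
    have hsw : ∀ p q, (swap p q : Perm α) ^ 2 ^ 1 = 1 := by
      intro p q
      rw [pow_one, pow_two, swap_mul_self]
    obtain ⟨Q₁, hQ₁, hxQ₁, hs₁⟩ :=
      exists_two_group_of_commute x (swap a b) k 1 hx (hsw a b) (hcomm a b ha hb)
    obtain ⟨Q₂, hQ₂, hxQ₂, hs₂⟩ :=
      exists_two_group_of_commute x (swap a c) k 1 hx (hsw a c) (hcomm a c ha hc)
    exact not_mem_two_group_of_swaps (P : Subgroup (Perm α)) P.isPGroup' a b c hab hac hbc
      (hdom Q₁ hQ₁ hxQ₁ hs₁) (hdom Q₂ hQ₂ hxQ₂ hs₂)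

theorem card_sameCycle_eq_card_support_cycleOf {α : Type*} [Fintype α] [DecidableEq α]
    (x : Perm α) (u : α) (hu : x u ≠ u) :
    Nat.card {v // x.SameCycle u v} = (x.cycleOf u).support.card := by
  classical
  rw [Nat.card_eq_fintype_card]
  apply Fintype.card_of_subtype
  intro v
  rw [Perm.mem_support_cycleOf_iff]
  exact ⟨fun h => h.1, fun h => ⟨h, Perm.mem_support.mpr hu⟩⟩

theorem goodPerm_iff_cycleType {α : Type*} [Fintype α] [DecidableEq α] (x : Perm α) :
    GoodPerm x ↔ (Fintype.card α ≤ x.support.card + 2 ∧ x.cycleType.Nodup) := by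
  have hper : ∀ u w, x u ≠ u → x w ≠ w →
      ((∀ j : ℕ, (x ^ j) u = u ↔ (x ^ j) w = w) ↔
        (x.cycleOf u).support.card = (x.cycleOf w).support.card) := by
    intro u w hu hw
    rw [← card_sameCycle_eq_card_support_cycleOf x u hu,
      ← card_sameCycle_eq_card_support_cycleOf x w hw]
    constructor
    · intro h
      apply Nat.dvd_antisymm
      · have := h (Nat.card {v // x.SameCycle w v})
        rw [pow_apply_eq_self_iff, pow_apply_eq_self_iff] at this
        exact this.mpr dvd_rfl
      · have := h (Nat.card {v // x.SameCycle u v})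
        rw [pow_apply_eq_self_iff, pow_apply_eq_self_iff] at this
        exact this.mp dvd_rfl
    · intro h j
      rw [pow_apply_eq_self_iff, pow_apply_eq_self_iff, h]
  constructor
  · rintro ⟨hD, hF⟩
    constructor
    · have h1 : x.supportᶜ.card ≤ 2 := by
        by_contra hcon
        push Not at hcon
        obtain ⟨a, b, c, ha, hb, hc, hab, hac, hbc⟩ := Finset.two_lt_card_iff.mp hcon
        have hfix : ∀ v ∈ x.supportᶜ, x v = v := by
          intro v hv
          rw [Finset.mem_compl, Perm.mem_support, not_not] at hv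
          exact hv
        rcases hF a b c (hfix a ha) (hfix b hb) (hfix c hc) with h | h | h
        · exact hab h
        · exact hac h
        · exact hbc h
      have h2 := Finset.card_compl x.support
      have h3 := Finset.card_le_univ x.support
      omega
    · rw [Perm.cycleType_def]
      apply Multiset.Nodup.map_on _ x.cycleFactorsFinset.nodup
      intro σ hσ τ hτ hcard
      have hσ' : σ ∈ x.cycleFactorsFinset := hσ
      have hτ' : τ ∈ x.cycleFactorsFinset := hτ
      obtain ⟨u, hu⟩ : ∃ u, u ∈ σ.support := by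
        obtain ⟨u, hu, _⟩ := (Perm.mem_cycleFactorsFinset_iff.mp hσ').1
        exact ⟨u, Perm.mem_support.mpr hu⟩
      obtain ⟨w, hw⟩ : ∃ w, w ∈ τ.support := by
        obtain ⟨w, hw, _⟩ := (Perm.mem_cycleFactorsFinset_iff.mp hτ').1
        exact ⟨w, Perm.mem_support.mpr hw⟩
      have eσ : σ = x.cycleOf u := Perm.cycle_is_cycleOf hu hσ'
      have eτ : τ = x.cycleOf w := Perm.cycle_is_cycleOf hw hτ'
      have hux : x u ≠ u :=
        Perm.mem_support.mp (Perm.mem_cycleFactorsFinset_support_le hσ' hu)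
      have hwx : x w ≠ w :=
        Perm.mem_support.mp (Perm.mem_cycleFactorsFinset_support_le hτ' hw)
      have hcard' : (x.cycleOf u).support.card = (x.cycleOf w).support.card := by
        rw [← eσ, ← eτ]
        exact hcard
      have := hD u w hux ((hper u w hux hwx).mpr hcard')
      rw [eσ, eτ]
      exact this.cycleOf_eq
  · rintro ⟨hcard, hnodup⟩
    constructor
    · intro u w hu hperuw
      have hw : x w ≠ w := by
        intro h
        apply hu
        have := (hperuw 1).mpr (by rw [pow_one]; exact h)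
        rwa [pow_one] at this
      have hcard' := (hper u w hu hw).mp hperuw
      rw [Perm.cycleType_def] at hnodup
      have hinj := Multiset.inj_on_of_nodup_map hnodup
      have h1 : x.cycleOf u ∈ x.cycleFactorsFinset :=
        Perm.cycleOf_mem_cycleFactorsFinset_iff.mpr (Perm.mem_support.mpr hu)
      have h2 : x.cycleOf w ∈ x.cycleFactorsFinset :=
        Perm.cycleOf_mem_cycleFactorsFinset_iff.mpr (Perm.mem_support.mpr hw)
      have heq : x.cycleOf u = x.cycleOf w := hinj _ h1 _ h2 hcard'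
      by_contra hns
      have h3 : x.cycleOf u w = w := Perm.cycleOf_apply_of_not_sameCycle hns
      rw [heq, Perm.cycleOf_apply_self] at h3
      exact hw h3
    · intro a b c ha hb hc
      by_contra hcon
      push Not at hcon
      obtain ⟨hab, hac, hbc⟩ := hcon
      have hsub : ({a, b, c} : Finset α) ⊆ x.supportᶜ := by
        intro v hv
        rw [Finset.mem_compl, Perm.mem_support, not_not]
        simp only [Finset.mem_insert, Finset.mem_singleton] at hv
        rcases hv with rfl | rfl | rfl <;> assumption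
      have h3 : ({a, b, c} : Finset α).card = 3 :=
        Finset.card_eq_three.mpr ⟨a, b, c, hab, hac, hbc, rfl⟩
      have h4 := Finset.card_le_card hsub
      have h2 := Finset.card_compl x.support
      have h5 := Finset.card_le_univ x.support
      omega

end Cfsg.Agent.Lib.helper69
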