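import Mathlib
import Cfsg.Agent.Lib.helper69.SymSylow

/-!
# Derived length of the Sylow `p`-subgroups of `S_n`

* `exists_sylow_perm_dl`: a subgroup of `Perm Ω` (`|Ω| = n`) of order `p ^ v_p(n!)` with
  derived length at most `Nat.log p n`.
* `wr2Sub H`: the wreath product `H ≀ Z_p` inside `Perm (ZMod p × Ω)`.
* `exists_pgroup_dl`: a `p`-subgroup of `Perm Ω`, `|Ω| = p ^ k`, of derived length at least `k`.
* `derivedSeries_sylow_perm`: the derived length of a Sylow `p`-subgroup of `S_n` is `Nat.log p n`.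
-/

set_option autoImplicit false

namespace Cfsg.Agent.Lib.helper69

open Equiv

section General

theorem derivedSeries_eq_bot_of_mulEquiv {K L : Type*} [Group K] [Group L] (e : K ≃* L) (j : ℕ)
    (h : derivedSeries K j = ⊥) : derivedSeries L j = ⊥ := by
  rw [← map_derivedSeries_eq (f := e.toMonoidHom) e.surjective j, h, Subgroup.map_bot]

theorem derivedSeries_ne_bot_of_injective {K L : Type*} [Group K] [Group L] (f : K →* L)
    (hf : Function.Injective f) (j : ℕ) (h : derivedSeries K j ≠ ⊥) : derivedSeries L j ≠ ⊥ := by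
  intro hL
  apply h
  have h1 := map_derivedSeries_le_derivedSeries f j
  rw [hL, le_bot_iff] at h1
  exact ((derivedSeries K j).map_eq_bot_iff_of_injective hf).mp h1

theorem derivedSeries_succ_eq_bot_of_ker_comm {W Q : Type*} [Group W] [Group Q] (f : W →* Q)
    (hk : ∀ a ∈ f.ker, ∀ b ∈ f.ker, a * b = b * a) (j : ℕ) (h : derivedSeries Q j = ⊥) :
    derivedSeries W (j + 1) = ⊥ := by
  have h1 : derivedSeries W j ≤ f.ker := by
    intro x hx
    have h2 := map_derivedSeries_le_derivedSeries f j (Subgroup.mem_map_of_mem f hx)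
    rw [h] at h2
    exact Subgroup.mem_bot.mp h2
  rw [derivedSeries_succ, Subgroup.commutator_eq_bot_iff_le_centralizer]
  intro x hx
  rw [Subgroup.mem_centralizer_iff]
  intro y hy
  exact hk y (h1 hy) x (h1 hx)

theorem map_derivedSeries_le_succ {D K : Type*} [Group D] [Group K] (ψ : D →* K)
    (hψ : ψ.range ≤ commutator K) (j : ℕ) :
    (derivedSeries D j).map ψ ≤ derivedSeries K (j + 1) := by
  induction j with
  | zero =>
    rw [derivedSeries_zero, ← MonoidHom.range_eq_map, derivedSeries_one]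
    exact hψ
  | succ j ih =>
    rw [derivedSeries_succ, Subgroup.map_commutator, derivedSeries_succ K (j + 1)]
    exact Subgroup.commutator_mono ih ih

variable {p : ℕ}

/-- a subgroup of Sylow order is isomorphic to every Sylow subgroup. -/
theorem nonempty_mulEquiv_sylow_of_card [Fact p.Prime] {G : Type*} [Group G] [Finite G]
    (H : Subgroup G) (hc : Nat.card H = p ^ (Nat.card G).factorization p) (P : Sylow p G) :
    Nonempty (↥H ≃* ↥(P : Subgroup G)) := by
  have hH : IsPGroup p H := IsPGroup.of_card hc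
  obtain ⟨P', hP'⟩ := hH.exists_le_sylow
  have heq : H = (P' : Subgroup G) := by
    apply Subgroup.eq_of_le_of_card_ge hP'
    rw [hc, Sylow.card_eq_multiplicity]
  obtain ⟨g, hg'⟩ := MulAction.exists_smul_eq G P' P
  have e1 : ↥H ≃* ↥(P' : Subgroup G) := MulEquiv.subgroupCongr heq
  have e2 : ↥(P' : Subgroup G) ≃* ↥((g • P' : Sylow p G) : Subgroup G) := Sylow.equivSMul P' g
  rw [hg'] at e2
  exact ⟨e1.trans e2⟩

/-- a `p`-subgroup embeds into every Sylow subgroup. -/
theorem exists_injective_hom_sylow [Fact p.Prime] {G : Type*} [Group G] [Finite G]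
    (K : Subgroup G) (hK : IsPGroup p K) (P : Sylow p G) :
    ∃ f : ↥K →* ↥(P : Subgroup G), Function.Injective f := by
  obtain ⟨P', hP'⟩ := hK.exists_le_sylow
  obtain ⟨g, hg'⟩ := MulAction.exists_smul_eq G P' P
  have e2 : ↥(P' : Subgroup G) ≃* ↥((g • P' : Sylow p G) : Subgroup G) := Sylow.equivSMul P' g
  rw [hg'] at e2
  exact ⟨e2.toMonoidHom.comp (Subgroup.inclusion hP'),
    e2.injective.comp (Subgroup.inclusion_injective hP')⟩

end General

section Upper

variable (p : ℕ) [Fact p.Prime] {ι : Type*}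

theorem wrPerm_unique {σ τ : Perm ι} {f g : ι → ZMod p} (h : wrPerm p σ f = wrPerm p τ g) :
    σ = τ := by
  have h2 := wrPerm_injective p (a₁ := (σ, f)) (a₂ := (τ, g)) h
  simp only [Prod.mk.injEq] at h2
  exact h2.1

/-- the projection of the wreath product onto the top group. -/
noncomputable def wreathProj (Q : Subgroup (Perm ι)) : ↥(wreathSub p Q) →* ↥Q where
  toFun g := ⟨g.2.choose, g.2.choose_spec.1⟩
  map_one' := by
    apply Subtype.ext
    have h1 := (1 : ↥(wreathSub p Q)).2.choose_spec.2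
    obtain ⟨f, hf⟩ := h1
    have h2 : wrPerm p (1 : Perm ι) (0 : ι → ZMod p) =
        wrPerm p (1 : ↥(wreathSub p Q)).2.choose f := (wrPerm_one p).trans hf
    exact (wrPerm_unique p h2).symm
  map_mul' a b := by
    apply Subtype.ext
    obtain ⟨f, hf⟩ := a.2.choose_spec.2
    obtain ⟨g, hg⟩ := b.2.choose_spec.2
    obtain ⟨k, hk⟩ := (a * b).2.choose_spec.2
    have h2 : wrPerm p (a.2.choose * b.2.choose) (fun i => g i + f (b.2.choose i)) =
        wrPerm p (a * b).2.choose k := by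
      rw [← wrPerm_mul, ← hf, ← hg]; exact hk
    exact (wrPerm_unique p h2).symm

theorem wreathProj_spec (Q : Subgroup (Perm ι)) (g : ↥(wreathSub p Q)) :
    ∃ f : ι → ZMod p, (g : Perm (ι × ZMod p)) = wrPerm p (wreathProj p Q g : Perm ι) f :=
  g.2.choose_spec.2

theorem wreathProj_ker_comm (Q : Subgroup (Perm ι)) :
    ∀ a ∈ (wreathProj p Q).ker, ∀ b ∈ (wreathProj p Q).ker, a * b = b * a := by
  intro a ha b hb
  obtain ⟨f, hf⟩ := wreathProj_spec p Q a
  obtain ⟨g, hg⟩ := wreathProj_spec p Q b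
  rw [MonoidHom.mem_ker] at ha hb
  rw [ha] at hf
  rw [hb] at hg
  apply Subtype.ext
  show (a : Perm (ι × ZMod p)) * (b : Perm (ι × ZMod p)) = b * a
  rw [hf, hg]
  show wrPerm p 1 f * wrPerm p 1 g = wrPerm p 1 g * wrPerm p 1 f
  rw [wrPerm_mul, wrPerm_mul]
  congr 1
  funext i
  simp [add_comm]

open Nat in
/-- a subgroup of `Perm Ω` of Sylow order and derived length at most `log_p n`. -/
theorem exists_sylow_perm_dl (n : ℕ) : ∀ (Ω : Type) [Finite Ω], Nat.card Ω = n →
    ∃ H : Subgroup (Perm Ω), Nat.card H = p ^ (n !).factorization p ∧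
      derivedSeries ↥H (Nat.log p n) = ⊥ := by
  induction n using Nat.strong_induction_on with
  | _ n ih =>
    intro Ω _ hΩ
    have hp := (Fact.out : p.Prime)
    rcases Nat.lt_or_ge n p with hlt | hge
    · refine ⟨⊥, ?_, ?_⟩
      · rw [Subgroup.card_bot, Nat.factorization_eq_zero_of_not_dvd, pow_zero]
        rw [hp.dvd_factorial]; omega
      · have h1 : Subsingleton (Subgroup ↥(⊥ : Subgroup (Perm Ω))) :=
          Subgroup.subsingleton_iff.mpr inferInstance
        exact Subsingleton.elim _ _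
    · obtain ⟨m, hm⟩ : ∃ m, m = n / p := ⟨_, rfl⟩
      obtain ⟨r, hr⟩ : ∃ r, r = n % p := ⟨_, rfl⟩
      have hn : n = p * m + r := by rw [hm, hr]; exact (Nat.div_add_mod n p).symm
      have hrp : r < p := by rw [hr]; exact Nat.mod_lt _ hp.pos
      have hm1 : 1 ≤ m := by rw [hm]; exact Nat.div_pos hge hp.pos
      have hmn : m < n := by rw [hm]; exact Nat.div_lt_self (by omega) hp.one_lt
      obtain ⟨Q, hQc, hQd⟩ := ih m hmn (Fin m) (by simp)
      have hcard : Nat.card ((Fin m × ZMod p) ⊕ Fin r) = Nat.card Ω := by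
        rw [Nat.card_sum, Nat.card_prod, Nat.card_zmod, hΩ, hn]
        simp [mul_comm]
      obtain ⟨e⟩ := (Finite.card_eq).mp hcard
      let emb : Perm (Fin m × ZMod p) →* Perm Ω :=
        (e.permCongrHom.toMonoidHom.comp (Perm.sumCongrHom (Fin m × ZMod p) (Fin r))).comp
          (MonoidHom.inl _ _)
      have hemb : Function.Injective emb := by
        refine (e.permCongrHom.injective.comp Perm.sumCongrHom_injective).comp ?_
        intro a b hab
        exact (Prod.mk.injEq _ _ _ _ ▸ hab : a = b ∧ (1 : Perm (Fin r)) = 1).1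
      refine ⟨(wreathSub p Q).map emb, ?_, ?_⟩
      · rw [Subgroup.card_map_of_injective hemb, card_wreathSub, hQc, ← pow_add]
        congr 1
        rw [Nat.factorization_def _ hp, Nat.factorization_def _ hp, hn,
          padicValNat_factorial_mul_add m hrp, padicValNat_factorial_mul]
        simp
      · have h1 : Nat.log p n = Nat.log p m + 1 := by
          rw [Nat.log_of_one_lt_of_le hp.one_lt hge, hm]
        rw [h1]
        exact derivedSeries_eq_bot_of_mulEquiv
          ((wreathSub p Q).equivMapOfInjective emb hemb) _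
          (derivedSeries_succ_eq_bot_of_ker_comm (wreathProj p Q) (wreathProj_ker_comm p Q) _ hQd)

end Upper

section Lower

variable (p : ℕ) [Fact p.Prime] {Ω : Type*}

/-- the permutation `(x, ω) ↦ (x + c, h x ω)` of `ZMod p × Ω`. -/
def wr2Perm (c : ZMod p) (h : ZMod p → Perm Ω) : Perm (ZMod p × Ω) where
  toFun a := (a.1 + c, h a.1 a.2)
  invFun a := (a.1 - c, (h (a.1 - c))⁻¹ a.2)
  left_inv a := by simp
  right_inv a := by simp

@[simp] theorem wr2Perm_apply (c : ZMod p) (h : ZMod p → Perm Ω) (x : ZMod p) (ω : Ω) :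
    wr2Perm p c h (x, ω) = (x + c, h x ω) := rfl

@[simp] theorem wr2Perm_inv_apply (c : ZMod p) (h : ZMod p → Perm Ω) (x : ZMod p) (ω : Ω) :
    (wr2Perm p c h)⁻¹ (x, ω) = (x - c, (h (x - c))⁻¹ ω) := rfl

@[simp] theorem wr2Perm_symm_apply (c : ZMod p) (h : ZMod p → Perm Ω) (x : ZMod p) (ω : Ω) :
    (wr2Perm p c h).symm (x, ω) = (x - c, (h (x - c))⁻¹ ω) := rfl

theorem wr2Perm_mul (c d : ZMod p) (h k : ZMod p → Perm Ω) :
    wr2Perm p c h * wr2Perm p d k = wr2Perm p (d + c) (fun x => h (x + d) * k x) := by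
  apply Equiv.ext
  rintro ⟨x, ω⟩
  simp [add_assoc]

theorem wr2Perm_one : wr2Perm p (0 : ZMod p) (1 : ZMod p → Perm Ω) = 1 := by
  apply Equiv.ext
  rintro ⟨x, ω⟩
  simp

/-- the wreath product `H ≀ Z_p` inside `Perm (ZMod p × Ω)`. -/
def wr2Sub (H : Subgroup (Perm Ω)) : Subgroup (Perm (ZMod p × Ω)) where
  carrier := {g | ∃ c : ZMod p, ∃ h : ZMod p → Perm Ω, (∀ x, h x ∈ H) ∧ g = wr2Perm p c h}
  one_mem' := ⟨0, 1, fun _ => H.one_mem, (wr2Perm_one p).symm⟩
  mul_mem' := by
    rintro _ _ ⟨c, h, hh, rfl⟩ ⟨d, k, hk, rfl⟩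
    exact ⟨d + c, _, fun x => H.mul_mem (hh _) (hk _), wr2Perm_mul p c d h k⟩
  inv_mem' := by
    rintro _ ⟨c, h, hh, rfl⟩
    refine ⟨-c, fun x => (h (x - c))⁻¹, fun x => H.inv_mem (hh _), ?_⟩
    rw [inv_eq_iff_mul_eq_one, wr2Perm_mul, ← wr2Perm_one]
    congr 1
    · simp
    · funext x; simp [sub_eq_add_neg]

theorem wr2Perm_base_pow (h : ZMod p → Perm Ω) (n : ℕ) :
    (wr2Perm p 0 h) ^ n = wr2Perm p 0 (fun x => h x ^ n) := by
  induction n with
  | zero =>
    rw [pow_zero, ← wr2Perm_one]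
    congr 1
  | succ n ih =>
    rw [pow_succ, ih, wr2Perm_mul]
    congr 1
    · simp
    · funext x; simp [pow_succ]

theorem isPGroup_wr2Sub [Finite Ω] (H : Subgroup (Perm Ω)) (hH : IsPGroup p H) :
    IsPGroup p (wr2Sub p H) := by
  obtain ⟨a, ha⟩ := IsPGroup.iff_card.mp hH
  have hshift : ∀ n : ℕ, ∀ (g : Perm (ZMod p × Ω)) (c : ZMod p),
      (∃ h : ZMod p → Perm Ω, (∀ x, h x ∈ H) ∧ g = wr2Perm p c h) →
      ∃ h : ZMod p → Perm Ω, (∀ x, h x ∈ H) ∧ g ^ n = wr2Perm p (n • c) h := by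
    intro n g c ⟨h, hh, hg⟩
    induction n with
    | zero => exact ⟨1, fun _ => H.one_mem, by rw [pow_zero, zero_smul, wr2Perm_one]⟩
    | succ n ih =>
      obtain ⟨k, hk, hgn⟩ := ih
      refine ⟨fun x => k (x + c) * h x, fun x => H.mul_mem (hk _) (hh _), ?_⟩
      rw [pow_succ, hgn, hg, wr2Perm_mul, succ_nsmul']
  rintro ⟨g, hg⟩
  refine ⟨a + 1, Subtype.ext ?_⟩
  show g ^ p ^ (a + 1) = 1
  obtain ⟨c, h, hh, rfl⟩ := hg
  obtain ⟨k, hk, hgp⟩ := hshift p _ c ⟨h, hh, rfl⟩
  have hpc : p • c = 0 := by simp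
  rw [pow_succ', pow_mul, hgp, hpc, wr2Perm_base_pow, ← wr2Perm_one]
  congr 1
  funext x
  have h1 := pow_card_eq_one' (G := ↥H) (x := ⟨k x, hk x⟩)
  rw [ha] at h1
  exact congrArg Subtype.val h1

/-- the base group of `H ≀ Z_p`. -/
def wr2Base (H : Subgroup (Perm Ω)) : (ZMod p → ↥H) →* ↥(wr2Sub p H) where
  toFun h := ⟨wr2Perm p 0 (fun x => (h x : Perm Ω)), ⟨0, _, fun x => (h x).2, rfl⟩⟩
  map_one' := Subtype.ext (wr2Perm_one p)
  map_mul' h k := by
    apply Subtype.ext
    show wr2Perm p 0 (fun x => ((h x * k x : ↥H) : Perm Ω)) =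
      wr2Perm p 0 (fun x => (h x : Perm Ω)) * wr2Perm p 0 (fun x => (k x : Perm Ω))
    rw [wr2Perm_mul]
    congr 1
    · simp
    · funext x; simp

theorem wr2Base_injective (H : Subgroup (Perm Ω)) : Function.Injective (wr2Base p H) := by
  intro h k hhk
  have h1 : wr2Perm p 0 (fun x => (h x : Perm Ω)) = wr2Perm p 0 (fun x => (k x : Perm Ω)) :=
    congrArg Subtype.val hhk
  funext x
  apply Subtype.ext
  apply Equiv.ext
  intro ω
  have h2 := congrArg (fun g : Perm (ZMod p × Ω) => (g (x, ω)).2) h1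
  simpa using h2

open scoped commutatorElement in
theorem derivedSeries_wr2Sub_ne_bot (H : Subgroup (Perm Ω)) (j : ℕ)
    (h : derivedSeries ↥H j ≠ ⊥) : derivedSeries ↥(wr2Sub p H) (j + 1) ≠ ⊥ := by
  classical
  have hp := (Fact.out : p.Prime)
  let D₀ : Subgroup (ZMod p → ↥H) := (commutator ↥(wr2Sub p H)).comap (wr2Base p H)
  let π₀ : ↥D₀ →* ↥H := (Pi.evalMonoidHom (fun _ : ZMod p => ↥H) 0).comp D₀.subtype
  have hπ : Function.Surjective π₀ := by
    intro a
    let m : ZMod p → ↥H := Pi.mulSingle 0 a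
    let ha : ZMod p → ↥H := fun x => m x * (m (x - 1))⁻¹
    let s : ↥(wr2Sub p H) := ⟨wr2Perm p 1 1, ⟨1, 1, fun _ => H.one_mem, rfl⟩⟩
    have hmem : ha ∈ D₀ := by
      show wr2Base p H ha ∈ commutator ↥(wr2Sub p H)
      have h1 : wr2Base p H ha = ⁅wr2Base p H m, s⁆ := by
        apply Subtype.ext
        apply Equiv.ext
        rintro ⟨x, ω⟩
        show wr2Perm p 0 (fun x => (ha x : Perm Ω)) (x, ω) =
          ((wr2Perm p 0 (fun x => (m x : Perm Ω)) * wr2Perm p 1 1 *
            (wr2Perm p 0 (fun x => (m x : Perm Ω)))⁻¹ * (wr2Perm p 1 1)⁻¹ :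
              Perm (ZMod p × Ω))) (x, ω)
        simp [ha]
      rw [h1, commutator_def]
      exact Subgroup.commutator_mem_commutator (Subgroup.mem_top _) (Subgroup.mem_top _)
    refine ⟨⟨ha, hmem⟩, ?_⟩
    show ha 0 = a
    have h1 : (0 : ZMod p) - 1 ≠ 0 := by
      rw [zero_sub]
      have : Nontrivial (ZMod p) := ZMod.nontrivial_iff.mpr hp.one_lt.ne'
      exact neg_ne_zero.mpr one_ne_zero
    simp [ha, m]
  have hD : derivedSeries ↥D₀ j ≠ ⊥ := by
    intro hbot
    apply h
    rw [← map_derivedSeries_eq hπ j, hbot, Subgroup.map_bot]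
  let ψ : ↥D₀ →* ↥(wr2Sub p H) := (wr2Base p H).comp D₀.subtype
  have hψi : Function.Injective ψ := (wr2Base_injective p H).comp Subtype.val_injective
  have hψ : ψ.range ≤ commutator ↥(wr2Sub p H) := by
    rintro _ ⟨d, rfl⟩
    exact d.2
  intro hbot
  have h1 := map_derivedSeries_le_succ ψ hψ j
  rw [hbot, le_bot_iff] at h1
  exact hD (((derivedSeries ↥D₀ j).map_eq_bot_iff_of_injective hψi).mp h1)

/-- a `p`-subgroup of a symmetric group of degree `p ^ k` of derived length at least `k`. -/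
theorem exists_pgroup_dl (k : ℕ) : ∃ (Ω : Type) (_ : Finite Ω) (K : Subgroup (Perm Ω)),
    Nat.card Ω = p ^ k ∧ IsPGroup p K ∧ ∀ j < k, derivedSeries ↥K j ≠ ⊥ := by
  induction k with
  | zero =>
    exact ⟨Unit, inferInstance, ⊥, by simp, IsPGroup.of_bot, fun j hj => absurd hj (by omega)⟩
  | succ k ih =>
    obtain ⟨Ω, hfin, K, hc, hK, hd⟩ := ih
    refine ⟨ZMod p × Ω, inferInstance, wr2Sub p K, ?_, isPGroup_wr2Sub p K hK, ?_⟩
    · rw [Nat.card_prod, Nat.card_zmod, hc, pow_succ']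
    · intro j hj
      rcases j with _ | j
      · rw [derivedSeries_zero]
        have hne : Nonempty Ω := by
          have h0 : Nat.card Ω ≠ 0 := by
            rw [hc]; exact pow_ne_zero _ (Fact.out : p.Prime).ne_zero
          exact (Nat.card_ne_zero.mp h0).1
        obtain ⟨ω⟩ := hne
        intro htop
        have hs : (⟨wr2Perm p 1 1, ⟨1, 1, fun _ => K.one_mem, rfl⟩⟩ : ↥(wr2Sub p K)) ∈
            (⊤ : Subgroup ↥(wr2Sub p K)) := trivial
        rw [htop, Subgroup.mem_bot] at hs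
        have h1 := congrArg (fun g : ↥(wr2Sub p K) => ((g : Perm (ZMod p × Ω)) (0, ω)).1) hs
        have : Nontrivial (ZMod p) := ZMod.nontrivial_iff.mpr (Fact.out : p.Prime).one_lt.ne'
        simp at h1
      · exact derivedSeries_wr2Sub_ne_bot p K j (hd j (by omega))

/-- the derived length of a Sylow `p`-subgroup of `S_n` is `Nat.log p n`. -/
theorem derivedSeries_sylow_perm (n : ℕ) (hn : 1 ≤ n) (P : Sylow p (Perm (Fin n))) :
    derivedSeries ↥(P : Subgroup (Perm (Fin n))) (Nat.log p n) = ⊥ ∧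
    (1 ≤ Nat.log p n →
      derivedSeries ↥(P : Subgroup (Perm (Fin n))) (Nat.log p n - 1) ≠ ⊥) := by
  constructor
  · obtain ⟨H, hc, hd⟩ := exists_sylow_perm_dl p n (Fin n) (by simp)
    obtain ⟨e⟩ := nonempty_mulEquiv_sylow_of_card H (by rw [hc, Nat.card_perm]; simp) P
    exact derivedSeries_eq_bot_of_mulEquiv e _ hd
  · intro hk
    obtain ⟨Ω, hfin, K, hc, hK, hd⟩ := exists_pgroup_dl p (Nat.log p n)
    have hle : p ^ Nat.log p n ≤ n := Nat.pow_log_le_self p (by omega)
    have hcard : Nat.card (Ω ⊕ Fin (n - p ^ Nat.log p n)) = Nat.card (Fin n) := by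
      rw [Nat.card_sum, hc]
      simp only [Nat.card_eq_fintype_card, Fintype.card_fin]
      omega
    obtain ⟨e⟩ := (Finite.card_eq).mp hcard
    let emb : Perm Ω →* Perm (Fin n) :=
      (e.permCongrHom.toMonoidHom.comp (Perm.sumCongrHom Ω (Fin (n - p ^ Nat.log p n)))).comp
        (MonoidHom.inl _ _)
    have hemb : Function.Injective emb := by
      refine (e.permCongrHom.injective.comp Perm.sumCongrHom_injective).comp ?_
      intro a b hab
      exact (Prod.mk.injEq _ _ _ _ ▸ hab :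
        a = b ∧ (1 : Perm (Fin (n - p ^ Nat.log p n))) = 1).1
    have hKm : IsPGroup p (K.map emb) := hK.map emb
    obtain ⟨f, hf⟩ := exists_injective_hom_sylow (K.map emb) hKm P
    have e1 : ↥K ≃* ↥(K.map emb) := K.equivMapOfInjective emb hemb
    exact derivedSeries_ne_bot_of_injective (f.comp e1.toMonoidHom) (hf.comp e1.injective) _
      (hd _ (by omega))

end Lower

end Cfsg.Agent.Lib.helper69
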