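import Mathlib
import Cfsg.Prelude.Def_KGroupFacts
import Cfsg.Agent.Lib.helper69.Schur

/-!
Twisted (Heisenberg-type) central extensions of a group by the additive group of a commutative ring, and the
kernel of a stem extension of an abelian group generated by two elements (owner: helper69).
-/

set_option autoImplicit false

universe u v

namespace Cfsg.Agent.Lib.helper69

open scoped commutatorElement

/-- The twisted extension of `G` by the additive group of the commutative ring `R`, with multiplication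
`(g, c) (h, d) = (g h, c + d + π₁ g * π₂ h)`. -/
@[ext] structure TwExt {G : Type u} {R : Type v} [Group G] [CommRing R] (π₁ π₂ : G →* Multiplicative R) where
  /-- the component in `G` -/
  g : G
  /-- the central component -/
  c : R

namespace TwExt

variable {G : Type u} {R : Type v} [Group G] [CommRing R] (π₁ π₂ : G →* Multiplicative R)

instance instGroup : Group (TwExt π₁ π₂) where
  mul x y := ⟨x.g * y.g, x.c + y.c + Multiplicative.toAdd (π₁ x.g) * Multiplicative.toAdd (π₂ y.g)⟩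
  one := ⟨1, 0⟩
  inv x := ⟨x.g⁻¹, -x.c + Multiplicative.toAdd (π₁ x.g) * Multiplicative.toAdd (π₂ x.g)⟩
  mul_assoc x y z := by
    apply TwExt.ext
    · exact mul_assoc _ _ _
    · show x.c + y.c + Multiplicative.toAdd (π₁ x.g) * Multiplicative.toAdd (π₂ y.g) + z.c +
          Multiplicative.toAdd (π₁ (x.g * y.g)) * Multiplicative.toAdd (π₂ z.g) =
        x.c + (y.c + z.c + Multiplicative.toAdd (π₁ y.g) * Multiplicative.toAdd (π₂ z.g)) +
          Multiplicative.toAdd (π₁ x.g) * Multiplicative.toAdd (π₂ (y.g * z.g))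
      rw [map_mul π₁, map_mul π₂, toAdd_mul, toAdd_mul]; ring
  one_mul x := by
    apply TwExt.ext
    · exact one_mul _
    · show 0 + x.c + Multiplicative.toAdd (π₁ 1) * Multiplicative.toAdd (π₂ x.g) = x.c
      rw [map_one π₁, toAdd_one]; ring
  mul_one x := by
    apply TwExt.ext
    · exact mul_one _
    · show x.c + 0 + Multiplicative.toAdd (π₁ x.g) * Multiplicative.toAdd (π₂ 1) = x.c
      rw [map_one π₂, toAdd_one]; ring
  inv_mul_cancel x := by
    apply TwExt.ext
    · exact inv_mul_cancel _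
    · show -x.c + Multiplicative.toAdd (π₁ x.g) * Multiplicative.toAdd (π₂ x.g) + x.c +
          Multiplicative.toAdd (π₁ x.g⁻¹) * Multiplicative.toAdd (π₂ x.g) = 0
      rw [map_inv π₁, toAdd_inv]; ring

@[simp] theorem mul_g (x y : TwExt π₁ π₂) : (x * y).g = x.g * y.g := rfl
@[simp] theorem mul_c (x y : TwExt π₁ π₂) :
    (x * y).c = x.c + y.c + Multiplicative.toAdd (π₁ x.g) * Multiplicative.toAdd (π₂ y.g) := rfl
@[simp] theorem one_g : (1 : TwExt π₁ π₂).g = 1 := rfl
@[simp] theorem one_c : (1 : TwExt π₁ π₂).c = 0 := rfl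
@[simp] theorem inv_g (x : TwExt π₁ π₂) : x⁻¹.g = x.g⁻¹ := rfl
@[simp] theorem inv_c (x : TwExt π₁ π₂) :
    x⁻¹.c = -x.c + Multiplicative.toAdd (π₁ x.g) * Multiplicative.toAdd (π₂ x.g) := rfl

instance instFinite [Finite G] [Finite R] : Finite (TwExt π₁ π₂) :=
  Finite.of_injective (fun x : TwExt π₁ π₂ => (x.g, x.c))
    (fun _ _ h => TwExt.ext (congrArg Prod.fst h) (congrArg Prod.snd h))

/-- The projection of the twisted extension onto `G`. -/
def proj : TwExt π₁ π₂ →* G where
  toFun x := x.g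
  map_one' := rfl
  map_mul' _ _ := rfl

@[simp] theorem proj_apply (x : TwExt π₁ π₂) : proj π₁ π₂ x = x.g := rfl

theorem proj_surjective : Function.Surjective (proj π₁ π₂) := fun g => ⟨⟨g, 0⟩, rfl⟩

theorem mem_ker_proj (x : TwExt π₁ π₂) : x ∈ (proj π₁ π₂).ker ↔ x.g = 1 := MonoidHom.mem_ker

theorem ker_proj_le_center : (proj π₁ π₂).ker ≤ Subgroup.center (TwExt π₁ π₂) := by
  intro k hk
  have hk' : k.g = 1 := (mem_ker_proj π₁ π₂ k).mp hk
  rw [Subgroup.mem_center_iff]
  intro x
  apply TwExt.ext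
  · rw [mul_g, mul_g, hk', mul_one, one_mul]
  · rw [mul_c, mul_c, hk', map_one π₁, map_one π₂, toAdd_one]; ring

/-- The kernel of the projection is the additive group of `R`. -/
def kerEquiv : (proj π₁ π₂).ker ≃* Multiplicative R where
  toFun k := Multiplicative.ofAdd k.1.c
  invFun r := ⟨⟨1, Multiplicative.toAdd r⟩, (mem_ker_proj π₁ π₂ _).mpr rfl⟩
  left_inv k := by
    apply Subtype.ext
    apply TwExt.ext
    · exact ((mem_ker_proj π₁ π₂ _).mp k.2).symm
    · rfl
  right_inv r := rfl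
  map_mul' k l := by
    have hk : k.1.g = 1 := (mem_ker_proj π₁ π₂ _).mp k.2
    show Multiplicative.ofAdd (k.1.c + l.1.c +
      Multiplicative.toAdd (π₁ k.1.g) * Multiplicative.toAdd (π₂ l.1.g)) =
      Multiplicative.ofAdd k.1.c * Multiplicative.ofAdd l.1.c
    rw [hk, map_one π₁, toAdd_one, zero_mul, add_zero]; rfl

/-- The commutator of two lifts, for commutative `G`. -/
theorem commutator_mk (hG : ∀ a b : G, a * b = b * a) (g h : G) :
    ⁅(⟨g, 0⟩ : TwExt π₁ π₂), (⟨h, 0⟩ : TwExt π₁ π₂)⁆ =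
      (⟨1, Multiplicative.toAdd (π₁ g) * Multiplicative.toAdd (π₂ h) -
        Multiplicative.toAdd (π₁ h) * Multiplicative.toAdd (π₂ g)⟩ : TwExt π₁ π₂) := by
  rw [commutatorElement_def]
  apply TwExt.ext
  · simp only [mul_g, inv_g]
    rw [hG g h]; group
  · simp only [mul_g, inv_g, mul_c, inv_c, map_mul π₁, map_inv π₁, map_inv π₂, toAdd_mul, toAdd_inv]
    ring

/-- The projection is a stem extension as soon as `G` is commutative and the alternating form
`π₁ g * π₂ h - π₁ h * π₂ g` is onto `R`. -/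
theorem isStemExtension_proj (hG : ∀ a b : G, a * b = b * a)
    (hsurj : ∀ c : R, ∃ g h : G, Multiplicative.toAdd (π₁ g) * Multiplicative.toAdd (π₂ h) -
        Multiplicative.toAdd (π₁ h) * Multiplicative.toAdd (π₂ g) = c) :
    Cfsg.IsStemExtension (proj π₁ π₂) := by
  refine ⟨proj_surjective π₁ π₂, ker_proj_le_center π₁ π₂, ?_⟩
  intro k hk
  have hk' : k.g = 1 := (mem_ker_proj π₁ π₂ k).mp hk
  obtain ⟨g, h, hgh⟩ := hsurj k.c
  have hkc : k = ⁅(⟨g, 0⟩ : TwExt π₁ π₂), (⟨h, 0⟩ : TwExt π₁ π₂)⁆ := by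
    rw [commutator_mk π₁ π₂ hG g h, hgh]
    exact TwExt.ext hk' rfl
  rw [hkc]
  exact Subgroup.commutator_mem_commutator (Subgroup.mem_top _) (Subgroup.mem_top _)

end TwExt

/-- If all commutators are central, the commutator is multiplicative in its first argument. -/
theorem commutatorElement_mul_left_of_central {Γ : Type*} [Group Γ]
    (h : ∀ a b : Γ, ⁅a, b⁆ ∈ Subgroup.center Γ) (a b c : Γ) : ⁅a * b, c⁆ = ⁅a, c⁆ * ⁅b, c⁆ := by
  have hz := Subgroup.mem_center_iff.mp (h b c)
  rw [commutatorElement_def, commutatorElement_def] at *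
  rw [commutatorElement_def]
  calc a * b * c * (a * b)⁻¹ * c⁻¹ = a * ((b * c * b⁻¹ * c⁻¹) * (c * a⁻¹ * c⁻¹)) := by group
    _ = a * ((c * a⁻¹ * c⁻¹) * (b * c * b⁻¹ * c⁻¹)) := by rw [hz (c * a⁻¹ * c⁻¹)]
    _ = a * c * a⁻¹ * c⁻¹ * (b * c * b⁻¹ * c⁻¹) := by group

/-- If all commutators are central, the commutator is multiplicative in its second argument. -/
theorem commutatorElement_mul_right_of_central {Γ : Type*} [Group Γ]
    (h : ∀ a b : Γ, ⁅a, b⁆ ∈ Subgroup.center Γ) (a b c : Γ) : ⁅a, b * c⁆ = ⁅a, b⁆ * ⁅a, c⁆ := by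
  have hz := Subgroup.mem_center_iff.mp (h a c)
  rw [commutatorElement_def, commutatorElement_def] at *
  rw [commutatorElement_def]
  calc a * (b * c) * a⁻¹ * (b * c)⁻¹ = a * b * a⁻¹ * ((a * c * a⁻¹ * c⁻¹) * b⁻¹) := by group
    _ = a * b * a⁻¹ * (b⁻¹ * (a * c * a⁻¹ * c⁻¹)) := by rw [hz b⁻¹]
    _ = a * b * a⁻¹ * b⁻¹ * (a * c * a⁻¹ * c⁻¹) := by group

/-- The homomorphism `a ↦ ⁅a, c⁆` of a group with central commutators. -/
def commLeftHom {Γ : Type*} [Group Γ] (h : ∀ a b : Γ, ⁅a, b⁆ ∈ Subgroup.center Γ) (c : Γ) : Γ →* Γ :=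
  MonoidHom.mk' (fun a => ⁅a, c⁆) (fun a b => commutatorElement_mul_left_of_central h a b c)

/-- The homomorphism `c ↦ ⁅a, c⁆` of a group with central commutators. -/
def commRightHom {Γ : Type*} [Group Γ] (h : ∀ a b : Γ, ⁅a, b⁆ ∈ Subgroup.center Γ) (a : Γ) : Γ →* Γ :=
  MonoidHom.mk' (fun c => ⁅a, c⁆) (fun b c => commutatorElement_mul_right_of_central h a b c)

theorem commLeftHom_apply {Γ : Type*} [Group Γ] (h : ∀ a b : Γ, ⁅a, b⁆ ∈ Subgroup.center Γ) (c a : Γ) :
    commLeftHom h c a = ⁅a, c⁆ := rfl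

theorem commRightHom_apply {Γ : Type*} [Group Γ] (h : ∀ a b : Γ, ⁅a, b⁆ ∈ Subgroup.center Γ) (a c : Γ) :
    commRightHom h a c = ⁅a, c⁆ := rfl

theorem commutatorElement_eq_one_of_mem_center_left {Γ : Type*} [Group Γ] (z h : Γ)
    (hz : z ∈ Subgroup.center Γ) : ⁅z, h⁆ = 1 := by
  rw [commutatorElement_eq_one_iff_commute]
  exact ((Subgroup.mem_center_iff.mp hz) h).symm

theorem commutatorElement_eq_one_of_mem_center_right {Γ : Type*} [Group Γ] (z h : Γ)
    (hz : z ∈ Subgroup.center Γ) : ⁅h, z⁆ = 1 := by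
  rw [commutatorElement_eq_one_iff_commute]
  exact (Subgroup.mem_center_iff.mp hz) h

/-- A group with central commutators generated modulo its centre by `x` and `y` has commutator subgroup
generated by `⁅x, y⁆`. -/
theorem commutator_le_zpowers_of_two_gen {Γ : Type*} [Group Γ]
    (hc : ∀ a b : Γ, ⁅a, b⁆ ∈ Subgroup.center Γ) (x y : Γ)
    (hgen : ∀ g : Γ, ∃ (i j : ℤ) (z : Γ), z ∈ Subgroup.center Γ ∧ g = z * x ^ i * y ^ j) :
    commutator Γ ≤ Subgroup.zpowers ⁅x, y⁆ := by
  have hxy : ⁅x, y⁆ ∈ Subgroup.zpowers ⁅x, y⁆ := Subgroup.mem_zpowers _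
  have h1 : ∀ h : Γ, ⁅x, h⁆ ∈ Subgroup.zpowers ⁅x, y⁆ := by
    intro h
    obtain ⟨k, l, w, hw, rfl⟩ := hgen h
    rw [← commRightHom_apply hc x (w * x ^ k * y ^ l), map_mul, map_mul, map_zpow, map_zpow,
      commRightHom_apply, commRightHom_apply, commRightHom_apply,
      commutatorElement_eq_one_of_mem_center_right w x hw,
      commutatorElement_self, one_zpow, one_mul, one_mul]
    exact Subgroup.zpow_mem _ hxy l
  have h2 : ∀ h : Γ, ⁅y, h⁆ ∈ Subgroup.zpowers ⁅x, y⁆ := by
    intro h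
    obtain ⟨k, l, w, hw, rfl⟩ := hgen h
    rw [← commRightHom_apply hc y (w * x ^ k * y ^ l), map_mul, map_mul, map_zpow, map_zpow,
      commRightHom_apply, commRightHom_apply, commRightHom_apply,
      commutatorElement_eq_one_of_mem_center_right w y hw,
      commutatorElement_self, one_zpow, one_mul, mul_one, ← commutatorElement_inv x y]
    exact Subgroup.zpow_mem _ (Subgroup.inv_mem _ hxy) k
  rw [commutator_eq_closure, Subgroup.closure_le]
  rintro _ ⟨g, h, rfl⟩
  obtain ⟨i, j, z, hz, rfl⟩ := hgen g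
  rw [← commLeftHom_apply hc h (z * x ^ i * y ^ j), map_mul, map_mul, map_zpow, map_zpow,
    commLeftHom_apply, commLeftHom_apply, commLeftHom_apply,
    commutatorElement_eq_one_of_mem_center_left z h hz, one_mul]
  exact Subgroup.mul_mem _ (Subgroup.zpow_mem _ (h1 h) i) (Subgroup.zpow_mem _ (h2 h) j)

/-- In a central extension of a commutative group all commutators are central. -/
theorem commutatorElement_mem_center_of_comm {Γ G : Type*} [Group Γ] [Group G] (σ : Γ →* G)
    (hker : σ.ker ≤ Subgroup.center Γ) (hG : ∀ a b : G, a * b = b * a) (a b : Γ) :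
    ⁅a, b⁆ ∈ Subgroup.center Γ := by
  apply hker
  rw [MonoidHom.mem_ker, map_commutatorElement, commutatorElement_eq_one_iff_commute]
  exact hG _ _

/-- The kernel of a stem extension of a commutative group generated by the images of `x` and `y` is generated by
the commutator `⁅x, y⁆`. -/
theorem stem_ker_le_zpowers {Γ G : Type*} [Group Γ] [Group G] (σ : Γ →* G)
    (hσ : Cfsg.IsStemExtension σ) (hG : ∀ a b : G, a * b = b * a) (x y : Γ)
    (hgen : ∀ g : G, ∃ i j : ℤ, g = σ x ^ i * σ y ^ j) :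
    σ.ker ≤ Subgroup.zpowers ⁅x, y⁆ := by
  obtain ⟨_, hcent, hcomm⟩ := hσ
  refine hcomm.trans (commutator_le_zpowers_of_two_gen
    (commutatorElement_mem_center_of_comm σ hcent hG) x y ?_)
  intro g
  obtain ⟨i, j, hij⟩ := hgen (σ g)
  refine ⟨i, j, g * (x ^ i * y ^ j)⁻¹, hcent ?_, by group⟩
  rw [MonoidHom.mem_ker, map_mul, map_inv, map_mul, map_zpow, map_zpow, hij, mul_inv_cancel]

/-- The kernel of a stem extension of a commutative group generated by `gx` and `gy` with `gy ^ n = 1` is a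
homomorphic image of the cyclic group of order `n`. -/
theorem exists_surjective_ker_of_two_gen {Γ G : Type*} [Group Γ] [Group G] (σ : Γ →* G)
    (hσ : Cfsg.IsStemExtension σ) (hG : ∀ a b : G, a * b = b * a) (gx gy : G)
    (hgen : ∀ g : G, ∃ i j : ℤ, g = gx ^ i * gy ^ j) (n : ℕ) (hn : gy ^ n = 1) :
    ∃ π : Multiplicative (ZMod n) →* σ.ker, Function.Surjective π := by
  obtain ⟨x, rfl⟩ := hσ.1 gx
  obtain ⟨y, rfl⟩ := hσ.1 gy
  have hle := stem_ker_le_zpowers σ hσ hG x y hgen
  obtain ⟨_, hcent, _⟩ := hσ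
  have hc := commutatorElement_mem_center_of_comm σ hcent hG
  have hz : ⁅x, y⁆ ∈ σ.ker := by
    rw [MonoidHom.mem_ker, map_commutatorElement, commutatorElement_eq_one_iff_commute]
    exact hG _ _
  have hzn : ⁅x, y⁆ ^ n = 1 := by
    rw [← commRightHom_apply hc x y, ← map_pow, commRightHom_apply]
    apply commutatorElement_eq_one_of_mem_center_right
    apply hcent
    rw [MonoidHom.mem_ker, map_pow, hn]
  refine exists_surjective_of_generator n (⟨⁅x, y⁆, hz⟩ : σ.ker) (Subtype.ext ?_) ?_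
  · rw [Subgroup.coe_pow]; exact hzn
  · intro k
    obtain ⟨j, hj⟩ := Subgroup.mem_zpowers_iff.mp (hle k.2)
    exact ⟨j, Subtype.ext (by rw [Subgroup.coe_zpow]; exact hj.symm)⟩

end Cfsg.Agent.Lib.helper69
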